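import Mathlib
import Groth.Prelude.Def_Red

/-!
# Points of base changes of group schemes
-/

set_option autoImplicit false
set_option backward.isDefEq.respectTransparency false

universe u

open CategoryTheory MonoidalCategory CartesianMonoidalCategory MonObj GrpObj AlgebraicGeometry Limits

namespace Groth.Agent.GrpdLib.BcPts

variable {S S' : Scheme.{u}} (f : S' ⟶ S)

/-- An `S'`-scheme, seen over `S`. -/
abbrev res (X : Over S') : Over S := Over.mk (X.hom ≫ f)

/-- The canonical morphism to the base change of the restriction. -/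
noncomputable def unit (X : Over S') : X ⟶ Red.bc f (res f X) :=
  Over.homMk (pullback.lift (𝟙 X.left) X.hom (Category.id_comp _)) (pullback.lift_snd _ _ _)

/-- The point of the base change given by a point of `G`. -/
noncomputable def lf {X : Over S'} {G : Over S} (a : res f X ⟶ G) : X ⟶ Red.bc f G :=
  unit f X ≫ (Over.pullback f).map a

variable {X : Over S'} {G H : Over S}

lemma lf_fst (a : res f X ⟶ G) : (lf f a).left ≫ pullback.fst G.hom f = a.left := by
  show (pullback.lift (𝟙 X.left) X.hom _ ≫ ((Over.pullback f).map a).left) ≫ _ = _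
  rw [Category.assoc, show ((Over.pullback f).map a).left ≫ pullback.fst G.hom f =
    pullback.fst (res f X).hom f ≫ a.left from pullback.lift_fst _ _ _, pullback.lift_fst_assoc,
    Category.id_comp]

lemma hom_ext {u v : X ⟶ Red.bc f G}
    (h : u.left ≫ pullback.fst G.hom f = v.left ≫ pullback.fst G.hom f) : u = v :=
  Over.OverMorphism.ext (pullback.hom_ext h (by rw [show u.left ≫ pullback.snd G.hom f = X.hom from
    Over.w u, show v.left ≫ pullback.snd G.hom f = X.hom from Over.w v]))

lemma lf_injective {a b : res f X ⟶ G} (h : lf f a = lf f b) : a = b :=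
  Over.OverMorphism.ext (by rw [← lf_fst f a, ← lf_fst f b, h])

lemma lf_surjective (u : X ⟶ Red.bc f G) : ∃ a : res f X ⟶ G, lf f a = u :=
  ⟨Over.homMk (u.left ≫ pullback.fst G.hom f) (by
    rw [Category.assoc, pullback.condition]
    exact (Category.assoc _ _ _).symm.trans (congrArg (· ≫ f) (Over.w u))),
    hom_ext f (lf_fst f _)⟩

lemma lf_comp (a : res f X ⟶ G) (q : G ⟶ H) :
    lf f (a ≫ q) = lf f a ≫ (Over.pullback f).map q := by
  simp [lf]

lemma lf_mul [GrpObj G] (a b : res f X ⟶ G) : lf f (a * b) = lf f a * lf f b := by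
  simp only [lf, Functor.map_mul, MonObj.comp_mul]

lemma lf_inv [GrpObj G] (a : res f X ⟶ G) : lf f a⁻¹ = (lf f a)⁻¹ := by
  simp only [lf, Functor.map_inv', GrpObj.comp_inv]

end Groth.Agent.GrpdLib.BcPts
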