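import Groth.Agent.GrpScheme.Basic
import Mathlib.AlgebraicGeometry.Sites.Fpqc
import Mathlib.AlgebraicGeometry.Morphisms.FlatMono
import Mathlib.AlgebraicGeometry.Noetherian

/-!
# Quotient maps and kernels of group schemes

Descent of morphisms along flat surjective homomorphisms, kernels, finiteness conditions over a field.
-/

set_option autoImplicit false

universe u

open CategoryTheory MonoidalCategory CartesianMonoidalCategory MonObj GrpObj AlgebraicGeometry
  Limits

namespace Groth.Agent.GrpdLib.GrpOver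

variable {S : Scheme.{u}}

lemma isIso_of_isIso_left {A B : Over S} (f : A ⟶ B) [IsIso f.left] : IsIso f :=
  have : IsIso ((Over.forget S).map f) := ‹_›
  isIso_of_reflects_iso f (Over.forget S)

lemma isPullback_left {P A B C : Over S} {p : P ⟶ A} {q : P ⟶ B} {f : A ⟶ C} {g : B ⟶ C}
    (h : IsPullback p q f g) : IsPullback p.left q.left f.left g.left :=
  h.map (Over.forget S)

/-- Morphisms descend along effective epimorphisms in `Over S`. -/
lemma existsUnique_desc {G Q H : Over S} (q : G ⟶ Q) [EffectiveEpi q.left] (φ : G ⟶ H)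
    (h : ∀ (T : Over S) (a b : T ⟶ G), a ≫ q = b ≫ q → a ≫ φ = b ≫ φ) :
    ∃! φ' : Q ⟶ H, q ≫ φ' = φ := by
  have hh : ∀ {Z : Scheme.{u}} (g₁ g₂ : Z ⟶ G.left), g₁ ≫ q.left = g₂ ≫ q.left →
      g₁ ≫ φ.left = g₂ ≫ φ.left := by
    intro Z g₁ g₂ e
    have e' : g₂ ≫ G.hom = g₁ ≫ G.hom := by rw [← Over.w q, reassoc_of% e]
    exact congrArg Over.Hom.left
      (h (Over.mk (g₁ ≫ G.hom)) (Over.homMk g₁ rfl) (Over.homMk g₂ e') (Over.OverMorphism.ext e))
  let d := EffectiveEpi.desc q.left φ.left hh
  have hd : q.left ≫ d = φ.left := EffectiveEpi.fac q.left φ.left hh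
  refine ⟨Over.homMk d ?_, Over.OverMorphism.ext hd, fun ψ hψ ↦ ?_⟩
  · rw [← cancel_epi q.left, reassoc_of% hd, Over.w φ, Over.w q]
  · refine Over.OverMorphism.ext ?_
    change ψ.left = d
    rw [← cancel_epi q.left, hd, ← hψ]
    rfl

lemma cancel_left {T' T H : Over S} (c : T' ⟶ T) [EffectiveEpi c.left] {f g : T ⟶ H}
    (h : c ≫ f = c ≫ g) : f = g := by
  refine Over.OverMorphism.ext ?_
  rw [← cancel_epi c.left, ← Over.comp_left, h, Over.comp_left]

/-- A point of `Q` lifts to `G` after a flat surjective quasi-compact base change. -/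
lemma exists_lift {G Q T : Over S} (q : G ⟶ Q) [Flat q.left] [Surjective q.left]
    [QuasiCompact q.left] (t : T ⟶ Q) :
    ∃ (T' : Over S) (c : T' ⟶ T) (g : T' ⟶ G), Flat c.left ∧ Surjective c.left ∧
      QuasiCompact c.left ∧ EffectiveEpi c.left ∧ g ≫ q = c ≫ t := by
  refine ⟨Over.mk (pullback.fst t.left q.left ≫ T.hom), Over.homMk (pullback.fst _ _) rfl,
    Over.homMk (pullback.snd _ _) ?_, ?_, ?_, ?_, ?_, ?_⟩
  · change pullback.snd t.left q.left ≫ G.hom = pullback.fst t.left q.left ≫ T.hom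
    rw [← Over.w q, ← pullback.condition_assoc, Over.w t]
  · exact inferInstanceAs (Flat (pullback.fst t.left q.left))
  · exact inferInstanceAs (Surjective (pullback.fst t.left q.left))
  · exact inferInstanceAs (QuasiCompact (pullback.fst t.left q.left))
  · exact inferInstanceAs (EffectiveEpi (pullback.fst t.left q.left))
  · exact Over.OverMorphism.ext (pullback.condition (f := t.left) (g := q.left)).symm

section Kernel

variable {N G Q : Over S} [GrpObj Q]

lemma kernel_comp {i : N ⟶ G} {q : G ⟶ Q} (h : AlgGrp.IsKernel i q) : i ≫ q = 1 := by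
  rw [Hom.one_def]; exact h.w

lemma comp_kernel_comp {i : N ⟶ G} {q : G ⟶ Q} (h : AlgGrp.IsKernel i q) {T : Over S}
    (n : T ⟶ N) : (n ≫ i) ≫ q = 1 := by
  rw [Category.assoc, kernel_comp h, MonObj.comp_one]

lemma kernel_factor {i : N ⟶ G} {q : G ⟶ Q} (h : AlgGrp.IsKernel i q) {T : Over S} (g : T ⟶ G)
    (hg : g ≫ q = 1) : ∃ n : T ⟶ N, n ≫ i = g :=
  ⟨h.lift g (toUnit T) (by rw [hg, Hom.one_def]), h.lift_fst _ _ _⟩

lemma kernel_mono {i : N ⟶ G} {q : G ⟶ Q} (h : AlgGrp.IsKernel i q) : Mono i :=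
  ⟨fun a b hab ↦ h.hom_ext hab (toUnit_unique _ _)⟩

end Kernel

section Field

variable {k : Type u} [Field k] {G H : Over (Spec (CommRingCat.of k))}

lemma isSeparated_hom (G : Over (Spec (CommRingCat.of k))) [GrpObj G] : IsSeparated G.hom :=
  ⟨GrpScheme.Basic.diagonal_mem @IsClosedImmersion inferInstance⟩

lemma isLocallyNoetherian_left (G : Over (Spec (CommRingCat.of k))) [LocallyOfFiniteType G.hom] :
    IsLocallyNoetherian G.left :=
  LocallyOfFiniteType.isLocallyNoetherian G.hom

lemma quasiCompact_left (f : G ⟶ H) [QuasiCompact G.hom] [LocallyOfFiniteType H.hom] :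
    QuasiCompact f.left := by
  have := isLocallyNoetherian_left H
  have : QuasiCompact (f.left ≫ H.hom) := by rw [Over.w]; infer_instance
  exact QuasiCompact.of_comp f.left H.hom

lemma lfp_left (f : G ⟶ H) [LocallyOfFiniteType G.hom] [LocallyOfFiniteType H.hom] :
    LocallyOfFinitePresentation f.left := by
  have := isLocallyNoetherian_left H
  have : LocallyOfFiniteType (f.left ≫ H.hom) := by rw [Over.w]; infer_instance
  have := locallyOfFiniteType_of_comp f.left H.hom
  infer_instance

lemma isIso_of_mono_flat_surjective (f : G ⟶ H) [QuasiCompact G.hom]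
    [LocallyOfFiniteType H.hom] [Mono f] [Flat f.left] [Surjective f.left] : IsIso f := by
  have := quasiCompact_left f
  have : IsIso f.left := Flat.isIso_of_surjective_of_mono f.left
  exact isIso_of_isIso_left f

end Field

end Groth.Agent.GrpdLib.GrpOver
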