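import Groth.Agent.S0385
import Groth.Agent.S5654
import Groth.Agent.S4103
import Groth.Agent.AffGrp.Bridge
import Groth.Agent.Comod.Chevalley
import Groth.Agent.Comod.Integral

/-!
# Monomorphisms into affine groups over a field

A monomorphic homomorphism of finite type groups into an affine one is a closed immersion, given by a
surjective map of Hopf algebras.
-/

set_option autoImplicit false
set_option backward.isDefEq.respectTransparency false
universe u

open CategoryTheory CategoryTheory.Limits MonoidalCategory CartesianMonoidalCategory MonObj GrpObj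
  AlgebraicGeometry
open scoped TensorProduct

namespace Groth.Agent.GrpdLib.MonoClosedField

/-- Quasi-compact monomorphisms of finite type are quasi-affine. -/
theorem isQuasiAffine_of_mono {X Y : Scheme.{u}} (f : X ⟶ Y) [Mono f] [QuasiCompact f]
    [LocallyOfFiniteType f] : Mor2.IsQuasiAffine f := by
  refine ⟨inferInstance, fun V hV => ?_⟩
  have : IsAffine (V : Scheme.{u}) := hV
  have : CompactSpace ↥((f ⁻¹ᵁ V : X.Opens) : Scheme.{u}) :=
    (quasiCompact_iff_compactSpace (f ∣_ V)).1 inferInstance
  obtain ⟨T, j, π, _, _, _, -⟩ := Groth.Agent.S0385.result (f ∣_ V)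
  have : IsAffine T := isAffine_of_isAffineHom π
  exact Scheme.IsQuasiAffine.of_isImmersion j

section Algebra

variable {k A B : Type u} [Field k] [CommRing A] [CommRing B] [HopfAlgebra k A] [HopfAlgebra k B]

theorem map_antipode (π : A →ₐc[k] B) (x : A) :
    π (HopfAlgebra.antipode k x) = HopfAlgebra.antipode k (π x) := by
  let f : A →ₐ[k] B := π
  have hl : WithConv.toConv (f.comp (HopfAlgebra.antipodeAlgHom k A)) * WithConv.toConv f = 1 :=
    Comod.antipode_comp_conv f
  have hr : WithConv.toConv f * WithConv.toConv ((HopfAlgebra.antipodeAlgHom k B).comp f) = 1 := by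
    apply WithConv.ofConv_injective
    refine AlgHom.ext fun y => ?_
    change (WithConv.toConv f * WithConv.toConv ((HopfAlgebra.antipodeAlgHom k B).comp f)) y = _
    rw [AlgHom.convMul_apply]
    have h3 := HopfAlgebra.mul_antipode_lTensor_comul_apply (R := k) (f y)
    rw [show Coalgebra.comul (R := k) (f y) = TensorProduct.map f.toLinearMap f.toLinearMap (Coalgebra.comul (R := k) y)
      from (CoalgHomClass.map_comp_comul_apply π y).symm, show Coalgebra.counit (R := k) (f y) =
        Coalgebra.counit (R := k) y from CoalgHomClass.counit_comp_apply π y] at h3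
    refine Eq.trans ?_ (h3.trans ?_)
    · induction Coalgebra.comul (R := k) y using TensorProduct.induction_on with
      | zero => simp
      | add p q hp hq => simp only [map_add, hp, hq]
      | tmul p q => simp
    · simp [AlgHom.convOne_def]
  exact AlgHom.congr_fun (congrArg WithConv.ofConv (left_inv_eq_right_inv hl hr)) x

/-- The image of a map of Hopf algebras is a sub-Hopf algebra. -/
theorem isHopfSubalgebra_range (π : A →ₐc[k] B) :
    SGA3.IsHopfSubalgebra k B (π : A →ₐ[k] B).range := by
  refine ⟨?_, ?_⟩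
  · rintro _ ⟨a, rfl⟩
    let p : A →ₐ[k] ↥(π : A →ₐ[k] B).range := (π : A →ₐ[k] B).rangeRestrict
    have h := CoalgHomClass.map_comp_comul_apply π a
    refine ⟨TensorProduct.map p.toLinearMap p.toLinearMap (Coalgebra.comul (R := k) a), ?_⟩
    refine Eq.trans ?_ h
    rw [← LinearMap.comp_apply, ← TensorProduct.map_comp]
    rfl
  · rintro _ ⟨a, rfl⟩
    exact ⟨HopfAlgebra.antipode k a, map_antipode π a⟩

/-- An epimorphism of Hopf algebras over a field is surjective. -/
theorem surjective_of_mono (π : A →ₐc[k] B)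
    [Mono (Spec.map (CommRingCat.ofHom (π : A →+* B)))] : Function.Surjective π := by
  have hff := Groth.Agent.S4103.result k B (π : A →ₐ[k] B).range (isHopfSubalgebra_range π)
  let C : Subalgebra k B := (π : A →ₐ[k] B).range
  have hm : Mono (Spec.map (CommRingCat.ofHom (algebraMap ↥C B))) := by
    have : Mono (Spec.map (CommRingCat.ofHom (algebraMap ↥C B)) ≫
        Spec.map (CommRingCat.ofHom ((π : A →ₐ[k] B).rangeRestrict : A →+* ↥C))) := by
      rw [← Spec.map_comp, ← CommRingCat.ofHom_comp]
      exact ‹Mono (Spec.map (CommRingCat.ofHom (π : A →+* B)))›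
    exact mono_of_mono (Spec.map (CommRingCat.ofHom (algebraMap ↥C B)))
      (Spec.map (CommRingCat.ofHom ((π : A →ₐ[k] B).rangeRestrict : A →+* ↥C)))
  have hlr : ∀ b : B, (1 : B) ⊗ₜ[↥C] b = b ⊗ₜ[↥C] (1 : B) := by
    have h : CommRingCat.ofHom (Algebra.TensorProduct.includeLeftRingHom (R := ↥C) (A := B) (B := B)) =
        CommRingCat.ofHom (Algebra.TensorProduct.includeRight (R := ↥C) (A := B) (B := B)).toRingHom := by
      apply Spec.map_injective
      rw [← cancel_mono (Spec.map (CommRingCat.ofHom (algebraMap ↥C B))), ← Spec.map_comp, ← Spec.map_comp,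
        ← CommRingCat.ofHom_comp, ← CommRingCat.ofHom_comp]
      congr 2
      ext c
      exact Algebra.TensorProduct.tmul_one_eq_one_tmul (R := ↥C) (A := B) (B := B) c
    exact fun b => (congr($h b)).symm
  have hs : Function.Surjective (LinearMap.lTensor B (Algebra.linearMap ↥C B)) := by
    intro z
    induction z using TensorProduct.induction_on with
    | zero => exact ⟨0, map_zero _⟩
    | add p q hp hq =>
      obtain ⟨p', rfl⟩ := hp
      obtain ⟨q', rfl⟩ := hq
      exact ⟨p' + q', map_add _ _ _⟩
    | tmul x y =>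
      refine ⟨(x * y) ⊗ₜ[↥C] (1 : ↥C), ?_⟩
      rw [LinearMap.lTensor_tmul, Algebra.linearMap_apply, map_one]
      calc (x * y) ⊗ₜ[↥C] (1 : B) = (x ⊗ₜ[↥C] (1 : B)) * (y ⊗ₜ[↥C] (1 : B)) := by
            rw [Algebra.TensorProduct.tmul_mul_tmul, _root_.mul_one]
        _ = (x ⊗ₜ[↥C] (1 : B)) * ((1 : B) ⊗ₜ[↥C] y) := by rw [hlr y]
        _ = x ⊗ₜ[↥C] y := by rw [Algebra.TensorProduct.tmul_mul_tmul, _root_.mul_one, _root_.one_mul]
  intro b
  obtain ⟨⟨c, a, rfl⟩, rfl⟩ := (Module.FaithfullyFlat.lTensor_surjective_iff_surjective ↥C B _).1 hs b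
  exact ⟨a, rfl⟩

end Algebra

variable {k : Type u} [Field k]

local notation "Sk" => Spec (CommRingCat.of k)

/-- A monomorphic homomorphism into an affine group is `Spec` of a surjection of Hopf algebras. -/
theorem exists_hopf (G H : Over Sk) [GrpObj G] [GrpObj H] [IsAffine G.left]
    [LocallyOfFiniteType G.hom] [LocallyOfFiniteType H.hom] [QuasiCompact H.hom]
    (i : H ⟶ G) [IsMonHom i] [Mono i] :
    ∃ (A B : CommRingCat.{u}) (_ : HopfAlgebra k A) (_ : HopfAlgebra k B)
      (eG : (Spec A).asOver Sk ≅ G) (eH : (Spec B).asOver Sk ≅ H) (π : A →ₐc[k] B),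
      IsMonHom eG.hom ∧ IsMonHom eH.hom ∧ Algebra.FiniteType k A ∧ Function.Surjective π ∧
      Spec.map (CommRingCat.ofHom (π : A →+* B)) ≫ eG.hom.left = eH.hom.left ≫ i.left := by
  have : QuasiCompact (i.left ≫ G.hom) := by rw [Over.w i]; infer_instance
  have : LocallyOfFiniteType (i.left ≫ G.hom) := by rw [Over.w i]; infer_instance
  have : QuasiCompact i.left := QuasiCompact.of_comp i.left G.hom
  have : LocallyOfFiniteType i.left := locallyOfFiniteType_of_comp i.left G.hom
  have : Mono i.left := inferInstanceAs (Mono ((Over.forget _).map i))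
  have := Groth.Agent.S5654.result k H G i (isQuasiAffine_of_mono i.left)
  have : IsAffine H.left := isAffine_of_isAffineHom i.left
  obtain ⟨A, hA, eG, hG⟩ := AffGrp.Bridge.exists_iso (R := CommRingCat.of k) G
  obtain ⟨B, hB, eH, hH⟩ := AffGrp.Bridge.exists_iso (R := CommRingCat.of k) H
  let φ : (Spec B).asOver Sk ⟶ (Spec A).asOver Sk := eH.hom ≫ i ≫ eG.inv
  have : IsMonHom φ := inferInstance
  obtain ⟨v, hv⟩ : ∃ v : Opposite.op (CommHopfAlgCat.of k B) ⟶ Opposite.op (CommHopfAlgCat.of k A),
      ((hopfSpec (CommRingCat.of k)).map v).hom.hom = φ := by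
    let ψ : (hopfSpec (CommRingCat.of k)).obj (Opposite.op (CommHopfAlgCat.of k B)) ⟶
        (hopfSpec (CommRingCat.of k)).obj (Opposite.op (CommHopfAlgCat.of k A)) := Grp.homMk' (@Mon.Hom.mk _ _ _ _ _ φ ⟨IsMonHom.one_hom φ, IsMonHom.mul_hom φ⟩)
    obtain ⟨v, hv⟩ : ∃ v, (hopfSpec (CommRingCat.of k)).map v = ψ :=
      ⟨_, hopfSpec.fullyFaithful.map_preimage ψ⟩
    exact ⟨v, by rw [hv]; rfl⟩
  let π : A →ₐc[k] B := v.unop.hom
  have hπ : Spec.map (CommRingCat.ofHom (π : A →+* B)) = φ.left := congrArg CommaMorphism.left hv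
  have hA' : Algebra.FiniteType k A := by
    have : LocallyOfFiniteType (eG.hom.left ≫ G.hom) := inferInstance
    rw [Over.w eG.hom] at this
    have h : LocallyOfFiniteType (Spec.map (CommRingCat.ofHom (algebraMap k A))) := this
    rwa [HasRingHomProperty.Spec_iff (P := @LocallyOfFiniteType), CommRingCat.hom_ofHom,
      RingHom.finiteType_algebraMap] at h
  have : Mono φ := inferInstance
  have : Mono (Spec.map (CommRingCat.ofHom (π : A →+* B))) := by
    rw [hπ]; exact inferInstanceAs (Mono ((Over.forget _).map φ))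
  refine ⟨A, B, hA, hB, eG, eH, π, hG, hH, hA', surjective_of_mono π, ?_⟩
  rw [hπ, ← Over.comp_left, ← Over.comp_left]
  simp [φ]

/-- A monomorphic homomorphism of finite type groups into an affine one is a closed immersion. -/
theorem isClosedImmersion (G H : Over Sk) [GrpObj G] [GrpObj H] [IsAffine G.left]
    [LocallyOfFiniteType G.hom] [LocallyOfFiniteType H.hom] [QuasiCompact H.hom]
    (i : H ⟶ G) [IsMonHom i] [Mono i] : IsClosedImmersion i.left := by
  obtain ⟨A, B, _, _, eG, eH, π, -, -, -, hπ, e⟩ := exists_hopf G H i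
  have := IsClosedImmersion.spec_of_surjective (CommRingCat.ofHom (π : A →+* B)) hπ
  have : IsClosedImmersion (eH.hom.left ≫ i.left) := by rw [← e]; infer_instance
  exact (MorphismProperty.cancel_left_of_respectsIso @IsClosedImmersion eH.hom.left i.left).1 this

/-- The kernel of a surjection of Hopf algebras is a Hopf ideal. -/
theorem isHopfIdeal_ker {A B : Type u} [CommRing A] [CommRing B] [HopfAlgebra k A] [HopfAlgebra k B]
    (π : A →ₐc[k] B) : (RingHom.ker (π : A →+* B)).IsHopfIdeal k :=
  { counit_eq_zero := fun x hx => by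
      have h1 : π x = 0 := hx
      have := CoalgHomClass.counit_comp_apply π x
      rw [h1, map_zero] at this
      exact this.symm
    map_mkQ_comul_eq_zero := fun x hx => by
      let K := (RingHom.ker (π : A →+* B)).restrictScalars k
      have h1 : π x = 0 := hx
      let πb : (A ⧸ K) →ₗ[k] B := K.liftQ (π : A →ₗ[k] B) fun y hy => hy
      have hinj : Function.Injective πb := by
        rw [← LinearMap.ker_eq_bot, Submodule.ker_liftQ, eq_bot_iff]
        rintro _ ⟨y, hy, rfl⟩
        exact (Submodule.Quotient.mk_eq_zero K).2 hy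
      change TensorProduct.map K.mkQ K.mkQ _ = 0
      apply Module.Flat.lTensor_preserves_injective_linearMap (M := A ⧸ K) πb hinj
      apply Module.Flat.rTensor_preserves_injective_linearMap (M := B) πb hinj
      rw [map_zero, map_zero]
      have e : ∀ w : A ⊗[k] A, πb.rTensor B (πb.lTensor (A ⧸ K) (TensorProduct.map K.mkQ K.mkQ w)) =
          TensorProduct.map (π : A →ₗ[k] B) (π : A →ₗ[k] B) w := by
        intro w
        induction w using TensorProduct.induction_on with
        | zero => simp
        | add y z hy hz => simp only [map_add, hy, hz]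
        | tmul y z => simp [πb]
      rw [e]
      refine (CoalgHomClass.map_comp_comul_apply π x).trans ?_
      rw [h1, map_zero]
    antipode_mem := fun x hx => by
      have h1 : π x = 0 := hx
      show π (HopfAlgebra.antipode k x) = 0
      rw [map_antipode, h1, map_zero] }

end Groth.Agent.GrpdLib.MonoClosedField
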