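import Groth.Agent.S16476
import Groth.Agent.Comod.Integral
import Groth.Agent.GrpdLib.MonoClosedField
import Mathlib.RingTheory.Jacobson.Ring
import Mathlib.FieldTheory.IsAlgClosed.Basic
import Mathlib.LinearAlgebra.TensorProduct.Basis
import Mathlib.Algebra.CharP.Lemmas
import Mathlib.Algebra.CharP.Algebra

/-!
# Normal subgroups of affine groups are stabilisers of fixed vectors

Over an algebraically closed field, the kernel of a surjection of Hopf algebras which is stable under
conjugation is the stabiliser of a line on which it acts trivially. No smoothness is assumed: the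
characters are compared on points and nilpotents are removed by a Frobenius power.
-/

set_option autoImplicit false
set_option linter.style.haveILetI false
universe u

open scoped TensorProduct
open WithConv

noncomputable section

namespace Groth.Agent.GrpdLib.NormalChar

variable {k A : Type u} [Field k] [CommRing A] [HopfAlgebra k A]

section Conv

variable {C : Type u} [CommRing C] [Algebra k C]

/-- The inverse of a point. -/
def inv' (f : WithConv (A →ₐ[k] C)) : WithConv (A →ₐ[k] C) :=
  toConv (f.ofConv.comp (HopfAlgebra.antipodeAlgHom k A))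

lemma inv'_mul (f : WithConv (A →ₐ[k] C)) : inv' f * f = 1 := Comod.antipode_comp_conv f.ofConv

lemma inv'_inv' (f : WithConv (A →ₐ[k] C)) : inv' (inv' f) = f :=
  left_inv_eq_right_inv (inv'_mul (inv' f)) (inv'_mul f)

lemma mul_inv' (f : WithConv (A →ₐ[k] C)) : f * inv' f = 1 := by
  have h := inv'_mul (inv' f)
  rwa [inv'_inv'] at h

lemma toConv_conv3 (f g h : A →ₐ[k] C) :
    toConv (Dyn.conv3 k A f g h) = toConv f * toConv g * toConv h := by
  apply WithConv.ofConv_injective
  refine AlgHom.ext fun a => ?_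
  show Dyn.conv3 k A f g h a = (toConv f * toConv g * toConv h) a
  rw [AlgHom.convMul_apply]
  simp only [Dyn.conv3, AlgHom.comp_apply, Bialgebra.comulAlgHom_apply, ofConv_toConv]
  induction Coalgebra.comul (R := k) a using TensorProduct.induction_on with
  | zero => simp
  | add x y hx hy => simp only [map_add, hx, hy]
  | tmul x y =>
    simp only [Algebra.TensorProduct.map_tmul, Algebra.TensorProduct.lmul'_apply_tmul, AlgHom.comp_apply,
      Bialgebra.comulAlgHom_apply, AlgHom.id_apply, Algebra.TensorProduct.lift_tmul]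
    congr 1

variable {κ : Type} [Fintype κ] [DecidableEq κ] {a : κ → κ → A}

lemma actPt_mul (ha : Comod.IsMat k a) (f g : WithConv (A →ₐ[k] C)) (v : κ → k) (i : κ) :
    Comod.actPt a (f * g).ofConv v i = ∑ l, f.ofConv (a i l) * Comod.actPt a g.ofConv v l := by
  have h : ∀ j, (f * g).ofConv (a i j) = ∑ l, f.ofConv (a i l) * g.ofConv (a l j) := fun j => by
    show (f * g) (a i j) = _
    rw [AlgHom.convMul_apply, ha.comul, map_sum]
    simp
  simp only [Comod.actPt, h, Finset.smul_sum, Finset.mul_sum, mul_smul_comm]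
  exact Finset.sum_comm

lemma actPt_comp {C' : Type u} [CommRing C'] [Algebra k C'] (q : C →ₐ[k] C') (g : A →ₐ[k] C) (v : κ → k)
    (i : κ) : Comod.actPt a (q.comp g) v i = q (Comod.actPt a g v i) := by
  simp [Comod.actPt, map_sum, map_smul]

end Conv

/-- A surjection lifts algebra maps killing its kernel. -/
lemma exists_lift {B R : Type u} [CommRing B] [Algebra k B] [CommRing R] [Algebra k R] (π : A →ₐ[k] B)
    (hπ : Function.Surjective π) (f : A →ₐ[k] R) (hf : ∀ x, π x = 0 → f x = 0) :
    ∃ q : B →ₐ[k] R, q.comp π = f := by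
  let e := Ideal.quotientKerAlgEquivOfSurjective (f := π) hπ
  refine ⟨(Ideal.Quotient.liftₐ (RingHom.ker π) f hf).comp e.symm.toAlgHom, AlgHom.ext fun w => ?_⟩
  have h1 : e.symm (π w) = Ideal.Quotient.mk _ w := by
    rw [AlgEquiv.symm_apply_eq]
    rfl
  change Ideal.Quotient.liftₐ (RingHom.ker π) f hf (e.symm (π w)) = _
  rw [h1]
  rfl

/-- An element of a tensor product killed by all points of the first factor is nilpotent, and zero
if the first factor is reduced. -/
theorem isNilpotent_of_points [IsAlgClosed k] [Algebra.FiniteType k A] {B : Type u} [CommRing B]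
    [Algebra k B] (z : A ⊗[k] B)
    (hz : ∀ x : A →ₐ[k] k, TensorProduct.map x.toLinearMap (LinearMap.id (R := k) (M := B)) z = 0) :
    IsNilpotent z ∧ (IsReduced A → z = 0) := by
  classical
  let 𝒞 := Module.Free.chooseBasis k B
  let e := TensorProduct.equivFinsuppOfBasisRight (M := A) 𝒞
  have hx : ∀ (x : A →ₐ[k] k) (w : A ⊗[k] B) b, x (e w b) =
      𝒞.repr (TensorProduct.lid k B (TensorProduct.map x.toLinearMap (LinearMap.id (R := k) (M := B)) w)) b := by
    intro x w b
    induction w using TensorProduct.induction_on with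
    | zero => simp
    | add p q hp hq => simp only [map_add, Finsupp.add_apply, hp, hq]
    | tmul p q => simp [e, TensorProduct.equivFinsuppOfBasisRight_apply_tmul_apply, mul_comm]
  have hnil : ∀ b, IsNilpotent (e z b) := fun b => by
    rw [← mem_nilradical]
    haveI : IsJacobsonRing A := isJacobsonRing_of_finiteType (A := k)
    rw [nilradical, ← IsJacobsonRing.out ‹IsJacobsonRing A› (Ideal.radical_isRadical _), Ideal.jacobson, Submodule.mem_sInf]
    rintro M ⟨-, hM⟩
    let : Field (A ⧸ M) := Ideal.Quotient.field M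
    haveI : Algebra.FiniteType k (A ⧸ M) :=
      Algebra.FiniteType.of_surjective (Ideal.Quotient.mkₐ k M) Ideal.Quotient.mk_surjective
    haveI : Module.Finite k (A ⧸ M) := finite_of_finite_type_of_isJacobsonRing k (A ⧸ M)
    let eq := AlgEquiv.ofBijective (Algebra.ofId k (A ⧸ M))
      (IsAlgClosed.algebraMap_bijective_of_isIntegral (k := k) (K := A ⧸ M))
    let x : A →ₐ[k] k := eq.symm.toAlgHom.comp (Ideal.Quotient.mkₐ k M)
    have h := hx x z b
    rw [hz x, map_zero, map_zero, Finsupp.zero_apply] at h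
    have h' : eq.symm (Ideal.Quotient.mk M (e z b)) = 0 := h
    exact Ideal.Quotient.eq_zero_iff_mem.1 (eq.symm.injective (by rw [h', map_zero]))
  have hsum : z = ∑ b ∈ (e z).support, (e z b) ⊗ₜ[k] (𝒞 b) := by
    conv_lhs => rw [← e.symm_apply_apply z]
    rw [show e.symm (e z) = (Finsupp.lsum k fun i => (TensorProduct.mk k A B).flip (𝒞 i)) (e z) from
      LinearMap.congr_fun (TensorProduct.equivFinsuppOfBasisRight_symm (M := A) 𝒞) (e z)]
    rfl
  refine ⟨?_, fun h => ?_⟩
  · rw [hsum]
    refine isNilpotent_sum fun b _ => ?_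
    obtain ⟨n, hn⟩ := hnil b
    refine ⟨n + 1, ?_⟩
    rw [Algebra.TensorProduct.tmul_pow, pow_succ, hn, zero_mul, TensorProduct.zero_tmul]
  · rw [hsum]
    exact Finset.sum_eq_zero fun b _ => by rw [(hnil b).eq_zero, TensorProduct.zero_tmul]

variable {B : Type u} [CommRing B] [HopfAlgebra k B]

lemma antipode_mul_self {χ : B} (hχ : IsGroupLikeElem k χ) : HopfAlgebra.antipode k χ * χ = 1 := by
  have h := HopfAlgebra.mul_antipode_rTensor_comul_apply (R := k) χ
  rw [hχ.comul_eq_tmul_self, hχ.counit_eq_one] at h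
  simpa using h

lemma isGroupLike_of_mul {χ ψ : B} (hχ : IsGroupLikeElem k χ) (h : ψ * χ = 1) :
    IsGroupLikeElem k ψ := by
  refine ⟨?_, ?_⟩
  · have := congrArg (Coalgebra.counit (R := k)) h
    rw [Bialgebra.counit_mul, hχ.counit_eq_one, mul_one, Bialgebra.counit_one] at this
    exact this
  · have h1 := congrArg (Coalgebra.comul (R := k)) h
    rw [Bialgebra.comul_mul, hχ.comul_eq_tmul_self, Bialgebra.comul_one] at h1
    refine left_inv_eq_right_inv (a := χ ⊗ₜ[k] χ) h1 ?_
    rw [Algebra.TensorProduct.tmul_mul_tmul, mul_comm, h]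
    rfl

lemma isGroupLike_pow {χ : B} (hχ : IsGroupLikeElem k χ) (n : ℕ) : IsGroupLikeElem k (χ ^ n) := by
  refine ⟨?_, ?_⟩
  · rw [Bialgebra.counit_pow, hχ.counit_eq_one, one_pow]
  · rw [Bialgebra.comul_pow, hχ.comul_eq_tmul_self, Algebra.TensorProduct.tmul_pow]

variable [IsAlgClosed k] [Algebra.FiniteType k A] (π : A →ₐc[k] B) (hπ : Function.Surjective π)
  (hN : SGA3.IsNormalHopfIdeal k A (RingHom.ker (π : A →+* B)))
  (hred : CharZero k → IsReduced A)

include hπ hN in
/-- Translates of an eigenvector by points are eigenvectors. -/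
theorem exists_eigen {κ : Type} [Fintype κ] [DecidableEq κ] {a : κ → κ → A} (ha : Comod.IsMat k a)
    (v : κ → k) (χ : B) (hv : ∀ i, Comod.actPt a (π : A →ₐ[k] B) v i = v i • χ) (g : A →ₐ[k] k) :
    ∃ c : B, ∀ i, Comod.actPt a (π : A →ₐ[k] B) (fun l => Comod.actPt a g v l) i =
      Comod.actPt a g v i • c := by
  let gB : A →ₐ[k] B := (Algebra.ofId k B).comp g
  let P : WithConv (A →ₐ[k] B) := toConv (π : A →ₐ[k] B)
  let h : A →ₐ[k] B := Dyn.conv3 k A (gB.comp (HopfAlgebra.antipodeAlgHom k A)) π
    ((gB.comp (HopfAlgebra.antipodeAlgHom k A)).comp (HopfAlgebra.antipodeAlgHom k A))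
  have hh : ∀ x, π x = 0 → h x = 0 :=
    hN B (gB.comp (HopfAlgebra.antipodeAlgHom k A)) π fun x hx => hx
  obtain ⟨q, hq⟩ := exists_lift (π : A →ₐ[k] B) hπ h hh
  refine ⟨q χ, fun i => ?_⟩
  have e : P * toConv gB = toConv gB * toConv h := by
    rw [toConv_conv3, ← _root_.mul_assoc, ← _root_.mul_assoc]
    show _ = toConv gB * inv' (toConv gB) * P * inv' (inv' (toConv gB))
    rw [mul_inv', _root_.one_mul, inv'_inv']
  have h1 := congrArg (fun f : WithConv (A →ₐ[k] B) => Comod.actPt a f.ofConv v i) e
  simp only [actPt_mul ha, ofConv_toConv] at h1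
  have hl : ∀ l, Comod.actPt a gB v l = algebraMap k B (Comod.actPt a g v l) := fun l =>
    actPt_comp (Algebra.ofId k B) g v l
  have hr : ∀ l, Comod.actPt a h v l = v l • q χ := fun l => by
    rw [← hq, actPt_comp, hv, map_smul]
  calc Comod.actPt a (π : A →ₐ[k] B) (fun l => Comod.actPt a g v l) i
      = ∑ l, π (a i l) * Comod.actPt a gB v l := by
        simp only [hl]
        exact Finset.sum_congr rfl fun l _ => by rw [Algebra.smul_def, mul_comm]; rfl
    _ = ∑ l, gB (a i l) * Comod.actPt a h v l := h1
    _ = Comod.actPt a g v i • q χ := by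
        simp only [hr]
        rw [show Comod.actPt a g v i = ∑ l, v l • g (a i l) from rfl, Finset.sum_smul]
        refine Finset.sum_congr rfl fun l _ => ?_
        show algebraMap k B (g (a i l)) * _ = _
        rw [← Algebra.smul_def, smul_smul, smul_eq_mul, mul_comm]

include hπ hN in
/-- The semi-invariant function of inverse character, up to nilpotents. -/
theorem exists_semiInv {κ : Type} [Fintype κ] [DecidableEq κ] {a : κ → κ → A} (ha : Comod.IsMat k a)
    (v : κ → k) (hv0 : v ≠ 0) (χ : B) (hv : ∀ i, Comod.actPt a (π : A →ₐ[k] B) v i = v i • χ) :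
    ∃ f : A, Coalgebra.counit (R := k) f = 1 ∧
      IsNilpotent (Algebra.TensorProduct.map (AlgHom.id k A) (π : A →ₐ[k] B) (Coalgebra.comul (R := k) f) -
        f ⊗ₜ[k] HopfAlgebra.antipode k χ) ∧
      (IsReduced A → Algebra.TensorProduct.map (AlgHom.id k A) (π : A →ₐ[k] B) (Coalgebra.comul (R := k) f) =
        f ⊗ₜ[k] HopfAlgebra.antipode k χ) := by
  classical
  let tr : (A →ₐ[k] k) → κ → k := fun g l => Comod.actPt a g v l
  let S : Set (κ → k) := Set.range tr
  have hv1 : tr (1 : WithConv (A →ₐ[k] k)).ofConv = v := funext fun l => by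
    have h : ∀ j, (1 : WithConv (A →ₐ[k] k)).ofConv (a l j) = if l = j then 1 else 0 := fun j => by
      show (1 : WithConv (A →ₐ[k] k)) (a l j) = _
      rw [AlgHom.convOne_apply, ha.counit]
      split_ifs <;> simp
    simp [tr, Comod.actPt, h]
  have hvS : v ∈ S := ⟨_, hv1⟩
  have hli : LinearIndepOn k id ({v} : Set (κ → k)) := (linearIndepOn_singleton_iff (R := k) (v := (id : (κ → k) → κ → k)) (i := v)).2 hv0
  have hsub : ({v} : Set (κ → k)) ⊆ S := Set.singleton_subset_iff.2 hvS
  let T := hli.extend hsub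
  have hvT : v ∈ T := hli.subset_extend hsub rfl
  have hT : LinearIndepOn k id T := hli.linearIndepOn_extend hsub
  obtain ⟨φ, hφ, hφ0⟩ := Submodule.exists_dual_map_eq_bot_of_notMem
    (p := Submodule.span k (T \ {v})) (x := v)
    (by simpa [Set.image_id] using LinearIndepOn.notMem_span hT hvT) inferInstance
  let lam : Module.Dual k (κ → k) := (φ v)⁻¹ • φ
  have hl1 : lam v = 1 := by simp [lam, inv_mul_cancel₀ hφ]
  have hl0 : ∀ b ∈ T, b ≠ v → lam b = 0 := fun b hb hbv => by
    have hbot := hφ0
    have : φ b = 0 := by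
      have hm : φ b ∈ Submodule.map φ (Submodule.span k (T \ {v})) :=
        Submodule.mem_map_of_mem (Submodule.subset_span ⟨hb, by simpa using hbv⟩)
      rw [hbot] at hm
      exact (Submodule.mem_bot k).1 hm
    simp [lam, this]
  let li : κ → k := fun i => lam (Pi.single i 1)
  have hlam : ∀ w : κ → k, lam w = ∑ i, w i * li i := fun w => by
    conv_lhs => rw [pi_eq_sum_univ' w, map_sum]
    exact Finset.sum_congr rfl fun i _ => by rw [map_smul]; rfl
  -- the functional is an eigen functional on the span of the translates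
  have key : ∀ w ∈ Submodule.span k S,
      ∑ i, li i • Comod.actPt a (π : A →ₐ[k] B) w i = lam w • χ := by
    have hsp : Submodule.span k S ≤ Submodule.span k T :=
      Submodule.span_le.2 (hli.subset_span_extend hsub)
    intro w hw
    have hw' := hsp hw
    clear hw
    induction hw' using Submodule.span_induction with
    | mem b hb =>
      by_cases hbv : b = v
      · subst hbv
        simp only [hv, ← smul_assoc, ← Finset.sum_smul, hlam]
        congr 1
        exact Finset.sum_congr rfl fun i _ => mul_comm _ _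
      · obtain ⟨g, rfl⟩ := hli.extend_subset hsub hb
        obtain ⟨c, hc⟩ := exists_eigen π hπ hN ha v χ hv g
        simp only [tr] at hbv ⊢
        simp only [hc, ← smul_assoc, ← Finset.sum_smul]
        have h0 := hl0 _ hb hbv
        simp only [tr] at h0
        rw [h0, zero_smul, show (∑ i, li i • Comod.actPt a g v i) = (0 : k) from ?_, zero_smul]
        rw [← h0, hlam]
        exact Finset.sum_congr rfl fun i _ => mul_comm _ _
    | zero => simp [Comod.actPt]
    | add p q _ _ hp hq =>
      simp only [Comod.actPt, Pi.add_apply, add_smul, Finset.sum_add_distrib, smul_add, map_add] at hp hq ⊢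
      rw [hp, hq]
    | smul r p _ hp =>
      simp only [Comod.actPt, Pi.smul_apply, smul_eq_mul, map_smul] at hp ⊢
      rw [← smul_smul, ← hp, Finset.smul_sum]
      refine Finset.sum_congr rfl fun i _ => ?_
      rw [smul_comm r (li i)]
      congr 1
      rw [Finset.smul_sum]
      exact Finset.sum_congr rfl fun j _ => (smul_smul _ _ _).symm
  let f : A := ∑ i, li i • ∑ j, v j • HopfAlgebra.antipode k (a i j)
  have hf : ∀ {C : Type u} [CommRing C] [Algebra k C] (x : WithConv (A →ₐ[k] C)),
      x.ofConv f = ∑ i, li i • Comod.actPt a (inv' x).ofConv v i := fun x => by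
    simp only [f, map_sum, map_smul, Comod.actPt]
    rfl
  have hfx : ∀ x : A →ₐ[k] k, x f = lam (tr (inv' (toConv x)).ofConv) := fun x => by
    rw [show x f = (toConv x).ofConv f from rfl, hf, hlam]
    exact Finset.sum_congr rfl fun i _ => mul_comm _ _
  have hD : ∀ x : A →ₐ[k] k, TensorProduct.map x.toLinearMap (LinearMap.id (R := k) (M := B))
      (Algebra.TensorProduct.map (AlgHom.id k A) (π : A →ₐ[k] B) (Coalgebra.comul (R := k) f) -
        f ⊗ₜ[k] HopfAlgebra.antipode k χ) = 0 := by
    intro x
    apply (TensorProduct.lid k B).injective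
    rw [map_sub, map_sub, map_zero, sub_eq_zero]
    let xB : A →ₐ[k] B := (Algebra.ofId k B).comp x
    have e1 : TensorProduct.lid k B (TensorProduct.map x.toLinearMap (LinearMap.id (R := k) (M := B))
        (Algebra.TensorProduct.map (AlgHom.id k A) (π : A →ₐ[k] B) (Coalgebra.comul (R := k) f))) =
        (toConv xB * toConv (π : A →ₐ[k] B)).ofConv f := by
      show _ = (toConv xB * toConv (π : A →ₐ[k] B)) f
      rw [AlgHom.convMul_apply]
      induction Coalgebra.comul (R := k) f using TensorProduct.induction_on with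
      | zero => simp
      | add p q hp hq => simp only [map_add, hp, hq]
      | tmul p q => simp [xB, Algebra.smul_def]
    have e2 : inv' (toConv xB * toConv (π : A →ₐ[k] B)) =
        inv' (toConv (π : A →ₐ[k] B)) * inv' (toConv xB) := by
      refine left_inv_eq_right_inv (inv'_mul _) ?_
      rw [← _root_.mul_assoc, _root_.mul_assoc (toConv xB), mul_inv', _root_.mul_one, mul_inv']
    let SB : B →ₐ[k] B := HopfAlgebra.antipodeAlgHom k B
    have e3 : (inv' (toConv (π : A →ₐ[k] B))).ofConv = SB.comp (π : A →ₐ[k] B) :=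
      AlgHom.ext fun y => MonoClosedField.map_antipode π y
    have e4 : ∀ l, Comod.actPt a (inv' (toConv xB)).ofConv v l =
        algebraMap k B (tr (inv' (toConv x)).ofConv l) := fun l =>
      actPt_comp (Algebra.ofId k B) (inv' (toConv x)).ofConv v l
    rw [e1, hf, e2]
    simp only [actPt_mul ha, e4, e3]
    have hw : tr (inv' (toConv x)).ofConv ∈ Submodule.span k S := Submodule.subset_span ⟨_, rfl⟩
    have := congrArg SB (key _ hw)
    rw [map_sum, map_smul] at this
    simp only [TensorProduct.map_tmul, TensorProduct.lid_tmul, LinearMap.id_coe, id_eq,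
      AlgHom.toLinearMap_apply]
    rw [hfx]
    refine Eq.trans ?_ this
    refine Finset.sum_congr rfl fun i _ => ?_
    rw [map_smul]
    congr 1
    simp only [Comod.actPt, map_sum, map_smul, AlgHom.comp_apply]
    exact Finset.sum_congr rfl fun l _ => by rw [Algebra.smul_def, _root_.mul_comm]
  refine ⟨f, ?_, (isNilpotent_of_points _ hD).1, fun h => sub_eq_zero.1 ((isNilpotent_of_points _ hD).2 h)⟩
  have h := hfx (Bialgebra.counitAlgHom k A)
  rw [show toConv (Bialgebra.counitAlgHom k A) = (1 : WithConv (A →ₐ[k] k)) from by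
    apply WithConv.ofConv_injective; exact AlgHom.ext fun y => by simp [AlgHom.convOne_def],
    show inv' (1 : WithConv (A →ₐ[k] k)) = 1 from by simpa using mul_inv' (1 : WithConv (A →ₐ[k] k)),
    hv1, hl1] at h
  exact h

include hred in
/-- A semi-invariant up to nilpotents becomes one after a power. -/
theorem exists_pow_semiInv (f : A) (ψ : B)
    (h1 : IsNilpotent (Algebra.TensorProduct.map (AlgHom.id k A) (π : A →ₐ[k] B) (Coalgebra.comul (R := k) f) -
        f ⊗ₜ[k] ψ))
    (h2 : IsReduced A → Algebra.TensorProduct.map (AlgHom.id k A) (π : A →ₐ[k] B) (Coalgebra.comul (R := k) f) =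
        f ⊗ₜ[k] ψ) :
    ∃ m : ℕ, 0 < m ∧ Algebra.TensorProduct.map (AlgHom.id k A) (π : A →ₐ[k] B)
      (Coalgebra.comul (R := k) (f ^ m)) = (f ^ m) ⊗ₜ[k] (ψ ^ m) := by
  obtain ⟨p, hp⟩ := CharP.exists k
  rcases CharP.char_is_prime_or_zero k p with hprime | rfl
  · have : Fact p.Prime := ⟨hprime⟩
    obtain ⟨n, hn⟩ := h1
    have : Nontrivial (A ⊗[k] B) := RingHom.domain_nontrivial
      ((Algebra.TensorProduct.lmul' (S := k) k).comp (Algebra.TensorProduct.map
        (Bialgebra.counitAlgHom k A) (Bialgebra.counitAlgHom k B))).toRingHom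
    have : CharP (A ⊗[k] B) p := charP_of_injective_algebraMap (algebraMap k (A ⊗[k] B)).injective p
    refine ⟨p ^ n, pow_pos hprime.pos n, ?_⟩
    have h3 := pow_eq_zero_of_le (Nat.lt_pow_self hprime.one_lt).le hn
    rw [sub_pow_char_pow, sub_eq_zero, Algebra.TensorProduct.tmul_pow] at h3
    rw [Bialgebra.comul_pow, map_pow, h3]
  · have : CharZero k := CharP.charP_to_charZero k
    exact ⟨1, one_pos, by simpa using h2 (hred this)⟩

include hπ hN hred in
/-- A normal subgroup is the stabiliser of a line which it fixes pointwise. -/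
theorem exists_fixed_vector :
    ∃ (κ : Type) (_ : Fintype κ) (_ : DecidableEq κ) (a : κ → κ → A) (v : κ → k), Comod.IsMat k a ∧
      ∀ (R : Type u) [CommRing R] [Algebra k R] (g : A →ₐ[k] R),
        (∀ x, π x = 0 → g x = 0) ↔ ∀ i, Comod.actPt a g v i = v i • (1 : R) := by
  classical
  obtain ⟨V, _, _, cV, _, v, -, hrep, hv⟩ := Groth.Agent.S16476.result k A B π hπ (by
    rintro χ hχ ⟨V, _, _, cV, _, v, hv0, hv⟩
    letI := cV
    let bq := Module.finBasis k V
    have hv' := (Comod.eq_tmul_iff bq (π : A →ₐ[k] B) v χ).1 hv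
    obtain ⟨f, hf1, hf2, hf3⟩ := exists_semiInv π hπ hN (Comod.isMat_mat bq) (fun j => bq.repr v j)
      (fun h => hv0 (bq.repr.injective (by ext j; simpa using congrFun h j))) χ hv'
    obtain ⟨m, hm, hfm⟩ := exists_pow_semiInv π hred f _ hf2 hf3
    have hSχ := antipode_mul_self hχ
    obtain ⟨U, hfin, hsU, hU⟩ := Comod.exists_finite_subcomod (k := k) (A := A) ({f ^ m} : Finset A)
    letI cU := ComodSub.Comod.restr (inferInstance : HopfRep.Comod k A A) U hU
    let w : U := ⟨f ^ m, hsU (by simp)⟩
    refine ⟨m, hm, HopfAlgebra.antipode k χ ^ m, isGroupLike_pow (isGroupLike_of_mul hχ hSχ) m,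
      by rw [← mul_pow, hSχ, one_pow], U, inferInstance, inferInstance, cU, hfin, w, fun h => ?_, ?_⟩
    · have h2 := congrArg (fun y : U => Coalgebra.counit (R := k) (y : A)) h
      simp only [w, Bialgebra.counit_pow, hf1, one_pow, ZeroMemClass.coe_zero, map_zero] at h2
      exact one_ne_zero h2
    · apply Module.Flat.rTensor_preserves_injective_linearMap (M := B) U.subtype Subtype.val_injective
      have h3 := ComodSub.restr_coact_coe (inferInstance : HopfRep.Comod k A A) U hU w
      rw [← LinearMap.comp_apply, LinearMap.rTensor_comp_lTensor, ← LinearMap.lTensor_comp_rTensor,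
        LinearMap.comp_apply]
      rw [show U.subtype.rTensor A (HopfRep.Comod.coact (k := k) (A := A) w) = _ from h3]
      exact hfm)
  letI := cV
  let bq := Module.finBasis k V
  refine ⟨Fin (Module.finrank k V), inferInstance, inferInstance, Comod.mat A bq, fun j => bq.repr v j,
    Comod.isMat_mat bq, fun R _ _ g => ⟨fun hg i => ?_, fun hg => ?_⟩⟩
  · obtain ⟨q, hq⟩ := exists_lift (π : A →ₐ[k] B) hπ g hg
    rw [← hq, actPt_comp, (Comod.eq_tmul_iff bq (π : A →ₐ[k] B) v 1).1 hv i, map_smul, map_one]
  · exact (hrep R g).2 ⟨1, (Comod.eq_tmul_iff bq g v 1).2 hg⟩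

end Groth.Agent.GrpdLib.NormalChar
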