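import Groth.Agent.GrpdLib.AffHomogeneous
import Groth.Agent.GrpdLib.NormalChar
import Groth.Agent.GrpdLib.BcPts
import Groth.Agent.GrpScheme.Cartier
import Groth.Agent.GrpScheme.HomFlat
import Groth.Agent.S5654

/-!
# Quotients of affine groups by normal subgroups are affine groups
-/

set_option autoImplicit false
set_option linter.style.haveILetI false
set_option backward.isDefEq.respectTransparency false
universe u

open CategoryTheory MonoidalCategory CartesianMonoidalCategory MonObj GrpObj AlgebraicGeometry Limits WithConv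

noncomputable section

namespace Groth.Agent.GrpdLib.AffNormalQuot

section QuotGroup

variable {S : Scheme.{u}} {G N X : Over S} [GrpObj G] [GrpObj N] (i : N ⟶ G) [IsMonHom i] (p : G ⟶ X)
  (hrel : ∀ {T : Over S} (x y : T ⟶ G), x ≫ p = y ≫ p ↔ ∃ z : T ⟶ N, z ≫ i = x⁻¹ * y)
  (hN : AlgGrp.IsNormalHom i)

include hrel hN in
lemma congr_mul {T : Over S} {x y a b : T ⟶ G} (h : x ≫ p = y ≫ p) (h' : a ≫ p = b ≫ p) :
    (x * a) ≫ p = (y * b) ≫ p := by
  obtain ⟨z, hz⟩ := (hrel _ _).1 h
  obtain ⟨z', hz'⟩ := (hrel _ _).1 h'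
  obtain ⟨n, hn⟩ := hN T a⁻¹ z
  refine (hrel _ _).2 ⟨n * z', ?_⟩
  rw [MonObj.mul_comp, ← hn, hz', hz, _root_.inv_inv, _root_.mul_inv_rev]
  simp only [_root_.mul_assoc, mul_inv_cancel_left]

include hrel hN in
lemma congr_inv {T : Over S} {x y : T ⟶ G} (h : x ≫ p = y ≫ p) : x⁻¹ ≫ p = y⁻¹ ≫ p := by
  obtain ⟨z, hz⟩ := (hrel _ _).1 h
  obtain ⟨n, hn⟩ := hN T x z⁻¹
  refine (hrel _ _).2 ⟨n, ?_⟩
  rw [← hn, GrpObj.inv_comp, hz, _root_.inv_inv, _root_.mul_inv_rev, _root_.inv_inv, _root_.mul_assoc,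
    _root_.mul_assoc, mul_inv_cancel, _root_.mul_one]

variable [Flat p.left] [Surjective p.left] [LocallyOfFinitePresentation p.left]

include hrel hN in
/-- The quotient by a normal subgroup is a group. -/
theorem exists_quotGroup [Mono i] : ∃ (_ : GrpObj X), IsMonHom p ∧ AlgGrp.IsKernel i p := by
  have hp : (@Surjective ⊓ @Flat ⊓ @LocallyOfFinitePresentation : MorphismProperty Scheme.{u}) p.left :=
    ⟨⟨inferInstance, inferInstance⟩, inferInstance⟩
  have hl : ∀ R : Over S, EffectiveEpi (R ◁ p).left := fun R => by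
    obtain ⟨⟨_, _⟩, _⟩ := GrpScheme.Basic.whiskerLeft_mem _ p R hp
    infer_instance
  have hpp' : (@Surjective ⊓ @Flat ⊓ @LocallyOfFinitePresentation : MorphismProperty Scheme.{u})
      (p ⊗ₘ p).left := by
    rw [MonoidalCategory.tensorHom_def, Over.comp_left]
    exact MorphismProperty.comp_mem _ _ _ (GrpScheme.Basic.whiskerRight_mem _ p _ hp)
      (GrpScheme.Basic.whiskerLeft_mem _ p _ hp)
  have hpp : EffectiveEpi (p ⊗ₘ p).left := by
    obtain ⟨⟨_, _⟩, _⟩ := hpp'
    infer_instance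
  have hppp : EffectiveEpi ((p ⊗ₘ p) ⊗ₘ p).left := by
    have h : (@Surjective ⊓ @Flat ⊓ @LocallyOfFinitePresentation : MorphismProperty Scheme.{u})
        ((p ⊗ₘ p) ⊗ₘ p).left := by
      rw [MonoidalCategory.tensorHom_def, Over.comp_left]
      exact MorphismProperty.comp_mem _ _ _ (GrpScheme.Basic.whiskerRight_mem _ (p ⊗ₘ p) _ hpp')
        (GrpScheme.Basic.whiskerLeft_mem _ p _ hp)
    obtain ⟨⟨_, _⟩, _⟩ := h
    infer_instance
  obtain ⟨m, hm, -⟩ := GrpOver.existsUnique_desc (p ⊗ₘ p) (μ[G] ≫ p) fun T a b hab => by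
    have h1 : (a ≫ fst G G) ≫ p = (b ≫ fst G G) ≫ p := by
      simpa using congrArg (· ≫ fst X X) hab
    have h2 : (a ≫ snd G G) ≫ p = (b ≫ snd G G) ≫ p := by
      simpa using congrArg (· ≫ snd X X) hab
    rw [← Category.assoc, ← Category.assoc, MonObj.mul_eq_mul, MonObj.comp_mul, MonObj.comp_mul]
    exact congr_mul i p hrel hN h1 h2
  obtain ⟨n, hn, -⟩ := GrpOver.existsUnique_desc p ((𝟙 G)⁻¹ ≫ p) fun T a b hab => by
    rw [← Category.assoc, ← Category.assoc, GrpObj.comp_inv, GrpObj.comp_inv, Category.comp_id,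
      Category.comp_id]
    exact congr_inv i p hrel hN hab
  have key : ∀ {T : Over S} (a b : T ⟶ G), lift (a ≫ p) (b ≫ p) ≫ m = (a * b) ≫ p := fun a b => by
    rw [show lift (a ≫ p) (b ≫ p) = lift a b ≫ (p ⊗ₘ p) from (lift_map _ _ _ _).symm, Category.assoc, hm,
      ← Category.assoc, ← Hom.mul_def]
  have hpe : EffectiveEpi p.left := inferInstance
  let g : GrpObj X :=
  { one := η[G] ≫ p
    mul := m
    inv := n
    one_mul := by
      have := hl (𝟙_ (Over S))
      refine GrpOver.cancel_left (𝟙_ (Over S) ◁ p) ?_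
      rw [← Category.assoc, show (𝟙_ (Over S) ◁ p) ≫ ((η[G] ≫ p) ▷ X) =
          lift ((fst (𝟙_ (Over S)) G ≫ η[G]) ≫ p) (snd (𝟙_ (Over S)) G ≫ p) from
          CartesianMonoidalCategory.hom_ext _ _ (by simp [toUnit_unique (fst (𝟙_ (Over S)) G) (toUnit _)])
            (by simp [leftUnitor_hom]), key,
        toUnit_unique (fst (𝟙_ (Over S)) G) (toUnit _), ← Hom.one_def, _root_.one_mul,
        leftUnitor_naturality, leftUnitor_hom]
    mul_one := by
      have : EffectiveEpi (p ▷ 𝟙_ (Over S)).left := by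
        obtain ⟨⟨_, _⟩, _⟩ := GrpScheme.Basic.whiskerRight_mem _ p (𝟙_ (Over S)) hp
        infer_instance
      refine GrpOver.cancel_left (p ▷ 𝟙_ (Over S)) ?_
      rw [← Category.assoc, show (p ▷ 𝟙_ (Over S)) ≫ (X ◁ (η[G] ≫ p)) =
          lift (fst G (𝟙_ (Over S)) ≫ p) ((snd G (𝟙_ (Over S)) ≫ η[G]) ≫ p) from
          CartesianMonoidalCategory.hom_ext _ _ (by simp [rightUnitor_hom])
            (by simp [toUnit_unique (snd G (𝟙_ (Over S))) (toUnit _)]), key,
        toUnit_unique (snd G (𝟙_ (Over S))) (toUnit _), ← Hom.one_def, _root_.mul_one,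
        rightUnitor_naturality, rightUnitor_hom]
    mul_assoc := by
      refine GrpOver.cancel_left ((p ⊗ₘ p) ⊗ₘ p) ?_
      let a := fst (G ⊗ G) G ≫ fst G G
      let b := fst (G ⊗ G) G ≫ snd G G
      let c := snd (G ⊗ G) G
      have e1 : ((p ⊗ₘ p) ⊗ₘ p) ≫ (m ▷ X) = lift ((a * b) ≫ p) (c ≫ p) :=
        CartesianMonoidalCategory.hom_ext _ _
          (by rw [Category.assoc, whiskerRight_fst, tensorHom_fst_assoc, hm, lift_fst, MonObj.mul_eq_mul,
            ← Category.assoc, MonObj.comp_mul])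
          (by simp [c])
      have e2 : ((p ⊗ₘ p) ⊗ₘ p) ≫ (α_ X X X).hom ≫ (X ◁ m) = lift (a ≫ p) ((b * c) ≫ p) :=
        CartesianMonoidalCategory.hom_ext _ _ (by simp [a])
          (by
            rw [Category.assoc, Category.assoc, whiskerLeft_snd, ← key, lift_snd, ← Category.assoc,
              ← Category.assoc]
            congr 1
            refine CartesianMonoidalCategory.hom_ext _ _ ?_ ?_ <;> simp [b, c])
      rw [reassoc_of% e1, reassoc_of% e2, key, key, _root_.mul_assoc]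
    left_inv := by
      refine GrpOver.cancel_left p ?_
      rw [comp_lift_assoc, hn, Category.comp_id,
        show lift ((𝟙 G)⁻¹ ≫ p) p = lift ((𝟙 G)⁻¹ ≫ p) ((𝟙 G) ≫ p) by rw [Category.id_comp], key,
        inv_mul_cancel, Hom.one_def, ← Category.assoc p, toUnit_unique (p ≫ toUnit X) (toUnit G)]
      simp
    right_inv := by
      refine GrpOver.cancel_left p ?_
      rw [comp_lift_assoc, hn, Category.comp_id,
        show lift p ((𝟙 G)⁻¹ ≫ p) = lift ((𝟙 G) ≫ p) ((𝟙 G)⁻¹ ≫ p) by rw [Category.id_comp], key,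
        mul_inv_cancel, Hom.one_def, ← Category.assoc p, toUnit_unique (p ≫ toUnit X) (toUnit G)]
      simp }
  letI := g
  refine ⟨g, @IsMonHom.mk _ _ _ _ _ _ _ p rfl hm.symm, ?_⟩
  have w : i ≫ p = toUnit N ≫ η[G] ≫ p := by
    rw [← Category.assoc, ← Hom.one_def]
    exact (hrel _ _).2 ⟨(𝟙 N)⁻¹, by rw [_root_.mul_one, GrpObj.inv_comp, Category.id_comp]⟩
  have hmono : ∀ {T : Over S} (c : T ⟶ G), c ≫ p = toUnit T ≫ η[G] ≫ p → ∃ z : T ⟶ N, z ≫ i = c := by
    intro T c hc
    rw [← Category.assoc, ← Hom.one_def] at hc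
    obtain ⟨z, hz⟩ := (hrel _ _).1 hc.symm
    exact ⟨z, by rw [hz, inv_one, _root_.one_mul]⟩
  exact ⟨⟨w⟩, ⟨PullbackCone.IsLimit.mk _
    (fun s => (hmono s.fst (by rw [s.condition, toUnit_unique s.snd (toUnit _)]; rfl)).choose)
    (fun s => (hmono s.fst (by rw [s.condition, toUnit_unique s.snd (toUnit _)]; rfl)).choose_spec)
    (fun s => toUnit_unique _ _)
    (fun s l h₁ _ => by
      have h := (hmono s.fst (by rw [s.condition, toUnit_unique s.snd (toUnit _)]; rfl)).choose_spec
      rw [← cancel_mono i, h, h₁])⟩⟩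

end QuotGroup

variable {k : Type u} [Field k]

local notation "Sk" => Spec (CommRingCat.of k)

attribute [local instance] UnipLib.algOf

open AffHomogeneous (specG ptEquiv)

/-- Over an algebraically closed field, a normal subgroup of an affine group is cut out by a map to
an affine scheme. -/
theorem exists_affine_stabiliser_map [IsAlgClosed k] (G N : Over Sk) [GrpObj G] [GrpObj N]
    [IsAffine G.left] [LocallyOfFiniteType G.hom] [LocallyOfFiniteType N.hom] [QuasiCompact N.hom]
    (i : N ⟶ G) [IsMonHom i] [Mono i] (hnorm : AlgGrp.IsNormalHom i) :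
    ∃ (P : Over Sk) (u : G ⟶ P), IsAffine P.left ∧ LocallyOfFiniteType P.hom ∧
      ∀ {T : Over Sk} (x y : T ⟶ G), x ≫ u = y ≫ u ↔ ∃ z : T ⟶ N, z ≫ i = x⁻¹ * y := by
  obtain ⟨A, B, _, _, eG, eH, π, hG, hH, hA, hπ, hsq⟩ := MonoClosedField.exists_hopf G N i
  have hN : SGA3.IsNormalHopfIdeal k A (RingHom.ker (π : A →+* B)) := by
    intro R _ _ g h hh w hw
    let EA := Spec.mapMulEquiv (R := k) (S := A) (T := R)
    let EB := Spec.mapMulEquiv (R := k) (S := B) (T := R)
    obtain ⟨q, hq⟩ := NormalChar.exists_lift (π : A →ₐ[k] B) hπ h hh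
    have hcomp : ∀ q : WithConv (B →ₐ[k] R),
        EB q ≫ eH.hom ≫ i = EA (toConv (q.ofConv.comp (π : A →ₐ[k] B))) ≫ eG.hom := fun q => by
      refine Over.OverMorphism.ext ?_
      show Spec.map (CommRingCat.ofHom q.ofConv.toRingHom) ≫ eH.hom.left ≫ i.left =
        Spec.map (CommRingCat.ofHom (q.ofConv.toRingHom.comp (π : A →+* B))) ≫ eG.hom.left
      rw [CommRingCat.ofHom_comp, Spec.map_comp, Category.assoc, hsq]
    obtain ⟨n', hn'⟩ := hnorm _ (EA (toConv g) ≫ eG.hom) (EB (toConv q) ≫ eH.hom)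
    obtain ⟨q', hq'⟩ := EB.surjective (n' ≫ eH.inv)
    have hinv : EA (NormalChar.inv' (toConv g)) = (EA (toConv g))⁻¹ :=
      eq_inv_of_mul_eq_one_left (by rw [← map_mul, NormalChar.inv'_mul, map_one])
    have e : EA (toConv (Dyn.conv3 k A g h (g.comp (HopfAlgebra.antipodeAlgHom k A)))) ≫ eG.hom =
        EA (toConv (q'.ofConv.comp (π : A →ₐ[k] B))) ≫ eG.hom := by
      rw [NormalChar.toConv_conv3, ← hcomp, hq',
        show toConv (g.comp (HopfAlgebra.antipodeAlgHom k A)) = NormalChar.inv' (toConv g) from rfl,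
        map_mul, map_mul, hinv, MonObj.mul_comp, MonObj.mul_comp, GrpObj.inv_comp, ← hq,
        show EA (toConv ((π : A →ₐ[k] B) |> q.comp)) ≫ eG.hom = (EB (toConv q) ≫ eH.hom) ≫ i from
          (hcomp (toConv q)).symm.trans (Category.assoc _ _ _).symm, hn']
      simp
    have e' := EA.injective ((cancel_mono eG.hom).1 e)
    have := congrArg (fun f : WithConv (A →ₐ[k] R) => f.ofConv w) e'
    simp only [ofConv_toConv, AlgHom.comp_apply] at this
    rw [this]
    show q'.ofConv (π w) = 0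
    rw [show π w = 0 from hw, map_zero]
  have hred : CharZero k → _root_.IsReduced A := fun _ => by
    have : LocallyOfFiniteType (specG (k := k) A).hom :=
      inferInstanceAs (LocallyOfFiniteType (Spec A ↘ Sk))
    have := GrpScheme.Cartier.smooth_of_charZero (specG (k := k) A)
    have h : IsReduced (Spec A) := GrpScheme.HomFlat.isReduced_of_smooth (specG (k := k) A).hom
    exact (affine_isReduced_iff A).1 h
  obtain ⟨κ, _, _, a, v, ha, hstab⟩ := NormalChar.exists_fixed_vector π hπ hN hred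
  let w : κ → A := fun j => ∑ l, v l • a j l
  let u : specG (k := k) A ⟶ Over.mk (Spec.map (CommRingCat.ofHom (algebraMap k (MvPolynomial κ k)))) :=
    Over.homMk (Spec.map (CommRingCat.ofHom (MvPolynomial.aeval w : MvPolynomial κ k →ₐ[k] A).toRingHom)) (by
      show Spec.map _ ≫ Spec.map _ = Spec.map (CommRingCat.ofHom (algebraMap k A))
      rw [← Spec.map_comp, ← CommRingCat.ofHom_comp]
      congr 2
      exact (MvPolynomial.aeval w : MvPolynomial κ k →ₐ[k] A).comp_algebraMap)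
  refine ⟨_, eG.inv ≫ u, ?_, ?_, fun {T} x y => ?_⟩
  · show IsAffine (Spec (CommRingCat.of (MvPolynomial κ k)))
    infer_instance
  · show LocallyOfFiniteType (Spec.map (CommRingCat.ofHom (algebraMap k (MvPolynomial κ k))))
    rw [HasRingHomProperty.Spec_iff (P := @LocallyOfFiniteType), CommRingCat.hom_ofHom,
      RingHom.finiteType_algebraMap]
    infer_instance
  let fx := (ptEquiv (A := A) T).symm (x ≫ eG.inv)
  let fy := (ptEquiv (A := A) T).symm (y ≫ eG.inv)
  have hu : x ≫ eG.inv ≫ u = y ≫ eG.inv ≫ u ↔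
      ∀ j, Comod.actPt a fx.ofConv v j = Comod.actPt a fy.ofConv v j := by
    have hw : ∀ (f : WithConv (A →ₐ[k] Γ(T.left, ⊤))) j, f.ofConv (w j) = Comod.actPt a f.ofConv v j :=
      fun f j => by simp [w, Comod.actPt, map_sum, map_smul]
    have hl : ∀ f : WithConv (A →ₐ[k] Γ(T.left, ⊤)), (ptEquiv T f ≫ u).left = T.left.toSpecΓ ≫
        Spec.map (CommRingCat.ofHom (f.ofConv.comp (MvPolynomial.aeval w)).toRingHom) := fun f => by
      show (T.left.toSpecΓ ≫ Spec.map _) ≫ Spec.map _ = _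
      rw [Category.assoc, ← Spec.map_comp, ← CommRingCat.ofHom_comp]
      rfl
    rw [← Category.assoc, ← Category.assoc, ← (ptEquiv (A := A) T).apply_symm_apply (x ≫ eG.inv),
      ← (ptEquiv (A := A) T).apply_symm_apply (y ≫ eG.inv)]
    constructor
    · intro h j
      have h' := (hl fx).symm.trans ((congrArg (fun m => Over.Hom.left m) h).trans (hl fy))
      have h'' := RingHom.congr_fun (Chow.toSpecΓ_SpecMap_injective (C := CommRingCat.of _) h')
        (MvPolynomial.X j)
      simpa [hw] using h''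
    · intro h
      refine Over.OverMorphism.ext ((hl fx).trans (Eq.trans ?_ (hl fy).symm))
      rw [show fx.ofConv.comp (MvPolynomial.aeval w) = fy.ofConv.comp (MvPolynomial.aeval w) from
        MvPolynomial.algHom_ext fun j => by simpa [hw] using h j]
  have hfxy : (ptEquiv (A := A) T).symm ((x⁻¹ * y) ≫ eG.inv) = NormalChar.inv' fx * fy := by
    apply (ptEquiv (A := A) T).injective
    rw [MulEquiv.apply_symm_apply, map_mul, MonObj.mul_comp, GrpObj.inv_comp]
    congr 1
    · refine (eq_inv_of_mul_eq_one_left ?_).symm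
      rw [← (ptEquiv (A := A) T).apply_symm_apply (x ≫ eG.inv), ← map_mul]
      exact (congrArg _ (NormalChar.inv'_mul fx)).trans (map_one _)
    · exact ((ptEquiv (A := A) T).apply_symm_apply _).symm
  have hone : ∀ j, Comod.actPt a (1 : WithConv (A →ₐ[k] Γ(T.left, ⊤))).ofConv v j = v j • 1 := fun j =>
    (AffHomogeneous.vec_one ha v j).trans (Algebra.algebraMap_eq_smul_one _)
  rw [hu]
  constructor
  · intro h
    have h2 : ∀ j, Comod.actPt a (NormalChar.inv' fx * fy).ofConv v j = v j • (1 : Γ(T.left, ⊤)) := fun j => by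
      rw [← hone, ← NormalChar.inv'_mul fx, NormalChar.actPt_mul ha, NormalChar.actPt_mul ha]
      simp only [h]
    obtain ⟨q, hq⟩ := NormalChar.exists_lift (π : A →ₐ[k] B) hπ _ ((hstab _ _).2 h2)
    refine ⟨ptEquiv T (toConv q) ≫ eH.hom, ?_⟩
    rw [← cancel_mono eG.inv, Category.assoc, Category.assoc,
      ← (ptEquiv (A := A) T).apply_symm_apply ((x⁻¹ * y) ≫ eG.inv), hfxy]
    refine Over.OverMorphism.ext ?_
    show (T.left.toSpecΓ ≫ Spec.map (CommRingCat.ofHom q.toRingHom)) ≫ eH.hom.left ≫ i.left ≫ eG.inv.left =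
      T.left.toSpecΓ ≫ Spec.map (CommRingCat.ofHom (NormalChar.inv' fx * fy).ofConv.toRingHom)
    rw [← hq, Category.assoc, ← reassoc_of% hsq, ← Over.comp_left, Iso.hom_inv_id]
    simp [CommRingCat.ofHom_comp, AlgHom.comp_toRingHom]
    erw [Category.comp_id]
    rfl
  · rintro ⟨z, hz⟩ j
    let q := (ptEquiv (A := B) T).symm (z ≫ eH.inv)
    have h1 : NormalChar.inv' fx * fy = toConv (q.ofConv.comp (π : A →ₐ[k] B)) := by
      rw [← hfxy]
      apply (ptEquiv (A := A) T).injective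
      rw [MulEquiv.apply_symm_apply, ← cancel_mono eG.hom]
      have h0 : ptEquiv T q ≫ eH.hom ≫ i = ptEquiv T (toConv (q.ofConv.comp (π : A →ₐ[k] B))) ≫ eG.hom := by
        refine Over.OverMorphism.ext ?_
        show (T.left.toSpecΓ ≫ Spec.map (CommRingCat.ofHom q.ofConv.toRingHom)) ≫ eH.hom.left ≫ i.left =
          (T.left.toSpecΓ ≫ Spec.map (CommRingCat.ofHom
            (q.ofConv.toRingHom.comp (π : A →+* B)))) ≫ eG.hom.left
        simp only [CommRingCat.ofHom_comp, Spec.map_comp, Category.assoc, ← hsq]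
      rw [← h0, MulEquiv.apply_symm_apply]
      simp [hz]
    have h2 := (hstab _ (NormalChar.inv' fx * fy).ofConv).1 fun w hw => by
      rw [h1]
      show q.ofConv (π w) = 0
      rw [show π w = 0 from hw, map_zero]
    have h3 := NormalChar.actPt_mul ha fx (NormalChar.inv' fx * fy) v j
    rw [← _root_.mul_assoc, NormalChar.mul_inv', _root_.one_mul] at h3
    rw [h3]
    simp only [h2]
    rw [Comod.actPt]
    exact Finset.sum_congr rfl fun l _ => by rw [mul_smul_comm, _root_.mul_one]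

set_option synthInstance.maxHeartbeats 400000 in
set_option maxHeartbeats 1600000 in
/-- The quotient of an affine group by a normal subgroup is an affine group. -/
theorem exists_affine_quotient (G N : Over Sk) [GrpObj G] [GrpObj N] [IsAffine G.left]
    [LocallyOfFiniteType G.hom] [LocallyOfFiniteType N.hom] [QuasiCompact N.hom]
    (i : N ⟶ G) [IsMonHom i] [Mono i] (hN : AlgGrp.IsNormalHom i) :
    ∃ (Q : Over Sk) (_ : GrpObj Q) (q : G ⟶ Q), IsMonHom q ∧ IsAffine Q.left ∧
      LocallyOfFiniteType Q.hom ∧ Flat q.left ∧ Surjective q.left ∧ AlgGrp.IsKernel i q := by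
  obtain ⟨X, p, -, -, hXlft, hXqc, hpf, hps, sq⟩ := AffHomogeneous.exists_quotient G N i
  have hmul : (G ◁ i) ≫ μ[G] = fst G N * (snd G N ≫ i) := by
    rw [MonObj.mul_eq_mul, MonObj.comp_mul, whiskerLeft_fst, whiskerLeft_snd]
  have hrel : ∀ {T : Over Sk} (x y : T ⟶ G), x ≫ p = y ≫ p ↔ ∃ z : T ⟶ N, z ≫ i = x⁻¹ * y := by
    intro T x y
    refine ⟨fun h => ⟨sq.lift x y h ≫ snd G N, ?_⟩, fun ⟨z, hz⟩ => ?_⟩
    · have h1 := sq.lift_fst x y h
      have h2 := sq.lift_snd x y h
      have h2 : sq.lift x y h ≫ (fst G N * (snd G N ≫ i)) = y :=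
        (congrArg (sq.lift x y h ≫ ·) hmul.symm).trans h2
      rw [MonObj.comp_mul, h1] at h2
      rw [Category.assoc]
      exact eq_inv_mul_iff_mul_eq.2 h2
    · have h := congrArg (lift x z ≫ ·) sq.w
      simp only [← Category.assoc, hmul, MonObj.comp_mul, lift_fst] at h
      rwa [lift_snd, hz, mul_inv_cancel_left] at h
  have : LocallyOfFinitePresentation p.left := GrpOver.lfp_left p
  obtain ⟨_, hpmon, hker⟩ := exists_quotGroup i p hrel hN
  refine ⟨X, _, p, hpmon, ?_, hXlft, hpf, hps, hker⟩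
  suffices IsAffineHom X.hom from isAffine_of_isAffineHom X.hom
  let φ : Spec (CommRingCat.of (AlgebraicClosure k)) ⟶ Sk :=
    Spec.map (CommRingCat.ofHom (algebraMap k (AlgebraicClosure k)))
  open scoped CategoryTheory.Obj in
  let gG : GrpObj (Red.bc φ G) := Functor.grpObjObj (F := Over.pullback φ)
  open scoped CategoryTheory.Obj in
  let gN : GrpObj (Red.bc φ N) := Functor.grpObjObj (F := Over.pullback φ)
  open scoped CategoryTheory.Obj in
  let gX : GrpObj (Red.bc φ X) := Functor.grpObjObj (F := Over.pullback φ)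
  let i' : Red.bc φ N ⟶ Red.bc φ G := (Over.pullback φ).map i
  let p' : Red.bc φ G ⟶ Red.bc φ X := (Over.pullback φ).map p
  have : IsMonHom i' := inferInstanceAs (IsMonHom ((Over.pullback φ).map i))
  have : Mono i' := inferInstanceAs (Mono ((Over.pullback φ).map i))
  have : IsAffine (Red.bc φ G).left := isAffine_of_isAffineHom (pullback.fst G.hom φ)
  have : LocallyOfFiniteType (Red.bc φ G).hom := inferInstanceAs (LocallyOfFiniteType (pullback.snd G.hom φ))
  have : LocallyOfFiniteType (Red.bc φ N).hom := inferInstanceAs (LocallyOfFiniteType (pullback.snd N.hom φ))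
  have : QuasiCompact (Red.bc φ N).hom := inferInstanceAs (QuasiCompact (pullback.snd N.hom φ))
  have : LocallyOfFiniteType (Red.bc φ X).hom := inferInstanceAs (LocallyOfFiniteType (pullback.snd X.hom φ))
  have : QuasiCompact (Red.bc φ X).hom := inferInstanceAs (QuasiCompact (pullback.snd X.hom φ))
  have hN' : AlgGrp.IsNormalHom i' := by
    intro T g n
    obtain ⟨g₀, rfl⟩ := BcPts.lf_surjective φ g
    obtain ⟨n₀, rfl⟩ := BcPts.lf_surjective φ n
    obtain ⟨n', hn'⟩ := hN _ g₀ n₀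
    exact ⟨BcPts.lf φ n', by
      rw [← BcPts.lf_comp, ← BcPts.lf_comp, ← BcPts.lf_inv, ← BcPts.lf_mul, ← BcPts.lf_mul, hn']⟩
  have hrel' : ∀ {T : Over (Spec (CommRingCat.of (AlgebraicClosure k)))} (x y : T ⟶ Red.bc φ G),
      x ≫ p' = y ≫ p' ↔ ∃ z : T ⟶ Red.bc φ N, z ≫ i' = x⁻¹ * y := by
    intro T x y
    obtain ⟨x₀, rfl⟩ := BcPts.lf_surjective φ x
    obtain ⟨y₀, rfl⟩ := BcPts.lf_surjective φ y
    rw [← BcPts.lf_comp, ← BcPts.lf_comp, ← BcPts.lf_inv, ← BcPts.lf_mul]
    refine ⟨fun h => ?_, fun ⟨z, hz⟩ => ?_⟩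
    · obtain ⟨z, hz⟩ := (hrel _ _).1 (BcPts.lf_injective φ h)
      exact ⟨BcPts.lf φ z, by rw [← BcPts.lf_comp, hz]⟩
    · obtain ⟨z₀, rfl⟩ := BcPts.lf_surjective φ z
      rw [← BcPts.lf_comp] at hz
      rw [(hrel _ _).2 ⟨z₀, BcPts.lf_injective φ hz⟩]
  obtain ⟨P, u, hPa, hPft, hu⟩ := exists_affine_stabiliser_map _ _ i' hN'
  have hsq : IsPullback (pullback.fst G.hom φ) p'.left p.left (pullback.fst X.hom φ) := by
    refine IsPullback.of_bot (h₂₁ := pullback.fst X.hom φ) (v₂₁ := (Red.bc φ X).hom) ?_ ?_ (IsPullback.of_hasPullback _ _)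
    · rw [Over.w p, Over.w p']
      exact IsPullback.of_hasPullback _ _
    · exact (pullback.lift_fst _ _ _).symm
  have : Flat p'.left := MorphismProperty.of_isPullback hsq hpf
  have : Surjective p'.left := MorphismProperty.of_isPullback hsq hps
  have : LocallyOfFinitePresentation p'.left := MorphismProperty.of_isPullback hsq inferInstance
  have : QuasiCompact (Red.bc φ G).hom := inferInstanceAs (QuasiCompact (pullback.snd G.hom φ))
  have : QuasiCompact p'.left := GrpOver.quasiCompact_left p'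
  obtain ⟨j, hj, -⟩ := GrpOver.existsUnique_desc p' u fun T a b h => (hu a b).2 ((hrel' a b).1 h)
  have hmono : Mono j := ⟨fun {T} a b h => by
    obtain ⟨T₁, c₁, g₁, _, _, _, _, e₁⟩ := GrpOver.exists_lift p' a
    obtain ⟨T₂, c₂, g₂, _, _, _, _, e₂⟩ := GrpOver.exists_lift p' (c₁ ≫ b)
    refine GrpOver.cancel_left c₁ (GrpOver.cancel_left c₂ ?_)
    rw [← e₂, ← e₁, ← Category.assoc]
    refine (hrel' _ _).2 ((hu _ _).1 ?_)
    rw [← hj, Category.assoc, reassoc_of% e₁, reassoc_of% e₂, h]⟩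
  have : Mono j.left := inferInstanceAs (Mono ((Over.forget _).map j))
  have : LocallyOfFiniteType (j.left ≫ P.hom) := by rw [Over.w j]; infer_instance
  have : LocallyOfFiniteType j.left := locallyOfFiniteType_of_comp j.left P.hom
  have : QuasiCompact j.left := GrpOver.quasiCompact_left j
  have hqa : Mor2.IsQuasiAffine (toUnit (Red.bc φ X)).left := by
    refine ⟨?_, fun V hV => ?_⟩
    · show QuasiCompact (Red.bc φ X).hom
      infer_instance
    · show Scheme.IsQuasiAffine ((Red.bc φ X).hom ⁻¹ᵁ V).toScheme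
      have : IsAffineHom P.hom := isAffineHom_of_isAffine _
      rw [← Over.w j]
      exact (MonoClosedField.isQuasiAffine_of_mono j.left).2 _ (hV.preimage P.hom)
  have : IsMonHom (toUnit (Red.bc φ X)) := ⟨toUnit_unique _ _, toUnit_unique _ _⟩
  have : LocallyOfFiniteType (𝟙_ (Over (Spec (CommRingCat.of (AlgebraicClosure k))))).hom := by
    show LocallyOfFiniteType (𝟙 (Spec (CommRingCat.of (AlgebraicClosure k))))
    infer_instance
  have haff : IsAffineHom (Red.bc φ X).hom :=
    Groth.Agent.S5654.result (AlgebraicClosure k) (Red.bc φ X) (𝟙_ _) (toUnit (Red.bc φ X)) hqa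
  have := FpqcDesc.descendsAlong_isAffineHom.{u}
  exact MorphismProperty.of_pullback_snd_of_descendsAlong (P := @IsAffineHom) (Q := FpqcDesc.FPQC)
    (f := X.hom) (g := φ) ⟨⟨inferInstance,
      (HasRingHomProperty.Spec_iff (P := @Flat)).2 (RingHom.flat_algebraMap_iff.2 inferInstance)⟩,
      inferInstance⟩ haff

end Groth.Agent.GrpdLib.AffNormalQuot
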