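import Groth.Agent.GrpdLib.RingGrpdBC

/-!
# Geometric points of the spectrum of the invariants
-/

universe u

open CategoryTheory Polynomial TensorProduct

namespace Groth.Agent.GrpdLib

lemma eq_X_sub_C_pow {R A : Type*} [CommRing R] [CommRing A] {g : R →+* A} {Φ : A →+* R}
    (hΦ : ∀ c, Φ (g c) = c) {Q : R[X]} {f : A} {n : ℕ} (hQ : Q.map g = (X - C f) ^ n) :
    Q = (X - C (Φ f)) ^ n := by
  have := congrArg (Polynomial.map Φ) hQ
  rwa [Polynomial.map_map, show Φ.comp g = RingHom.id R from RingHom.ext hΦ, Polynomial.map_id,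
    Polynomial.map_pow, Polynomial.map_sub, Polynomial.map_X, Polynomial.map_C] at this

namespace RingGrpd

variable (D : RingGrpd.{u})

attribute [local instance] algB algB₂

/-- Two geometric points with the same restriction to the invariants are linked by an arrow. -/
lemma exists_point_of_eq {Ω : Type u} [Field Ω] [IsAlgClosed Ω] (φ₀ φ₁ : D.A →+* Ω)
    (h : φ₀.comp D.invariants.subtype = φ₁.comp D.invariants.subtype) :
    ∃ ψ : D.B →+* Ω, ψ.comp D.τ.hom = φ₀ ∧ ψ.comp D.σ.hom = φ₁ := by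
  let := (φ₁.comp D.invariants.subtype).toAlgebra
  let a₀ : D.A →ₐ[D.invariants] Ω := ⟨φ₀, fun c => DFunLike.congr_fun h c⟩
  let a₁ : D.A →ₐ[D.invariants] Ω := ⟨φ₁, fun _ => rfl⟩
  let Φ₀ : (D.bc Ω).A →+* Ω :=
    (Algebra.TensorProduct.productMap a₀ (AlgHom.id D.invariants Ω)).toRingHom
  let Φ₁ : (D.bc Ω).A →+* Ω :=
    (Algebra.TensorProduct.productMap a₁ (AlgHom.id D.invariants Ω)).toRingHom
  have hid₀ : ∀ c, Φ₀ (D.bcMap Ω c) = c := fun c =>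
    (Algebra.TensorProduct.productMap_apply_tmul a₀ (AlgHom.id _ Ω) 1 c).trans (by simp)
  have hid₁ : ∀ c, Φ₁ (D.bcMap Ω c) = c := fun c =>
    (Algebra.TensorProduct.productMap_apply_tmul a₁ (AlgHom.id _ Ω) 1 c).trans (by simp)
  have heq : ∀ f ∈ (D.bc Ω).invariants, Φ₀ f = Φ₁ f := by
    intro f hf
    obtain ⟨n, Q, hn, hQ⟩ := D.exists_pow_eq_map_of_mem Ω f hf
    have := congrArg (Polynomial.eval (Φ₀ f)) ((eq_X_sub_C_pow hid₀ hQ).symm.trans (eq_X_sub_C_pow hid₁ hQ))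
    rw [eval_pow, eval_pow, eval_sub, eval_sub, eval_X, eval_C, eval_C, sub_self,
      zero_pow hn.ne'] at this
    exact sub_eq_zero.mp ((pow_eq_zero_iff hn.ne').mp this.symm)
  have : (RingHom.ker Φ₀).IsPrime := RingHom.ker_isPrime Φ₀
  have : (RingHom.ker Φ₁).IsPrime := RingHom.ker_isPrime Φ₁
  obtain ⟨Qb, hQb, hQ₀, hQ₁⟩ := (D.bc Ω).exists_prime_of_comap_eq (RingHom.ker Φ₀)
    (RingHom.ker Φ₁) (by ext f; simp [RingHom.mem_ker, heq f.1 f.2])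
  let := (D.bc Ω).σ.hom.toAlgebra
  have : Qb.LiesOver (RingHom.ker Φ₁) := ⟨hQ₁.symm⟩
  have : Algebra.IsIntegral (D.bc Ω).A (D.bc Ω).B := by
    have : Module.Finite (D.bc Ω).A (D.bc Ω).B := (D.bc Ω).σ_finite
    exact Algebra.IsIntegral.of_finite _ _
  obtain ⟨ψ', hψ'⟩ := exists_ringHom_quotient (RingHom.ker Φ₁) Qb (RingHom.kerLift Φ₁)
    (RingHom.kerLift_injective Φ₁)
  let Ψ : (D.bc Ω).B →+* Ω := ψ'.comp (Ideal.Quotient.mk Qb)
  have hσ : ∀ z, Ψ ((D.bc Ω).σ z) = Φ₁ z := fun z =>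
    DFunLike.congr_fun hψ' (Ideal.Quotient.mk _ z)
  have hτ : ∀ z, Ψ ((D.bc Ω).τ z) = Φ₀ z := by
    intro z
    let ι : Ω →+* (D.bc Ω).A := D.bcMap Ω
    have hι₀ : ∀ c, Φ₀ (ι c) = c := hid₀
    have hι₁ : ∀ c, Φ₁ (ι c) = c := hid₁
    have hι : ∀ c, (D.bc Ω).τ (ι c) = (D.bc Ω).σ (ι c) := fun c => (D.bcMap_mem Ω c).symm
    have h0 : z - ι (Φ₀ z) ∈ Qb.comap (D.bc Ω).τ.hom := by
      rw [hQ₀, RingHom.mem_ker, map_sub, hι₀, sub_self]
    have h1 : Ψ ((D.bc Ω).τ (z - ι (Φ₀ z))) = 0 := by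
      show ψ' (Ideal.Quotient.mk Qb _) = 0
      rw [Ideal.Quotient.eq_zero_iff_mem.mpr (Ideal.mem_comap.mp h0), map_zero]
    rw [map_sub, map_sub, sub_eq_zero] at h1
    rw [h1, hι, hσ, hι₁]
  refine ⟨Ψ.comp (D.tincl Ω D.B).hom, RingHom.ext fun a => ?_, RingHom.ext fun a => ?_⟩
  · show Ψ (D.tincl Ω D.B (D.τA a)) = φ₀ a
    rw [show D.tincl Ω D.B (D.τA a) = (D.bc Ω).τ (D.tincl Ω D.A a) from
      congrArg (fun f => f.hom a) (D.tincl_naturality Ω D.τA), hτ]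
    exact (Algebra.TensorProduct.productMap_apply_tmul a₀ (AlgHom.id _ Ω) a 1).trans (by simp [a₀])
  · show Ψ (D.tincl Ω D.B (D.σA a)) = φ₁ a
    rw [show D.tincl Ω D.B (D.σA a) = (D.bc Ω).σ (D.tincl Ω D.A a) from
      congrArg (fun f => f.hom a) (D.tincl_naturality Ω D.σA), hσ]
    exact (Algebra.TensorProduct.productMap_apply_tmul a₁ (AlgHom.id _ Ω) a 1).trans (by simp [a₁])

end RingGrpd

end Groth.Agent.GrpdLib
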