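import Groth.Agent.GrpdLib.FinLocFree
import Groth.Agent.GrpdLib.RingGrpdPoints

/-!
# Ring data of an affine groupoid scheme with finite locally free source map
-/

universe u

open CategoryTheory CategoryTheory.Limits AlgebraicGeometry

namespace Groth.Agent.GrpdLib

variable {S : Scheme.{u}} (G : Grpd.GroupoidScheme S)

lemma toSpecΓ_SpecMap {X : Scheme.{u}} {R : CommRingCat.{u}} (φ : R ⟶ Γ(X, ⊤)) {Y : Scheme.{u}}
    (f : Y ⟶ X) : f ≫ X.toSpecΓ ≫ Spec.map φ = Y.toSpecΓ ≫ Spec.map (φ ≫ f.appTop) := by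
  rw [Scheme.toSpecΓ_naturality_assoc, Spec.map_comp]

/-- `t` and `s` agree after `U → Spec C`. -/
lemma toQuot_condition : G.t ≫ G.toQuot = G.s ≫ G.toQuot := by
  unfold Grpd.GroupoidScheme.toQuot
  rw [toSpecΓ_SpecMap, toSpecΓ_SpecMap]
  congr 2
  ext c
  exact c.2.symm

variable [IsAffine G.U] [IsAffine G.R] [IsFinite G.s] [Flat G.s] [LocallyOfFinitePresentation G.s]

/-- The ring data of `G`. -/
@[simps] noncomputable def ringGrpd : RingGrpd.{u} where
  A := Γ(G.U, ⊤)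
  B := Γ(G.R, ⊤)
  B₂ := Γ(pullback G.s G.t, ⊤)
  σ := G.s.appTop
  τ := G.t.appTop
  ε := G.e.appTop
  π₁ := (pullback.fst G.s G.t).appTop
  π₂ := (pullback.snd G.s G.t).appTop
  γ := G.c.appTop
  hfst := isPushout_appTop_of_isPullback (IsPullback.of_hasPullback G.s G.t).flip
  hcomp := isPushout_appTop_of_isPullback (S7457.result S G).2.flip
  σ_ε := by rw [← Scheme.Hom.comp_appTop, G.e_s, Scheme.Hom.id_appTop]
  τ_ε := by rw [← Scheme.Hom.comp_appTop, G.e_t, Scheme.Hom.id_appTop]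
  τ_γ := by rw [← Scheme.Hom.comp_appTop, ← Scheme.Hom.comp_appTop, c_t]
  pres := nonempty_pres G.s

lemma ringGrpd_invariants : (ringGrpd G).invariants = G.invariants := rfl

end Groth.Agent.GrpdLib

namespace Groth.Agent.GrpdLib

variable {S : Scheme.{u}} (G : Grpd.GroupoidScheme S)
variable [IsAffine G.U] [IsAffine G.R] [IsFinite G.s] [Flat G.s] [LocallyOfFinitePresentation G.s]

omit [IsAffine G.R] [IsFinite G.s] [Flat G.s] [LocallyOfFinitePresentation G.s] in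
lemma toQuot_eq : G.toQuot = G.U.isoSpec.hom ≫ Spec.map (CommRingCat.ofHom G.invariants.subtype) :=
  rfl

/-- Points of `U` with the same image in `Spec C` are linked by an arrow. -/
lemma exists_arrow_of_toQuot_eq {u₀ u₁ : G.U} (h : G.toQuot u₀ = G.toQuot u₁) :
    ∃ r : G.R, G.t r = u₀ ∧ G.s r = u₁ := by
  obtain ⟨Q, hQ, h₀, h₁⟩ := @RingGrpd.exists_prime_of_comap_eq (ringGrpd G) (G.U.isoSpec.hom u₀).asIdeal
    (G.U.isoSpec.hom u₁).asIdeal (G.U.isoSpec.hom u₀).isPrime (G.U.isoSpec.hom u₁).isPrime (by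
      have := congrArg PrimeSpectrum.asIdeal h
      exact this)
  let r : G.R := G.R.isoSpec.inv ⟨Q, hQ⟩
  have hr : G.R.isoSpec.hom r = ⟨Q, hQ⟩ := by simp [r, ← Scheme.Hom.comp_apply]
  have key : ∀ (f : G.R ⟶ G.U) (u : G.U),
      Ideal.comap f.appTop.hom Q = (G.U.isoSpec.hom u).asIdeal → f r = u := by
    intro f u hf
    apply G.U.isoSpec.hom.homeomorph.injective
    show G.U.isoSpec.hom (f r) = G.U.isoSpec.hom u
    rw [← Scheme.Hom.comp_apply, ← Scheme.isoSpec_hom_naturality, Scheme.Hom.comp_apply, hr]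
    exact PrimeSpectrum.ext hf
  exact ⟨r, key _ _ h₀, key _ _ h₁⟩

lemma surjective_toQuot : Function.Surjective G.toQuot := by
  intro m
  have : Algebra.IsIntegral G.invariants Γ(G.U, ⊤) := (ringGrpd G).isIntegral
  obtain ⟨P, -, hP, hPm⟩ := Ideal.exists_ideal_over_prime_of_isIntegral (S := Γ(G.U, ⊤)) m.asIdeal ⊥
    (by
      intro c hc
      have : c = 0 := Subtype.val_injective (by simpa using hc)
      rw [this]; exact zero_mem _)
  refine ⟨G.U.isoSpec.inv ⟨P, hP⟩, ?_⟩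
  rw [toQuot_eq, ← Scheme.Hom.comp_apply, Iso.inv_hom_id_assoc]
  exact PrimeSpectrum.ext hPm

lemma toQuot_eq_iff {u₀ u₁ : G.U} :
    G.toQuot u₀ = G.toQuot u₁ ↔ ∃ r : G.R, G.t r = u₀ ∧ G.s r = u₁ := by
  refine ⟨exists_arrow_of_toQuot_eq G, ?_⟩
  rintro ⟨r, rfl, rfl⟩
  rw [← Scheme.Hom.comp_apply, toQuot_condition, Scheme.Hom.comp_apply]

lemma exists_lift_point (k : Type u) [Field k] [IsAlgClosed k]
    (m : Spec (CommRingCat.of k) ⟶ Spec (CommRingCat.of G.invariants)) :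
    ∃ x : Spec (CommRingCat.of k) ⟶ G.U, x ≫ G.toQuot = m := by
  obtain ⟨ψ, hψ⟩ : ∃ ψ : Γ(G.U, ⊤) →+* k, ψ.comp G.invariants.subtype = (Spec.preimage m).hom :=
    (ringGrpd G).exists_lift_algClosed (Spec.preimage m).hom
  refine ⟨Spec.map (CommRingCat.ofHom ψ) ≫ G.U.isoSpec.inv, ?_⟩
  rw [toQuot_eq, Category.assoc, Iso.inv_hom_id_assoc, ← Spec.map_comp]
  conv_rhs => rw [← Spec.map_preimage m]
  congr 1
  ext : 1
  exact hψ

lemma point_eq_iff (k : Type u) [Field k] [IsAlgClosed k]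
    (x₀ x₁ : Spec (CommRingCat.of k) ⟶ G.U) :
    x₀ ≫ G.toQuot = x₁ ≫ G.toQuot ↔
      ∃ r : Spec (CommRingCat.of k) ⟶ G.R, r ≫ G.t = x₀ ∧ r ≫ G.s = x₁ := by
  constructor
  · intro h
    let φ : (Spec (CommRingCat.of k) ⟶ G.U) → (Γ(G.U, ⊤) →+* k) := fun x =>
      (Spec.preimage (x ≫ G.U.isoSpec.hom)).hom
    have hx : ∀ x, Spec.map (CommRingCat.ofHom (φ x)) = x ≫ G.U.isoSpec.hom := fun x => by
      simp [φ]
    obtain ⟨ψ, h₀, h₁⟩ : ∃ ψ : Γ(G.R, ⊤) →+* k,
        ψ.comp G.t.appTop.hom = φ x₀ ∧ ψ.comp G.s.appTop.hom = φ x₁ :=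
      (ringGrpd G).exists_point_of_eq (φ x₀) (φ x₁) (by
      refine congrArg CommRingCat.Hom.hom (@Spec.map_injective (CommRingCat.of G.invariants)
        (CommRingCat.of k)
        (CommRingCat.ofHom ((φ x₀).comp G.invariants.subtype))
        (CommRingCat.ofHom ((φ x₁).comp G.invariants.subtype)) ?_)
      rw [CommRingCat.ofHom_comp, CommRingCat.ofHom_comp, Spec.map_comp, Spec.map_comp, hx, hx,
        Category.assoc, Category.assoc, ← toQuot_eq, h])
    refine ⟨Spec.map (CommRingCat.ofHom ψ) ≫ G.R.isoSpec.inv, ?_, ?_⟩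
    · rw [← cancel_mono G.U.isoSpec.hom, Category.assoc, Category.assoc,
        ← Scheme.isoSpec_hom_naturality, Iso.inv_hom_id_assoc, ← Spec.map_comp, ← hx]
      congr 1; ext : 1; exact h₀
    · rw [← cancel_mono G.U.isoSpec.hom, Category.assoc, Category.assoc,
        ← Scheme.isoSpec_hom_naturality, Iso.inv_hom_id_assoc, ← Spec.map_comp, ← hx]
      congr 1; ext : 1; exact h₁
  · rintro ⟨r, rfl, rfl⟩
    rw [Category.assoc, Category.assoc, toQuot_condition]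

end Groth.Agent.GrpdLib
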