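import Groth.Agent.GrpdLib.FinLocFree
import Mathlib.AlgebraicGeometry.Morphisms.QuasiFinite

/-!
# Invariant affine opens of a finite locally free groupoid
-/

universe u

open CategoryTheory CategoryTheory.Limits AlgebraicGeometry

namespace Groth.Agent.GrpdLib

/-- A finite subset of an open `U ⊆ V` of an affine open `V` lies in a basic open inside `U`. -/
lemma exists_basicOpen_le_of_finite {X : Scheme.{u}} {V : X.Opens} (hV : IsAffineOpen V)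
    {U : X.Opens} {O : Set X} (hO : O.Finite) (hOU : O ⊆ U) (hOV : O ⊆ V) :
    ∃ f : Γ(X, V), X.basicOpen f ≤ U ∧ O ⊆ X.basicOpen f := by
  obtain ⟨I, hI⟩ := (PrimeSpectrum.isClosed_iff_zeroLocus_ideal
    (((hV.fromSpec ⁻¹ᵁ U : (Spec Γ(X, V)).Opens) : Set (Spec Γ(X, V)))ᶜ)).mp
    (hV.fromSpec ⁻¹ᵁ U).isOpen.isClosed_compl
  have hmem : ∀ (x : X) (hx : x ∈ V) (g : Γ(X, V)),
      x ∈ X.basicOpen g ↔ g ∉ (hV.primeIdealOf ⟨x, hx⟩).asIdeal := by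
    intro x hx g
    rw [← PrimeSpectrum.mem_basicOpen, ← hV.fromSpec_preimage_basicOpen g]
    show x ∈ X.basicOpen g ↔ hV.fromSpec (hV.primeIdealOf ⟨x, hx⟩) ∈ X.basicOpen g
    rw [hV.fromSpec_primeIdealOf]
  have hfin : ((fun x : O => (hV.primeIdealOf ⟨x.1, hOV x.2⟩).asIdeal) '' Set.univ).Finite := by
    have := hO.to_subtype
    exact Set.finite_univ.image _
  have hp : ∀ Q ∈ hfin.toFinset, Q.IsPrime := by
    intro Q hQ
    obtain ⟨x, -, rfl⟩ := (Set.Finite.mem_toFinset _).mp hQ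
    exact (hV.primeIdealOf _).isPrime
  obtain ⟨f, hfI, hf⟩ : ∃ f ∈ I, ∀ Q ∈ hfin.toFinset, f ∉ Q := by
    by_contra hc
    push Not at hc
    obtain ⟨Q, hQ, hle⟩ := (Ideal.subset_union_prime (I := I) ⊥ ⊥ fun Q hQ _ _ => hp Q hQ).mp
      (fun a ha => by
        obtain ⟨Q, hQ, haQ⟩ := hc a ha
        exact Set.mem_biUnion hQ haQ)
    obtain ⟨x, -, rfl⟩ := (Set.Finite.mem_toFinset _).mp hQ
    have : hV.primeIdealOf ⟨x.1, hOV x.2⟩ ∈ PrimeSpectrum.zeroLocus (I : Set Γ(X, V)) := hle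
    rw [← hI] at this
    refine this ?_
    show hV.fromSpec (hV.primeIdealOf _) ∈ U
    rw [hV.fromSpec_primeIdealOf]
    exact hOU x.2
  refine ⟨f, fun x hx => ?_, fun x hx => (hmem x (hOV hx) f).mpr
    (hf _ ((Set.Finite.mem_toFinset _).mpr ⟨⟨x, hx⟩, trivial, rfl⟩))⟩
  have hxV : x ∈ V := X.basicOpen_le f hx
  by_contra hxU
  have : hV.primeIdealOf ⟨x, hxV⟩ ∈ PrimeSpectrum.zeroLocus (I : Set Γ(X, V)) := by
    rw [← hI]
    show ¬ hV.fromSpec (hV.primeIdealOf _) ∈ U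
    rwa [hV.fromSpec_primeIdealOf]
  exact (hmem x hxV f).mp hx (this hfI)

variable {S : Scheme.{u}} (G : Grpd.GroupoidScheme S) [IsFinite G.s] [Flat G.s]
  [LocallyOfFinitePresentation G.s]

omit [Flat G.s] [LocallyOfFinitePresentation G.s] in
lemma isClosedMap_t : IsClosedMap G.t := by
  rw [← G.i_s]
  have hi : IsIso G.i := ⟨G.i, i_i G, i_i G⟩
  exact (G.i ≫ G.s).isClosedMap

lemma exists_invariant_affine {u : G.U} {V : G.U.Opens} (hV : IsAffineOpen V)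
    (huV : ∀ r : G.R, G.s r = u → G.t r ∈ V) :
    ∃ W : G.U.Opens, IsAffineOpen W ∧ u ∈ W ∧ W ≤ V ∧ G.s ⁻¹ᵁ W = G.t ⁻¹ᵁ W := by
  have hrel := rel_equivalence G
  -- the largest invariant open inside `V`
  let W₀ : G.U.Opens := ⟨(G.t '' (G.s ⁻¹' (V : Set G.U)ᶜ))ᶜ,
    (isClosedMap_t G _ (V.isOpen.isClosed_compl.preimage G.s.continuous)).isOpen_compl⟩
  have hW₀ : ∀ x, x ∈ W₀ ↔ ∀ r : G.R, G.t r = x → G.s r ∈ V := fun x =>
    ⟨fun h r hr => by_contra fun hc => h ⟨r, hc, hr⟩, fun h ⟨r, hc, hr⟩ => hc (h r hr)⟩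
  let O : Set G.U := G.t '' (G.s ⁻¹' {u})
  have hO : O.Finite := (G.s.finite_preimage_singleton u).image _
  have hOV : O ⊆ V := by rintro _ ⟨r, hr, rfl⟩; exact huV r hr
  have hOW : O ⊆ W₀ := by
    rintro _ ⟨r, hr, rfl⟩
    refine (hW₀ _).mpr fun r' hr' => ?_
    obtain ⟨m, hm₁, hm₂⟩ : Rel G (G.s r') u :=
      hrel.trans (hrel.symm ⟨r', rfl, rfl⟩) ⟨r, hr'.symm, hr⟩
    rw [← hm₁]; exact huV m hm₂
  obtain ⟨f, hfW, hfO⟩ := exists_basicOpen_le_of_finite hV hO hOW hOV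
  let W₁ := G.U.basicOpen f
  let R₁ := G.s ⁻¹ᵁ W₁
  have hR₁ : ∀ r ∈ R₁, G.t r ∈ V := fun r hr => by
    have := (hW₀ _).mp (hfW hr) (G.i r) (t_i_apply G r)
    rwa [s_i_apply] at this
  have : IsAffine W₁ := hV.basicOpen f
  have : IsAffine R₁ := (hV.basicOpen f).preimage G.s
  have : IsFinite (G.s ∣_ W₁) := MorphismProperty.of_isPullback (isPullback_morphismRestrict G.s W₁).flip inferInstance
  have : Flat (G.s ∣_ W₁) := MorphismProperty.of_isPullback (isPullback_morphismRestrict G.s W₁).flip inferInstance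
  have : LocallyOfFinitePresentation (G.s ∣_ W₁) :=
    MorphismProperty.of_isPullback (isPullback_morphismRestrict G.s W₁).flip inferInstance
  obtain ⟨P⟩ := nonempty_pres (G.s ∣_ W₁)
  let g : (R₁ : Scheme) ⟶ G.U := R₁.ι ≫ G.t
  have hg : (⊤ : (R₁ : Scheme).Opens) ≤ g ⁻¹ᵁ V := fun r _ => by
    show G.t (R₁.ι r) ∈ V
    exact hR₁ _ r.2
  let h : Γ((R₁ : Scheme), ⊤) := g.appLE V ⊤ hg f
  have hh : ∀ r, r ∈ (R₁ : Scheme).basicOpen h ↔ G.t (R₁.ι r) ∈ W₁ := by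
    intro r
    simp only [h, Scheme.Hom.appLE, CommRingCat.comp_apply, Scheme.basicOpen_res,
      ← Scheme.preimage_basicOpen, TopologicalSpace.Opens.mem_inf, TopologicalSpace.Opens.mem_top,
      true_and]
    rfl
  let W : G.U.Opens := W₁.ι ''ᵁ ((W₁ : Scheme).basicOpen (P.norm h))
  have hres : ∀ r, W₁.ι ((G.s ∣_ W₁) r) = G.s (R₁.ι r) := fun r => by
    rw [← Scheme.Hom.comp_apply, morphismRestrict_ι, Scheme.Hom.comp_apply]
  have hmem : ∀ w, w ∈ W ↔ w ∈ W₁ ∧ ∀ r : G.R, G.s r = w → G.t r ∈ W₁ := by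
    intro w
    constructor
    · rintro ⟨y, hy, rfl⟩
      refine ⟨y.2, fun r hr => ?_⟩
      have hr₁ : r ∈ R₁ := show G.s r ∈ W₁ by rw [hr]; exact y.2
      exact (hh ⟨r, hr₁⟩).mp ((mem_basicOpen_norm_iff _ P h y).mp hy ⟨r, hr₁⟩
        (Subtype.ext ((hres _).trans hr)))
    · rintro ⟨hw₁, hw⟩
      refine ⟨⟨w, hw₁⟩, (mem_basicOpen_norm_iff _ P h _).mpr fun r hr => (hh r).mpr ?_, rfl⟩
      exact hw _ ((hres r).symm.trans (congrArg W₁.ι hr))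
  have hinv : ∀ x y, Rel G x y → x ∈ W → y ∈ W := by
    intro x y hxy hx
    have horb : ∀ z, Rel G z y → z ∈ W₁ := fun z hz => by
      obtain ⟨r, hr₁, hr₂⟩ := hrel.trans hz (hrel.symm hxy)
      rw [← hr₁]; exact ((hmem x).mp hx).2 r hr₂
    exact (hmem y).mpr ⟨horb y (hrel.refl y), fun r hr => horb _ ⟨r, rfl, hr⟩⟩
  refine ⟨W, ((isAffineOpen_top (W₁ : Scheme)).basicOpen _).image_of_isOpenImmersion W₁.ι,
    (hmem u).mpr ⟨hfO ⟨G.e u, s_e_apply G u, t_e_apply G u⟩, fun r hr => hfO ⟨r, hr, rfl⟩⟩,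
    fun w hw => G.U.basicOpen_le f ((hmem w).mp hw).1, ?_⟩
  ext r
  exact ⟨fun h => hinv _ _ (hrel.symm ⟨r, rfl, rfl⟩) h, fun h => hinv _ _ ⟨r, rfl, rfl⟩ h⟩

end Groth.Agent.GrpdLib
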