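import Groth.Agent.GrpdLib.Basic
import Mathlib.AlgebraicGeometry.Morphisms.Basic

/-!
# Restriction of a groupoid scheme to an invariant open
-/

universe u

open CategoryTheory CategoryTheory.Limits AlgebraicGeometry

namespace Groth.Agent.GrpdLib

variable {S : Scheme.{u}} (G : Grpd.GroupoidScheme S) (W : G.U.Opens)
  (hW : G.s ⁻¹ᵁ W = G.t ⁻¹ᵁ W)

/-- The composition of composable arrows of the restriction, in `G.R`. -/
noncomputable def restrictCompAux :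
    pullback (G.s ∣_ W) (G.t.resLE W (G.s ⁻¹ᵁ W) hW.le) ⟶ G.R :=
  comp G (pullback.fst _ _ ≫ (G.s ⁻¹ᵁ W).ι) (pullback.snd _ _ ≫ (G.s ⁻¹ᵁ W).ι) (by
    simpa using congrArg (· ≫ W.ι)
      (pullback.condition (f := G.s ∣_ W) (g := G.t.resLE W (G.s ⁻¹ᵁ W) hW.le)))

lemma restrictCompAux_range :
    Set.range (restrictCompAux G W hW) ⊆ Set.range (G.s ⁻¹ᵁ W).ι := by
  rintro _ ⟨z, rfl⟩
  rw [Scheme.Opens.range_ι]
  show G.s (restrictCompAux G W hW z) ∈ W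
  rw [← Scheme.Hom.comp_apply, restrictCompAux, comp_s, Category.assoc, Scheme.Hom.comp_apply]
  exact (pullback.snd (G.s ∣_ W) (G.t.resLE W (G.s ⁻¹ᵁ W) hW.le) z).2

/-- Composition of the restricted groupoid. -/
noncomputable def restrictComp :
    pullback (G.s ∣_ W) (G.t.resLE W (G.s ⁻¹ᵁ W) hW.le) ⟶ (G.s ⁻¹ᵁ W : G.R.Opens).toScheme :=
  IsOpenImmersion.lift (G.s ⁻¹ᵁ W).ι _ (restrictCompAux_range G W hW)

lemma lift_restrictComp_ι {T : Scheme.{u}} (α β : T ⟶ (G.s ⁻¹ᵁ W : G.R.Opens).toScheme)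
    (h : α ≫ G.s ∣_ W = β ≫ G.t.resLE W (G.s ⁻¹ᵁ W) hW.le) :
    (pullback.lift α β h ≫ restrictComp G W hW) ≫ (G.s ⁻¹ᵁ W).ι =
      comp G (α ≫ (G.s ⁻¹ᵁ W).ι) (β ≫ (G.s ⁻¹ᵁ W).ι) (by simpa using congrArg (· ≫ W.ι) h) := by
  rw [Category.assoc, restrictComp, IsOpenImmersion.lift_fac, restrictCompAux, naturality]
  exact comp_congr G _ _ (by rw [pullback.lift_fst_assoc]) (by rw [pullback.lift_snd_assoc])

/-- The restriction of a groupoid scheme to an invariant open. -/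
@[simps] noncomputable def restrict : Grpd.GroupoidScheme S where
  U := W
  R := (G.s ⁻¹ᵁ W : G.R.Opens)
  pU := W.ι ≫ G.pU
  pR := (G.s ⁻¹ᵁ W).ι ≫ G.pR
  s := G.s ∣_ W
  t := G.t.resLE W (G.s ⁻¹ᵁ W) hW.le
  e := G.e.resLE (G.s ⁻¹ᵁ W) W (fun w hw => show G.s (G.e w) ∈ W by rw [s_e_apply]; exact hw)
  i := G.i.resLE (G.s ⁻¹ᵁ W) (G.s ⁻¹ᵁ W) (fun r hr => show G.s (G.i r) ∈ W by
    rw [s_i_apply]; exact hW.le hr)
  c := restrictComp G W hW
  s_over := by rw [morphismRestrict_ι_assoc, G.s_over]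
  t_over := by rw [Scheme.Hom.resLE_comp_ι_assoc, G.t_over]
  comp_s α β h := by
    rw [← cancel_mono W.ι, Category.assoc, morphismRestrict_ι, ← Category.assoc,
      lift_restrictComp_ι, comp_s, Category.assoc, Category.assoc, morphismRestrict_ι]
  comp_t α β h := by
    rw [← cancel_mono W.ι, Category.assoc, Scheme.Hom.resLE_comp_ι, ← Category.assoc,
      lift_restrictComp_ι, comp_t, Category.assoc, Category.assoc, Scheme.Hom.resLE_comp_ι]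
  assoc α β γ h₁ h₂ := by
    have H₁ : (α ≫ (G.s ⁻¹ᵁ W).ι) ≫ G.s = (β ≫ (G.s ⁻¹ᵁ W).ι) ≫ G.t := by
      simpa using congrArg (· ≫ W.ι) h₁
    have H₂ : (β ≫ (G.s ⁻¹ᵁ W).ι) ≫ G.s = (γ ≫ (G.s ⁻¹ᵁ W).ι) ≫ G.t := by
      simpa using congrArg (· ≫ W.ι) h₂
    rw [← cancel_mono (G.s ⁻¹ᵁ W).ι]
    exact ((lift_restrictComp_ι G W hW _ γ _).trans
      (comp_congr G _ ((comp_s G _ _ H₁).trans H₂) (lift_restrictComp_ι G W hW α β h₁) rfl)).trans
      ((comp_assoc G _ _ _ H₁ H₂).trans ((lift_restrictComp_ι G W hW α _ _).trans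
        (comp_congr G _ (H₁.trans (comp_t G _ _ H₂).symm) rfl
          (lift_restrictComp_ι G W hW β γ h₂))).symm)
  e_s := by rw [← cancel_mono W.ι]; simp
  e_t := by rw [← cancel_mono W.ι]; simp
  comp_e α := by
    rw [← cancel_mono (G.s ⁻¹ᵁ W).ι, lift_restrictComp_ι]
    exact (comp_congr G _ (by simp) rfl (by simp)).trans
      (comp_e G (α ≫ (G.s ⁻¹ᵁ W).ι) ((α ≫ (G.s ⁻¹ᵁ W).ι) ≫ G.s) (by simp))
  e_comp α := by
    rw [← cancel_mono (G.s ⁻¹ᵁ W).ι, lift_restrictComp_ι]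
    exact (comp_congr G _ (by simp) (by simp) rfl).trans
      (e_comp G (α ≫ (G.s ⁻¹ᵁ W).ι) ((α ≫ (G.s ⁻¹ᵁ W).ι) ≫ G.t) (by simp))
  i_s := by rw [← cancel_mono W.ι]; simp
  i_t := by rw [← cancel_mono W.ι]; simp
  comp_i α := by
    rw [← cancel_mono (G.s ⁻¹ᵁ W).ι, lift_restrictComp_ι]
    exact (comp_congr G _ (by simp) rfl (by simp)).trans
      ((comp_i G (α ≫ (G.s ⁻¹ᵁ W).ι) (by simp)).trans (by simp))
  i_comp α := by
    rw [← cancel_mono (G.s ⁻¹ᵁ W).ι, lift_restrictComp_ι]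
    exact (comp_congr G _ (by simp) (by simp) rfl).trans
      ((i_comp G (α ≫ (G.s ⁻¹ᵁ W).ι) (by simp)).trans (by simp))

end Groth.Agent.GrpdLib
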