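import Groth.Agent.GrpdLib.AffQuot
import Groth.Agent.GrpdLib.AffineGrpd
import Groth.Agent.GrpdLib.InvAffine
import Groth.Agent.GrpdLib.Restrict
import Mathlib.AlgebraicGeometry.Morphisms.Integral
import Mathlib.AlgebraicGeometry.Morphisms.UniversallyOpen

/-!
# `U → Spec C` is an affine quotient
-/

universe u

open CategoryTheory CategoryTheory.Limits AlgebraicGeometry

namespace Groth.Agent.GrpdLib

variable {S : Scheme.{u}} (G : Grpd.GroupoidScheme S)

lemma isIso_i : IsIso G.i := ⟨G.i, i_i G, i_i G⟩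

lemma t_eq_i_s : G.t = G.i ≫ G.s := G.i_s.symm

/-- `t` has every property of `s` stable under composition with isomorphisms. -/
lemma t_property {P : MorphismProperty Scheme.{u}} [P.RespectsIso] (h : P G.s) : P G.t := by
  have := isIso_i G
  rw [t_eq_i_s]
  exact (P.cancel_left_of_respectsIso G.i G.s).mpr h

lemma isOpenMap_t [Flat G.s] [LocallyOfFinitePresentation G.s] : IsOpenMap G.t := by
  have : Flat G.t := t_property G (P := @Flat) inferInstance
  have : LocallyOfFinitePresentation G.t :=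
    t_property G (P := @LocallyOfFinitePresentation) inferInstance
  exact G.t.isOpenMap

variable [IsAffine G.U] [IsAffine G.R] [IsFinite G.s] [Flat G.s] [LocallyOfFinitePresentation G.s]

lemma isIntegralHom_toQuot : IsIntegralHom G.toQuot := by
  have h : IsIntegralHom (Spec.map (CommRingCat.ofHom G.invariants.subtype)) :=
    (IsIntegralHom.SpecMap_iff).mpr
      (algebraMap_isIntegral_iff.mpr (ringGrpd G).isIntegral)
  rw [toQuot_eq]
  exact (MorphismProperty.cancel_left_of_respectsIso @IsIntegralHom _ _).mpr h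

lemma isOpenMap_toQuot : IsOpenMap G.toQuot := by
  intro O hO
  have hsat : IsOpen (G.t '' (G.s ⁻¹' O)) := isOpenMap_t G _ (hO.preimage G.s.continuous)
  have heq : G.toQuot '' O = (G.toQuot '' (G.t '' (G.s ⁻¹' O))ᶜ)ᶜ := by
    ext y
    obtain ⟨x, rfl⟩ := surjective_toQuot G y
    constructor
    · rintro ⟨z, hz, hzx⟩ ⟨w, hw, hwx⟩
      obtain ⟨r, hr₁, hr₂⟩ := exists_arrow_of_toQuot_eq G (hwx.trans hzx.symm)
      exact hw ⟨r, show G.s r ∈ O by rw [hr₂]; exact hz, hr₁⟩
    · intro h
      obtain ⟨r, hr, hrx⟩ := not_not.mp fun hc => h ⟨x, hc, rfl⟩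
      exact ⟨G.s r, hr, by rw [← hrx]; exact ((toQuot_eq_iff G).mpr ⟨r, rfl, rfl⟩).symm⟩
  rw [heq]
  have := isIntegralHom_toQuot G
  exact (G.toQuot.isClosedMap _ hsat.isClosed_compl).isOpen_compl

omit [IsAffine G.R] [IsFinite G.s] [Flat G.s] [LocallyOfFinitePresentation G.s] [IsAffine G.U] in
lemma toQuot_appTop :
    G.toQuot.appTop = (Scheme.ΓSpecIso _).hom ≫ CommRingCat.ofHom G.invariants.subtype := by
  simp [Grpd.GroupoidScheme.toQuot, Scheme.toSpecΓ_appTop]

lemma isAffQuot_toQuot : IsAffQuot G.t G.s G.toQuot where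
  affR := inferInstance
  affU := inferInstance
  affY := inferInstance
  w := toQuot_condition G
  surj := surjective_toQuot G
  isOpenMap := isOpenMap_toQuot G
  fibre _ _ h := exists_arrow_of_toQuot_eq G h
  inj := by
    rw [toQuot_appTop]
    exact Subtype.val_injective.comp
      (Scheme.ΓSpecIso (CommRingCat.of G.invariants)).commRingCatIsoToRingEquiv.injective
  range a ha := by
    refine ⟨(Scheme.ΓSpecIso (CommRingCat.of G.invariants)).inv ⟨a, ha.symm⟩, ?_⟩
    rw [toQuot_appTop, CommRingCat.comp_apply]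
    erw [Iso.inv_hom_id_apply]
    rfl

end Groth.Agent.GrpdLib
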