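import Groth.Agent.GrpdLib.EquivRel
import Groth.Agent.GrpdLib.QuotAffine
import Mathlib.RingTheory.Finiteness.ModuleFinitePresentation

/-!
# Finite locally free quotient of an affine equivalence relation
-/

universe u

open CategoryTheory CategoryTheory.Limits AlgebraicGeometry

namespace Groth.Agent.GrpdLib

variable {S : Scheme.{u}} (G : Grpd.GroupoidScheme S)
  [IsAffine G.U] [IsAffine G.R] [IsFinite G.s] [Flat G.s] [LocallyOfFinitePresentation G.s]
  [Mono G.j]

omit [IsAffine G.U] [IsAffine G.R] [IsFinite G.s] [Flat G.s] [LocallyOfFinitePresentation G.s] in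
lemma eq_of_comp_t_s {T : Scheme.{u}} {a b : T ⟶ G.R} (ht : a ≫ G.t = b ≫ G.t)
    (hs : a ≫ G.s = b ≫ G.s) : a = b := by
  rw [← cancel_mono G.j]
  apply pullback.hom_ext <;> simp [ht, hs]

lemma gen : (ringGrpd G).Gen := by
  let φ := pullback.lift G.s G.t (toQuot_condition G).symm
  have hmono : Mono φ := ⟨fun a b e => eq_of_comp_t_s G
    (by simpa [φ, pullback.lift_snd] using congrArg (· ≫ pullback.snd _ _) e)
    (by simpa [φ, pullback.lift_fst] using congrArg (· ≫ pullback.fst _ _) e)⟩
  have hfin : IsFinite φ := by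
    have : IsFinite (φ ≫ pullback.fst G.toQuot G.toQuot) := by
      rw [pullback.lift_fst]; infer_instance
    exact MorphismProperty.of_postcomp @IsFinite φ (pullback.fst G.toQuot G.toQuot)
      (inferInstance : IsSeparated _) this
  have : IsClosedImmersion φ := (IsClosedImmersion.iff_isFinite_and_mono φ).mpr ⟨hfin, hmono⟩
  have hsurj : Function.Surjective φ.appTop :=
    (IsClosedImmersion.isAffine_surjective_of_isAffine φ).2
  let D := ringGrpd G
  let := D.algB
  have hP := isPushout_appTop_of_isPullback (IsPullback.of_hasPullback G.toQuot G.toQuot)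
  let l : CommRingCat.of D.A ⟶ CommRingCat.of (TensorProduct D.invariants D.A D.A) :=
    CommRingCat.ofHom Algebra.TensorProduct.includeLeftRingHom
  let r : CommRingCat.of D.A ⟶ CommRingCat.of (TensorProduct D.invariants D.A D.A) :=
    CommRingCat.ofHom Algebra.TensorProduct.includeRight.toRingHom
  have hw : G.toQuot.appTop ≫ l = G.toQuot.appTop ≫ r := by
    rw [toQuot_appTop, Category.assoc, Category.assoc]
    exact congrArg ((Scheme.ΓSpecIso _).hom ≫ ·)
      (CommRingCat.isPushout_tensorProduct D.invariants D.A D.A).w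
  let θ' : CommRingCat.of (TensorProduct D.invariants D.A D.A) ⟶ Γ(G.R, ⊤) :=
    CommRingCat.ofHom D.θ.toRingHom
  have key : hP.desc l r hw ≫ θ' = φ.appTop := by
    apply hP.hom_ext
    · rw [IsPushout.inl_desc_assoc, ← Scheme.Hom.comp_appTop, pullback.lift_fst]
      exact CommRingCat.hom_ext (RingHom.ext fun a => (D.θ_tmul a 1).trans
        (by rw [map_one, mul_one]; rfl))
    · rw [IsPushout.inr_desc_assoc, ← Scheme.Hom.comp_appTop, pullback.lift_snd]
      exact CommRingCat.hom_ext (RingHom.ext fun a => (D.θ_tmul 1 a).trans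
        (by rw [map_one, one_mul]; rfl))
  intro b
  obtain ⟨z, hz⟩ := hsurj b
  exact ⟨hP.desc l r hw z, (congrArg (fun f => f.hom z) key).trans hz⟩

/-- `U → Spec C` is finite locally free. -/
lemma finLocFree_toQuot :
    IsFinite G.toQuot ∧ Flat G.toQuot ∧ LocallyOfFinitePresentation G.toQuot := by
  have hf : Module.Finite G.invariants Γ(G.U, ⊤) := RingGrpd.finite_invariants (gen G)
  have hflat : Module.Flat G.invariants Γ(G.U, ⊤) := RingGrpd.flat_invariants (gen G)
  have : Module.Projective G.invariants Γ(G.U, ⊤) := RingGrpd.projective_invariants (gen G)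
  have := Module.finitePresentation_of_projective G.invariants Γ(G.U, ⊤)
  have h1 : (CommRingCat.ofHom G.invariants.subtype).hom.Finite := RingHom.finite_algebraMap.mpr hf
  have h2 : (CommRingCat.ofHom G.invariants.subtype).hom.Flat := RingHom.flat_algebraMap_iff.mpr hflat
  have h3 : (CommRingCat.ofHom G.invariants.subtype).hom.FinitePresentation :=
    RingHom.finitePresentation_algebraMap.mpr
      (Algebra.FinitePresentation.of_finitePresentation G.invariants Γ(G.U, ⊤))
  rw [toQuot_eq]
  exact ⟨(MorphismProperty.cancel_left_of_respectsIso @IsFinite _ _).mpr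
      ((IsFinite.SpecMap_iff _).mpr h1),
    (MorphismProperty.cancel_left_of_respectsIso @Flat _ _).mpr (Flat.SpecMap_iff.mpr h2),
    (MorphismProperty.cancel_left_of_respectsIso @LocallyOfFinitePresentation _ _).mpr
      ((HasRingHomProperty.Spec_iff (P := @LocallyOfFinitePresentation)).mpr h3)⟩

/-- `R = U ×_M U`. -/
lemma isPullback_toQuot : IsPullback G.t G.s G.toQuot G.toQuot := by
  have h := isPullback_SpecMap_of_isPushout _ _ _ _ (RingGrpd.isPushout_invariants (gen G)).flip
  refine h.of_iso G.R.isoSpec.symm G.U.isoSpec.symm G.U.isoSpec.symm (Iso.refl _) ?_ ?_ ?_ ?_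
  · exact Scheme.isoSpec_inv_naturality G.t
  · exact Scheme.isoSpec_inv_naturality G.s
  · exact (Category.comp_id _).trans (Iso.inv_hom_id_assoc G.U.isoSpec _).symm
  · exact (Category.comp_id _).trans (Iso.inv_hom_id_assoc G.U.isoSpec _).symm

end Groth.Agent.GrpdLib
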