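import Groth.Agent.AlgSpB.Art.Wrap
import Groth.Agent.AlgSp.QuotRestrict
import Groth.Agent.AlgSp.FppfLocal2
import Groth.Agent.AlgSp.ProperSub
import Groth.Agent.S10200
import Mathlib.CategoryTheory.Monoidal.Cartesian.Over

/-!
# A dense open quotient of an fppf equivalence relation with quasi-compact graph
-/

set_option autoImplicit false
set_option backward.isDefEq.respectTransparency false
set_option backward.isDefEq.respectTransparency.types false

universe u

open CategoryTheory CategoryTheory.Limits AlgebraicGeometry Opposite TopologicalSpace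

namespace Groth.Agent.GrpdLib.DenseQuot

open _root_.AlgSp
open Groth.Agent.AlgSp (yπ isPullback_yπ isLocallySurjective_yπ isLocallySurjective_prodMap)

variable {S : Scheme.{u}} {R U : Over S} {s t : R ⟶ U}

/-- An fppf equivalence relation with quasi-compact graph has a quotient scheme over a dense
invariant open. -/
theorem exists_dense_open_quotient (heq : IsEqvRel s t) [Flat s.left] [Surjective s.left]
    [LocallyOfFinitePresentation s.left] (hqc : QuasiCompact (prod.lift t s).left) :
    ∃ (W : Over S) (g : W ⟶ U) (V : Over S) (p : W ⟶ V), IsOpenImmersion g.left ∧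
      Dense (Set.range g.left) ∧
      (∀ (T : Over S) (r : T ⟶ R), (∃ a, a ≫ g = r ≫ t) ↔ ∃ b, b ≫ g = r ≫ s) ∧
      Flat p.left ∧ Surjective p.left ∧ LocallyOfFinitePresentation p.left ∧
      (∀ (T : Over S) (a b : T ⟶ W), a ≫ p = b ≫ p ↔ ∃ r : T ⟶ R, r ≫ t = a ≫ g ∧ r ≫ s = b ≫ g) ∧
      QuasiSeparated V.hom := by
  obtain ⟨hd, hp, hsu⟩ := Groth.Agent.AlgSpB.Art.cover_yπ heq
  let X : AlgSp.Space S := ⟨QuotSh.quot Scheme.fppfPrecoverage s t,
    Groth.Agent.AlgSpB.Art.isAlgSpace_of_fppf_cover hd _ hp hsu⟩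
  let π : (yon S).obj U ⟶ X.obj := yπ s t
  have : Sheaf.IsLocallySurjective π := isLocallySurjective_yπ s t
  have sqR : IsPullback ((yon S).map t) ((yon S).map s) π π := isPullback_yπ s t heq
  have hqs : IsQuasiSeparatedSp X.obj := by
    have : Sheaf.IsLocallySurjective (prod.map π π) := isLocallySurjective_prodMap _ _
    refine Groth.Agent.AlgSp.repWith_of_isPullback_of_isLocallySurjective (Limits.diag X.obj) hd _ _ _
      (Groth.Agent.AlgSp.isPullback_diag_prodMap π sqR) @QuasiCompact ?_
    rw [show prod.lift ((yon S).map t) ((yon S).map s) =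
      (yon S).map (prod.lift t s) ≫ prodComparison (yon S) U U by
        apply prod.hom_ext <;>
          simp [prodComparison, ← Functor.map_comp]]
    exact (MorphismProperty.cancel_right_of_respectsIso _ _ _).2 ((repWith_yon_map_iff _ _).2 hqc)
  obtain ⟨X', j, hj, hrep, hdense, -⟩ := Groth.Agent.S10200.result X
    ⟨PUnit, fun _ => X, fun _ => 𝟙 X,
      ⟨fun _ => Groth.Agent.AlgSpB.repWith_of_isIso (𝟙 X.obj), fun x => ⟨⟨⟩, x, by
        show Points.map (𝟙 X.obj) x = x
        rw [Points.map_id]⟩⟩, fun _ => hqs⟩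
  have : Mono j.hom := Groth.Agent.AlgSpB.mono_of_isOpenImmersion hj
  obtain ⟨V, ⟨E⟩⟩ := hrep.has_representation
  let e : (yon S).obj V ≅ X'.obj := isoOfRepresentableBy E
  let j' : (yon S).obj V ⟶ X.obj := e.hom ≫ j.hom
  have hj' : RepWith @IsOpenImmersion j' :=
    (MorphismProperty.cancel_left_of_respectsIso _ _ _).2 hj
  have : Mono j' := mono_comp _ _
  obtain ⟨W, f, g, sq⟩ := Groth.Agent.AlgSpB.exists_pullback_yon hj'.1 π
  have hg : IsOpenImmersion g.left := hj'.2 _ _ _ sq
  have hfl : Flat f.left ∧ LocallyOfFinitePresentation f.left := hp.2 _ _ _ sq.flip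
  have hfs : Surjective f.left := hsu.2 _ _ _ sq.flip
  have hsw : ∀ {T : Over S} (x : T ⟶ W),
      (yon S).map (x ≫ f) ≫ j' = (yon S).map (x ≫ g) ≫ π := fun x => by
    rw [Functor.map_comp, Functor.map_comp, Category.assoc, Category.assoc]
    exact congrArg _ sq.w
  refine ⟨W, g, V, f, hg, ?_, ?_, hfl.1, hfs, hfl.2, ?_, ?_⟩
  · have hopen : IsOpenMap (Points.ofPt π) := by
      refine Groth.Agent.AlgSpB.isOpenMap_ofPt_of_universallyOpen ⟨hp.1, fun V W g' fst snd h => ?_⟩
      obtain ⟨h1, h2⟩ := hp.2 _ _ _ h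
      have : Flat snd.left := h1
      have : LocallyOfFinitePresentation snd.left := h2
      show UniversallyOpen snd.left
      infer_instance
    have h1 := hdense.preimage hopen
    have hr : Set.range (Points.map j.hom) ⊆ Points.ofPt j' '' Set.univ := by
      rintro _ ⟨x, rfl⟩
      obtain ⟨v, rfl⟩ := Groth.Agent.AlgSpB.surjective_ofPt (Groth.Agent.AlgSpB.repWith_of_isIso (P := @Surjective) e.hom) x
      exact ⟨v, trivial, by rw [Points.map_ofPt]⟩
    refine h1.mono ((Set.preimage_mono hr).trans ?_)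
    rw [Groth.Agent.AlgSpB.preimage_range_ofPt sq, Set.preimage_univ, Set.image_univ]
  · intro T r
    have hr : (yon S).map (r ≫ t) ≫ π = (yon S).map (r ≫ s) ≫ π := by
      rw [Functor.map_comp, Functor.map_comp, Category.assoc, Category.assoc, sqR.w]
    have key : ∀ (x y : T ⟶ U) (_ : (yon S).map x ≫ π = (yon S).map y ≫ π) (a : T ⟶ W), a ≫ g = x →
        ∃ b, b ≫ g = y := by
      intro x y hxy a ha
      obtain ⟨b, -, hb⟩ := sq.exists_lift ((yon S).map (a ≫ f)) ((yon S).map y) (by
        rw [hsw, ha, hxy])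
      obtain ⟨b, rfl⟩ := (yon S).map_surjective b
      exact ⟨b, (yon S).map_injective (by rw [Functor.map_comp, hb])⟩
    exact ⟨fun ⟨a, ha⟩ => key _ _ hr a ha, fun ⟨b, hb⟩ => key _ _ hr.symm b hb⟩
  · intro T a b
    constructor
    · intro h
      obtain ⟨r, h1, h2⟩ := sqR.exists_lift ((yon S).map (a ≫ g)) ((yon S).map (b ≫ g)) (by
        rw [← hsw, ← hsw, h])
      obtain ⟨r, rfl⟩ := (yon S).map_surjective r
      exact ⟨r, (yon S).map_injective (by rw [Functor.map_comp, h1]),
        (yon S).map_injective (by rw [Functor.map_comp, h2])⟩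
    · rintro ⟨r, h1, h2⟩
      apply (yon S).map_injective
      rw [← cancel_mono j', hsw, hsw, ← h1, ← h2,
        Functor.map_comp, Functor.map_comp, Category.assoc, Category.assoc, sqR.w]
  · have h1 : RepWith @QuasiCompact (Limits.diag ((yon S).obj V)) :=
      MorphismProperty.of_isPullback (Groth.Agent.AlgSp.isPullback_diag_of_mono j') hqs
    exact ⟨(repWith_diag_yon_iff _ _).1 h1⟩

end Groth.Agent.GrpdLib.DenseQuot
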