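import Groth.Agent.AlgSpCov.SmoothSourceDescent
import Groth.Agent.FlatOpen.Descend
import Mathlib.RingTheory.Extension.Presentation.Core

/-!
# Finite type and finite presentation descend along faithfully flat finitely presented maps on the source
-/

set_option autoImplicit false
set_option maxHeartbeats 1600000
set_option linter.style.haveILetI false
universe u

open TensorProduct PrimeSpectrum Groth.Agent.AlgSpCov

namespace Groth.Agent.GrpdLib.FppfSourceDescent

/-- A finitely presented flat algebra is defined, with flatness, over a finitely generated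
`ℤ`-subalgebra. -/
theorem exists_flat_model (A B : Type u) [CommRing A] [CommRing B] [Algebra A B]
    [Algebra.FinitePresentation A B] [Module.Flat A B] :
    ∃ (A₀ : Subalgebra ℤ A) (B₀ : Type u) (_ : CommRing B₀) (_ : Algebra A₀ B₀),
      A₀.FG ∧ Algebra.FinitePresentation A₀ B₀ ∧ Module.Flat A₀ B₀ ∧
        Nonempty (B ≃ₐ[A] A ⊗[A₀] B₀) := by
  classical
  let P := Algebra.Presentation.ofFinitePresentation A B
  let A₀ := Algebra.adjoin ℤ P.coeffs
  have : P.HasCoeffs A₀ := ⟨by simp [A₀]⟩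
  have hA₀ : A₀.FG := ⟨P.finite_coeffs.toFinset, by simp [A₀]⟩
  let B₀ := P.ModelOfHasCoeffs A₀
  let e : A ⊗[A₀] B₀ ≃ₐ[A] B := P.tensorModelOfHasCoeffsEquiv A₀
  haveI : Module.Flat A (A ⊗[A₀] B₀) := Module.Flat.of_linearEquiv e.toLinearEquiv
  let ι := {A₁ : Subalgebra ℤ A // A₁.FG ∧ A₀ ≤ A₁}
  letI : ∀ i : ι, Algebra A₀ i.1 := fun i => (Subalgebra.inclusion i.2.2).toRingHom.toAlgebra
  haveI : ∀ i : ι, IsScalarTower A₀ i.1 A := fun i => IsScalarTower.of_algebraMap_eq fun _ => rfl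
  obtain ⟨⟨A₁, hA₁, h01⟩, hflat⟩ := FlatOpen.exists_stage_flat (A₀ := A₀) (fun i : ι => i.1)
    (fun _ _ h => (Subalgebra.inclusion h).toRingHom) (fun _ _ _ => rfl) A
    (by
      refine ⟨⟨fun i j => ⟨⟨i.1 ⊔ j.1, i.2.1.sup j.2.1, i.2.2.trans le_sup_left⟩,
        le_sup_left (a := i.1) (b := j.1), le_sup_right (a := i.1) (b := j.1)⟩⟩,
        ⟨⟨A₀, hA₀, le_rfl⟩⟩, fun _ => rfl, fun _ _ _ _ _ => rfl, fun _ _ _ => rfl, fun a => ?_,
        fun i x hx => ⟨i, le_rfl, ?_⟩⟩
      · exact ⟨⟨A₀ ⊔ Algebra.adjoin ℤ {a}, hA₀.sup ⟨{a}, by simp⟩, le_sup_left⟩,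
          ⟨a, (le_sup_right : _ ≤ A₀ ⊔ Algebra.adjoin ℤ {a}) (Algebra.subset_adjoin rfl)⟩, rfl⟩
      · have : x = 0 := Subtype.ext hx
        simp [this])
    (B₀ := B₀) B₀
  letI : Algebra A₀ A₁ := (Subalgebra.inclusion h01).toRingHom.toAlgebra
  haveI : IsScalarTower A₀ A₁ A := IsScalarTower.of_algebraMap_eq fun _ => rfl
  exact ⟨A₁, A₁ ⊗[A₀] B₀, inferInstance, inferInstance, hA₁, inferInstance, hflat,
    ⟨e.symm.trans (Algebra.TensorProduct.cancelBaseChange A₀ A₁ A A B₀).symm⟩⟩

/-- If `B` is finitely presented and faithfully flat over `A` and of finite type over `R`, then `A` is a quotient of a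
finitely presented `R`-algebra, by a finitely generated ideal if `B` is finitely presented over `R`. -/
theorem finiteType_and_finitePresentation_of_faithfullyFlat {R A B : Type u} [CommRing R] [CommRing A]
    [CommRing B] [Algebra R A] [Algebra A B] [Algebra R B] [IsScalarTower R A B]
    [Algebra.FinitePresentation A B] [Module.FaithfullyFlat A B] [Algebra.FiniteType R B] :
    Algebra.FiniteType R A ∧
      (Algebra.FinitePresentation R B → Algebra.FinitePresentation R A) := by
  classical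
  obtain ⟨A₀, B₀, _, _, hA₀, _, _, ⟨e⟩⟩ := exists_flat_model A B
  -- the open image of `Spec B₀`
  have hU : IsOpen (Set.range (comap (algebraMap A₀ B₀))) :=
    (isOpenMap_comap_of_hasGoingDown_of_finitePresentation (R := A₀) (S := B₀)).isOpen_range
  obtain ⟨I, hI⟩ := (PrimeSpectrum.isClosed_iff_zeroLocus_ideal _).1 hU.isClosed_compl
  have hIA : I.map (algebraMap A₀ A) = ⊤ := by
    by_contra hne
    obtain ⟨m, hm, hIm⟩ := Ideal.exists_le_maximal _ hne
    obtain ⟨Q, hQ⟩ := PrimeSpectrum.comap_surjective_of_faithfullyFlat (A := A) (B := B) ⟨m, hm.isPrime⟩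
    have hmem : comap (algebraMap A₀ A) ⟨m, hm.isPrime⟩ ∈ PrimeSpectrum.zeroLocus (I : Set A₀) :=
      fun x hx => hIm (Ideal.mem_map_of_mem _ hx)
    rw [← hI] at hmem
    refine hmem ⟨comap ((e.symm.toRingHom).comp
      (Algebra.TensorProduct.includeRight (R := A₀) (A := A) (B := B₀)).toRingHom) Q, ?_⟩
    rw [← hQ, ← PrimeSpectrum.comap_comp_apply, ← PrimeSpectrum.comap_comp_apply]
    congr 1
    ext a
    have := e.symm.commutes (algebraMap A₀ A a)
    rw [Algebra.TensorProduct.algebraMap_apply, Algebra.algebraMap_self_apply] at this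
    simpa [Algebra.TensorProduct.tmul_one_eq_one_tmul] using this
  obtain ⟨c, hc⟩ := (Finsupp.mem_span_iff_linearCombination A (algebraMap A₀ A '' (I : Set A₀)) 1).1
    (show (1 : A) ∈ Ideal.span (algebraMap A₀ A '' (I : Set A₀)) by
      change (1 : A) ∈ I.map (algebraMap A₀ A); simp [hIA])
  -- coefficients of generators of `B`
  obtain ⟨gB, hgB⟩ := ‹Algebra.FiniteType R B›.out
  choose s hs using fun b : B => TensorProduct.exists_finset (e b)
  let t : Finset A := c.support.image c ∪ gB.biUnion fun b => (s b).image Prod.fst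
  let A₁ : Subalgebra ℤ A := A₀ ⊔ Algebra.adjoin ℤ (t : Set A)
  have hA₁ : A₁.FG := hA₀.sup ⟨t, rfl⟩
  have ht : ∀ a ∈ t, a ∈ A₁ := fun a ha => (le_sup_right : _ ≤ A₁) (Algebra.subset_adjoin ha)
  let _ : Algebra A₀ A₁ := (Subalgebra.inclusion (le_sup_left : A₀ ≤ A₁)).toRingHom.toAlgebra
  have : IsScalarTower A₀ A₁ A := IsScalarTower.of_algebraMap_eq fun _ => rfl
  have : Algebra.FiniteType ℤ A₁ := (Subalgebra.fg_iff_finiteType _).1 hA₁
  have : Algebra.FinitePresentation ℤ A₁ := Algebra.FinitePresentation.of_finiteType.1 this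
  let A' := R ⊗[ℤ] A₁
  let θ : A' →ₐ[R] A := Algebra.TensorProduct.lift (Algebra.ofId R A) A₁.val (fun _ _ => Commute.all _ _)
  let _ : Algebra A' A := θ.toRingHom.toAlgebra
  have : IsScalarTower R A' A := IsScalarTower.of_algebraMap_eq fun r => (θ.commutes r).symm
  let j : A₁ →+* A' := Algebra.TensorProduct.includeRight.toRingHom
  have hj : ∀ a : A₁, θ (j a) = (a : A) := fun a => by
    change Algebra.TensorProduct.lift _ _ _ ((1 : R) ⊗ₜ[ℤ] a) = _
    rw [Algebra.TensorProduct.lift_tmul]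
    simp
  let _ : Algebra A₀ A' := (j.comp (algebraMap A₀ A₁)).toAlgebra
  have : IsScalarTower A₀ A' A := IsScalarTower.of_algebraMap_eq fun a =>
    (hj (algebraMap A₀ A₁ a)).symm
  let B' := A' ⊗[A₀] B₀
  have hsurjSpec : Function.Surjective (comap (algebraMap A' B')) := comap_surjective_tensor fun q => by
    by_contra hq
    rw [← Set.mem_compl_iff, hI] at hq
    refine q.isPrime.ne_top ((Ideal.eq_top_iff_one _).2 ?_)
    have hone : (1 : A₁) ∈ I.map (algebraMap A₀ A₁) := by
      have hmem : ∀ x ∈ c.support, c x ∈ A₁ := fun x hx =>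
        ht _ (Finset.mem_union_left _ (Finset.mem_image_of_mem _ hx))
      choose x₀ hx₀ hx₀' using fun x : ↥(algebraMap A₀ A '' (I : Set A₀)) => x.2
      have : (1 : A₁) = ∑ x ∈ c.support.attach, (⟨c x.1, hmem _ x.2⟩ : A₁) * algebraMap A₀ A₁ (x₀ x.1) := by
        apply Subtype.ext
        rw [AddSubmonoidClass.coe_finsetSum]
        change (1 : A) = ∑ x ∈ c.support.attach, c x.1 * algebraMap A₀ A (x₀ x.1)
        conv_lhs => rw [← hc, Finsupp.linearCombination_apply, Finsupp.sum, ← Finset.sum_attach]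
        exact Finset.sum_congr rfl fun x _ => by rw [hx₀', smul_eq_mul]
      rw [this]
      exact Ideal.sum_mem _ fun x _ => Ideal.mul_mem_left _ _ (Ideal.mem_map_of_mem _ (hx₀ _))
    have h2 : I.map (algebraMap A₀ A₁) ≤ q.asIdeal.comap j :=
      Ideal.map_le_iff_le_comap.2 fun x hx => hq hx
    simpa using h2 hone
  have : Module.Flat A' B' := inferInstance
  have hFF := Module.FaithfullyFlat.of_comap_surjective (A := A') (B := B') hsurjSpec
  -- `B'` surjects onto `B`
  let φ : B' →ₐ[A₀] A ⊗[A₀] B₀ :=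
    Algebra.TensorProduct.map (IsScalarTower.toAlgHom A₀ A' A) (AlgHom.id A₀ B₀)
  let φR : B' →ₐ[R] A ⊗[A₀] B₀ :=
    { φ.toRingHom with
      commutes' := fun r => by
        change φ (algebraMap R A' r ⊗ₜ[A₀] 1) = algebraMap R A r ⊗ₜ[A₀] 1
        exact congrArg (· ⊗ₜ[A₀] (1 : B₀)) (θ.commutes r) }
  let eR : B ≃ₐ[R] A ⊗[A₀] B₀ := e.restrictScalars R
  have hφ : Function.Surjective φR := by
    have hle : (gB : Set B) ⊆ φR.range.comap (eR : B →ₐ[R] A ⊗[A₀] B₀) := by
      intro b hb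
      change e b ∈ φR.range
      rw [hs b]
      refine sum_mem fun x hx => ?_
      have hx' : x.1 ∈ A₁ := ht _ (Finset.mem_union_right _ (Finset.mem_biUnion.2
        ⟨b, hb, Finset.mem_image_of_mem _ hx⟩))
      refine ⟨j ⟨x.1, hx'⟩ ⊗ₜ x.2, ?_⟩
      change φ _ = _
      exact congrArg (· ⊗ₜ[A₀] x.2) (hj ⟨x.1, hx'⟩)
    intro z
    exact (top_le_iff.2 rfl : (⊤ : Subalgebra R B) ≤ ⊤).trans (hgB.ge.trans (Algebra.adjoin_le hle))
      (Algebra.mem_top (x := eR.symm z)) |> fun h => by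
        have h' : eR (eR.symm z) ∈ φR.range := h
        rwa [AlgEquiv.apply_symm_apply] at h'
  -- descend surjectivity
  have hθ : Function.Surjective (algebraMap A' A) :=
    surjective_of_map_surjective (A₀ := A₀) (B₀ := B₀) hφ
  have hFT : Algebra.FiniteType R A := Algebra.FiniteType.of_surjective θ hθ
  refine ⟨hFT, fun hB => ?_⟩
  have : Algebra.FinitePresentation R (A ⊗[A₀] B₀) := Algebra.FinitePresentation.equiv eR
  exact finitePresentation_of_map (A₀ := A₀) (B₀ := B₀) hθ

end Groth.Agent.GrpdLib.FppfSourceDescent
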