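import Groth.Agent.GrpdLib.FppfSourceDescent
import Groth.Agent.AlgSpCov.Instances
import Mathlib

/-!
# Locally finite type / presentation descend along fppf covers of the source
-/

set_option autoImplicit false
set_option backward.isDefEq.respectTransparency false
set_option backward.isDefEq.respectTransparency.types false
set_option linter.style.haveILetI false
universe u

open CategoryTheory CategoryTheory.Limits AlgebraicGeometry MorphismProperty Groth.Agent.AlgSpCov

namespace Groth.Agent.GrpdLib.FppfSourceDescent

/-- Source descent along fppf surjections from the statement for ring maps. -/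
theorem of_comp_fppf {P : MorphismProperty Scheme.{u}}
    {Q : ∀ {R S : Type u} [CommRing R] [CommRing S], (R →+* S) → Prop} [HasRingHomProperty P Q]
    [P.IsStableUnderBaseChange]
    (hQ : ∀ ⦃R A B : Type u⦄ [CommRing R] [CommRing A] [CommRing B] (f : R →+* A) (g : A →+* B),
      g.FinitePresentation → g.FaithfullyFlat → Q (g.comp f) → Q f)
    {X Y Z : Scheme.{u}} (e : X ⟶ Y) (h : Y ⟶ Z) [Flat e] [LocallyOfFinitePresentation e]
    [Surjective e] (hh : P (e ≫ h)) : P h := by
  haveI : IsZariskiLocalAtSource (@Flat : MorphismProperty Scheme.{u}) := inferInstance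
  haveI : IsZariskiLocalAtSource (@LocallyOfFinitePresentation : MorphismProperty Scheme.{u}) :=
    inferInstance
  haveI : IsZariskiLocalAtSource (@Flat ⊓ @LocallyOfFinitePresentation : MorphismProperty Scheme.{u}) :=
    MorphismProperty.IsLocalAtSource.inf (K := Scheme.zariskiPrecoverage) _ _
  refine of_comp_of_affine (E := @Flat ⊓ @LocallyOfFinitePresentation)
    (fun X Y Z _ _ _ e h he hs hh => ?_) e h ⟨‹_›, ‹_›⟩ hh
  have : Flat e := he.1
  have : LocallyOfFinitePresentation e := he.2
  have hff := (Flat.flat_and_surjective_iff_faithfullyFlat_of_isAffine e).1 ⟨inferInstance, hs⟩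
  have hfp : e.appTop.hom.FinitePresentation :=
    (HasRingHomProperty.iff_of_isAffine (P := @LocallyOfFinitePresentation)).1 inferInstance
  rw [HasRingHomProperty.iff_of_isAffine (P := P)] at hh ⊢
  rw [Scheme.Hom.comp_appTop, CommRingCat.hom_comp] at hh
  exact hQ _ _ hfp hff hh

theorem locallyOfFiniteType_of_comp_fppf {X Y Z : Scheme.{u}} (e : X ⟶ Y) (h : Y ⟶ Z) [Flat e]
    [LocallyOfFinitePresentation e] [Surjective e] [LocallyOfFiniteType (e ≫ h)] :
    LocallyOfFiniteType h :=
  of_comp_fppf (P := @LocallyOfFiniteType) (fun R A B _ _ _ f g hg hg' hh => by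
    algebraize [f, g, g.comp f]
    exact (finiteType_and_finitePresentation_of_faithfullyFlat (R := R) (A := A) (B := B)).1)
    e h inferInstance

theorem locallyOfFinitePresentation_of_comp_fppf {X Y Z : Scheme.{u}} (e : X ⟶ Y) (h : Y ⟶ Z)
    [Flat e] [LocallyOfFinitePresentation e] [Surjective e] [LocallyOfFinitePresentation (e ≫ h)] :
    LocallyOfFinitePresentation h :=
  of_comp_fppf (P := @LocallyOfFinitePresentation) (fun R A B _ _ _ f g hg hg' hh => by
    algebraize [f, g, g.comp f]
    exact (finiteType_and_finitePresentation_of_faithfullyFlat (R := R) (A := A) (B := B)).2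
      inferInstance)
    e h inferInstance

/-- Quasi-compactness descends along a surjection on the source. -/
theorem quasiCompact_of_comp_surjective {X Y Z : Scheme.{u}} (e : X ⟶ Y) (h : Y ⟶ Z) [Surjective e]
    [QuasiCompact (e ≫ h)] : QuasiCompact h := by
  refine ⟨fun U hU hU' => ?_⟩
  have he : h ⁻¹' U = e '' ((e ≫ h) ⁻¹' U) := by
    rw [Scheme.Hom.comp_base, TopCat.coe_comp, Set.preimage_comp,
      Set.image_preimage_eq _ e.surjective]
  rw [he]
  exact ((e ≫ h).isCompact_preimage (U := ⟨U, hU⟩) hU').image e.continuous

/-- Quasi-separatedness descends along a quasi-compact surjection on the source. -/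
theorem quasiSeparated_of_comp_surjective {X Y Z : Scheme.{u}} (e : X ⟶ Y) (h : Y ⟶ Z)
    [Surjective e] [QuasiCompact e] [QuasiSeparated (e ≫ h)] : QuasiSeparated h := by
  let m : pullback (e ≫ h) (e ≫ h) ⟶ pullback h h :=
    pullback.map (e ≫ h) (e ≫ h) h h e e (𝟙 Z) (Category.comp_id _) (Category.comp_id _)
  haveI : QuasiCompact m := MorphismProperty.pullbackMap (P := @QuasiCompact)
    (f' := h) (g' := h) (inferInstanceAs (QuasiCompact e))
    (inferInstanceAs (QuasiCompact e)) rfl rfl
  have key : pullback.diagonal (e ≫ h) ≫ m = e ≫ pullback.diagonal h := by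
    apply pullback.hom_ext
    · rw [Category.assoc, pullback.lift_fst, pullback.diagonal_fst_assoc, Category.assoc,
        pullback.diagonal_fst, Category.comp_id]
    · rw [Category.assoc, pullback.lift_snd, pullback.diagonal_snd_assoc, Category.assoc,
        pullback.diagonal_snd, Category.comp_id]
  haveI : QuasiCompact (e ≫ pullback.diagonal h) := by rw [← key]; infer_instance
  exact ⟨quasiCompact_of_comp_surjective e (pullback.diagonal h)⟩

end Groth.Agent.GrpdLib.FppfSourceDescent
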