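import Groth.Agent.GrpdLib.InvAffine
import Mathlib.AlgebraicGeometry.ZariskisMainTheorem
import Mathlib.AlgebraicGeometry.QuasiAffine

/-!
# Finite sets in affine opens
-/

universe u

set_option maxHeartbeats 400000

open CategoryTheory CategoryTheory.Limits AlgebraicGeometry

namespace Groth.Agent.GrpdLib

/-- A finite subset of a quasi-affine scheme lies in an affine open. -/
lemma exists_affine_of_finite_of_isQuasiAffine {X : Scheme.{u}} [X.IsQuasiAffine] {F : Set X}
    (hF : F.Finite) : ∃ V : X.Opens, IsAffineOpen V ∧ F ⊆ V := by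
  obtain ⟨f, hf, hfF⟩ := exists_basicOpen_le_of_finite (isAffineOpen_top (Spec Γ(X, ⊤)))
    (U := X.toSpecΓ.opensRange) (hF.image X.toSpecΓ)
    (by rintro _ ⟨x, -, rfl⟩; exact ⟨x, rfl⟩) (fun _ _ => trivial)
  exact ⟨X.toSpecΓ ⁻¹ᵁ (Spec Γ(X, ⊤)).basicOpen f,
    ((isAffineOpen_top _).basicOpen f).preimage_of_isOpenImmersion _ hf,
    fun x hx => hfF ⟨x, hx, rfl⟩⟩

/-- A finite subset of a separated locally quasi-finite scheme over an affine scheme lies in an
affine open. -/
lemma exists_affine_of_finite_of_lqf {X V : Scheme.{u}} [IsAffine V] (f : X ⟶ V) [IsSeparated f]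
    [LocallyQuasiFinite f] [LocallyOfFiniteType f] {F : Set X} (hF : F.Finite) :
    ∃ W : X.Opens, IsAffineOpen W ∧ F ⊆ W := by
  choose A hA hxA _ using fun x : X =>
    exists_isAffineOpen_mem_and_subset (x := x) (U := ⊤) trivial
  let O : X.Opens := ⨆ x ∈ F, A x
  have hO : IsCompact (O : Set X) := by
    simp only [O, TopologicalSpace.Opens.coe_iSup]
    exact hF.isCompact_biUnion fun x _ => (hA x).isCompact
  have hFO : F ⊆ O := fun x hx => by
    simp only [O, TopologicalSpace.Opens.coe_iSup]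
    exact Set.mem_biUnion hx (hxA x)
  have : CompactSpace O := isCompact_iff_compactSpace.mp hO
  have : LocallyQuasiFinite (O.ι ≫ f) := inferInstance
  have : QuasiCompact (O.ι ≫ f) := (quasiCompact_iff_compactSpace _).2 inferInstance
  have : IsAffine (O.ι ≫ f).normalization := isAffine_of_isAffineHom (O.ι ≫ f).fromNormalization
  have : (O : Scheme.{u}).IsQuasiAffine :=
    Scheme.IsQuasiAffine.of_isImmersion (O.ι ≫ f).toNormalization
  obtain ⟨W, hW, hFW⟩ := exists_affine_of_finite_of_isQuasiAffine (X := (O : Scheme.{u}))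
    (F := O.ι ⁻¹' F) (hF.preimage O.ι.isOpenEmbedding.injective.injOn)
  exact ⟨O.ι ''ᵁ W, hW.image_of_isOpenImmersion O.ι,
    fun x hx => ⟨⟨x, hFO hx⟩, hFW hx, rfl⟩⟩

end Groth.Agent.GrpdLib
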