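import Groth.Agent.AffinePts.Main
import Groth.Agent.DimOneAmple.Ample
import Groth.Agent.GalCohAux.AmpleFinite
import Groth.Agent.OneDim.Basic
import Groth.Agent.FpDesc70.Basic
import Mathlib.AlgebraicGeometry.Gluing
import Mathlib.AlgebraicGeometry.Stalk

/-!
# Finitely many points with local rings of dimension at most one lie in an affine open

The scheme `semiLoc` glues the spectra of the local rings along their common generizations; it is
separated (being preimmersed in `X`), noetherian, of dimension at most one, with finitely many points,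
hence affine.
-/

set_option autoImplicit false
set_option linter.style.haveILetI false
set_option backward.isDefEq.respectTransparency false
set_option backward.isDefEq.respectTransparency.types false

universe u

open CategoryTheory CategoryTheory.Limits AlgebraicGeometry TopologicalSpace IsLocalRing

noncomputable section

namespace Groth.Agent.GrpdLib.DimOnePts

variable {X : Scheme.{u}}

theorem isIso_stalkMap_fromSpecStalk (x : X) (q : Spec (X.presheaf.stalk x)) :
    IsIso ((X.fromSpecStalk x).stalkMap q) := by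
  haveI := FpDesc70.flat_fromSpecStalk x
  rw [ConcreteCategory.isIso_iff_bijective]
  refine ⟨?_, (X.fromSpecStalk x).stalkMap_surjective q⟩
  exact FpDesc70.injective_of_flat_isLocalHom _ (Flat.stalkMap _ q)

/-- A closed set in a finite space is one stable under specialization. -/
theorem isClosed_of_finite {T : Type*} [TopologicalSpace T] [Finite T] {Z : Set T}
    (h : ∀ z ∈ Z, ∀ w, z ⤳ w → w ∈ Z) : IsClosed Z := by
  have : Z = ⋃ z ∈ Z, closure ({z} : Set T) := by
    refine Set.Subset.antisymm (fun z hz => Set.mem_iUnion₂.2 ⟨z, hz, subset_closure rfl⟩) fun w hw => ?_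
    obtain ⟨z, hz, hzw⟩ := Set.mem_iUnion₂.1 hw
    exact h z hz w (specializes_iff_mem_closure.2 hzw)
  rw [this]
  exact Z.toFinite.isClosed_biUnion fun _ _ => isClosed_closure

theorem stalk_facts (x : X) (hn : IsNoetherianRing (X.presheaf.stalk x))
    (hd : ringKrullDim (X.presheaf.stalk x) ≤ 1) :
    {y : X | y ⤳ x}.Finite ∧ ∀ y, y ⤳ x →
      IsNoetherianRing (X.presheaf.stalk y) ∧ ringKrullDim (X.presheaf.stalk y) ≤ 1 := by
  haveI := hn
  constructor
  · rw [← Scheme.range_fromSpecStalk]
    have : Finite (PrimeSpectrum (X.presheaf.stalk x)) := by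
      have h : (Set.range (PrimeSpectrum.asIdeal : PrimeSpectrum (X.presheaf.stalk x) → _)).Finite := by
        refine ((minimalPrimes.finite_of_isNoetherianRing (X.presheaf.stalk x)).union
          (Set.finite_singleton (maximalIdeal (X.presheaf.stalk x)))).subset ?_
        rintro _ ⟨q, rfl⟩
        exact OneDim.mem_minimalPrimes_or_eq_maximalIdeal hd q.asIdeal
      haveI := h.to_subtype
      exact Finite.of_injective (Set.rangeFactorization PrimeSpectrum.asIdeal)
        fun a b e => PrimeSpectrum.ext (congrArg Subtype.val e)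
    haveI : Finite (Spec (X.presheaf.stalk x)) := this
    exact Set.finite_range _
  · intro y hy
    obtain ⟨q, rfl⟩ : y ∈ Set.range (X.fromSpecStalk x) := by rw [Scheme.range_fromSpecStalk]; exact hy
    haveI := isIso_stalkMap_fromSpecStalk x q
    let e := (asIso ((X.fromSpecStalk x).stalkMap q)).commRingCatIsoToRingEquiv
    refine ⟨isNoetherianRing_of_ringEquiv _ e.symm, ?_⟩
    rw [ringKrullDim_eq_of_ringEquiv e]
    refine le_trans ?_ hd
    refine le_trans (le_iSup (fun q : Spec (X.presheaf.stalk x) =>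
      ringKrullDim ((Spec (X.presheaf.stalk x)).presheaf.stalk q)) q) ?_
    rw [← DimIneq.topologicalKrullDim_eq_iSup_stalk]
    exact le_of_eq (PrimeSpectrum.topologicalKrullDim_eq_ringKrullDim _)

variable (X) in
/-- The generizations of the points of a set, ordered by specialization. -/
@[ext]
structure Gen (s : Set X) : Type u where
  /-- The point. -/
  pt : X
  mem : ∃ x ∈ s, pt ⤳ x

instance (s : Set X) : Preorder (Gen X s) where
  le a b := a.1 ⤳ b.1
  le_refl a := specializes_refl a.1
  le_trans _ _ _ h h' := h.trans h'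

variable (s : Set X)

/-- The diagram of spectra of local rings. -/
abbrev diag : Gen X s ⥤ Scheme.{u} where
  obj y := Spec (X.presheaf.stalk y.1)
  map f := Spec.map (X.presheaf.stalkSpecializes f.le)
  map_id y := by
    rw [← cancel_mono (X.fromSpecStalk y.1)]
    exact (Scheme.SpecMap_stalkSpecializes_fromSpecStalk _).trans (Category.id_comp _).symm
  map_comp {a b c} f g := by
    rw [← cancel_mono (X.fromSpecStalk c.1), Category.assoc,
      Scheme.SpecMap_stalkSpecializes_fromSpecStalk, Scheme.SpecMap_stalkSpecializes_fromSpecStalk,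
      Scheme.SpecMap_stalkSpecializes_fromSpecStalk]

theorem diag_map_fromSpecStalk {a b : Gen X s} (f : a ⟶ b) :
    (diag s).map f ≫ X.fromSpecStalk b.1 = X.fromSpecStalk a.1 :=
  Scheme.SpecMap_stalkSpecializes_fromSpecStalk _

theorem exists_gen (a : Gen X s) (q : (diag s).obj a) :
    ∃ l : Gen X s, ∃ h : l ≤ a, l.1 = X.fromSpecStalk a.1 q ∧
      (diag s).map (homOfLE h) (closedPoint (X.presheaf.stalk l.1)) = q := by
  have hsp : X.fromSpecStalk a.1 q ⤳ a.1 :=
    (Scheme.range_fromSpecStalk (X := X) (x := a.1)).le ⟨q, rfl⟩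
  obtain ⟨x, hx, hax⟩ := a.2
  let l : Gen X s := ⟨X.fromSpecStalk a.1 q, x, hx, hsp.trans hax⟩
  refine ⟨l, hsp, rfl, ?_⟩
  apply (X.fromSpecStalk a.1).isEmbedding.injective
  rw [← Scheme.Hom.comp_apply, diag_map_fromSpecStalk, Scheme.fromSpecStalk_closedPoint]

variable {s}

variable (hfin : s.Finite)
  (hs : ∀ x ∈ s, IsNoetherianRing (X.presheaf.stalk x) ∧ ringKrullDim (X.presheaf.stalk x) ≤ 1)

include hfin hs in
theorem finite_gen : Finite (Gen X s) := by
  have : {y : X | ∃ x ∈ s, y ⤳ x}.Finite :=
    (hfin.biUnion fun x hx => (stalk_facts x (hs x hx).1 (hs x hx).2).1).subset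
      fun y ⟨x, hx, h⟩ => Set.mem_biUnion hx h
  haveI := this.to_subtype
  exact Finite.of_injective (fun y : Gen X s => (⟨y.pt, y.mem⟩ : {y : X | ∃ x ∈ s, y ⤳ x}))
    fun a b e => Gen.ext (congrArg Subtype.val e)

include hs in
theorem gen_facts (y : Gen X s) :
    IsNoetherianRing (X.presheaf.stalk y.1) ∧ ringKrullDim (X.presheaf.stalk y.1) ≤ 1 := by
  obtain ⟨x, hx, h⟩ := y.2
  exact (stalk_facts x (hs x hx).1 (hs x hx).2).2 _ h

include hs in
theorem isOpenImmersion_map {a b : Gen X s} (f : a ⟶ b) : IsOpenImmersion ((diag s).map f) := by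
  haveI : IsPreimmersion ((diag s).map f ≫ X.fromSpecStalk b.1) := by
    rw [diag_map_fromSpecStalk]; infer_instance
  haveI : IsPreimmersion ((diag s).map f) := IsPreimmersion.of_comp _ (X.fromSpecStalk b.1)
  haveI : Finite ((diag s).obj b) := by
    have h := (stalk_facts b.1 (gen_facts hs b).1 (gen_facts hs b).2).1
    rw [← Scheme.range_fromSpecStalk] at h
    haveI := h.to_subtype
    exact Finite.of_injective _
      (Set.rangeFactorization_injective.2 (X.fromSpecStalk b.1).isEmbedding.injective)
  rw [IsOpenImmersion.iff_isIso_stalkMap]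
  refine ⟨⟨((diag s).map f).isEmbedding, ?_⟩, fun q => ?_⟩
  · rw [← isClosed_compl_iff]
    refine isClosed_of_finite fun z hz w hzw => fun ⟨v, hv⟩ => hz ?_
    have h1 : X.fromSpecStalk b.1 z ⤳ a.1 := by
      refine (hzw.map (X.fromSpecStalk b.1).continuous).trans ?_
      rw [← hv, ← Scheme.Hom.comp_apply, diag_map_fromSpecStalk]
      exact (Scheme.range_fromSpecStalk (X := X) (x := a.1)).le ⟨v, rfl⟩
    obtain ⟨z', hz'⟩ := (Scheme.range_fromSpecStalk (X := X) (x := a.1)).ge h1
    refine ⟨z', (X.fromSpecStalk b.1).isEmbedding.injective ?_⟩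
    rw [← Scheme.Hom.comp_apply, diag_map_fromSpecStalk]
    exact hz'
  · haveI := isIso_stalkMap_fromSpecStalk b.1 ((diag s).map f q)
    have key : ∀ (φ : (diag s).obj a ⟶ X), φ = X.fromSpecStalk a.1 → IsIso (φ.stalkMap q) := by
      rintro _ rfl; exact isIso_stalkMap_fromSpecStalk a.1 q
    have h1 := key _ (diag_map_fromSpecStalk s f)
    rw [Scheme.Hom.stalkMap_comp] at h1
    exact IsIso.of_isIso_comp_left ((X.fromSpecStalk b.1).stalkMap ((diag s).map f q)) _

theorem isLocallyDirected : ((diag s) ⋙ Scheme.forget).IsLocallyDirected := by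
  refine ⟨fun {i j k} fi fj xi xj he => ?_⟩
  obtain ⟨l, hl, hl1, hl2⟩ := exists_gen s i xi
  obtain ⟨l', hl', hl1', hl2'⟩ := exists_gen s j xj
  have hll : l = l' := by
    apply Gen.ext
    rw [hl1, hl1', ← diag_map_fromSpecStalk s fi, ← diag_map_fromSpecStalk s fj,
      Scheme.Hom.comp_apply, Scheme.Hom.comp_apply]
    exact congrArg _ he
  subst hll
  exact ⟨l, homOfLE hl, homOfLE hl', closedPoint (X.presheaf.stalk l.1), hl2, hl2'⟩

include hfin hs in
/-- The semi-local scheme of finitely many points of dimension at most one. -/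
theorem exists_semiLoc [X.IsSeparated] :
    ∃ (T : Scheme.{u}) (f : T ⟶ X), IsAffine T ∧ Function.Injective f ∧
      (∀ t, IsIso (f.stalkMap t)) ∧ s ⊆ Set.range f := by
  haveI := finite_gen hfin hs
  haveI : ∀ {a b : Gen X s} (f : a ⟶ b), IsOpenImmersion ((diag s).map f) :=
    fun f => isOpenImmersion_map hs f
  haveI := isLocallyDirected (s := s)
  let c : Cocone (diag s) :=
    { pt := X
      ι := { app := fun y => X.fromSpecStalk y.1
             naturality := fun a b f => (diag_map_fromSpecStalk s f).trans (Category.comp_id _).symm } }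
  let T := colimit (diag s)
  let p : T ⟶ X := colimit.desc (diag s) c
  have hp : ∀ y, colimit.ι (diag s) y ≫ p = X.fromSpecStalk y.1 := fun y => colimit.ι_desc c y
  -- every point is the closed point of the chart of its image
  have hpt : ∀ t : T, ∃ y : Gen X s, y.1 = p t ∧
      colimit.ι (diag s) y (closedPoint (X.presheaf.stalk y.1)) = t := fun t => by
    obtain ⟨i, q, rfl⟩ := Scheme.IsLocallyDirected.ι_jointly_surjective (diag s) t
    obtain ⟨l, hl, hl1, hl2⟩ := exists_gen s i q
    refine ⟨l, by rw [hl1, ← Scheme.Hom.comp_apply, hp], ?_⟩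
    rw [← hl2, ← Scheme.Hom.comp_apply, colimit.w]
  have hinj : Function.Injective p := fun t t' he => by
    obtain ⟨y, hy, rfl⟩ := hpt t
    obtain ⟨y', hy', rfl⟩ := hpt t'
    obtain rfl : y = y' := Gen.ext (hy.trans (he.trans hy'.symm))
    rfl
  have hiso : ∀ t, IsIso (p.stalkMap t) := fun t => by
    obtain ⟨i, q, rfl⟩ := Scheme.IsLocallyDirected.ι_jointly_surjective (diag s) t
    have key : ∀ (φ : (diag s).obj i ⟶ X), φ = X.fromSpecStalk i.1 → IsIso (φ.stalkMap q) := by
      rintro _ rfl; exact isIso_stalkMap_fromSpecStalk i.1 q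
    have h1 := key _ (hp i)
    rw [Scheme.Hom.stalkMap_comp] at h1
    exact IsIso.of_isIso_comp_right _ ((colimit.ι (diag s) i).stalkMap q)
  haveI : Finite T := by
    refine Finite.of_injective (fun t => (hpt t).choose) fun t t' he => ?_
    apply hinj
    rw [← (hpt t).choose_spec.1, ← (hpt t').choose_spec.1]
    exact congrArg Gen.pt he
  haveI : SurjectiveOnStalks p := ⟨fun t => by
    haveI := hiso t
    exact ((ConcreteCategory.isIso_iff_bijective _).1 (hiso t)).2⟩
  haveI : IsPreimmersion p := by
    refine { isEmbedding := ⟨⟨?_⟩, hinj⟩ }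
    refine le_antisymm (continuous_iff_le_induced.1 p.continuous) fun V hV => ?_
    rw [isOpen_induced_iff]
    refine ⟨(closure (p '' Vᶜ))ᶜ, isClosed_closure.isOpen_compl, ?_⟩
    ext w
    refine ⟨fun hw => by_contra fun h => hw (subset_closure ⟨w, h, rfl⟩), fun hw hcl => ?_⟩
    have h2 : closure (p '' Vᶜ) = ⋃ z ∈ Vᶜ, closure {p z} := by
      rw [← Vᶜ.toFinite.closure_biUnion, ← Set.image_eq_iUnion]
    rw [h2] at hcl
    obtain ⟨z, hz, hzw⟩ := Set.mem_iUnion₂.1 hcl
    have hsp : p z ⤳ p w := specializes_iff_mem_closure.2 hzw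
    obtain ⟨y, hy, rfl⟩ := hpt w
    obtain ⟨v, hv⟩ := (Scheme.range_fromSpecStalk (X := X) (x := y.1)).ge (hy.symm ▸ hsp)
    have : colimit.ι (diag s) y v = z := hinj (by rw [← Scheme.Hom.comp_apply, hp]; exact hv)
    refine hz (Specializes.mem_open ?_ hV hw)
    rw [← this]
    exact (IsLocalRing.specializes_closedPoint v).map (colimit.ι (diag s) y).continuous
  haveI : T.IsSeparated := ⟨by rw [← terminal.comp_from p]; infer_instance⟩
  haveI : IsNoetherian T := by
    haveI : IsLocallyNoetherian T := by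
      rw [isLocallyNoetherian_iff_openCover (Scheme.IsLocallyDirected.openCover (diag s))]
      intro i
      haveI := (gen_facts hs i).1
      exact inferInstanceAs (IsLocallyNoetherian (Spec (X.presheaf.stalk i.1)))
    haveI : CompactSpace T := inferInstance
    exact ⟨⟩
  have hdim : topologicalKrullDim T ≤ 1 := by
    rw [DimIneq.topologicalKrullDim_eq_iSup_stalk]
    refine iSup_le fun t => ?_
    obtain ⟨y, hy, -⟩ := hpt t
    haveI := hiso t
    rw [← ringKrullDim_eq_of_ringEquiv (asIso (p.stalkMap t)).commRingCatIsoToRingEquiv, ← hy]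
    exact (gen_facts hs y).2
  obtain ⟨L, hL⟩ := DimOneAmple.exists_ample_of_dim_le_one T hdim
  obtain ⟨V, hV, hVT⟩ := GalCohAux.AmpleFinite.exists_affine_of_finite hL (Set.finite_univ (α := T))
  have hVtop : V = ⊤ := by
    ext t; exact ⟨fun _ => trivial, fun _ => hVT (Set.mem_univ t)⟩
  subst hVtop
  refine ⟨T, p, (haveI : IsAffine _ := hV; IsAffine.of_isIso T.topIso.inv), hinj, hiso, fun x hx => ?_⟩
  let y : Gen X s := ⟨x, ⟨x, hx, specializes_refl x⟩⟩
  refine ⟨colimit.ι (diag s) y (closedPoint (X.presheaf.stalk x)), ?_⟩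
  rw [← Scheme.Hom.comp_apply, hp]
  exact Scheme.fromSpecStalk_closedPoint

end Groth.Agent.GrpdLib.DimOnePts

namespace Groth.Agent.GrpdLib

/-- Finitely many points with noetherian local rings of dimension at most one of a separated scheme
lie in an affine open. -/
theorem exists_affine_of_dim_le_one {X : Scheme.{u}} [X.IsSeparated] {s : Set X} (hfin : s.Finite)
    (hs : ∀ x ∈ s, IsNoetherianRing (X.presheaf.stalk x) ∧ ringKrullDim (X.presheaf.stalk x) ≤ 1) :
    ∃ U : X.Opens, IsAffineOpen U ∧ s ⊆ U := by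
  classical
  obtain ⟨T, p, hT, hinj, hiso, hsT⟩ := DimOnePts.exists_semiLoc hfin hs
  haveI := hT
  choose g hg using fun x : s => hsT x.2
  haveI := hfin.fintype
  obtain ⟨U, hU, hmem⟩ := AffinePts.exists_affineOpen_containing p
    (fun a _ a' _ e => hinj e) (Finset.univ.image g) (fun t _ => hiso t)
  exact ⟨U, hU, fun x hx => by
    have h := hmem _ (Finset.mem_image_of_mem g (Finset.mem_univ ⟨x, hx⟩))
    rwa [hg ⟨x, hx⟩] at h⟩

end Groth.Agent.GrpdLib
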