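import Groth.Agent.GrpdLib.QuotientMap
import Groth.Agent.GrpdLib.QuotEquiv

/-!
# The quotient of an equivalence relation is effective
-/

universe u

set_option maxHeartbeats 400000

open CategoryTheory CategoryTheory.Limits AlgebraicGeometry

namespace Groth.Agent.GrpdLib

variable {S : Scheme.{u}} {G : Grpd.GroupoidScheme S} [IsFinite G.s] [Flat G.s]
  [LocallyOfFinitePresentation G.s] [Mono G.j]

omit [IsFinite G.s] [Flat G.s] [LocallyOfFinitePresentation G.s] in
lemma InvAff.mono_res_j (j : InvAff G) : Mono j.res.j := by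
  refine ⟨fun {T} a b e => ?_⟩
  have ht : a ≫ j.res.t = b ≫ j.res.t := by
    have := congrArg (· ≫ pullback.fst _ _) e
    simp only [Category.assoc] at this
    rwa [j_fst] at this
  have hs : a ≫ j.res.s = b ≫ j.res.s := by
    have := congrArg (· ≫ pullback.snd _ _) e
    simp only [Category.assoc] at this
    rwa [j_snd] at this
  refine (cancel_mono (G.s ⁻¹ᵁ j.1).ι).mp (eq_of_comp_t_s G ?_ ?_)
  · rw [Category.assoc, Category.assoc, ← Scheme.Hom.resLE_comp_ι G.t j.2.2.le, ← Category.assoc,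
      ← Category.assoc]
    exact congrArg (· ≫ j.1.ι) ht
  · rw [Category.assoc, Category.assoc, ← morphismRestrict_ι, ← Category.assoc, ← Category.assoc]
    exact congrArg (· ≫ j.1.ι) hs

lemma InvAff.finLocFree_and_isPullback (j : InvAff G) :
    (IsFinite j.q ∧ Flat j.q ∧ LocallyOfFinitePresentation j.q) ∧
      IsPullback (G.t.resLE j.1 (G.s ⁻¹ᵁ j.1) j.2.2.le) (G.s ∣_ j.1) j.q j.q := by
  have : IsAffine j.res.U := j.2.1
  have : IsAffine j.res.R := j.2.1.preimage G.s
  have : IsFinite j.res.s :=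
    MorphismProperty.of_isPullback (isPullback_morphismRestrict G.s j.1).flip ‹IsFinite G.s›
  have : Flat j.res.s :=
    MorphismProperty.of_isPullback (isPullback_morphismRestrict G.s j.1).flip ‹Flat G.s›
  have : LocallyOfFinitePresentation j.res.s :=
    MorphismProperty.of_isPullback (isPullback_morphismRestrict G.s j.1).flip
      ‹LocallyOfFinitePresentation G.s›
  have := j.mono_res_j
  exact ⟨finLocFree_toQuot j.res, isPullback_toQuot j.res⟩

variable (hG : OrbitsInAffines G)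
include hG

lemma existsUnique_arrow {T : Scheme.{u}} (a b : T ⟶ G.U)
    (h : a ≫ quotMap hG = b ≫ quotMap hG) : ∃! r : T ⟶ G.R, r ≫ G.t = a ∧ r ≫ G.s = b := by
  refine existsUnique_of_exists_of_unique ?_ fun r r' hr hr' =>
    eq_of_comp_t_s G (hr.1.trans hr'.1.symm) (hr.2.trans hr'.2.symm)
  have hcov : TopologicalSpace.IsOpenCover (fun j : InvAff G => a ⁻¹ᵁ j.1) :=
    TopologicalSpace.IsOpenCover.mk (eq_top_iff.mpr fun x _ =>
      TopologicalSpace.Opens.mem_iSup.mpr (exists_invAff hG (a x)))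
  let 𝒯 := T.openCoverOfIsOpenCover _ hcov
  have hloc : ∀ j : InvAff G, ∃ r : (a ⁻¹ᵁ j.1).toScheme ⟶ G.R,
      r ≫ G.t = (a ⁻¹ᵁ j.1).ι ≫ a ∧ r ≫ G.s = (a ⁻¹ᵁ j.1).ι ≫ b := by
    intro j
    have hb : Set.range ((a ⁻¹ᵁ j.1).ι ≫ b) ⊆ Set.range j.1.ι := by
      rintro _ ⟨x, rfl⟩
      rw [Scheme.Opens.range_ι]
      have hx : a ((a ⁻¹ᵁ j.1).ι x) ∈ j.1 := x.2
      obtain ⟨r, hr₁, hr₂⟩ := (quotMap_eq_iff hG (a ((a ⁻¹ᵁ j.1).ι x)) (b ((a ⁻¹ᵁ j.1).ι x))).mp (by
        rw [← Scheme.Hom.comp_apply a, h, Scheme.Hom.comp_apply])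
      rw [Scheme.Hom.comp_apply, ← hr₂]
      exact j.t_mem.mp (by rw [hr₁]; exact hx)
    let a' := a ∣_ j.1
    let b' := IsOpenImmersion.lift j.1.ι _ hb
    have hq : a' ≫ j.q = b' ≫ j.q := by
      rw [← cancel_mono j.incl, Category.assoc, Category.assoc, ← ι_quotMap hG]
      rw [show a' ≫ j.1.ι ≫ quotMap hG = (a ⁻¹ᵁ j.1).ι ≫ a ≫ quotMap hG from
        morphismRestrict_ι_assoc a j.1 _, IsOpenImmersion.lift_fac_assoc, h, Category.assoc]
    obtain ⟨hlft, hpb⟩ := j.finLocFree_and_isPullback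
    refine ⟨hpb.lift a' b' hq ≫ (G.s ⁻¹ᵁ j.1).ι, ?_, ?_⟩
    · rw [Category.assoc, ← Scheme.Hom.resLE_comp_ι G.t j.2.2.le, hpb.lift_fst_assoc,
        morphismRestrict_ι]
    · rw [Category.assoc, ← morphismRestrict_ι, hpb.lift_snd_assoc, IsOpenImmersion.lift_fac]
  choose r hr₁ hr₂ using hloc
  have hglue : ∀ i j, pullback.fst (𝒯.f i) (𝒯.f j) ≫ r i = pullback.snd (𝒯.f i) (𝒯.f j) ≫ r j := by
    intro i j
    refine eq_of_comp_t_s G ?_ ?_
    · erw [Category.assoc, Category.assoc, hr₁, hr₁]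
      exact pullback.condition_assoc (f := 𝒯.f i) (g := 𝒯.f j) a
    · erw [Category.assoc, Category.assoc, hr₂, hr₂]
      exact pullback.condition_assoc (f := 𝒯.f i) (g := 𝒯.f j) b
  refine ⟨𝒯.glueMorphisms r hglue, ?_, ?_⟩
  · exact Scheme.Cover.hom_ext 𝒯 _ _ fun j => by
      rw [Scheme.Cover.ι_glueMorphisms_assoc]; exact hr₁ j
  · exact Scheme.Cover.hom_ext 𝒯 _ _ fun j => by
      rw [Scheme.Cover.ι_glueMorphisms_assoc]; exact hr₂ j

lemma isPullback_quotMap : IsPullback G.t G.s (quotMap hG) (quotMap hG) := by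
  refine ⟨⟨quotMap_condition hG⟩, ⟨PullbackCone.IsLimit.mk _ (fun c => (existsUnique_arrow hG _ _ c.condition).choose)
    (fun c => (existsUnique_arrow hG _ _ c.condition).choose_spec.1.1)
    (fun c => (existsUnique_arrow hG _ _ c.condition).choose_spec.1.2)
    (fun c m h₁ h₂ => (existsUnique_arrow hG _ _ c.condition).choose_spec.2 m ⟨h₁, h₂⟩)⟩⟩

lemma finLocFree_quotMap :
    IsFinite (quotMap hG) ∧ Flat (quotMap hG) ∧ LocallyOfFinitePresentation (quotMap hG) := by
  have key : ∀ (P : MorphismProperty Scheme.{u}) [IsZariskiLocalAtTarget P],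
      (∀ j : InvAff G, P j.q) → P (quotMap hG) := fun P _ hP => by
    refine IsZariskiLocalAtTarget.of_openCover (P := P)
      (Scheme.IsLocallyDirected.openCover (diagram G)) fun (j : InvAff G) => ?_
    have h : P ((isPullback_incl hG j).flip.isoPullback.inv ≫ j.q) :=
      (P.cancel_left_of_respectsIso _ _).mpr (hP j)
    rw [IsPullback.isoPullback_inv_snd] at h
    exact h
  exact ⟨key @IsFinite fun j => j.finLocFree_and_isPullback.1.1,
    key @Flat fun j => j.finLocFree_and_isPullback.1.2.1,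
    key @LocallyOfFinitePresentation fun j => j.finLocFree_and_isPullback.1.2.2⟩

end Groth.Agent.GrpdLib
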