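import Groth.Agent.GrpdLib.KerData
import Groth.Agent.GrpdLib.QuotientEquiv
import Mathlib.AlgebraicGeometry.Sites.Fpqc

/-!
# The groupoid descended along a finite locally free quotient of the objects

Given `KerData G` such that orbits of transports lie in affines, `R` has a quotient `R̄` over
`B ×_S B`, the square to `U ×_S U` is cartesian and `(B, R̄)` is a groupoid scheme.
-/

universe u

set_option maxHeartbeats 400000

open CategoryTheory CategoryTheory.Limits AlgebraicGeometry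

namespace Groth.Agent.GrpdLib

variable {S : Scheme.{u}} {G : Grpd.GroupoidScheme S}

/-- A quasi-compact faithfully flat morphism. -/
structure IsFpqcCov {X Y : Scheme.{u}} (k : X ⟶ Y) : Prop where
  flat : Flat k
  surj : Surjective k
  qc : QuasiCompact k

lemma IsFpqcCov.comp {X Y Z : Scheme.{u}} {k : X ⟶ Y} {l : Y ⟶ Z} (hk : IsFpqcCov k)
    (hl : IsFpqcCov l) : IsFpqcCov (k ≫ l) := by
  have := hk.flat; have := hk.surj; have := hk.qc
  have := hl.flat; have := hl.surj; have := hl.qc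
  exact ⟨inferInstance, inferInstance, inferInstance⟩

lemma IsFpqcCov.fst {X Y Z : Scheme.{u}} (f : X ⟶ Z) {k : Y ⟶ Z} (hk : IsFpqcCov k) :
    IsFpqcCov (pullback.fst f k) := by
  have := hk.flat; have := hk.surj; have := hk.qc
  exact ⟨inferInstance, inferInstance, inferInstance⟩

lemma IsFpqcCov.hom_ext {X Y Z : Scheme.{u}} {k : X ⟶ Y} (hk : IsFpqcCov k) {f g : Y ⟶ Z}
    (h : k ≫ f = k ≫ g) : f = g := by
  have := hk.flat; have := hk.surj; have := hk.qc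
  exact (cancel_epi k).1 h

lemma IsFpqcCov.exists_desc {X Y Z : Scheme.{u}} {k : X ⟶ Y} (hk : IsFpqcCov k) (F : X ⟶ Z)
    (hF : ∀ {W : Scheme.{u}} (g₁ g₂ : W ⟶ X), g₁ ≫ k = g₂ ≫ k → g₁ ≫ F = g₂ ≫ F) :
    ∃ F' : Y ⟶ Z, k ≫ F' = F := by
  have := hk.flat; have := hk.surj; have := hk.qc
  exact ⟨EffectiveEpi.desc k F fun g₁ g₂ h => hF g₁ g₂ h, EffectiveEpi.fac ..⟩

lemma comp_pullbackLift {W' W X Y Z : Scheme.{u}} {f : X ⟶ Z} {g : Y ⟶ Z} (k : W' ⟶ W)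
    (a : W ⟶ X) (b : W ⟶ Y) (h : a ≫ f = b ≫ g) :
    k ≫ pullback.lift a b h =
      pullback.lift (k ≫ a) (k ≫ b) (by rw [Category.assoc, h, Category.assoc]) := by
  apply pullback.hom_ext
  · rw [Category.assoc, pullback.lift_fst, pullback.lift_fst]
  · rw [Category.assoc, pullback.lift_snd, pullback.lift_snd]

namespace KerData

variable (K : KerData G)

lemma cov_q : IsFpqcCov K.q := ⟨K.flat, K.surj, inferInstance⟩

lemma exists_lift {T : Scheme.{u}} (x : T ⟶ K.B) : ∃ (T' : Scheme.{u}) (k : T' ⟶ T)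
    (a : T' ⟶ G.U), IsFpqcCov k ∧ a ≫ K.q = k ≫ x :=
  ⟨pullback x K.q, pullback.fst _ _, pullback.snd _ _, K.cov_q.fst x, pullback.condition.symm⟩

variable (hO : OrbitsInAffines K.E)
include hO

/-- `R → R̄`. -/
noncomputable def π : G.R ⟶ quot K.E := quotMap hO

lemma r₁_π : K.r₁ ≫ K.π hO = K.r₀ ≫ K.π hO := quotMap_condition hO

lemma tr_π {T : Scheme.{u}} (r : T ⟶ G.R) (a b : T ⟶ G.U) (ha hb) :
    K.tr r a b ha hb ≫ K.π hO = r ≫ K.π hO := by
  have e : ∀ (z : T ⟶ G.U), z ≫ G.pU = (z ≫ K.q) ≫ K.m := fun z => by rw [Category.assoc, K.q_over]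
  have hab : a ≫ G.pU = b ≫ G.pU := by
    rw [e, e, ha, hb, Category.assoc, Category.assoc, Category.assoc, Category.assoc, K.q_over,
      G.t_over, G.s_over]
  let y : T ⟶ pullback G.pU G.pU := pullback.lift a b hab
  let z : T ⟶ K.ER := K.liftE r y (by
    apply pullback.hom_ext
    · simp only [Category.assoc, qq_fst]
      rw [pullback.lift_fst_assoc, j_fst_assoc, ha, Category.assoc]
    · simp only [Category.assoc, qq_snd]
      rw [pullback.lift_snd_assoc, j_snd_assoc, hb, Category.assoc])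
  have hz : z ≫ K.r₁ = K.tr r a b ha hb := by
    rw [r₁, K.tr_nat]
    exact (K.tr_congr (K.liftE_r₀ _ _ _) ((K.liftE_ab_assoc _ _ _ _).trans (pullback.lift_fst _ _ _))
      ((K.liftE_ab_assoc _ _ _ _).trans (pullback.lift_snd _ _ _))).trans rfl
  rw [← hz, Category.assoc, K.r₁_π hO, liftE_r₀_assoc]

/-- `R̄ → B ×_S B`. -/
noncomputable def jB : quot K.E ⟶ pullback K.m K.m :=
  (isColimitQuot hO).desc (Cofork.ofπ (G.j ≫ K.qq) (by
    show K.r₁ ≫ G.j ≫ K.qq = K.r₀ ≫ G.j ≫ K.qq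
    rw [← Category.assoc, K.r₁_j, K.r₀_ab]))

lemma π_jB : K.π hO ≫ K.jB hO = G.j ≫ K.qq :=
  (isColimitQuot hO).fac _ WalkingParallelPair.one

/-- `R ≅ R̄ ×_{B × B} (U × U)`. -/
lemma isPullback_π : IsPullback (K.π hO) G.j (K.jB hO) K.qq := by
  let φ : G.R ⟶ pullback (K.jB hO) K.qq := pullback.lift (K.π hO) G.j (K.π_jB hO)
  suffices hφ : IsIso φ from IsPullback.of_iso_pullback ⟨K.π_jB hO⟩ (asIso φ)
    (pullback.lift_fst _ _ _) (pullback.lift_snd _ _ _)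
  let ψ : K.ER ⟶ pullback (pullback.fst (K.jB hO) K.qq) (K.π hO) :=
    pullback.lift (K.r₁ ≫ φ) K.r₀ (by rw [Category.assoc, pullback.lift_fst, K.r₁_π hO])
  let ψ' : pullback (pullback.fst (K.jB hO) K.qq) (K.π hO) ⟶ K.ER :=
    K.liftE (pullback.snd _ _) (pullback.fst _ _ ≫ pullback.snd _ _) (by
      rw [← K.π_jB hO, ← reassoc_of% pullback.condition (f := pullback.fst (K.jB hO) K.qq)
        (g := K.π hO), pullback.condition, Category.assoc])
  have hψ : IsIso ψ := by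
    refine ⟨ψ', K.ER_ext ?_ ?_, ?_⟩
    · rw [Category.assoc, liftE_r₀, pullback.lift_snd, Category.id_comp]
    · rw [Category.assoc, liftE_ab, pullback.lift_fst_assoc, Category.assoc, pullback.lift_snd,
        K.r₁_j, Category.id_comp]
    · apply pullback.hom_ext
      · rw [Category.assoc, pullback.lift_fst, Category.id_comp]
        apply pullback.hom_ext
        · rw [Category.assoc, Category.assoc, pullback.lift_fst, K.r₁_π hO, liftE_r₀_assoc,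
            pullback.condition]
        · rw [Category.assoc, Category.assoc, pullback.lift_snd, K.r₁_j, liftE_ab]
      · rw [Category.assoc, pullback.lift_snd, liftE_r₀, Category.id_comp]
  have sq : IsPullback ψ K.r₁ (pullback.fst (pullback.fst (K.jB hO) K.qq) (K.π hO)) φ := by
    refine IsPullback.of_right ?_ (pullback.lift_fst _ _ _) (IsPullback.of_hasPullback _ _).flip
    rw [pullback.lift_snd, pullback.lift_fst]
    exact (isPullback_quotMap hO).flip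
  obtain ⟨hfin, hflat, -⟩ := finLocFree_quotMap hO
  have : IsFinite (K.π hO) := hfin
  have : Flat (K.π hO) := hflat
  have : Surjective (K.π hO) := ⟨surjective_quotMap hO⟩
  exact (MorphismProperty.isomorphisms Scheme).of_isPullback_of_descendsAlong
    (Q := @Surjective ⊓ @Flat ⊓ @QuasiCompact) sq ⟨⟨inferInstance, inferInstance⟩, inferInstance⟩ hψ

/-- Target on `R̄`. -/
noncomputable def tB : quot K.E ⟶ K.B := K.jB hO ≫ pullback.fst K.m K.m

/-- Source on `R̄`. -/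
noncomputable def sB : quot K.E ⟶ K.B := K.jB hO ≫ pullback.snd K.m K.m

@[reassoc] lemma π_tB : K.π hO ≫ K.tB hO = G.t ≫ K.q := by
  rw [tB, reassoc_of% K.π_jB hO, qq_fst, j_fst_assoc]

@[reassoc] lemma π_sB : K.π hO ≫ K.sB hO = G.s ≫ K.q := by
  rw [sB, reassoc_of% K.π_jB hO, qq_snd, j_snd_assoc]

lemma sB_over : K.sB hO ≫ K.m = K.tB hO ≫ K.m := by
  rw [sB, tB, Category.assoc, Category.assoc, pullback.condition]

lemma exists_arrow {T : Scheme.{u}} (α : T ⟶ quot K.E) (a b : T ⟶ G.U)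
    (ha : a ≫ K.q = α ≫ K.tB hO) (hb : b ≫ K.q = α ≫ K.sB hO) :
    ∃ r : T ⟶ G.R, r ≫ K.π hO = α ∧ r ≫ G.t = a ∧ r ≫ G.s = b := by
  have hab : a ≫ G.pU = b ≫ G.pU := by
    rw [← K.q_over, ← Category.assoc, ← Category.assoc, ha, hb, Category.assoc, Category.assoc,
      K.sB_over hO]
  let r := (K.isPullback_π hO).lift α (pullback.lift a b hab) (by
    apply pullback.hom_ext
    · rw [Category.assoc, Category.assoc, qq_fst, pullback.lift_fst_assoc]; exact ha.symm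
    · rw [Category.assoc, Category.assoc, qq_snd, pullback.lift_snd_assoc]; exact hb.symm)
  refine ⟨r, (K.isPullback_π hO).lift_fst _ _ _, ?_, ?_⟩
  · rw [← j_fst, ← Category.assoc, IsPullback.lift_snd, pullback.lift_fst]
  · rw [← j_snd, ← Category.assoc, IsPullback.lift_snd, pullback.lift_snd]

lemma arrow_ext {T : Scheme.{u}} {r r' : T ⟶ G.R} (hπ : r ≫ K.π hO = r' ≫ K.π hO)
    (ht : r ≫ G.t = r' ≫ G.t) (hs : r ≫ G.s = r' ≫ G.s) : r = r' := by
  refine (K.isPullback_π hO).hom_ext hπ (pullback.hom_ext ?_ ?_)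
  · simpa using ht
  · simpa using hs

lemma comp_π_congr {T : Scheme.{u}} (r r' r₂ r₂' : T ⟶ G.R) (h : r ≫ G.s = r' ≫ G.t)
    (h₂ : r₂ ≫ G.s = r₂' ≫ G.t) (e : r₂ ≫ K.π hO = r ≫ K.π hO)
    (e' : r₂' ≫ K.π hO = r' ≫ K.π hO) :
    comp G r₂ r₂' h₂ ≫ K.π hO = comp G r r' h ≫ K.π hO := by
  have a₁ : (r₂ ≫ G.t) ≫ K.q = (r ≫ G.t) ≫ K.q := by
    have := congrArg (· ≫ K.tB hO) e; simpa [π_tB] using this
  have b₁ : (r₂ ≫ G.s) ≫ K.q = (r ≫ G.s) ≫ K.q := by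
    have := congrArg (· ≫ K.sB hO) e; simpa [π_sB] using this
  have c₁ : (r₂' ≫ G.s) ≫ K.q = (r' ≫ G.s) ≫ K.q := by
    have := congrArg (· ≫ K.sB hO) e'; simpa [π_sB] using this
  have b₂ : (r₂ ≫ G.s) ≫ K.q = (r' ≫ G.t) ≫ K.q := by rw [b₁, h]
  have e₁ : r₂ = K.tr r (r₂ ≫ G.t) (r₂ ≫ G.s) a₁ b₁ :=
    K.arrow_ext hO (by rw [K.tr_π hO, e]) (by simp) (by simp)
  have e₂ : r₂' = K.tr r' (r₂ ≫ G.s) (r₂' ≫ G.s) b₂ c₁ :=
    K.arrow_ext hO (by rw [K.tr_π hO, e']) (by simp [h₂]) (by simp)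
  rw [comp_congr G h₂ (by simp) e₁ e₂, K.tr_comp r r' _ _ _ a₁ b₁ b₂ c₁ h, K.tr_π hO]

lemma exists_lifts {T : Scheme.{u}} (α β : T ⟶ quot K.E)
    (h : α ≫ K.sB hO = β ≫ K.tB hO) :
    ∃ (T' : Scheme.{u}) (k : T' ⟶ T) (r r' : T' ⟶ G.R), IsFpqcCov k ∧
      r ≫ K.π hO = k ≫ α ∧ r' ≫ K.π hO = k ≫ β ∧ r ≫ G.s = r' ≫ G.t := by
  obtain ⟨T₁, k₁, a, hk₁, ha⟩ := K.exists_lift (α ≫ K.tB hO)
  obtain ⟨T₂, k₂, b, hk₂, hb⟩ := K.exists_lift (k₁ ≫ α ≫ K.sB hO)
  obtain ⟨T₃, k₃, c, hk₃, hc⟩ := K.exists_lift (k₂ ≫ k₁ ≫ β ≫ K.sB hO)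
  let k := k₃ ≫ k₂ ≫ k₁
  obtain ⟨r, hr, -, hrs⟩ := K.exists_arrow hO (k ≫ α) (k₃ ≫ k₂ ≫ a) (k₃ ≫ b)
    (by simp [k, ha]) (by simp [k, hb])
  obtain ⟨r', hr', hr't, -⟩ := K.exists_arrow hO (k ≫ β) (k₃ ≫ b) c
    (by simp [k, hb, h]) (by simp [k, hc])
  exact ⟨T₃, k, r, r', hk₃.comp (hk₂.comp hk₁), hr, hr', hrs.trans hr't.symm⟩

lemma exists_cB : ∃ c : pullback (K.sB hO) (K.tB hO) ⟶ quot K.E,
    ∀ {T : Scheme.{u}} (r r' : T ⟶ G.R) (h : r ≫ G.s = r' ≫ G.t)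
      (h' : (r ≫ K.π hO) ≫ K.sB hO = (r' ≫ K.π hO) ≫ K.tB hO),
      pullback.lift (r ≫ K.π hO) (r' ≫ K.π hO) h' ≫ c = comp G r r' h ≫ K.π hO := by
  obtain ⟨T₀, k, r₀, r₀', hk, hr₀, hr₀', h₀⟩ := K.exists_lifts hO
    (pullback.fst (K.sB hO) (K.tB hO)) (pullback.snd (K.sB hO) (K.tB hO)) pullback.condition
  have hnat : ∀ {W : Scheme.{u}} (g : W ⟶ T₀),
      (g ≫ r₀) ≫ G.s = (g ≫ r₀') ≫ G.t := fun g => by simp [h₀]
  obtain ⟨c, hc⟩ := hk.exists_desc (comp G r₀ r₀' h₀ ≫ K.π hO) fun g₁ g₂ hg => by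
    rw [← Category.assoc, ← Category.assoc, naturality, naturality]
    exact K.comp_π_congr hO _ _ _ _ (hnat g₂) (hnat g₁)
      (by rw [Category.assoc, Category.assoc, hr₀, reassoc_of% hg])
      (by rw [Category.assoc, Category.assoc, hr₀', reassoc_of% hg])
  refine ⟨c, fun {T} r r' h h' => ?_⟩
  set f := pullback.lift (r ≫ K.π hO) (r' ≫ K.π hO) h' with hf
  refine (hk.fst f).hom_ext ?_
  rw [reassoc_of% pullback.condition (f := f) (g := k), hc, ← Category.assoc, ← Category.assoc,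
    naturality, naturality]
  refine K.comp_π_congr hO _ _ _ _ _ _ ?_ ?_
  · rw [Category.assoc, Category.assoc, hr₀, ← reassoc_of% pullback.condition (f := f) (g := k),
      pullback.lift_fst]
  · rw [Category.assoc, Category.assoc, hr₀', ← reassoc_of% pullback.condition (f := f) (g := k),
      pullback.lift_snd]

/-- Composition on `R̄`. -/
noncomputable def cB : pullback (K.sB hO) (K.tB hO) ⟶ quot K.E := (K.exists_cB hO).choose

lemma lift_cB {T : Scheme.{u}} (r r' : T ⟶ G.R) (h : r ≫ G.s = r' ≫ G.t) {α β : T ⟶ quot K.E}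
    (hα : r ≫ K.π hO = α) (hβ : r' ≫ K.π hO = β) (h' : α ≫ K.sB hO = β ≫ K.tB hO) :
    pullback.lift α β h' ≫ K.cB hO = comp G r r' h ≫ K.π hO := by
  subst hα hβ
  exact (K.exists_cB hO).choose_spec r r' h h'

lemma exists_eB : ∃ e : K.B ⟶ quot K.E, K.q ≫ e = G.e ≫ K.π hO :=
  K.cov_q.exists_desc _ fun g₁ g₂ hg => by
    rw [← Category.assoc, ← Category.assoc, ← K.tr_e g₂ g₁ hg, K.tr_π hO]

/-- Identity on `R̄`. -/
noncomputable def eB : K.B ⟶ quot K.E := (K.exists_eB hO).choose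

@[reassoc] lemma q_eB : K.q ≫ K.eB hO = G.e ≫ K.π hO := (K.exists_eB hO).choose_spec

lemma r₁_i_π : K.r₁ ≫ G.i ≫ K.π hO = K.r₀ ≫ G.i ≫ K.π hO := by
  rw [← Category.assoc, r₁, ← K.tr_i, K.tr_π hO, Category.assoc]

/-- Inverse on `R̄`. -/
noncomputable def iB : quot K.E ⟶ quot K.E :=
  (isColimitQuot hO).desc (Cofork.ofπ (G.i ≫ K.π hO) (K.r₁_i_π hO))

@[reassoc] lemma π_iB : K.π hO ≫ K.iB hO = G.i ≫ K.π hO :=
  (isColimitQuot hO).fac _ WalkingParallelPair.one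

lemma π_hom_ext {Z : Scheme.{u}} {f g : quot K.E ⟶ Z} (h : K.π hO ≫ f = K.π hO ≫ g) : f = g :=
  Cofork.IsColimit.hom_ext (isColimitQuot hO) h

lemma exists_lift₁ {T : Scheme.{u}} (α : T ⟶ quot K.E) :
    ∃ (T' : Scheme.{u}) (k : T' ⟶ T) (r : T' ⟶ G.R), IsFpqcCov k ∧ r ≫ K.π hO = k ≫ α := by
  obtain ⟨T₁, k₁, a, hk₁, ha⟩ := K.exists_lift (α ≫ K.tB hO)
  obtain ⟨T₂, k₂, b, hk₂, hb⟩ := K.exists_lift (k₁ ≫ α ≫ K.sB hO)
  obtain ⟨r, hr, -, -⟩ := K.exists_arrow hO ((k₂ ≫ k₁) ≫ α) (k₂ ≫ a) b (by simp [ha]) (by simp [hb])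
  exact ⟨T₂, k₂ ≫ k₁, r, hk₂.comp hk₁, hr⟩

/-- The descended groupoid. -/
noncomputable def bar : Grpd.GroupoidScheme S where
  U := K.B
  R := quot K.E
  pU := K.m
  pR := K.tB hO ≫ K.m
  s := K.sB hO
  t := K.tB hO
  e := K.eB hO
  i := K.iB hO
  c := K.cB hO
  s_over := K.sB_over hO
  t_over := rfl
  comp_s := fun {T} α β h => by
    obtain ⟨T', k, r, r', hk, hr, hr', h'⟩ := K.exists_lifts hO α β h
    refine hk.hom_ext ?_
    rw [← Category.assoc, ← Category.assoc, comp_pullbackLift, K.lift_cB hO r r' h' hr hr',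
      Category.assoc, π_sB, ← Category.assoc, comp_s, ← Category.assoc, ← hr']
    simp [π_sB]
  comp_t := fun {T} α β h => by
    obtain ⟨T', k, r, r', hk, hr, hr', h'⟩ := K.exists_lifts hO α β h
    refine hk.hom_ext ?_
    rw [← Category.assoc, ← Category.assoc, comp_pullbackLift, K.lift_cB hO r r' h' hr hr',
      Category.assoc, π_tB, ← Category.assoc, comp_t, ← Category.assoc, ← hr]
    simp [π_tB]
  assoc := fun {T} α β γ h₁ h₂ => by
    obtain ⟨T₁, k₁, r₁, r₂, hk₁, hr₁, hr₂, h₁'⟩ := K.exists_lifts hO α β h₁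
    obtain ⟨T₂, k₂, d, hk₂, hd⟩ := K.exists_lift (k₁ ≫ γ ≫ K.sB hO)
    obtain ⟨r₃, hr₃, hr₃t, -⟩ := K.exists_arrow hO (k₂ ≫ k₁ ≫ γ) (k₂ ≫ r₂ ≫ G.s) d
      (by simp only [Category.assoc]; rw [← h₂, ← π_sB K hO, reassoc_of% hr₂]) (by simp [hd])
    have g₁ : (k₂ ≫ r₁) ≫ G.s = (k₂ ≫ r₂) ≫ G.t := by simp [h₁']
    have g₂ : (k₂ ≫ r₂) ≫ G.s = r₃ ≫ G.t := by simp [hr₃t]
    have e₁ : (k₂ ≫ r₁) ≫ K.π hO = (k₂ ≫ k₁) ≫ α := by simp [hr₁]
    have e₂ : (k₂ ≫ r₂) ≫ K.π hO = (k₂ ≫ k₁) ≫ β := by simp [hr₂]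
    have e₃ : r₃ ≫ K.π hO = (k₂ ≫ k₁) ≫ γ := by simp [hr₃]
    refine (hk₂.comp hk₁).hom_ext ?_
    rw [← Category.assoc, ← Category.assoc, comp_pullbackLift, comp_pullbackLift,
      K.lift_cB hO (comp G _ _ g₁) r₃ ((comp_s G _ _ _).trans g₂) ?_ e₃,
      K.lift_cB hO (k₂ ≫ r₁) (comp G _ _ g₂) (g₁.trans (comp_t G _ _ _).symm) e₁ ?_, comp_assoc]
    · rw [← Category.assoc, comp_pullbackLift, K.lift_cB hO _ _ g₂ e₂ e₃]
    · rw [← Category.assoc, comp_pullbackLift, K.lift_cB hO _ _ g₁ e₁ e₂]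
  e_s := K.cov_q.hom_ext (by rw [q_eB_assoc, π_sB, reassoc_of% G.e_s, Category.comp_id])
  e_t := K.cov_q.hom_ext (by rw [q_eB_assoc, π_tB, reassoc_of% G.e_t, Category.comp_id])
  comp_e := fun {T} α => by
    obtain ⟨T', k, r, hk, hr⟩ := K.exists_lift₁ hO α
    refine hk.hom_ext ?_
    rw [← Category.assoc, comp_pullbackLift, K.lift_cB hO r ((r ≫ G.s) ≫ G.e) (by simp) hr
      (by rw [Category.assoc, ← q_eB, Category.assoc, ← reassoc_of% hr, π_sB_assoc]),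
      comp_e, hr]
  e_comp := fun {T} α => by
    obtain ⟨T', k, r, hk, hr⟩ := K.exists_lift₁ hO α
    refine hk.hom_ext ?_
    rw [← Category.assoc, comp_pullbackLift, K.lift_cB hO ((r ≫ G.t) ≫ G.e) r (by simp)
      (by rw [Category.assoc, ← q_eB, Category.assoc, ← reassoc_of% hr, π_tB_assoc]) hr,
      e_comp, hr]
  i_s := K.π_hom_ext hO (by rw [π_iB_assoc, π_sB, π_tB, reassoc_of% G.i_s])
  i_t := K.π_hom_ext hO (by rw [π_iB_assoc, π_sB, π_tB, reassoc_of% G.i_t])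
  comp_i := fun {T} α => by
    obtain ⟨T', k, r, hk, hr⟩ := K.exists_lift₁ hO α
    refine hk.hom_ext ?_
    rw [← Category.assoc, comp_pullbackLift, K.lift_cB hO r (r ≫ G.i) (by simp) hr
      (by rw [Category.assoc, ← π_iB, reassoc_of% hr]),
      comp_i, Category.assoc, ← q_eB, ← reassoc_of% hr, π_tB_assoc, Category.assoc]
  i_comp := fun {T} α => by
    obtain ⟨T', k, r, hk, hr⟩ := K.exists_lift₁ hO α
    refine hk.hom_ext ?_
    rw [← Category.assoc, comp_pullbackLift, K.lift_cB hO (r ≫ G.i) r (by simp)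
      (by rw [Category.assoc, ← π_iB, reassoc_of% hr]) hr,
      i_comp, Category.assoc, ← q_eB, ← reassoc_of% hr, π_sB_assoc, Category.assoc]

/-- The map to the descended groupoid. -/
noncomputable def toBar : Grpd.GroupoidScheme.Hom G (K.bar hO) where
  fU := K.q
  fR := K.π hO
  fU_over := K.q_over
  comm_s := K.π_sB hO
  comm_t := K.π_tB hO
  comm_c := fun {T} α β h => (K.lift_cB hO α β h rfl rfl _).symm

lemma isPullback_toBar : IsPullback (K.toBar hO).fR G.j (K.bar hO).j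
    (pullback.map G.pU G.pU (K.bar hO).pU (K.bar hO).pU (K.toBar hO).fU (K.toBar hO).fU (𝟙 S)
      ((Category.comp_id _).trans K.q_over.symm) ((Category.comp_id _).trans K.q_over.symm)) := by
  have h : (K.bar hO).j = K.jB hO := by
    apply pullback.hom_ext
    · exact pullback.lift_fst _ _ _
    · exact pullback.lift_snd _ _ _
  rw [h]
  exact K.isPullback_π hO

end KerData

end Groth.Agent.GrpdLib
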