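import Groth.Agent.GrpdLib.RestrictMono
import Groth.Agent.GrpdLib.Descend
import Groth.Agent.FDesc.Stalk

/-!
# Quotient of a groupoid with a quasi-section
-/

universe u

set_option maxHeartbeats 400000

open CategoryTheory CategoryTheory.Limits AlgebraicGeometry

namespace Groth.Agent.GrpdLib

/-- Flatness descends along a flat surjective map in front. -/
lemma flat_of_comp_flat_surjective {X Y Z : Scheme.{u}} (f : X ⟶ Y) (g : Y ⟶ Z) [Flat f]
    [Surjective f] [Flat (f ≫ g)] : Flat g := by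
  refine Flat.of_stalkMap g fun y => ?_
  obtain ⟨x, rfl⟩ := f.surjective y
  let : Algebra (Z.presheaf.stalk (g (f x))) (Y.presheaf.stalk (f x)) := (g.stalkMap (f x)).hom.toAlgebra
  let : Algebra (Y.presheaf.stalk (f x)) (X.presheaf.stalk x) := (f.stalkMap x).hom.toAlgebra
  let : Algebra (Z.presheaf.stalk (g (f x))) (X.presheaf.stalk x) :=
    (g.stalkMap (f x) ≫ f.stalkMap x).hom.toAlgebra
  have : IsScalarTower (Z.presheaf.stalk (g (f x))) (Y.presheaf.stalk (f x)) (X.presheaf.stalk x) :=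
    IsScalarTower.of_algebraMap_eq' rfl
  have : Module.FaithfullyFlat (Y.presheaf.stalk (f x)) (X.presheaf.stalk x) :=
    FDesc.Stalk.faithfullyFlat_stalkMap f x (Flat.stalkMap f x)
  have hC : (g.stalkMap (f x) ≫ f.stalkMap x).hom.Flat := by
    rw [← Scheme.Hom.stalkMap_comp]; exact Flat.stalkMap _ x
  have : Module.Flat (Z.presheaf.stalk (g (f x))) (X.presheaf.stalk x) := hC
  exact FDesc.Algebra.flat_of_comp_faithfullyFlat (C := X.presheaf.stalk x)

variable {S : Scheme.{u}} (G : Grpd.GroupoidScheme S) {U' : Scheme.{u}} (u : U' ⟶ G.U)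

/-- `σ : V → U`, the source. -/
noncomputable def sV : pullback G.t u ⟶ G.U := pullback.fst G.t u ≫ G.s

/-- `(σ, u)`-data: `V → U` is a finite locally free surjection and orbits in `U'` lie in affines. -/
structure IsQuasiSection : Prop where
  mono : Mono u
  fin : IsFinite (sV G u)
  flat : Flat (sV G u)
  lfp : LocallyOfFinitePresentation (sV G u)
  surj : Surjective (sV G u)
  aff : ∀ E : Set U', (∀ x ∈ E, ∀ y ∈ E, ∃ r : G.R, G.t r = u x ∧ G.s r = u y) →
    ∃ W : U'.Opens, IsAffineOpen W ∧ E ⊆ (W : Set U')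

variable {G u} (h : IsQuasiSection G u)
include h

namespace IsQuasiSection

/-- The restricted groupoid. -/
noncomputable def G' : Grpd.GroupoidScheme S := @restrictMono _ G _ u h.mono

lemma finite_s' : IsFinite h.G'.s ∧ Flat h.G'.s ∧ LocallyOfFinitePresentation h.G'.s := by
  have : IsFinite (pullback.fst G.t u ≫ G.s) := h.fin
  have : Flat (pullback.fst G.t u ≫ G.s) := h.flat
  have : LocallyOfFinitePresentation (pullback.fst G.t u ≫ G.s) := h.lfp
  exact ⟨inferInstanceAs (IsFinite (pullback.snd (pullback.fst G.t u ≫ G.s) u)),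
    inferInstanceAs (Flat (pullback.snd (pullback.fst G.t u ≫ G.s) u)),
    inferInstanceAs (LocallyOfFinitePresentation (pullback.snd (pullback.fst G.t u ≫ G.s) u))⟩

instance instFin : IsFinite h.G'.s := h.finite_s'.1

instance instFlat : Flat h.G'.s := h.finite_s'.2.1

instance instLfp : LocallyOfFinitePresentation h.G'.s := h.finite_s'.2.2

lemma orbitsInAffines : @OrbitsInAffines S h.G' := by
  intro x
  obtain ⟨W, hW, hE⟩ := h.aff (h.G'.t '' (h.G'.s ⁻¹' {x})) (by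
    rintro _ ⟨r₁, hr₁, rfl⟩ _ ⟨r₂, hr₂, rfl⟩
    have hι : ∀ r : rmR G u, G.t (rmι G u r) = u (rmT G u r) ∧ G.s (rmι G u r) = u (rmS G u r) := fun r =>
      ⟨by rw [← Scheme.Hom.comp_apply, rmι_t, Scheme.Hom.comp_apply],
        by rw [← Scheme.Hom.comp_apply, rmι_s, Scheme.Hom.comp_apply]⟩
    have e₁ : Rel G (u (rmT G u r₁)) (u x) := ⟨_, (hι r₁).1, (hι r₁).2.trans (congrArg u hr₁)⟩
    have e₂ : Rel G (u (rmT G u r₂)) (u x) := ⟨_, (hι r₂).1, (hι r₂).2.trans (congrArg u hr₂)⟩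
    exact (rel_equivalence G).trans e₁ ((rel_equivalence G).symm e₂))
  exact ⟨W, hW, fun r hr => hE ⟨r, hr, rfl⟩⟩

/-- The quotient. -/
noncomputable def Y : Scheme.{u} := quot h.G'

/-- `U' → Y`. -/
noncomputable def p' : U' ⟶ h.Y := quotMap h.orbitsInAffines

lemma p'_condition : rmT G u ≫ h.p' = rmS G u ≫ h.p' := quotMap_condition h.orbitsInAffines

lemma cov_sV : IsFpqcCov (sV G u) := by
  have := h.fin
  exact ⟨h.flat, h.surj, inferInstance⟩

lemma key {W : Scheme.{u}} (r : W ⟶ G.R) (g₁ g₂ : W ⟶ pullback G.t u)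
    (h₁ : g₁ ≫ sV G u = r ≫ G.t) (h₂ : g₂ ≫ sV G u = r ≫ G.s) :
    g₁ ≫ pullback.snd G.t u ≫ h.p' = g₂ ≫ pullback.snd G.t u ≫ h.p' := by
  have e₁ : (g₁ ≫ pullback.fst G.t u) ≫ G.s = r ≫ G.t := by simpa [sV] using h₁
  have e₂ : r ≫ G.s = ((g₂ ≫ pullback.fst G.t u) ≫ G.i) ≫ G.t := by
    rw [Category.assoc _ G.i, G.i_t, ← h₂]; simp [sV]
  let r' : W ⟶ rmR G u := rmLift G u
    (comp G (comp G (g₁ ≫ pullback.fst G.t u) r e₁) ((g₂ ≫ pullback.fst G.t u) ≫ G.i)
      ((comp_s G _ _ _).trans e₂))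
    (g₁ ≫ pullback.snd G.t u) (g₂ ≫ pullback.snd G.t u)
    (by rw [comp_t, comp_t]; simp [pullback.condition])
    (by rw [comp_s]; simp [pullback.condition])
  have := congrArg (r' ≫ ·) h.p'_condition
  simpa [r'] using this

lemma exists_p : ∃ p : G.U ⟶ h.Y, sV G u ≫ p = pullback.snd G.t u ≫ h.p' :=
  h.cov_sV.exists_desc _ fun g₁ g₂ hg =>
    h.key ((g₁ ≫ sV G u) ≫ G.e) g₁ g₂ (by simp) (by simp [hg])

/-- `U → Y`. -/
noncomputable def p : G.U ⟶ h.Y := h.exists_p.choose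

@[reassoc] lemma sV_p : sV G u ≫ h.p = pullback.snd G.t u ≫ h.p' := h.exists_p.choose_spec

lemma u_p : u ≫ h.p = h.p' := by
  let e' : U' ⟶ pullback G.t u := pullback.lift (u ≫ G.e) (𝟙 U') (by simp)
  have := congrArg (e' ≫ ·) h.sV_p
  simpa [e', sV, pullback.lift_fst_assoc, pullback.lift_snd_assoc] using this

lemma exists_lifts₂ {T : Scheme.{u}} (a b : T ⟶ G.U) :
    ∃ (T' : Scheme.{u}) (k : T' ⟶ T) (g₁ g₂ : T' ⟶ pullback G.t u), IsFpqcCov k ∧
      g₁ ≫ sV G u = k ≫ a ∧ g₂ ≫ sV G u = k ≫ b := by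
  refine ⟨pullback (pullback.fst a (sV G u) ≫ b) (sV G u), pullback.fst _ _ ≫ pullback.fst _ _,
    pullback.fst _ _ ≫ pullback.snd _ _, pullback.snd _ _,
    (h.cov_sV.fst _).comp (h.cov_sV.fst a), ?_, ?_⟩
  · rw [Category.assoc, Category.assoc, ← pullback.condition]
  · rw [← pullback.condition, Category.assoc]

lemma p_condition : G.t ≫ h.p = G.s ≫ h.p := by
  obtain ⟨T', k, g₁, g₂, hk, e₁, e₂⟩ := h.exists_lifts₂ G.t G.s
  refine hk.hom_ext ?_
  rw [← reassoc_of% e₁, ← reassoc_of% e₂, h.sV_p]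
  exact h.key k g₁ g₂ e₁ e₂

/-- `U → Y` is a coequalizer. -/
noncomputable def isColimit : IsColimit (Cofork.ofπ h.p h.p_condition) := by
  refine Cofork.IsColimit.mk' _ fun c => ?_
  have hc' : rmT G u ≫ u ≫ c.π = rmS G u ≫ u ≫ c.π := by
    rw [← reassoc_of% rmι_t G u, ← reassoc_of% rmι_s G u]
    exact congrArg (rmι G u ≫ ·) c.condition
  refine ⟨(isColimitQuot h.orbitsInAffines).desc (Cofork.ofπ (f := h.G'.t) (g := h.G'.s) (u ≫ c.π) hc'),
    ?_, fun {m} hm => ?_⟩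
  · refine h.cov_sV.hom_ext ?_
    refine (h.sV_p_assoc _).trans ?_
    have := (isColimitQuot h.orbitsInAffines).fac (Cofork.ofπ (f := h.G'.t) (g := h.G'.s) (u ≫ c.π) hc')
      WalkingParallelPair.one
    refine (congrArg (pullback.snd G.t u ≫ ·) this).trans ?_
    show pullback.snd G.t u ≫ u ≫ c.π = sV G u ≫ c.π
    rw [← pullback.condition_assoc, c.condition, sV, Category.assoc]
  · apply Cofork.IsColimit.hom_ext (isColimitQuot h.orbitsInAffines)
    refine Eq.trans ?_ ((isColimitQuot h.orbitsInAffines).fac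
      (Cofork.ofπ (f := h.G'.t) (g := h.G'.s) (u ≫ c.π) hc') WalkingParallelPair.one).symm
    show h.p' ≫ m = u ≫ c.π
    rw [← h.u_p, Category.assoc]
    exact congrArg (u ≫ ·) hm

omit h in
lemma exists_conj {W : Scheme.{u}} (g₁ g₂ : W ⟶ pullback G.t u) (z : W ⟶ rmR G u)
    (hT : z ≫ rmT G u = g₁ ≫ pullback.snd G.t u) (hS : z ≫ rmS G u = g₂ ≫ pullback.snd G.t u) :
    ∃ A : W ⟶ G.R, A ≫ G.t = g₁ ≫ sV G u ∧ A ≫ G.s = g₂ ≫ sV G u := by
  have e₁ : ((g₁ ≫ pullback.fst G.t u) ≫ G.i) ≫ G.s = (z ≫ rmι G u) ≫ G.t := by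
    simp only [Category.assoc, G.i_s, pullback.condition, rmι_t, reassoc_of% hT]
  have e₂ : (z ≫ rmι G u) ≫ G.s = (g₂ ≫ pullback.fst G.t u) ≫ G.t := by
    simp only [Category.assoc, pullback.condition, rmι_s, reassoc_of% hS]
  refine ⟨comp G (comp G _ _ e₁) (g₂ ≫ pullback.fst G.t u) ((comp_s G _ _ _).trans e₂), ?_, ?_⟩
  · simp [sV]
  · simp [sV]

lemma surjective_p' : Surjective h.p' := ⟨surjective_quotMap h.orbitsInAffines⟩

lemma surjective_p : Surjective h.p := by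
  refine ⟨fun y => ?_⟩
  obtain ⟨x, rfl⟩ := h.surjective_p'.surj y
  exact ⟨u x, by rw [← Scheme.Hom.comp_apply, h.u_p]⟩

lemma isOpenMap_p [IsImmersion u] (ht : IsOpenMap G.t) : IsOpenMap h.p := by
  intro O hO
  have hx : IsOpenMap (pullback.snd G.t u) := by
    intro W hW
    obtain ⟨W', hW', rfl⟩ :=
      (pullback.fst G.t u).isEmbedding.isInducing.isOpen_iff.mp hW
    rw [show pullback.snd G.t u '' (pullback.fst G.t u ⁻¹' W') = u ⁻¹' (G.t '' W') from ?_]
    · exact (ht W' hW').preimage u.continuous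
    ext z
    constructor
    · rintro ⟨v, hv, rfl⟩
      exact ⟨_, hv, by rw [← Scheme.Hom.comp_apply, pullback.condition, Scheme.Hom.comp_apply]⟩
    · rintro ⟨r, hr, hrz⟩
      obtain ⟨v, hv₁, hv₂⟩ := Scheme.Pullback.exists_preimage_pullback r z hrz
      exact ⟨v, by simpa [hv₁] using hr, hv₂⟩
  rw [show h.p '' O = h.p' '' (pullback.snd G.t u '' (sV G u ⁻¹' O)) from ?_]
  · exact isOpenMap_quotMap h.orbitsInAffines _ (hx _ (hO.preimage (sV G u).continuous))
  ext y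
  constructor
  · rintro ⟨x, hxO, rfl⟩
    obtain ⟨v, rfl⟩ := h.surj.surj x
    exact ⟨_, ⟨v, hxO, rfl⟩, by rw [← Scheme.Hom.comp_apply, ← h.sV_p, Scheme.Hom.comp_apply]⟩
  · rintro ⟨_, ⟨v, hv, rfl⟩, rfl⟩
    exact ⟨sV G u v, hv, by rw [← Scheme.Hom.comp_apply, h.sV_p, Scheme.Hom.comp_apply]⟩

lemma universallyClosed_p [UniversallyClosed G.t] : UniversallyClosed h.p := by
  have := h.surj
  have : IsIntegralHom h.p' := isIntegralHom_quotMap h.orbitsInAffines
  have : UniversallyClosed (sV G u ≫ h.p) := by rw [h.sV_p]; infer_instance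
  exact UniversallyClosed.of_comp_surjective (sV G u) h.p

lemma flat_p [Mono G.j] [Flat G.t] : Flat h.p := by
  have := h.surj; have := h.flat; have := h.mono
  have : Mono h.G'.j := restrictMono_mono_j G u
  have : Flat h.p' := (finLocFree_quotMap h.orbitsInAffines).2.1
  have : Flat (sV G u ≫ h.p) := by rw [h.sV_p]; infer_instance
  exact flat_of_comp_flat_surjective (sV G u) h.p

lemma surjective_lift_p :
    Function.Surjective (pullback.lift G.t G.s h.p_condition) := by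
  intro z
  let σσ : pullback (sV G u ≫ h.p) (sV G u ≫ h.p) ⟶ pullback h.p h.p :=
    pullback.map _ _ _ _ (sV G u) (sV G u) (𝟙 _) (by simp) (by simp)
  obtain ⟨w, rfl⟩ : z ∈ Set.range σσ := by
    rw [Scheme.Pullback.range_map]
    exact ⟨h.surj.surj _, h.surj.surj _⟩
  let ρ : pullback (sV G u ≫ h.p) (sV G u ≫ h.p) ⟶ pullback h.p' h.p' :=
    pullback.lift (pullback.fst _ _ ≫ pullback.snd G.t u) (pullback.snd _ _ ≫ pullback.snd G.t u)
      (by rw [Category.assoc, Category.assoc, ← h.sV_p, pullback.condition])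
  obtain ⟨r', hr'⟩ := surjective_lift h.orbitsInAffines (ρ w)
  let l : rmR G u ⟶ pullback h.p' h.p' := pullback.lift (rmT G u) (rmS G u) h.p'_condition
  obtain ⟨q, hq₁, hq₂⟩ := Scheme.Pullback.exists_preimage_pullback (f := l) (g := ρ) r' w hr'
  let g₁ : pullback l ρ ⟶ pullback G.t u := pullback.snd l ρ ≫ pullback.fst _ _
  let g₂ : pullback l ρ ⟶ pullback G.t u := pullback.snd l ρ ≫ pullback.snd _ _
  have hT : pullback.fst l ρ ≫ rmT G u = g₁ ≫ pullback.snd G.t u := by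
    have := congrArg (· ≫ pullback.fst h.p' h.p') (pullback.condition (f := l) (g := ρ))
    simpa [l, ρ, g₁, pullback.lift_fst] using this
  have hS : pullback.fst l ρ ≫ rmS G u = g₂ ≫ pullback.snd G.t u := by
    have := congrArg (· ≫ pullback.snd h.p' h.p') (pullback.condition (f := l) (g := ρ))
    simpa [l, ρ, g₂, pullback.lift_snd] using this
  obtain ⟨A, hAt, hAs⟩ := exists_conj g₁ g₂ (pullback.fst l ρ) hT hS
  have hA : A ≫ pullback.lift G.t G.s h.p_condition = pullback.snd l ρ ≫ σσ := by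
    apply pullback.hom_ext
    · simp only [σσ, g₁, Category.assoc, pullback.lift_fst, hAt]
    · simp only [σσ, g₂, Category.assoc, pullback.lift_snd, hAs]
  refine ⟨A q, ?_⟩
  rw [← Scheme.Hom.comp_apply, hA, Scheme.Hom.comp_apply, hq₂]

lemma isPullback_p [Mono G.j] : IsPullback G.t G.s h.p h.p := by
  have := h.mono
  have : Mono h.G'.j := restrictMono_mono_j G u
  have hext : ∀ {T : Scheme.{u}} {r r' : T ⟶ G.R}, r ≫ G.t = r' ≫ G.t → r ≫ G.s = r' ≫ G.s →
      r = r' := by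
    intro T r r' ht hs
    rw [← cancel_mono G.j]
    apply pullback.hom_ext
    · simpa using ht
    · simpa using hs
  have hex : ∀ {T : Scheme.{u}} (a b : T ⟶ G.U), a ≫ h.p = b ≫ h.p →
      ∃ r : T ⟶ G.R, r ≫ G.t = a ∧ r ≫ G.s = b := by
    intro T a b hab
    obtain ⟨T', k, g₁, g₂, hk, hg₁, hg₂⟩ := h.exists_lifts₂ a b
    have hp : (g₁ ≫ pullback.snd G.t u) ≫ h.p' = (g₂ ≫ pullback.snd G.t u) ≫ h.p' := by
      rw [Category.assoc, Category.assoc, ← h.sV_p, reassoc_of% hg₁, reassoc_of% hg₂, hab]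
    obtain ⟨r', ⟨hr't, hr's⟩, -⟩ := existsUnique_arrow (G := h.G') h.orbitsInAffines
      (g₁ ≫ pullback.snd G.t u) (g₂ ≫ pullback.snd G.t u) hp
    replace hr't : (r' : T' ⟶ rmR G u) ≫ rmT G u = g₁ ≫ pullback.snd G.t u := hr't
    replace hr's : (r' : T' ⟶ rmR G u) ≫ rmS G u = g₂ ≫ pullback.snd G.t u := hr's
    obtain ⟨A, hAt, hAs⟩ := exists_conj g₁ g₂ r' hr't hr's
    rw [hg₁] at hAt
    rw [hg₂] at hAs
    obtain ⟨r, hr⟩ := hk.exists_desc A fun q₁ q₂ hq =>
      hext (by simp only [Category.assoc, hAt, reassoc_of% hq])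
        (by simp only [Category.assoc, hAs, reassoc_of% hq])
    exact ⟨r, hk.hom_ext (by rw [reassoc_of% hr, hAt]), hk.hom_ext (by rw [reassoc_of% hr, hAs])⟩
  refine ⟨⟨h.p_condition⟩, ⟨PullbackCone.isLimitAux' _ fun c => ?_⟩⟩
  refine ⟨(hex c.fst c.snd c.condition).choose, (hex c.fst c.snd c.condition).choose_spec.1,
    (hex c.fst c.snd c.condition).choose_spec.2, fun {m} h₁ h₂ => ?_⟩
  exact hext (h₁.trans (hex c.fst c.snd c.condition).choose_spec.1.symm)
    (h₂.trans (hex c.fst c.snd c.condition).choose_spec.2.symm)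

end IsQuasiSection

end Groth.Agent.GrpdLib
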