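import Groth.Prelude.Def_VecGrp
import Groth.Agent.GrpScheme.QuasiAffine
import Groth.Agent.GrpdLib.GrpOver
import Mathlib.RingTheory.Filtration
import Mathlib.Topology.NoetherianSpace

/-!
# Rigidity for schemes with only constant functions

If `X` is quasi-compact, quasi-separated with `Γ(X) = K` and has a rational point `x₀`, a morphism
`f : X ⊗ Y ⟶ Z` to a separated scheme which does not depend on `X` over one point of a connected
Noetherian (or integral, locally Noetherian) `Y` does not depend on `X`.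
-/

set_option autoImplicit false
universe u

open CategoryTheory MonoidalCategory CartesianMonoidalCategory MonObj GrpObj AlgebraicGeometry Limits
open scoped TensorProduct

noncomputable section

namespace Groth.Agent.GrpdLib.AntiAffineRigid

variable {K : Type u} [Field K]

/-- Morphisms are determined by points with values in algebras. -/
lemma hom_ext_affine {A Z : Over (Spec (CommRingCat.of K))} {a b : A ⟶ Z}
    (h : ∀ (C : Type u) [CommRing C] [Algebra K C] (q : VecGrp.pt K C ⟶ A), q ≫ a = q ≫ b) : a = b := by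
  refine Over.OverMorphism.ext (A.left.affineOpenCover.openCover.hom_ext _ _ fun i => ?_)
  obtain ⟨ψ, hψ⟩ := Spec.map_surjective (A.left.affineOpenCover.f i ≫ A.hom)
  let _ : Algebra K (A.left.affineOpenCover.X i) := ψ.hom.toAlgebra
  let q : VecGrp.pt K (A.left.affineOpenCover.X i) ⟶ A := Over.homMk (A.left.affineOpenCover.f i) hψ.symm
  exact congrArg Over.Hom.left (h _ q)

lemma exists_ptMap {C R : Type u} [CommRing C] [Algebra K C] [CommRing R] [Algebra K R]
    (r : VecGrp.pt K C ⟶ VecGrp.pt K R) : ∃ ψ : R →ₐ[K] C, VecGrp.ptMap ψ = r := by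
  obtain ⟨φ, hφ⟩ := Spec.map_surjective r.left
  have hw : Spec.map φ ≫ Spec.map (CommRingCat.ofHom (algebraMap K R)) =
      Spec.map (CommRingCat.ofHom (algebraMap K C)) := by
    rw [hφ]
    exact Over.w r
  rw [← Spec.map_comp] at hw
  have hc := congrArg CommRingCat.Hom.hom (Spec.map_injective hw)
  exact ⟨{ φ.hom with commutes' := fun x => RingHom.congr_fun hc x }, Over.OverMorphism.ext hφ⟩

lemma ptMap_comp_ptMap {A B C : Type u} [CommRing A] [Algebra K A] [CommRing B] [Algebra K B] [CommRing C]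
    [Algebra K C] (φ : A →ₐ[K] B) (ψ : B →ₐ[K] C) :
    VecGrp.ptMap ψ ≫ VecGrp.ptMap φ = VecGrp.ptMap (ψ.comp φ) :=
  Over.OverMorphism.ext (LieS.specMap_comp _ _)

/-- Morphisms to a separated scheme agreeing on a jointly injective family agree. -/
lemma hom_ext_jointly {Z : Over (Spec (CommRingCat.of K))} [IsSeparated Z.hom] {D : Type u} [CommRing D] [Algebra K D]
    {a b : VecGrp.pt K D ⟶ Z} {J : Type*} (E : J → Type u) [∀ i, CommRing (E i)] [∀ i, Algebra K (E i)]
    (φ : ∀ i, D →ₐ[K] E i) (hinj : ∀ x, (∀ i, φ i x = 0) → x = 0)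
    (h : ∀ i, VecGrp.ptMap (φ i) ≫ a = VecGrp.ptMap (φ i) ≫ b) : a = b := by
  let e : (equalizer a b).left ⟶ Spec (CommRingCat.of D) := (equalizer.ι a b).left
  have : IsClosedImmersion e := isClosedImmersion_equalizer_ι_left a b
  have : IsAffine (equalizer a b).left := isAffine_of_isAffineHom e
  have : IsIso e.appTop := by
    rw [ConcreteCategory.isIso_iff_bijective]
    refine ⟨(injective_iff_map_eq_zero _).2 fun x hx => ?_, (IsClosedImmersion.isAffine_surjective_of_isAffine e).2⟩
    obtain ⟨y, rfl⟩ := (Scheme.ΓSpecIso (CommRingCat.of D)).commRingCatIsoToRingEquiv.symm.surjective x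
    suffices y = 0 by rw [this, map_zero]
    refine hinj y fun i => ?_
    have hfac : (equalizer.lift (VecGrp.ptMap (φ i)) (h i)).left ≫ e =
        Spec.map (CommRingCat.ofHom (φ i).toRingHom) :=
      congrArg Over.Hom.left (equalizer.lift_ι _ _)
    have h2 := congrArg (fun q => q.appTop ((Scheme.ΓSpecIso (CommRingCat.of D)).inv y)) hfac
    simp only [Scheme.Hom.comp_appTop, CommRingCat.comp_apply] at h2
    replace h2 : (Spec.map (CommRingCat.ofHom (φ i).toRingHom)).appTop
        ((Scheme.ΓSpecIso (CommRingCat.of D)).inv y) = 0 := by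
      rw [← h2]
      exact (congrArg _ hx).trans (map_zero _)
    rw [← CommRingCat.comp_apply, ← Scheme.ΓSpecIso_inv_naturality, CommRingCat.comp_apply] at h2
    have h3 := congrArg (Scheme.ΓSpecIso (CommRingCat.of (E i))).hom h2
    rw [map_zero] at h3
    simpa using h3
  have : IsIso e := by
    rw [show e = (equalizer a b).left.isoSpec.hom ≫ Spec.map e.appTop ≫ (Spec (CommRingCat.of D)).isoSpec.inv by
      rw [← Category.assoc, Iso.eq_comp_inv]
      exact (Scheme.isoSpec_hom_naturality e).symm]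
    infer_instance
  have : Epi (equalizer.ι a b) := (Over.forget _).epi_of_epi_map (inferInstanceAs (Epi e))
  exact eq_of_epi_equalizer

/-- The point of `Spec K` with values in `K`. -/
def unitPt : VecGrp.pt K K ⟶ 𝟙_ (Over (Spec (CommRingCat.of K))) := toUnit _

section Agree

variable {X Y Z : Over (Spec (CommRingCat.of K))} (f g : X ⊗ Y ⟶ Z)

/-- `f` and `g` agree over `t`. -/
def Agree {T : Over (Spec (CommRingCat.of K))} (t : T ⟶ Y) : Prop := (X ◁ t) ≫ f = (X ◁ t) ≫ g

variable {f g}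

lemma Agree.precomp {T' T : Over (Spec (CommRingCat.of K))} {t : T ⟶ Y} (h : Agree f g t) (c : T' ⟶ T) : Agree f g (c ≫ t) := by
  rw [Agree, MonoidalCategory.whiskerLeft_comp, Category.assoc, Category.assoc, h]

variable [IsSeparated Z.hom]

/-- Agreement over a jointly injective family. -/
lemma agree_of_jointly {R : Type u} [CommRing R] [Algebra K R] (y : VecGrp.pt K R ⟶ Y) {J : Type*}
    (E : J → Type u) [∀ i, CommRing (E i)] [∀ i, Algebra K (E i)]
    (φ : ∀ i, R →ₐ[K] E i) (hinj : ∀ x, (∀ i, φ i x = 0) → x = 0)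
    (h : ∀ i, Agree f g (VecGrp.ptMap (φ i) ≫ y)) : Agree f g y := by
  refine hom_ext_affine fun C _ _ q => ?_
  obtain ⟨ψ, hψ⟩ := exists_ptMap (q ≫ snd X (VecGrp.pt K R))
  let t : VecGrp.pt K (C ⊗[K] R) ⟶ X ⊗ VecGrp.pt K R :=
    lift (VecGrp.ptMap Algebra.TensorProduct.includeLeft ≫ q ≫ fst X _)
      (VecGrp.ptMap Algebra.TensorProduct.includeRight)
  have hq : q = VecGrp.ptMap (Algebra.TensorProduct.lift (AlgHom.id K C) ψ fun _ _ => Commute.all _ _) ≫ t := by
    refine CartesianMonoidalCategory.hom_ext _ _ ?_ ?_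
    · rw [Category.assoc, lift_fst, ← Category.assoc, ptMap_comp_ptMap, Algebra.TensorProduct.lift_comp_includeLeft]
      have : VecGrp.ptMap (AlgHom.id K C) = 𝟙 _ := Over.OverMorphism.ext (Spec.map_id _)
      rw [this, Category.id_comp]
    · rw [Category.assoc, lift_snd, ptMap_comp_ptMap, ← hψ]
      congr 1
      ext x
      simp
  suffices H : t ≫ (X ◁ y) ≫ f = t ≫ (X ◁ y) ≫ g by
    rw [hq, Category.assoc, Category.assoc, H]
  refine hom_ext_jointly (fun i => C ⊗[K] E i) (fun i => Algebra.TensorProduct.map (AlgHom.id K C) (φ i))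
    (fun x hx => ?_) fun i => ?_
  · let b := Module.Free.chooseBasis K C
    let e := TensorProduct.equivFinsuppOfBasisLeft (N := R) b
    apply e.injective
    rw [map_zero]
    ext j
    refine hinj _ fun i => ?_
    have key : ∀ z : C ⊗[K] R, φ i (e z j) = TensorProduct.equivFinsuppOfBasisLeft (N := E i) b
        (Algebra.TensorProduct.map (AlgHom.id K C) (φ i) z) j := by
      intro z
      induction z using TensorProduct.induction_on with
      | zero => simp
      | add p q hp hq => simp only [map_add, Finsupp.coe_add, Pi.add_apply, hp, hq]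
      | tmul p q => simp [e]
    rw [key, hx i, map_zero, Finsupp.coe_zero, Pi.zero_apply]
  · have hc : VecGrp.ptMap (Algebra.TensorProduct.map (AlgHom.id K C) (φ i)) ≫ t =
        lift (VecGrp.ptMap Algebra.TensorProduct.includeLeft ≫ q ≫ fst X _)
          (VecGrp.ptMap Algebra.TensorProduct.includeRight) ≫ (X ◁ VecGrp.ptMap (φ i)) := by
      rw [CartesianMonoidalCategory.comp_lift, lift_whiskerLeft, ptMap_comp_ptMap, ← Category.assoc,
        ptMap_comp_ptMap, Algebra.TensorProduct.map_comp_includeLeft,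
        Algebra.TensorProduct.map_comp_includeRight, AlgHom.comp_id, ← ptMap_comp_ptMap]
    have h2 : (X ◁ VecGrp.ptMap (φ i)) ≫ (X ◁ y) ≫ f = (X ◁ VecGrp.ptMap (φ i)) ≫ (X ◁ y) ≫ g := by
      simpa [Agree, MonoidalCategory.whiskerLeft_comp, Category.assoc] using h i
    rw [reassoc_of% hc, reassoc_of% hc, h2]

/-- A chart. -/
lemma exists_chart (p : Y.left) : ∃ (R : Type u) (_ : CommRing R) (_ : Algebra K R)
    (y : VecGrp.pt K R ⟶ Y), IsOpenImmersion y.left ∧ p ∈ Set.range y.left := by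
  obtain ⟨i, hi⟩ := Y.left.affineOpenCover.openCover.exists_eq p
  obtain ⟨ψ, hψ⟩ := Spec.map_surjective (Y.left.affineOpenCover.f i ≫ Y.hom)
  let _ : Algebra K (Y.left.affineOpenCover.X i) := ψ.hom.toAlgebra
  exact ⟨_, inferInstance, ψ.hom.toAlgebra, Over.homMk (Y.left.affineOpenCover.f i) hψ.symm,
    inferInstanceAs (IsOpenImmersion (Y.left.affineOpenCover.openCover.f i)), hi⟩

omit [IsSeparated Z.hom] in
/-- Equality is local on `Y`. -/
lemma eq_of_charts (h : ∀ (R : Type u) [CommRing R] [Algebra K R] (y : VecGrp.pt K R ⟶ Y),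
    IsOpenImmersion y.left → Agree f g y) : f = g := by
  refine Over.OverMorphism.ext (Scheme.Cover.hom_ext (Y.left.affineOpenCover.openCover.pullback₁ (snd X Y).left) _ _ fun i => ?_)
  let a := (Y.left.affineOpenCover.openCover.pullback₁ (snd X Y).left).f i
  obtain ⟨ψ, hψ⟩ := Spec.map_surjective (Y.left.affineOpenCover.f i ≫ Y.hom)
  let _ : Algebra K (Y.left.affineOpenCover.X i) := ψ.hom.toAlgebra
  let y : VecGrp.pt K (Y.left.affineOpenCover.X i) ⟶ Y := Over.homMk (Y.left.affineOpenCover.f i) hψ.symm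
  let P : Over (Spec (CommRingCat.of K)) := Over.mk (a ≫ (X ⊗ Y).hom)
  let p₁ : P ⟶ X ⊗ Y := Over.homMk a rfl
  let p₂ : P ⟶ VecGrp.pt K (Y.left.affineOpenCover.X i) := Over.homMk (pullback.snd _ _) (by
    refine Eq.trans ?_ (congrArg (a ≫ ·) (Over.w (snd X Y)))
    show pullback.snd _ _ ≫ Spec.map ψ = _
    rw [hψ, ← Category.assoc, ← Category.assoc]
    exact congrArg (· ≫ Y.hom) pullback.condition.symm)
  have hp : p₁ = lift (p₁ ≫ fst X Y) p₂ ≫ (X ◁ y) := by
    rw [lift_whiskerLeft]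
    refine CartesianMonoidalCategory.hom_ext _ _ (by simp) ?_
    rw [lift_snd]
    exact Over.OverMorphism.ext pullback.condition
  have := congrArg Over.Hom.left (show p₁ ≫ f = p₁ ≫ g by
    rw [hp, Category.assoc, Category.assoc]
    exact congrArg _ (h _ y (Y.left.affineOpenCover.map_prop i)))
  exact this

variable (f g) in
/-- `f` and `g` agree over the points at `p` with values in fields. -/
def Good (p : Y.left) : Prop :=
  ∀ (F : Type u) [Field F] [Algebra K F] (t : VecGrp.pt K F ⟶ Y), (∀ s, t.left s = p) → Agree f g t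

omit [IsSeparated Z.hom] in
lemma comap_point {R F : Type u} [CommRing R] [Algebra K R] [Field F] [Algebra K F] (ψ : R →ₐ[K] F)
    (s : (VecGrp.pt K F).left) : ((VecGrp.ptMap ψ).left s : PrimeSpectrum R).asIdeal = RingHom.ker ψ.toRingHom := by
  have hs : (s : PrimeSpectrum F).asIdeal = ⊥ :=
    (Ideal.eq_bot_or_top _).resolve_right (s : PrimeSpectrum F).2.ne_top
  show Ideal.comap ψ.toRingHom (s : PrimeSpectrum F).asIdeal = _
  rw [hs]
  rfl

lemma agree_quotient_of_ker {R : Type u} [CommRing R] [Algebra K R] (y : VecGrp.pt K R ⟶ Y) (P : Ideal R)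
    {F : Type u} [CommRing F] [Algebra K F] (ψ : R →ₐ[K] F) (hker : RingHom.ker ψ.toRingHom = P)
    (h : Agree f g (VecGrp.ptMap ψ ≫ y)) : Agree f g (VecGrp.ptMap (Ideal.Quotient.mkₐ K P) ≫ y) := by
  let ψ' : (R ⧸ P) →ₐ[K] F := Ideal.Quotient.liftₐ P ψ fun a ha => by rwa [← hker] at ha
  refine agree_of_jointly _ (fun _ : PUnit.{1} => F) (fun _ => ψ') (fun x hx => ?_) fun _ => ?_
  · obtain ⟨x, rfl⟩ := Ideal.Quotient.mk_surjective x
    rw [Ideal.Quotient.eq_zero_iff_mem, ← hker]
    exact hx PUnit.unit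
  · rw [← Category.assoc, ptMap_comp_ptMap]
    exact h

/-- Being good, in a chart. -/
lemma good_iff {R : Type u} [CommRing R] [Algebra K R] (y : VecGrp.pt K R ⟶ Y) [IsOpenImmersion y.left]
    (P : PrimeSpectrum R) :
    Good f g (y.left P) ↔ Agree f g (VecGrp.ptMap (Ideal.Quotient.mkₐ K P.asIdeal) ≫ y) := by
  constructor
  · intro h
    let ψ : R →ₐ[K] FractionRing (R ⧸ P.asIdeal) :=
      (IsScalarTower.toAlgHom K (R ⧸ P.asIdeal) (FractionRing (R ⧸ P.asIdeal))).comp
        (Ideal.Quotient.mkₐ K P.asIdeal)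
    have hker : RingHom.ker ψ.toRingHom = P.asIdeal := by
      ext x
      show algebraMap (R ⧸ P.asIdeal) (FractionRing (R ⧸ P.asIdeal)) (Ideal.Quotient.mk _ x) = 0 ↔ _
      rw [map_eq_zero_iff _ (IsFractionRing.injective _ _), Ideal.Quotient.eq_zero_iff_mem]
    refine agree_quotient_of_ker y _ ψ hker (h _ _ fun s => ?_)
    show y.left ((VecGrp.ptMap ψ).left s) = _
    congr 1
    exact PrimeSpectrum.ext ((comap_point ψ s).trans hker)
  · intro h F _ _ t ht
    have hr : Set.range t.left ⊆ Set.range y.left := by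
      rintro _ ⟨s, rfl⟩
      exact ⟨P, (ht s).symm⟩
    let r : VecGrp.pt K F ⟶ VecGrp.pt K R := Over.homMk (IsOpenImmersion.lift y.left t.left hr) (by
      rw [← Over.w y, IsOpenImmersion.lift_fac_assoc, Over.w t])
    have hry : r ≫ y = t := Over.OverMorphism.ext (IsOpenImmersion.lift_fac _ _ _)
    obtain ⟨ψ, hψ⟩ := exists_ptMap r
    let s₀ : (VecGrp.pt K F).left := (⊥ : PrimeSpectrum F)
    have hker : RingHom.ker ψ.toRingHom = P.asIdeal := by
      rw [← comap_point ψ s₀]
      congr 1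
      apply y.left.isOpenEmbedding.injective
      rw [← ht s₀, ← hry, hψ]
      rfl
    have hfac : ψ = (Ideal.Quotient.liftₐ P.asIdeal ψ fun a ha => by rwa [← hker] at ha).comp
        (Ideal.Quotient.mkₐ K P.asIdeal) := AlgHom.ext fun _ => rfl
    rw [← hry, ← hψ, hfac, ← ptMap_comp_ptMap, Category.assoc]
    exact h.precomp _

lemma Agree.good {R : Type u} [CommRing R] [Algebra K R] {y : VecGrp.pt K R ⟶ Y} [IsOpenImmersion y.left]
    (h : Agree f g y) (P : PrimeSpectrum R) : Good f g (y.left P) :=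
  (good_iff y P).2 (h.precomp _)

lemma good_of_agree {F : Type u} [Field F] [Algebra K F] (t : VecGrp.pt K F ⟶ Y) (h : Agree f g t)
    (s : (VecGrp.pt K F).left) : Good f g (t.left s) := by
  obtain ⟨R, _, _, y, _, P, hP⟩ := exists_chart (t.left s)
  have hr : Set.range t.left ⊆ Set.range y.left := by
    rintro _ ⟨s', rfl⟩
    exact ⟨P, hP.trans (congrArg t.left (Subsingleton.elim (α := PrimeSpectrum F) _ _))⟩
  let r : VecGrp.pt K F ⟶ VecGrp.pt K R := Over.homMk (IsOpenImmersion.lift y.left t.left hr) (by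
    rw [← Over.w y, IsOpenImmersion.lift_fac_assoc, Over.w t])
  have hry : r ≫ y = t := Over.OverMorphism.ext (IsOpenImmersion.lift_fac _ _ _)
  obtain ⟨ψ, hψ⟩ := exists_ptMap r
  rw [← hP]
  refine (good_iff y P).2 (agree_quotient_of_ker y _ ψ ?_ ?_)
  · rw [← comap_point ψ s]
    congr 1
    apply y.left.isOpenEmbedding.injective
    rw [hP, ← hry, hψ]
    rfl
  · rwa [hψ, hry]

end Agree

section Thick

variable {X : Over (Spec (CommRingCat.of K))} [CompactSpace X.left] [QuasiSeparated X.hom] [IsIso X.hom.appTop]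

lemma isIso_snd_appTop (T : Over (Spec (CommRingCat.of K))) [CompactSpace T.left] [QuasiSeparated T.hom] :
    IsIso (snd X T).left.appTop :=
  (GrpScheme.QuasiAffine.isPushout_tensor X T).isIso_inr_of_isIso

/-- Over an affine thickening of a point at which `f` does not depend on `X`, neither does `f`. -/
lemma exists_factor {T₀ T Z : Over (Spec (CommRingCat.of K))} [Subsingleton T₀.left] [Nonempty T₀.left] [IsAffine T.left]
    (t₀ : T₀ ⟶ T) [Surjective t₀.left] (f : X ⊗ T ⟶ Z) (c : T₀ ⟶ Z)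
    (h : (X ◁ t₀) ≫ f = snd X T₀ ≫ c) : ∃ g : T ⟶ Z, f = snd X T ≫ g := by
  obtain ⟨s₀⟩ := ‹Nonempty T₀.left›
  obtain ⟨_, ⟨W, hW, rfl⟩, hzW, -⟩ := Z.left.isBasis_affineOpens.exists_subset_of_mem_open
    (Set.mem_univ (c.left s₀)) isOpen_univ
  change Z.left.Opens at W
  have : IsAffine (W : Scheme.{u}) := hW
  have : Surjective (X ◁ t₀).left := GrpScheme.Basic.whiskerLeft_mem _ t₀ X inferInstance
  have hr : Set.range f.left ⊆ Set.range W.ι := by
    rintro _ ⟨p, rfl⟩
    obtain ⟨p', rfl⟩ := (X ◁ t₀).left.surjective p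
    rw [Scheme.Opens.range_ι]
    show ((X ◁ t₀) ≫ f).left p' ∈ W
    rw [h]
    show c.left ((snd X T₀).left p') ∈ W
    rwa [Subsingleton.elim ((snd X T₀).left p') s₀]
  let W' : Over (Spec (CommRingCat.of K)) := Over.mk (W.ι ≫ Z.hom)
  let f' : X ⊗ T ⟶ W' := Over.homMk (IsOpenImmersion.lift W.ι f.left hr) (by
    simp only [W', Over.mk_hom, IsOpenImmersion.lift_fac_assoc, Over.w f])
  let w : W' ⟶ Z := Over.homMk W.ι rfl
  have hf' : f' ≫ w = f := Over.OverMorphism.ext (IsOpenImmersion.lift_fac _ _ _)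
  have : IsAffine W'.left := hW
  have := isIso_snd_appTop (X := X) T
  exact ⟨GrpScheme.QuasiAffine.extend (snd X T) f' ≫ w, by
    rw [← Category.assoc, GrpScheme.QuasiAffine.comp_extend, hf']⟩

variable {Y Z : Over (Spec (CommRingCat.of K))} (x₀ : 𝟙_ (Over (Spec (CommRingCat.of K))) ⟶ X) (f : X ⊗ Y ⟶ Z)

/-- The restriction of `f` to `x₀ × Y`, pulled back to `X × Y`. -/
abbrev cst : X ⊗ Y ⟶ Z := snd X Y ≫ lift (toUnit Y ≫ x₀) (𝟙 Y) ≫ f

/-- Agreement extends to affine thickenings. -/
lemma Agree.thicken {T₀ T : Over (Spec (CommRingCat.of K))} [Subsingleton T₀.left] [Nonempty T₀.left] [IsAffine T.left]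
    (t₀ : T₀ ⟶ T) [Surjective t₀.left] (j : T ⟶ Y) (h : Agree f (cst x₀ f) (t₀ ≫ j)) :
    Agree f (cst x₀ f) j := by
  obtain ⟨g, hg⟩ := exists_factor t₀ ((X ◁ j) ≫ f) ((t₀ ≫ j) ≫ lift (toUnit Y ≫ x₀) (𝟙 Y) ≫ f) (by
    rw [← MonoidalCategory.whiskerLeft_comp_assoc, h, whiskerLeft_snd_assoc])
  have hsec : g = j ≫ lift (toUnit Y ≫ x₀) (𝟙 Y) ≫ f := by
    have := congrArg (lift (toUnit T ≫ x₀) (𝟙 T) ≫ ·) hg
    simp only [lift_snd_assoc, Category.id_comp, lift_whiskerLeft_assoc] at this
    rw [← this]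
    simp [CartesianMonoidalCategory.comp_lift_assoc]
  rw [Agree, whiskerLeft_snd_assoc, hg, hsec]

omit [CompactSpace X.left] [QuasiSeparated X.hom] [IsIso X.hom.appTop] in
lemma surjective_ptMap_factor {R : Type u} [CommRing R] [Algebra K R] (m : Ideal R) [m.IsMaximal] (n : ℕ) :
    Surjective (VecGrp.ptMap (Ideal.Quotient.factorₐ K (Ideal.pow_le_self n.succ_ne_zero) :
      (R ⧸ m ^ (n + 1)) →ₐ[K] R ⧸ m)).left := by
  refine ⟨fun q => ?_⟩
  let q' : PrimeSpectrum (R ⧸ m ^ (n + 1)) := q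
  have hq : Ideal.comap (Ideal.Quotient.mk (m ^ (n + 1))) q'.asIdeal = m := by
    refine (‹m.IsMaximal›.eq_of_le (Ideal.comap_ne_top _ q'.2.ne_top) ?_).symm
    refine (q'.2.comap _).le_of_pow_le (n := n + 1) fun x hx => ?_
    rw [Ideal.mem_comap, Ideal.Quotient.eq_zero_iff_mem.2 hx]
    exact zero_mem _
  refine ⟨(⟨⊥, Ideal.isPrime_bot⟩ : PrimeSpectrum (R ⧸ m)), PrimeSpectrum.ext ?_⟩
  apply Ideal.comap_injective_of_surjective _ Ideal.Quotient.mk_surjective
  refine Eq.trans ?_ hq.symm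
  ext x
  show (Ideal.Quotient.mk m x ∈ (⊥ : Ideal (R ⧸ m))) ↔ x ∈ m
  rw [Ideal.mem_bot, Ideal.Quotient.eq_zero_iff_mem]

variable [IsSeparated Z.hom] {x₀ f}

/-- Krull: agreement at maximal ideals whose powers meet in zero. -/
lemma agree_of_maximal {R : Type u} [CommRing R] [Algebra K R] (y : VecGrp.pt K R ⟶ Y)
    (S : Set (Ideal R)) (hS : ∀ m ∈ S, m.IsMaximal)
    (hint : ∀ x, (∀ m ∈ S, ∀ n : ℕ, x ∈ m ^ (n + 1)) → x = 0)
    (h : ∀ m ∈ S, Agree f (cst x₀ f) (VecGrp.ptMap (Ideal.Quotient.mkₐ K m) ≫ y)) :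
    Agree f (cst x₀ f) y := by
  refine agree_of_jointly y (fun i : S × ℕ => R ⧸ i.1.1 ^ (i.2 + 1))
    (fun i => Ideal.Quotient.mkₐ K _)
    (fun x hx => hint x fun m hm n => Ideal.Quotient.eq_zero_iff_mem.1 (hx (⟨m, hm⟩, n))) fun i => ?_
  have := hS _ i.1.2
  let φ : (R ⧸ i.1.1 ^ (i.2 + 1)) →ₐ[K] R ⧸ i.1.1 := Ideal.Quotient.factorₐ K (Ideal.pow_le_self i.2.succ_ne_zero)
  have : Surjective (VecGrp.ptMap φ).left := surjective_ptMap_factor i.1.1 i.2
  let _ := Ideal.Quotient.field i.1.1
  have : Subsingleton (VecGrp.pt K (R ⧸ i.1.1)).left := inferInstanceAs (Subsingleton (PrimeSpectrum _))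
  have : Nonempty (VecGrp.pt K (R ⧸ i.1.1)).left := inferInstanceAs (Nonempty (PrimeSpectrum _))
  have : IsAffine (VecGrp.pt K (R ⧸ i.1.1 ^ (i.2 + 1))).left := inferInstanceAs (IsAffine (Spec _))
  refine Agree.thicken x₀ f (VecGrp.ptMap φ) _ ?_
  rw [← Category.assoc, ptMap_comp_ptMap]
  exact h _ i.1.2

lemma agree_of_maximal_domain {R : Type u} [CommRing R] [IsDomain R] [IsNoetherianRing R] [Algebra K R]
    (y : VecGrp.pt K R ⟶ Y) (m : Ideal R) [m.IsMaximal]
    (h : Agree f (cst x₀ f) (VecGrp.ptMap (Ideal.Quotient.mkₐ K m) ≫ y)) : Agree f (cst x₀ f) y := by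
  refine agree_of_maximal y {m} (fun _ hm => by rwa [Set.mem_singleton_iff.1 hm]) (fun x hx => ?_)
    fun _ hm => by rwa [Set.mem_singleton_iff.1 hm]
  have : x ∈ ⨅ i : ℕ, m ^ i := (Submodule.mem_iInf _).2 fun i => Ideal.pow_le_pow_right (Nat.le_succ i) (hx m rfl i)
  rwa [Ideal.iInf_pow_eq_bot_of_isDomain m ‹m.IsMaximal›.ne_top, Ideal.mem_bot] at this

lemma isNoetherianRing_chart [IsLocallyNoetherian Y.left] {R : Type u} [CommRing R] [Algebra K R]
    (y : VecGrp.pt K R ⟶ Y) [IsOpenImmersion y.left] : IsNoetherianRing R := by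
  have : IsLocallyNoetherian (Spec (CommRingCat.of R)) := isLocallyNoetherian_of_isOpenImmersion y.left
  exact (isLocallyNoetherian_Spec (R := CommRingCat.of R)).1 ‹_›

omit [CompactSpace X.left] [QuasiSeparated X.hom] [IsIso X.hom.appTop] [IsSeparated Z.hom] in
lemma eq_univ_of_stable {T : Type*} [TopologicalSpace T] [TopologicalSpace.NoetherianSpace T] [ConnectedSpace T]
    [QuasiSober T] (G : Set T) (hG : ∀ {a b : T}, a ⤳ b → (a ∈ G ↔ b ∈ G)) (hne : G.Nonempty) : G = Set.univ := by
  have hcl : ∀ G : Set T, (∀ {a b : T}, a ⤳ b → (a ∈ G ↔ b ∈ G)) → IsClosed G := fun G hG => by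
    have hfin : {C ∈ irreducibleComponents T | C ⊆ G}.Finite :=
      TopologicalSpace.NoetherianSpace.finite_irreducibleComponents.subset fun _ h => h.1
    convert hfin.isClosed_biUnion (f := id) fun C hC => isClosed_of_mem_irreducibleComponents C hC.1
    ext a
    simp only [Set.mem_iUnion, Set.mem_ofPred_eq, id_eq, exists_prop]
    refine ⟨fun ha => ⟨irreducibleComponent a, ⟨irreducibleComponent_mem_irreducibleComponents a, fun b hb => ?_⟩,
      mem_irreducibleComponent⟩, fun ⟨C, ⟨_, hC⟩, ha⟩ => hC ha⟩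
    obtain ⟨e, he⟩ := QuasiSober.sober (isIrreducible_irreducibleComponent (x := a)) isClosed_irreducibleComponent
    exact (hG (he.specializes hb)).1 ((hG (he.specializes mem_irreducibleComponent)).2 ha)
  exact (isClopen_iff.1 ⟨hcl G hG, isClosed_compl_iff.1 (hcl Gᶜ fun h => not_congr (hG h))⟩).resolve_left hne.ne_empty

/-- **Rigidity**, connected Noetherian base. -/
theorem eq_cst [IsLocallyNoetherian Y.left] [CompactSpace Y.left] [ConnectedSpace Y.left] {F : Type u} [Field F]
    [Algebra K F] (t : VecGrp.pt K F ⟶ Y) (ht : Agree f (cst x₀ f) t) : f = cst x₀ f := by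
  let G : Set Y.left := {p | Good f (cst x₀ f) p}
  have hclosed : ∀ {p c : Y.left}, IsClosed ({c} : Set Y.left) → p ⤳ c → (p ∈ G ↔ c ∈ G) := by
    intro p c hc hpc
    obtain ⟨R, _, _, y, _, M, rfl⟩ := exists_chart c
    obtain ⟨P, rfl⟩ : p ∈ Set.range y.left := hpc.mem_open y.left.isOpenEmbedding.isOpen_range ⟨M, rfl⟩
    have := isNoetherianRing_chart y
    let P' : PrimeSpectrum R := P
    let M' : PrimeSpectrum R := M
    have hle : P'.asIdeal ≤ M'.asIdeal :=
      (PrimeSpectrum.le_iff_specializes P' M').2 (y.left.isOpenEmbedding.isInducing.specializes_iff.1 hpc)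
    have hmax : M'.asIdeal.IsMaximal := by
      rw [← PrimeSpectrum.isClosed_singleton_iff_isMaximal]
      have hpre : IsClosed (y.left ⁻¹' {y.left M}) := hc.preimage y.left.continuous
      rwa [← Set.image_singleton, y.left.isOpenEmbedding.injective.preimage_image] at hpre
    show Good f _ (y.left P') ↔ Good f _ (y.left M')
    rw [good_iff, good_iff]
    constructor <;> intro h
    · rw [show Ideal.Quotient.mkₐ K M'.asIdeal =
          (Ideal.Quotient.factorₐ K hle).comp (Ideal.Quotient.mkₐ K P'.asIdeal) from AlgHom.ext fun _ => rfl,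
        ← ptMap_comp_ptMap, Category.assoc]
      exact h.precomp _
    · let φ : (R ⧸ P'.asIdeal) →ₐ[K] R ⧸ M'.asIdeal := Ideal.Quotient.factorₐ K hle
      let _ := Ideal.Quotient.field M'.asIdeal
      have hmax' : (RingHom.ker φ.toRingHom).IsMaximal :=
        RingHom.ker_isMaximal_of_surjective _ (Ideal.Quotient.factor_surjective hle)
          (K := R ⧸ M'.asIdeal)
      refine agree_of_maximal_domain _ (RingHom.ker φ.toRingHom) (agree_quotient_of_ker _ _ φ rfl ?_)
      rwa [← Category.assoc, ptMap_comp_ptMap]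
  have hstab : ∀ {a b : Y.left}, a ⤳ b → (a ∈ G ↔ b ∈ G) := by
    intro a b hab
    obtain ⟨c, hc, hc'⟩ := (isClosed_closure (s := {b})).exists_closed_singleton ⟨b, subset_closure rfl⟩
    have hbc : b ⤳ c := specializes_iff_mem_closure.2 hc
    exact (hclosed hc' (hab.trans hbc)).trans (hclosed hc' hbc).symm
  have : IsNoetherian Y.left := {}
  let s₀ : (VecGrp.pt K F).left := (⊥ : PrimeSpectrum F)
  have hall : G = Set.univ := eq_univ_of_stable G hstab ⟨t.left s₀, good_of_agree t ht s₀⟩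
  refine eq_of_charts fun R _ _ y _ => ?_
  have := isNoetherianRing_chart y
  refine agree_of_maximal y {m | m.IsMaximal} (fun _ hm => hm) (fun x hx => ?_) fun m (hm : m.IsMaximal) => ?_
  · refine eq_zero_of_localization x fun J hJ => ?_
    have h2 : algebraMap R (Localization.AtPrime J) x ∈
        ⨅ i : ℕ, IsLocalRing.maximalIdeal (Localization.AtPrime J) ^ i := by
      refine (Submodule.mem_iInf _).2 fun i => ?_
      rw [← Localization.AtPrime.map_eq_maximalIdeal, ← Ideal.map_pow]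
      exact Ideal.mem_map_of_mem _ (Ideal.pow_le_pow_right (Nat.le_succ i) (hx J hJ i))
    rwa [Ideal.iInf_pow_eq_bot_of_isLocalRing _ (IsLocalRing.maximalIdeal.isMaximal _).ne_top, Ideal.mem_bot] at h2
  · exact (good_iff y ⟨m, hm.isPrime⟩).1 (show y.left _ ∈ G from hall ▸ Set.mem_univ _)

/-- **Rigidity**, integral locally Noetherian base. -/
theorem eq_cst_of_isIntegral [IsLocallyNoetherian Y.left] [IsIntegral Y.left] {F : Type u} [Field F]
    [Algebra K F] (t : VecGrp.pt K F ⟶ Y) (ht : Agree f (cst x₀ f) t)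
    (hc : ∀ s, IsClosed ({t.left s} : Set Y.left)) : f = cst x₀ f := by
  let s₀ : (VecGrp.pt K F).left := (⊥ : PrimeSpectrum F)
  have hdom : ∀ {R : Type u} [CommRing R] [Algebra K R] (y : VecGrp.pt K R ⟶ Y) [IsOpenImmersion y.left]
      (P : PrimeSpectrum R), IsDomain R := by
    intro R _ _ y _ P
    have : Nonempty (Spec (CommRingCat.of R)) := ⟨P⟩
    have : IsIntegral (Spec (CommRingCat.of R)) := isIntegral_of_isOpenImmersion y.left
    exact (affine_isIntegral_iff (CommRingCat.of R)).1 this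
  obtain ⟨R, _, _, y, _, M, hM⟩ := exists_chart (t.left s₀)
  have := isNoetherianRing_chart y
  have := hdom y M
  let M' : PrimeSpectrum R := M
  have hmax : M'.asIdeal.IsMaximal := by
    rw [← PrimeSpectrum.isClosed_singleton_iff_isMaximal]
    have hpre := (hc s₀).preimage y.left.continuous
    rwa [← hM, ← Set.image_singleton, y.left.isOpenEmbedding.injective.preimage_image] at hpre
  have hy : Agree f (cst x₀ f) y :=
    agree_of_maximal_domain y M'.asIdeal ((good_iff y M').1 (hM ▸ good_of_agree t ht s₀))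
  refine eq_of_charts fun R' _ _ y' _ => ?_
  rcases isEmpty_or_nonempty (PrimeSpectrum R') with hR | ⟨⟨P⟩⟩
  · have := PrimeSpectrum.isEmpty_iff_subsingleton.1 hR
    exact agree_of_jointly y' (fun _ : PEmpty.{1} => R') (fun i => i.elim) (fun x _ => Subsingleton.elim _ _)
      fun i => i.elim
  have := hdom y' P
  have : IrreducibleSpace (VecGrp.pt K R').left := inferInstanceAs (IrreducibleSpace (Spec (CommRingCat.of R')))
  have : IrreducibleSpace (VecGrp.pt K R).left := inferInstanceAs (IrreducibleSpace (Spec (CommRingCat.of R)))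
  let b : PrimeSpectrum R' := ⟨⊥, Ideal.isPrime_bot⟩
  have hb : Good f (cst x₀ f) (y'.left b) := by
    have hgen : y'.left b = genericPoint Y.left := by
      rw [← genericPoint_eq_of_isOpenImmersion y'.left]
      congr 1
      exact (genericPoint_eq_bot_of_affine (CommRingCat.of R')).symm
    have hgen' : y.left (⟨⊥, Ideal.isPrime_bot⟩ : PrimeSpectrum R) = genericPoint Y.left := by
      rw [← genericPoint_eq_of_isOpenImmersion y.left]
      congr 1
      exact (genericPoint_eq_bot_of_affine (CommRingCat.of R)).symm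
    rw [hgen, ← hgen']
    exact hy.good _
  refine agree_of_jointly y' (fun _ : PUnit.{1} => R' ⧸ b.asIdeal) (fun _ => Ideal.Quotient.mkₐ K _)
    (fun x hx => ?_) fun _ => (good_iff y' b).1 hb
  exact (Ideal.mem_bot).1 (Ideal.Quotient.eq_zero_iff_mem.1 (hx PUnit.unit))

end Thick

section Group

variable {X : Over (Spec (CommRingCat.of K))} [LocallyOfFiniteType X.hom] [QuasiCompact X.hom]

omit [LocallyOfFiniteType X.hom] [QuasiCompact X.hom] in
/-- A scheme with only constant functions is non-empty. -/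
lemma nonempty_of_antiAffine
    (hX : Function.Bijective ((Scheme.ΓSpecIso (CommRingCat.of K)).inv ≫ X.hom.appTop).hom) : Nonempty X.left := by
  rw [← not_isEmpty_iff]
  intro
  exact zero_ne_one (hX.1 (Subsingleton.elim (α := Γ(X.left, ⊤))
    ((Scheme.ΓSpecIso (CommRingCat.of K)).inv ≫ X.hom.appTop |>.hom 0) _))

omit [LocallyOfFiniteType X.hom] [QuasiCompact X.hom] in
lemma isIso_appTop
    (hX : Function.Bijective ((Scheme.ΓSpecIso (CommRingCat.of K)).inv ≫ X.hom.appTop).hom) : IsIso X.hom.appTop := by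
  have : IsIso ((Scheme.ΓSpecIso (CommRingCat.of K)).inv ≫ X.hom.appTop) :=
    (ConcreteCategory.isIso_iff_bijective _).2 hX
  exact IsIso.of_isIso_comp_left (Scheme.ΓSpecIso (CommRingCat.of K)).inv _

omit [LocallyOfFiniteType X.hom] [QuasiCompact X.hom] in
/-- A scheme with only constant functions is connected. -/
lemma connectedSpace_of_antiAffine
    (hX : Function.Bijective ((Scheme.ΓSpecIso (CommRingCat.of K)).inv ≫ X.hom.appTop).hom) :
    ConnectedSpace X.left := by
  have := nonempty_of_antiAffine hX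
  refine connectedSpace_iff_clopen.2 ⟨this, fun U hU => ?_⟩
  by_contra! hne
  obtain ⟨hU0, hU1⟩ := hne
  let V : X.left.Opens := ⟨U, hU.isOpen⟩
  let W : X.left.Opens := ⟨Uᶜ, hU.isClosed.isOpen_compl⟩
  have : Nonempty V := hU0.to_subtype
  have : Nonempty W := (Set.nonempty_compl.2 hU1).to_subtype
  let O : Bool → X.left.Opens := fun i => bif i then V else W
  let sf : ∀ i, Γ(X.left, O i) := fun i => match i with
    | true => (1 : Γ(X.left, V))
    | false => (0 : Γ(X.left, W))
  have hsub : ∀ o : X.left.Opens, o ≤ ⊥ → Subsingleton Γ(X.left, o) := fun o ho => by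
    rw [le_bot_iff.1 ho]
    infer_instance
  obtain ⟨a, ha, -⟩ := X.left.sheaf.existsUnique_gluing' O ⊤ (fun _ => homOfLE le_top) (fun x _ => by
      rw [TopologicalSpace.Opens.mem_iSup]
      by_cases hx : x ∈ U
      · exact ⟨true, hx⟩
      · exact ⟨false, hx⟩) sf (fun i j => by
      cases i <;> cases j
      · rfl
      · have := hsub (W ⊓ V) (fun x hx => hx.1 hx.2)
        exact Subsingleton.elim (α := Γ(X.left, W ⊓ V)) _ _
      · have := hsub (V ⊓ W) (fun x hx => hx.2 hx.1)
        exact Subsingleton.elim (α := Γ(X.left, V ⊓ W)) _ _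
      · rfl)
  obtain ⟨c, hc⟩ := hX.2 a
  let rU : K →+* Γ(X.left, V) :=
    ((Scheme.ΓSpecIso (CommRingCat.of K)).inv ≫ X.hom.appTop ≫ X.left.presheaf.map (homOfLE le_top).op).hom
  let rW : K →+* Γ(X.left, W) :=
    ((Scheme.ΓSpecIso (CommRingCat.of K)).inv ≫ X.hom.appTop ≫ X.left.presheaf.map (homOfLE le_top).op).hom
  have h1 : rU c = 1 := (congrArg (X.left.presheaf.map (homOfLE le_top).op) hc).trans (ha true)
  have h0 : rW c = 0 := (congrArg (X.left.presheaf.map (homOfLE le_top).op) hc).trans (ha false)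
  rw [map_eq_zero] at h0
  rw [h0, map_zero] at h1
  exact zero_ne_one h1

/-- A homomorphism-defect `X ⊗ Y ⟶ G` trivial on both axes is trivial. -/
theorem eq_one [GrpObj X] {Y G : Over (Spec (CommRingCat.of K))} [GrpObj G] [LocallyOfFiniteType Y.hom]
    [QuasiCompact Y.hom] [ConnectedSpace Y.left] [GrpObj Y]
    (hX : Function.Bijective ((Scheme.ΓSpecIso (CommRingCat.of K)).inv ≫ X.hom.appTop).hom) (f : X ⊗ Y ⟶ G)
    (h₁ : (X ◁ η[Y]) ≫ f = 1) (h₂ : lift (toUnit Y ≫ η[X]) (𝟙 Y) ≫ f = 1) : f = 1 := by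
  have := isIso_appTop hX
  have : CompactSpace X.left := (quasiCompact_iff_compactSpace X.hom).1 inferInstance
  have : IsLocallyNoetherian X.left := LocallyOfFiniteType.isLocallyNoetherian X.hom
  have : QuasiSeparated X.hom := inferInstance
  have : IsLocallyNoetherian Y.left := LocallyOfFiniteType.isLocallyNoetherian Y.hom
  have : CompactSpace Y.left := (quasiCompact_iff_compactSpace Y.hom).1 inferInstance
  have : IsSeparated G.hom := GrpOver.isSeparated_hom G
  have ha : Agree f (cst η[X] f) (unitPt ≫ η[Y]) := by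
    refine Agree.precomp ?_ _
    rw [Agree, h₁, cst, h₂, MonObj.comp_one, MonObj.comp_one]
  rw [eq_cst _ ha, cst, h₂, MonObj.comp_one]

end Group

end Groth.Agent.GrpdLib.AntiAffineRigid
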