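import Groth.Agent.GrpdLib.EpiMonoFactor
import Groth.Agent.GrpdLib.GrpOver
import Groth.Agent.GrpScheme.Basic
import Groth.Agent.GrpScheme.FlatFib.Scheme
import Groth.Prelude.Def_AlgGrp

/-!
# Orbit quotients and image groups
-/

set_option autoImplicit false
set_option backward.isDefEq.respectTransparency false

universe u

open CategoryTheory MonoidalCategory CartesianMonoidalCategory MonObj GrpObj AlgebraicGeometry Limits

namespace Groth.Agent.GrpdLib.OrbitQuot

variable {S : Scheme.{u}}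

/-- Factorization over a base of a morphism with flat kernel pair. -/
theorem exists_factor_over {A B : Over S} (f : A ⟶ B) [LocallyOfFinitePresentation A.hom]
    [LocallyOfFiniteType B.hom] (hflat : Flat (pullback.fst f f).left) :
    ∃ (Q : Over S) (p : A ⟶ Q) (i : Q ⟶ B), p ≫ i = f ∧ Surjective p.left ∧ Flat p.left ∧
      LocallyOfFinitePresentation p.left ∧ Mono i ∧ LocallyOfFinitePresentation Q.hom := by
  have : LocallyOfFinitePresentation (f.left ≫ B.hom) := by rw [Over.w f]; infer_instance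
  have : LocallyOfFinitePresentation f.left :=
    GrpScheme.FlatFib.locallyOfFinitePresentation_of_comp f.left B.hom
  have hsq := GrpOver.isPullback_left (IsPullback.of_hasPullback f f)
  have h' : Flat (pullback.fst f.left f.left) := by
    rw [← hsq.isoPullback_hom_fst] at hflat
    exact (MorphismProperty.cancel_left_of_respectsIso @Flat _ _).mp hflat
  obtain ⟨X', f', f'', h₁, h₂, h₃, h₄, e⟩ := EpiMonoFactor.exists_factor f.left h'
  refine ⟨Over.mk (f'' ≫ B.hom), Over.homMk f' (by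
      show f' ≫ f'' ≫ B.hom = _
      rw [reassoc_of% e, Over.w f]), Over.homMk f'' rfl, Over.OverMorphism.ext e, h₁, h₂, h₃,
    (Over.forget S).mono_of_mono_map (show Mono f'' from h₄), ?_⟩
  have : LocallyOfFinitePresentation (f' ≫ (Over.mk (f'' ≫ B.hom)).hom) := by
    show LocallyOfFinitePresentation (f' ≫ f'' ≫ B.hom)
    rw [reassoc_of% e]
    infer_instance
  exact FppfSourceDescent.locallyOfFinitePresentation_of_comp_fppf f' _

/-- A kernel pair does not change after composing with a monomorphism. -/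
lemma isPullback_of_comp_mono {P A Q B : Over S} {x y : P ⟶ A} {p : A ⟶ Q} (i : Q ⟶ B) [Mono i]
    (sq : IsPullback x y (p ≫ i) (p ≫ i)) : IsPullback x y p p :=
  have w : ∀ (c : PullbackCone p p), c.fst ≫ p ≫ i = c.snd ≫ p ≫ i := fun c => by
    rw [← Category.assoc, c.condition, Category.assoc]
  IsPullback.of_isLimit' ⟨by rw [← cancel_mono i]; simpa using sq.w⟩ (PullbackCone.IsLimit.mk _
    (fun c => sq.lift c.fst c.snd (w c)) (fun c => sq.lift_fst _ _ _) (fun c => sq.lift_snd _ _ _)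
    (fun c m h₁ h₂ => sq.hom_ext (by simpa using h₁) (by simpa using h₂)))

variable {G X : Over S} [GrpObj G] (a : AlgGrp.Action G X) (ξ : 𝟙_ (Over S) ⟶ X)

lemma comp_orbitMap {T : Over S} (g : T ⟶ G) :
    g ≫ a.orbitMap ξ = GrpScheme.Basic.smul a g (toUnit T ≫ ξ) := by
  rw [AlgGrp.Action.orbitMap, comp_lift_assoc, Category.comp_id, ← Category.assoc,
    toUnit_unique (g ≫ toUnit G) (toUnit T)]
  rfl

/-- The kernel pair of an orbit map is `G ⊗` stabiliser. -/
theorem isPullback_orbit :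
    IsPullback ((G ◁ pullback.fst (a.orbitMap ξ) ξ) ≫ μ[G]) (fst G (pullback (a.orbitMap ξ) ξ))
      (a.orbitMap ξ) (a.orbitMap ξ) := by
  let H := pullback (a.orbitMap ξ) ξ
  let j : H ⟶ G := pullback.fst (a.orbitMap ξ) ξ
  have hj : j ≫ a.orbitMap ξ = toUnit H ≫ ξ := by
    rw [pullback.condition, toUnit_unique (pullback.snd _ _) (toUnit H)]
  have hmul : (G ◁ j) ≫ μ[G] = fst G H * (snd G H ≫ j) := by
    rw [MonObj.mul_eq_mul, MonObj.comp_mul, whiskerLeft_fst, whiskerLeft_snd]
  have hstab : GrpScheme.Basic.smul a (snd G H ≫ j) (toUnit (G ⊗ H) ≫ ξ) = toUnit (G ⊗ H) ≫ ξ := by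
    rw [← comp_orbitMap, Category.assoc, hj, ← Category.assoc, toUnit_unique (snd G H ≫ toUnit H)]
  have w : ((G ◁ j) ≫ μ[G]) ≫ a.orbitMap ξ = fst G H ≫ a.orbitMap ξ := by
    rw [hmul, comp_orbitMap, comp_orbitMap, GrpScheme.Basic.mul_smul', hstab]
  have hsol : ∀ c : PullbackCone (a.orbitMap ξ) (a.orbitMap ξ),
      (c.snd⁻¹ * c.fst) ≫ a.orbitMap ξ = toUnit c.pt ≫ ξ := fun c => by
    rw [comp_orbitMap, GrpScheme.Basic.mul_smul', ← comp_orbitMap, c.condition, comp_orbitMap,
      GrpScheme.Basic.inv_smul_smul']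
  refine IsPullback.of_isLimit' ⟨w⟩ (PullbackCone.IsLimit.mk _
    (fun c => lift c.snd (pullback.lift (c.snd⁻¹ * c.fst) (toUnit c.pt) (hsol c)))
    (fun c => ?_) (fun c => lift_fst _ _) (fun c m h₁ h₂ => ?_))
  · rw [hmul, MonObj.comp_mul, lift_fst, lift_snd_assoc, pullback.lift_fst, mul_inv_cancel_left]
  · refine CartesianMonoidalCategory.hom_ext _ _ (h₂.trans (lift_fst _ _).symm) ?_
    rw [lift_snd]
    refine pullback.hom_ext ?_ (toUnit_unique _ _)
    rw [pullback.lift_fst, ← h₁, ← h₂, hmul, MonObj.comp_mul, Category.assoc, inv_mul_cancel_left]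

/-- The kernel pair of an orbit map with flat stabiliser is flat. -/
theorem flat_kernelPair (hH : Flat (pullback (a.orbitMap ξ) ξ).hom) :
    Flat (pullback.fst (a.orbitMap ξ) (a.orbitMap ξ)).left := by
  have sq := (isPullback_orbit a ξ).flip
  have h₁ : Flat (fst G (pullback (a.orbitMap ξ) ξ)).left :=
    MorphismProperty.pullback_fst G.hom (pullback (a.orbitMap ξ) ξ).hom hH
  rw [← sq.isoPullback_inv_fst, Over.comp_left]
  exact MorphismProperty.comp_mem _ _ _
    (MorphismProperty.of_isIso @Flat ((Over.forget S).map sq.isoPullback.inv)) h₁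

/-- The quotient of `G` by a flat stabiliser. -/
theorem exists_orbit_factor [LocallyOfFinitePresentation G.hom] [LocallyOfFiniteType X.hom]
    (hH : Flat (pullback (a.orbitMap ξ) ξ).hom) :
    ∃ (Q : Over S) (p : G ⟶ Q) (i : Q ⟶ X), p ≫ i = a.orbitMap ξ ∧
      Surjective p.left ∧ Flat p.left ∧ LocallyOfFinitePresentation p.left ∧ Mono i ∧
      LocallyOfFinitePresentation Q.hom ∧
      IsPullback ((G ◁ pullback.fst (a.orbitMap ξ) ξ) ≫ μ[G]) (fst G (pullback (a.orbitMap ξ) ξ)) p p := by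
  obtain ⟨Q, p, i, e, h₁, h₂, h₃, h₄, h₅⟩ := exists_factor_over (a.orbitMap ξ) (flat_kernelPair a ξ hH)
  exact ⟨Q, p, i, e, h₁, h₂, h₃, h₄, h₅, isPullback_of_comp_mono i (by rw [e]; exact isPullback_orbit a ξ)⟩

section Subgroup

variable {Q H : Over S} [GrpObj H] (i : Q ⟶ H) [Mono i] (m : Q ⊗ Q ⟶ Q) (e : 𝟙_ (Over S) ⟶ Q)
  (inv : Q ⟶ Q) (hm : m ≫ i = (fst Q Q ≫ i) * (snd Q Q ≫ i)) (he : e ≫ i = 1) (hinv : inv ≫ i = i⁻¹)

include hm in
lemma lift_mul {T : Over S} (x y : T ⟶ Q) : (lift x y ≫ m) ≫ i = (x ≫ i) * (y ≫ i) := by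
  rw [Category.assoc, hm, MonObj.comp_mul, lift_fst_assoc, lift_snd_assoc]

/-- A subobject closed under the operations is a group. -/
@[reducible] noncomputable def subgroup : GrpObj Q where
  one := e
  mul := m
  one_mul := by
    rw [← cancel_mono i, Category.assoc, hm, MonObj.comp_mul, whiskerRight_fst_assoc,
      whiskerRight_snd_assoc, he, MonObj.comp_one, _root_.one_mul, leftUnitor_hom]
  mul_one := by
    rw [← cancel_mono i, Category.assoc, hm, MonObj.comp_mul, whiskerLeft_fst_assoc,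
      whiskerLeft_snd_assoc, he, MonObj.comp_one, _root_.mul_one, rightUnitor_hom]
  mul_assoc := by
    rw [← cancel_mono i, Category.assoc, Category.assoc, Category.assoc, hm, MonObj.comp_mul,
      MonObj.comp_mul, MonObj.comp_mul]
    simp only [whiskerRight_fst_assoc, whiskerRight_snd_assoc, whiskerLeft_fst_assoc,
      whiskerLeft_snd_assoc, associator_hom_fst_assoc, associator_hom_snd_fst_assoc,
      associator_hom_snd_snd_assoc, Category.assoc, hm, MonObj.comp_mul, _root_.mul_assoc]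
  inv := inv
  left_inv := by
    rw [← cancel_mono i, lift_mul i m hm, Category.id_comp, hinv, inv_mul_cancel, Category.assoc, he,
      MonObj.comp_one]
  right_inv := by
    rw [← cancel_mono i, lift_mul i m hm, Category.id_comp, hinv, mul_inv_cancel, Category.assoc, he,
      MonObj.comp_one]

lemma isMonHom_incl : @IsMonHom _ _ _ Q H (subgroup i m e inv hm he hinv).toMonObj _ i := by
  let := subgroup i m e inv hm he hinv
  refine @IsMonHom.mk _ _ _ _ _ _ _ i ?_ ?_
  · exact he.trans (MonObj.one_eq_one _).symm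
  · show m ≫ i = (i ⊗ₘ i) ≫ μ
    rw [hm, MonObj.mul_eq_mul, MonObj.comp_mul, tensorHom_fst, tensorHom_snd]

end Subgroup

/-- The image of a homomorphism with flat kernel. -/
theorem exists_image_group (G H : Over S) [GrpObj G] [GrpObj H]
    [LocallyOfFinitePresentation G.hom] [LocallyOfFiniteType H.hom] (u : G ⟶ H) [IsMonHom u]
    (hK : Flat (pullback u η[H]).hom) :
    ∃ (Q : Over S) (_ : GrpObj Q) (p : G ⟶ Q) (i : Q ⟶ H), IsMonHom p ∧ IsMonHom i ∧ p ≫ i = u ∧
      Surjective p.left ∧ Flat p.left ∧ LocallyOfFinitePresentation p.left ∧ Mono i ∧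
      LocallyOfFinitePresentation Q.hom ∧ AlgGrp.IsKernel (pullback.fst u η[H]) p := by
  let a : AlgGrp.Action G H :=
    { act := (u ▷ H) ≫ μ[H]
      one_act := by
        rw [← comp_whiskerRight_assoc, IsMonHom.one_hom, MonObj.one_mul]
      mul_act := by
        simp only [MonObj.mul_eq_mul, MonObj.comp_mul, MonObj.mul_comp, whiskerRight_fst,
          whiskerRight_snd, whiskerRight_fst_assoc, whiskerRight_snd_assoc, whiskerLeft_fst,
          whiskerLeft_snd, whiskerLeft_fst_assoc, whiskerLeft_snd_assoc, associator_hom_fst,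
          associator_hom_fst_assoc, associator_hom_snd_fst, associator_hom_snd_fst_assoc,
          associator_hom_snd_snd, associator_hom_snd_snd_assoc, Category.assoc, _root_.mul_assoc] }
  have horb : a.orbitMap η[H] = u := by
    show lift (𝟙 G) (toUnit G ≫ η[H]) ≫ (u ▷ H) ≫ μ[H] = u
    rw [lift_whiskerRight_assoc, Category.id_comp, ← Hom.mul_def, ← Hom.one_def, _root_.mul_one]
  obtain ⟨Q, p, i, e, _, _, _, _, hQ⟩ := exists_factor_over u
    ((show ∀ v : G ⟶ H, v = a.orbitMap η[H] → Flat (pullback v η[H]).hom →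
      Flat (pullback.fst v v).left from by rintro _ rfl h; exact flat_kernelPair a _ h) u horb.symm hK)
  have hpp : ∀ {T : Over S} (x y : T ⟶ G), x ≫ u = y ≫ u → x ≫ p = y ≫ p := fun x y h => by
    rw [← cancel_mono i, Category.assoc, Category.assoc, e, h]
  have key : ∀ {A : Over S} (c : A ⟶ Q ⊗ Q) (_ : EffectiveEpi c.left) (φ : A ⟶ G),
      φ ≫ u = c ≫ ((fst Q Q ≫ i) * (snd Q Q ≫ i)) →
      ∃ m : Q ⊗ Q ⟶ Q, m ≫ i = (fst Q Q ≫ i) * (snd Q Q ≫ i) := fun {A} c _ φ h => by
    obtain ⟨m, hm, -⟩ := GrpOver.existsUnique_desc c (φ ≫ p) fun T x y hxy => by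
      rw [← Category.assoc, ← Category.assoc]
      refine hpp _ _ ?_
      rw [Category.assoc, Category.assoc, h, reassoc_of% hxy]
    refine ⟨m, GrpOver.cancel_left c ?_⟩
    rw [reassoc_of% hm, e, h]
  obtain ⟨m, hm⟩ : ∃ m : Q ⊗ Q ⟶ Q, m ≫ i = (fst Q Q ≫ i) * (snd Q Q ≫ i) := by
    refine key (p ⊗ₘ p) ?_ μ[G] ?_
    · have h : (@Surjective ⊓ @Flat ⊓ @LocallyOfFinitePresentation : MorphismProperty Scheme.{u})
          (p ⊗ₘ p).left := by
        rw [MonoidalCategory.tensorHom_def, Over.comp_left]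
        exact MorphismProperty.comp_mem _ _ _
          (GrpScheme.Basic.whiskerRight_mem _ p _ ⟨⟨inferInstance, inferInstance⟩, inferInstance⟩)
          (GrpScheme.Basic.whiskerLeft_mem _ p _ ⟨⟨inferInstance, inferInstance⟩, inferInstance⟩)
      obtain ⟨⟨_, _⟩, _⟩ := h
      infer_instance
    · rw [IsMonHom.mul_hom, MonObj.mul_eq_mul, MonObj.comp_mul, MonObj.comp_mul,
        tensorHom_fst, tensorHom_snd, tensorHom_fst_assoc, tensorHom_snd_assoc, e]
  obtain ⟨inv, hinv⟩ : ∃ inv : Q ⟶ Q, inv ≫ i = i⁻¹ := by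
    obtain ⟨n, hn, -⟩ := GrpOver.existsUnique_desc p ((𝟙 G)⁻¹ ≫ p) fun T x y hxy => by
      rw [← Category.assoc, ← Category.assoc]
      refine hpp _ _ ?_
      simp only [GrpObj.comp_inv, Category.comp_id, GrpObj.inv_comp]
      rw [← e, reassoc_of% hxy]
    refine ⟨n, GrpOver.cancel_left p ?_⟩
    rw [reassoc_of% hn, e, GrpObj.comp_inv, e, GrpObj.inv_comp, Category.id_comp]
  have he : (η[G] ≫ p) ≫ i = 1 := by
    rw [Category.assoc, e, IsMonHom.one_hom, MonObj.one_eq_one]
  letI := subgroup i m (η[G] ≫ p) inv hm he hinv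
  have hi : IsMonHom i := isMonHom_incl i m (η[G] ≫ p) inv hm he hinv
  refine ⟨Q, this, p, i, @IsMonHom.mk _ _ _ _ _ _ _ p ?_ ?_, hi, e, ‹_›, ‹_›, ‹_›, ‹_›, hQ, ?_⟩
  · rfl
  · rw [← cancel_mono i, Category.assoc, Category.assoc, e, IsMonHom.mul_hom,
      show μ[Q] ≫ i = (i ⊗ₘ i) ≫ μ[H] from IsMonHom.mul_hom (f := i), tensorHom_comp_tensorHom_assoc, e]
  · have h1 : η[Q] ≫ i = η[H] := IsMonHom.one_hom (f := i)
    have w : pullback.fst u η[H] ≫ p = toUnit _ ≫ η[Q] := by
      rw [← cancel_mono i, Category.assoc, e, Category.assoc, h1, pullback.condition,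
        toUnit_unique (pullback.snd u η[H])]
    refine IsPullback.of_isLimit' ⟨w⟩ (PullbackCone.IsLimit.mk _
      (fun c => pullback.lift c.fst (toUnit c.pt) ?_) (fun c => pullback.lift_fst _ _ _)
      (fun c => toUnit_unique _ _) (fun c n h₁ h₂ => ?_))
    · rw [← e, ← Category.assoc, c.condition, Category.assoc, h1, toUnit_unique c.snd (toUnit _)]
    · exact pullback.hom_ext (h₁.trans (pullback.lift_fst _ _ _).symm) (toUnit_unique _ _)

end Groth.Agent.GrpdLib.OrbitQuot
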