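import Mathlib.AlgebraicGeometry.AffineScheme
import Mathlib.AlgebraicGeometry.Gluing

/-!
# Affine quotients of a pair of morphisms

`p : U ⟶ Y` between affine schemes which is surjective, open, has the orbits as fibres and whose
functions are the equalizer, is a coequalizer of `t, s : R ⟶ U` in all schemes.
-/

universe u

set_option maxHeartbeats 400000

open CategoryTheory CategoryTheory.Limits AlgebraicGeometry

namespace Groth.Agent.GrpdLib

/-- Localisation of an equalizer of rings at an element. -/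
lemma equalizer_away {C A B C' A' B' : Type*} [CommRing C] [CommRing A] [CommRing B] [CommRing C']
    [CommRing A'] [CommRing B'] [Algebra C C'] [Algebra A A'] [Algebra B B'] {p : C →+* A}
    {σ τ : A →+* B} {p' : C' →+* A'} {σ' τ' : A' →+* B'} (c : C)
    [IsLocalization.Away c C'] [IsLocalization.Away (p c) A'] [IsLocalization.Away (σ (p c)) B']
    (hp : ∀ x, p' (algebraMap C C' x) = algebraMap A A' (p x))
    (hσ : ∀ x, σ' (algebraMap A A' x) = algebraMap B B' (σ x))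
    (hτ : ∀ x, τ' (algebraMap A A' x) = algebraMap B B' (τ x))
    (hw : ∀ x, τ (p x) = σ (p x)) (hinj : Function.Injective p)
    (hran : ∀ a, τ a = σ a → ∃ x, p x = a) :
    Function.Injective p' ∧ ∀ a, τ' a = σ' a → ∃ x, p' x = a := by
  refine ⟨(injective_iff_map_eq_zero p').mpr fun z hz => ?_, fun a ha => ?_⟩
  · obtain ⟨n, x, hx⟩ := IsLocalization.Away.surj c z
    have h0 : algebraMap A A' (p x) = 0 := by rw [← hp, ← hx, map_mul, hz, zero_mul]
    obtain ⟨⟨_, m, rfl⟩, hm⟩ := (IsLocalization.map_eq_zero_iff (Submonoid.powers (p c)) A' _).mp h0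
    have : algebraMap C C' (c ^ m * x) = 0 := by
      rw [show c ^ m * x = 0 from hinj (by simpa using hm), map_zero]
    rw [map_mul, ← hx, map_pow] at this
    have hu := IsLocalization.Away.algebraMap_isUnit (S := C') c
    exact (hu.pow n).mul_left_eq_zero.mp ((hu.pow m).mul_right_eq_zero.mp this)
  · obtain ⟨n, y, hy⟩ := IsLocalization.Away.surj (p c) a
    have h0 : algebraMap B B' (τ y) = algebraMap B B' (σ y) := by
      rw [← hσ, ← hτ, ← hy, map_mul, map_mul, ha, map_pow, map_pow, hσ, hτ, hw]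
    obtain ⟨⟨_, m, rfl⟩, hm⟩ := (IsLocalization.eq_iff_exists (Submonoid.powers (σ (p c))) B').mp h0
    obtain ⟨x, hx⟩ := hran (p c ^ m * y) (by simpa [hw] using hm)
    have hu := IsLocalization.Away.algebraMap_isUnit (S := C') c
    refine ⟨algebraMap C C' x * ↑((hu.pow (n + m)).unit⁻¹), ?_⟩
    have hu' : IsUnit (algebraMap A A' (p c) ^ (n + m)) :=
      (IsLocalization.Away.algebraMap_isUnit (p c)).pow _
    apply hu'.mul_left_cancel
    have e1 : p' (↑((hu.pow (n + m)).unit⁻¹) : C') * algebraMap A A' (p c) ^ (n + m) = 1 := by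
      have := congrArg p' (hu.pow (n + m)).val_inv_mul
      rwa [map_mul, map_pow, hp, map_one] at this
    rw [map_mul, hp, hx, map_mul, map_pow, ← hy]
    linear_combination (algebraMap A A' (p c) ^ m * a * algebraMap A A' (p c) ^ n) * e1

lemma equalizer_away_hom {C A B C' A' B' : Type*} [CommRing C] [CommRing A] [CommRing B]
    [CommRing C'] [CommRing A'] [CommRing B'] (lC : C →+* C') (lA : A →+* A') (lB : B →+* B')
    (p : C →+* A) (σ τ : A →+* B) (p' : C' →+* A') (σ' τ' : A' →+* B') (c : C)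
    (hC : @IsLocalization.Away _ _ c C' _ lC.toAlgebra)
    (hA : @IsLocalization.Away _ _ (p c) A' _ lA.toAlgebra)
    (hB : @IsLocalization.Away _ _ (σ (p c)) B' _ lB.toAlgebra)
    (hp : ∀ x, p' (lC x) = lA (p x)) (hσ : ∀ x, σ' (lA x) = lB (σ x))
    (hτ : ∀ x, τ' (lA x) = lB (τ x))
    (hw : ∀ x, τ (p x) = σ (p x)) (hinj : Function.Injective p)
    (hran : ∀ a, τ a = σ a → ∃ x, p x = a) :
    Function.Injective p' ∧ ∀ a, τ' a = σ' a → ∃ x, p' x = a :=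
  let := lC.toAlgebra
  let := lA.toAlgebra
  let := lB.toAlgebra
  equalizer_away (σ := σ) c hp hσ hτ hw hinj hran

lemma isLocalization_toScheme {X : Scheme.{u}} [IsAffine X] {V : X.Opens} (r : Γ(X, ⊤))
    (e : V = X.basicOpen r) :
    @IsLocalization.Away _ _ r Γ(V.toScheme, ⊤) _ V.ι.appTop.hom.toAlgebra := by
  subst e
  convert AlgebraicGeometry.Γ_restrict_isLocalization X r

/-- An affine quotient of the pair `(t, s)`. -/
structure IsAffQuot {R U Y : Scheme.{u}} (t s : R ⟶ U) (p : U ⟶ Y) : Prop where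
  affR : IsAffine R
  affU : IsAffine U
  affY : IsAffine Y
  w : t ≫ p = s ≫ p
  surj : Function.Surjective p
  isOpenMap : IsOpenMap p
  fibre : ∀ x y, p x = p y → ∃ r, t r = x ∧ s r = y
  inj : Function.Injective p.appTop
  range : ∀ a, t.appTop a = s.appTop a → ∃ c, p.appTop c = a

namespace IsAffQuot

variable {R U Y : Scheme.{u}} {t s : R ⟶ U} {p : U ⟶ Y} (h : IsAffQuot t s p)
include h

lemma le_preimage_s (D : Y.Opens) : (t ≫ p) ⁻¹ᵁ D ≤ s ⁻¹ᵁ (p ⁻¹ᵁ D) := by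
  rw [h.w]; rfl

lemma inj_range_basicOpen (c : Γ(Y, ⊤)) :
    Function.Injective (p ∣_ Y.basicOpen c).appTop ∧
      ∀ a, (t.resLE (p ⁻¹ᵁ Y.basicOpen c) ((t ≫ p) ⁻¹ᵁ Y.basicOpen c) le_rfl).appTop a =
        (s.resLE (p ⁻¹ᵁ Y.basicOpen c) ((t ≫ p) ⁻¹ᵁ Y.basicOpen c) (h.le_preimage_s _)).appTop a →
          ∃ x, (p ∣_ Y.basicOpen c).appTop x = a := by
  have := h.affR; have := h.affU; have := h.affY
  have eR : (t ≫ p) ⁻¹ᵁ Y.basicOpen c = R.basicOpen (s.appTop (p.appTop c)) := by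
    rw [h.w, Scheme.preimage_basicOpen_top]; rfl
  have h1 := fun x => congrArg (fun f => (Scheme.Hom.appTop f).hom x)
    (morphismRestrict_ι p (Y.basicOpen c))
  have h2 := fun x => congrArg (fun f => (Scheme.Hom.appTop f).hom x)
    (Scheme.Hom.resLE_comp_ι s (h.le_preimage_s (Y.basicOpen c)))
  have h3 := fun x => congrArg (fun f => (Scheme.Hom.appTop f).hom x)
    (Scheme.Hom.resLE_comp_ι t (V := (t ≫ p) ⁻¹ᵁ Y.basicOpen c) (U := p ⁻¹ᵁ Y.basicOpen c) le_rfl)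
  have hw := fun x => congrArg (fun f => (Scheme.Hom.appTop f).hom x) h.w
  simp only [Scheme.Hom.comp_appTop, CommRingCat.hom_comp, RingHom.comp_apply] at h1 h2 h3 hw
  exact equalizer_away_hom (Y.basicOpen c).ι.appTop.hom (p ⁻¹ᵁ Y.basicOpen c).ι.appTop.hom
    ((t ≫ p) ⁻¹ᵁ Y.basicOpen c).ι.appTop.hom p.appTop.hom s.appTop.hom t.appTop.hom
    (p ∣_ Y.basicOpen c).appTop.hom _ _ c (isLocalization_toScheme c rfl)
    (isLocalization_toScheme (p.appTop c) (Scheme.preimage_basicOpen_top p c))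
    (isLocalization_toScheme _ eR) h1 h2 h3 hw h.inj h.range

/-- Restriction to a basic open of the quotient. -/
lemma basicOpen (c : Γ(Y, ⊤)) :
    IsAffQuot (t.resLE (p ⁻¹ᵁ Y.basicOpen c) ((t ≫ p) ⁻¹ᵁ Y.basicOpen c) le_rfl)
      (s.resLE (p ⁻¹ᵁ Y.basicOpen c) ((t ≫ p) ⁻¹ᵁ Y.basicOpen c) (h.le_preimage_s _))
      (p ∣_ Y.basicOpen c) := by
  have := h.affR; have := h.affU; have := h.affY
  set D := Y.basicOpen c
  have eU : p ⁻¹ᵁ D = U.basicOpen (p.appTop c) := Scheme.preimage_basicOpen_top p c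
  have eR : (t ≫ p) ⁻¹ᵁ D = R.basicOpen (s.appTop (p.appTop c)) := by
    rw [h.w, Scheme.preimage_basicOpen_top]; rfl
  have hres : ∀ r, (p ∣_ D) r = ⟨p r.1, r.2⟩ := fun r => by
    apply Subtype.ext
    show D.ι ((p ∣_ D) r) = _
    rw [← Scheme.Hom.comp_apply, morphismRestrict_ι]; rfl
  refine
    { affR := by rw [eR]; exact (isAffineOpen_top R).basicOpen _
      affU := by rw [eU]; exact (isAffineOpen_top U).basicOpen _
      affY := (isAffineOpen_top Y).basicOpen c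
      w := ?_
      surj := fun y => ?_
      isOpenMap := ?_
      fibre := fun x y hxy => ?_
      inj := ?_
      range := ?_ }
  · rw [← cancel_mono D.ι]; simp [h.w]
  · obtain ⟨x, hx⟩ := h.surj y.1
    exact ⟨⟨x, show p x ∈ D by rw [hx]; exact y.2⟩, by rw [hres]; exact Subtype.ext hx⟩
  · intro O hO
    have : ((p ∣_ D) '' O) = D.ι ⁻¹' (p '' ((p ⁻¹ᵁ D).ι '' O)) := by
      ext y
      constructor
      · rintro ⟨r, hr, rfl⟩
        exact ⟨r.1, ⟨r, hr, rfl⟩, by rw [hres]; rfl⟩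
      · rintro ⟨_, ⟨r, hr, rfl⟩, hy⟩
        exact ⟨r, hr, by rw [hres]; exact Subtype.ext hy⟩
    rw [this]
    exact (h.isOpenMap _ ((p ⁻¹ᵁ D).ι.isOpenEmbedding.isOpenMap _ hO)).preimage D.ι.continuous
  · rw [hres, hres] at hxy
    obtain ⟨r, hr₁, hr₂⟩ := h.fibre x.1 y.1 (congrArg Subtype.val hxy)
    refine ⟨⟨r, show p (t r) ∈ D by rw [hr₁]; exact x.2⟩, ?_, ?_⟩
    · apply Subtype.ext
      show (p ⁻¹ᵁ D).ι (Scheme.Hom.resLE t _ _ _ _) = _
      rw [← Scheme.Hom.comp_apply, Scheme.Hom.resLE_comp_ι]; exact hr₁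
    · apply Subtype.ext
      show (p ⁻¹ᵁ D).ι (Scheme.Hom.resLE s _ _ _ _) = _
      rw [← Scheme.Hom.comp_apply, Scheme.Hom.resLE_comp_ι]; exact hr₂
  · exact (h.inj_range_basicOpen c).1
  · exact (h.inj_range_basicOpen c).2

lemma hom_ext_of_isAffine {Z : Scheme.{u}} [IsAffine Z] {f g : Y ⟶ Z} (e : p ≫ f = p ≫ g) :
    f = g := by
  refine ext_of_isAffine ?_
  refine CommRingCat.hom_ext (RingHom.ext fun x => ?_)
  exact h.inj (congrArg (fun f => (Scheme.Hom.appTop f).hom x) e)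

/-- An affine quotient is an epimorphism. -/
lemma hom_ext {Z : Scheme.{u}} {f g : Y ⟶ Z} (e : p ≫ f = p ≫ g) : f = g := by
  have := h.affY
  have hpt : ∀ y, f y = g y := fun y => by
    obtain ⟨x, rfl⟩ := h.surj y
    rw [← Scheme.Hom.comp_apply, e, Scheme.Hom.comp_apply]
  have : ∀ y : Y, ∃ (c : Γ(Y, ⊤)), y ∈ Y.basicOpen c ∧
      (Y.basicOpen c).ι ≫ f = (Y.basicOpen c).ι ≫ g := by
    intro y
    obtain ⟨V, hV, hyV, -⟩ := exists_isAffineOpen_mem_and_subset (U := (⊤ : Z.Opens))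
      (TopologicalSpace.Opens.mem_top (f y))
    obtain ⟨c, hc, hyc⟩ := (isAffineOpen_top Y).exists_basicOpen_le (V := f ⁻¹ᵁ V) ⟨y, hyV⟩
      (TopologicalSpace.Opens.mem_top y)
    refine ⟨c, hyc, ?_⟩
    have hf : Y.basicOpen c ≤ f ⁻¹ᵁ V := hc
    have hg : Y.basicOpen c ≤ g ⁻¹ᵁ V := fun z hz => show g z ∈ V by rw [← hpt]; exact hf hz
    have : IsAffine V := hV
    rw [← Scheme.Hom.resLE_comp_ι f hf, ← Scheme.Hom.resLE_comp_ι g hg]
    congr 1
    refine (h.basicOpen c).hom_ext_of_isAffine ?_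
    rw [← cancel_mono V.ι]
    simp [e]
  choose c hmem heq using this
  exact Scheme.Cover.hom_ext (Y.openCoverOfIsOpenCover (fun y => Y.basicOpen (c y))
    (TopologicalSpace.IsOpenCover.mk (eq_top_iff.mpr fun y _ =>
      TopologicalSpace.Opens.mem_iSup.mpr ⟨y, hmem y⟩))) _ _ heq

lemma exists_desc_of_isAffine {Z : Scheme.{u}} [IsAffine Z] (g : U ⟶ Z) (hg : t ≫ g = s ≫ g) :
    ∃ f : Y ⟶ Z, p ≫ f = g := by
  have := h.affY
  have hφ : ∀ x, ∃ c, p.appTop c = g.appTop x := fun x =>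
    h.range _ (congrArg (fun f => (Scheme.Hom.appTop f).hom x) hg)
  choose φ hφ using hφ
  let φ' : Γ(Z, ⊤) →+* Γ(Y, ⊤) :=
    { toFun := φ
      map_one' := h.inj (by rw [hφ, map_one, map_one])
      map_mul' := fun x y => h.inj (by rw [hφ, map_mul, map_mul, hφ, hφ])
      map_zero' := h.inj (by rw [hφ, map_zero, map_zero])
      map_add' := fun x y => h.inj (by rw [hφ, map_add, map_add, hφ, hφ]) }
  refine ⟨Y.isoSpec.hom ≫ Spec.map (CommRingCat.ofHom φ') ≫ Z.isoSpec.inv, ?_⟩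
  have := h.affU
  rw [← cancel_mono Z.isoSpec.hom]
  simp only [Category.assoc, Iso.inv_hom_id, Category.comp_id]
  rw [← Scheme.isoSpec_hom_naturality_assoc, ← Spec.map_comp, ← Scheme.isoSpec_hom_naturality]
  congr 2
  exact CommRingCat.hom_ext (RingHom.ext fun x => hφ x)

lemma hom_ext_open (O : Y.Opens) {Z : Scheme.{u}} {f g : (O : Scheme) ⟶ Z}
    (e : p ∣_ O ≫ f = p ∣_ O ≫ g) : f = g := by
  have := h.affY
  have hc : ∀ y : O, ∃ c : Γ(Y, ⊤), Y.basicOpen c ≤ O ∧ y.1 ∈ Y.basicOpen c := fun y =>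
    (isAffineOpen_top Y).exists_basicOpen_le (V := O) ⟨y.1, y.2⟩ (TopologicalSpace.Opens.mem_top _)
  choose c hle hmem using hc
  let 𝒰 : (O : Scheme).OpenCover := Scheme.Cover.mkOfCovers O (fun y => Y.basicOpen (c y))
    (fun y => Y.homOfLE (hle y))
    (fun y => ⟨y, ⟨y.1, hmem y⟩, by apply Subtype.ext; simp⟩) (fun _ => inferInstance)
  refine Scheme.Cover.hom_ext 𝒰 _ _ fun y => (h.basicOpen (c y)).hom_ext ?_
  have hp : p ∣_ Y.basicOpen (c y) ≫ Y.homOfLE (hle y) =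
      U.homOfLE (p.preimage_mono (hle y)) ≫ p ∣_ O := by
    rw [← cancel_mono O.ι]; simp
  show p ∣_ _ ≫ Y.homOfLE (hle y) ≫ f = p ∣_ _ ≫ Y.homOfLE (hle y) ≫ g
  rw [reassoc_of% hp, reassoc_of% hp, e]

/-- An affine quotient is a coequalizer over every open of the quotient. -/
lemma exists_desc_open (O : Y.Opens) {Z : Scheme.{u}} (g : ((p ⁻¹ᵁ O : U.Opens) : Scheme) ⟶ Z)
    (hg : t.resLE (p ⁻¹ᵁ O) ((t ≫ p) ⁻¹ᵁ O) le_rfl ≫ g =
      s.resLE (p ⁻¹ᵁ O) ((t ≫ p) ⁻¹ᵁ O) (h.le_preimage_s _) ≫ g) :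
    ∃ f : (O : Scheme) ⟶ Z, p ∣_ O ≫ f = g := by
  have := h.affY
  have : ∀ y : O, ∃ (c : Γ(Y, ⊤)) (hcO : Y.basicOpen c ≤ O)
      (f : (Y.basicOpen c).toScheme ⟶ Z), y.1 ∈ Y.basicOpen c ∧
      p ∣_ Y.basicOpen c ≫ f = U.homOfLE (p.preimage_mono hcO) ≫ g := by
    rintro ⟨y, hy⟩
    obtain ⟨x, rfl⟩ := h.surj y
    obtain ⟨V, hV, hxV, -⟩ := exists_isAffineOpen_mem_and_subset (U := (⊤ : Z.Opens))
      (TopologicalSpace.Opens.mem_top (g ⟨x, hy⟩))
    let T : U.Opens := (p ⁻¹ᵁ O).ι ''ᵁ (g ⁻¹ᵁ V)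
    obtain ⟨c, hc, hyc⟩ := (isAffineOpen_top Y).exists_basicOpen_le
      (V := ⟨p '' (T : Set U), h.isOpenMap _ T.isOpen⟩) ⟨p x, x, ⟨⟨x, hy⟩, hxV, rfl⟩, rfl⟩
      (TopologicalSpace.Opens.mem_top _)
    have hcO : Y.basicOpen c ≤ O := fun w hw => by
      obtain ⟨_, ⟨z, -, rfl⟩, rfl⟩ := hc hw; exact z.2
    have hle : ∀ z : (p ⁻¹ᵁ Y.basicOpen c : U.Opens),
        g (U.homOfLE (p.preimage_mono hcO) z) ∈ V := by
      intro z
      obtain ⟨_, ⟨z', hz', rfl⟩, he⟩ := hc z.2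
      obtain ⟨r, hr₁, hr₂⟩ := h.fibre _ _ he
      let r' : ((t ≫ p) ⁻¹ᵁ O : R.Opens) := ⟨r, show p (t r) ∈ O by rw [hr₁]; exact z'.2⟩
      have e₁ : t.resLE (p ⁻¹ᵁ O) ((t ≫ p) ⁻¹ᵁ O) le_rfl r' = z' := by
        apply (p ⁻¹ᵁ O).ι.isOpenEmbedding.injective
        rw [← Scheme.Hom.comp_apply, Scheme.Hom.resLE_comp_ι]; exact hr₁
      have e₂ : s.resLE (p ⁻¹ᵁ O) ((t ≫ p) ⁻¹ᵁ O) (h.le_preimage_s _) r' =
          U.homOfLE (p.preimage_mono hcO) z := by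
        apply (p ⁻¹ᵁ O).ι.isOpenEmbedding.injective
        rw [← Scheme.Hom.comp_apply, Scheme.Hom.resLE_comp_ι, ← Scheme.Hom.comp_apply,
          Scheme.homOfLE_ι]
        exact hr₂
      rw [← e₂, ← Scheme.Hom.comp_apply, ← hg, Scheme.Hom.comp_apply, e₁]
      exact hz'
    have : IsAffine V := hV
    have hrange : Set.range (U.homOfLE (p.preimage_mono hcO) ≫ g) ⊆ Set.range V.ι := by
      rintro _ ⟨z, rfl⟩
      rw [Scheme.Opens.range_ι, Scheme.Hom.comp_apply]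
      exact hle z
    have hR : (t ≫ p) ⁻¹ᵁ Y.basicOpen c ≤ (t ≫ p) ⁻¹ᵁ O := Scheme.Hom.preimage_mono _ hcO
    obtain ⟨f, hf⟩ := (h.basicOpen c).exists_desc_of_isAffine
      (IsOpenImmersion.lift V.ι _ hrange) (by
      rw [← cancel_mono V.ι, Category.assoc, Category.assoc, IsOpenImmersion.lift_fac]
      have e₁ : t.resLE (p ⁻¹ᵁ Y.basicOpen c) ((t ≫ p) ⁻¹ᵁ Y.basicOpen c) le_rfl ≫
          U.homOfLE (p.preimage_mono hcO) =
          R.homOfLE hR ≫ t.resLE (p ⁻¹ᵁ O) ((t ≫ p) ⁻¹ᵁ O) le_rfl := by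
        rw [← cancel_mono (p ⁻¹ᵁ O).ι]; simp
      have e₂ : s.resLE (p ⁻¹ᵁ Y.basicOpen c) ((t ≫ p) ⁻¹ᵁ Y.basicOpen c) (h.le_preimage_s _) ≫
          U.homOfLE (p.preimage_mono hcO) =
          R.homOfLE hR ≫ s.resLE (p ⁻¹ᵁ O) ((t ≫ p) ⁻¹ᵁ O) (h.le_preimage_s _) := by
        rw [← cancel_mono (p ⁻¹ᵁ O).ι]; simp
      rw [reassoc_of% e₁, reassoc_of% e₂, hg])
    exact ⟨c, hcO, f ≫ V.ι, hyc, by rw [reassoc_of% hf, IsOpenImmersion.lift_fac]⟩
  choose c hcO f hmem hf using this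
  let 𝒰 : (O : Scheme).OpenCover := Scheme.Cover.mkOfCovers O (fun y => Y.basicOpen (c y))
    (fun y => Y.homOfLE (hcO y))
    (fun y => ⟨y, ⟨y.1, hmem y⟩, by apply Subtype.ext; simp⟩) (fun _ => inferInstance)
  have hglue : ∀ a b : O, pullback.fst (Y.homOfLE (hcO a)) (Y.homOfLE (hcO b)) ≫ f a =
      pullback.snd (Y.homOfLE (hcO a)) (Y.homOfLE (hcO b)) ≫ f b := by
    intro a b
    have hle₁ : Y.basicOpen (c a * c b) ≤ Y.basicOpen (c a) := by
      rw [Scheme.basicOpen_mul]; exact inf_le_left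
    have hle₂ : Y.basicOpen (c a * c b) ≤ Y.basicOpen (c b) := by
      rw [Scheme.basicOpen_mul]; exact inf_le_right
    let φ : pullback (Y.homOfLE (hcO a)) (Y.homOfLE (hcO b)) ⟶ Y :=
      pullback.fst _ _ ≫ (Y.basicOpen (c a)).ι
    have hcond : φ = pullback.snd _ _ ≫ (Y.basicOpen (c b)).ι := by
      simpa [φ] using congrArg (· ≫ O.ι)
        (pullback.condition (f := Y.homOfLE (hcO a)) (g := Y.homOfLE (hcO b)))
    have hrange : Set.range φ ⊆ Set.range (Y.basicOpen (c a * c b)).ι := by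
      rintro _ ⟨z, rfl⟩
      rw [Scheme.Opens.range_ι, Scheme.basicOpen_mul]
      refine ⟨(pullback.fst (Y.homOfLE (hcO a)) (Y.homOfLE (hcO b)) z).2, ?_⟩
      rw [hcond]
      exact (pullback.snd (Y.homOfLE (hcO a)) (Y.homOfLE (hcO b)) z).2
    let l := IsOpenImmersion.lift (Y.basicOpen (c a * c b)).ι φ hrange
    have hl₁ : pullback.fst _ _ = l ≫ Y.homOfLE hle₁ := by
      rw [← cancel_mono (Y.basicOpen (c a)).ι]; simp [l, φ]
    have hl₂ : pullback.snd _ _ = l ≫ Y.homOfLE hle₂ := by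
      rw [← cancel_mono (Y.basicOpen (c b)).ι]; simp [l, hcond]
    rw [hl₁, hl₂, Category.assoc, Category.assoc]
    congr 1
    refine (h.basicOpen (c a * c b)).hom_ext ?_
    have hp₁ : p ∣_ Y.basicOpen (c a * c b) ≫ Y.homOfLE hle₁ =
        U.homOfLE (p.preimage_mono hle₁) ≫ p ∣_ Y.basicOpen (c a) := by
      rw [← cancel_mono (Y.basicOpen (c a)).ι]; simp
    have hp₂ : p ∣_ Y.basicOpen (c a * c b) ≫ Y.homOfLE hle₂ =
        U.homOfLE (p.preimage_mono hle₂) ≫ p ∣_ Y.basicOpen (c b) := by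
      rw [← cancel_mono (Y.basicOpen (c b)).ι]; simp
    rw [reassoc_of% hp₁, reassoc_of% hp₂, hf, hf]
    simp
  refine ⟨𝒰.glueMorphisms f hglue, ?_⟩
  let 𝒱 : ((p ⁻¹ᵁ O : U.Opens) : Scheme).OpenCover :=
    Scheme.Cover.mkOfCovers O (fun y => (p ⁻¹ᵁ Y.basicOpen (c y) : U.Opens))
      (fun y => U.homOfLE (p.preimage_mono (hcO y)))
      (fun x => ⟨⟨p x.1, x.2⟩, ⟨x.1, hmem ⟨p x.1, x.2⟩⟩, by apply Subtype.ext; simp⟩)
      (fun _ => inferInstance)
  refine Scheme.Cover.hom_ext 𝒱 _ _ fun y => ?_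
  show U.homOfLE (p.preimage_mono (hcO y)) ≫ p ∣_ O ≫ _ =
    U.homOfLE (p.preimage_mono (hcO y)) ≫ g
  have hp : U.homOfLE (p.preimage_mono (hcO y)) ≫ p ∣_ O =
      p ∣_ Y.basicOpen (c y) ≫ Y.homOfLE (hcO y) := by
    rw [← cancel_mono O.ι]; simp
  rw [reassoc_of% hp]
  erw [Scheme.Cover.ι_glueMorphisms 𝒰 f hglue y]
  exact hf y

/-- An affine quotient is a coequalizer in the category of schemes. -/
lemma exists_desc {Z : Scheme.{u}} (g : U ⟶ Z) (hg : t ≫ g = s ≫ g) :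
    ∃ f : Y ⟶ Z, p ≫ f = g := by
  obtain ⟨f, hf⟩ := h.exists_desc_open ⊤ ((p ⁻¹ᵁ ⊤).ι ≫ g) (by simp [hg])
  refine ⟨Y.topIso.inv ≫ f, ?_⟩
  rw [← cancel_epi U.topIso.hom]
  refine Eq.trans ?_ hf
  have e : U.topIso.hom ≫ p = p ∣_ ⊤ ≫ Y.topIso.hom := (morphismRestrict_ι p ⊤).symm
  rw [reassoc_of% e]
  exact congrArg (p ∣_ ⊤ ≫ ·) (Iso.hom_inv_id_assoc Y.topIso f)

end IsAffQuot

end Groth.Agent.GrpdLib
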