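import Groth.Agent.GrpdLib.InvAffine
import Groth.Agent.GrpdLib.AffQuot
import Groth.Agent.FlatOpen.Scheme
import Groth.Agent.GrpScheme.HomFlat
import Groth.Agent.RedSub.Basic

/-!
# Invariant affine opens around generic orbits
-/

set_option autoImplicit false
set_option maxHeartbeats 400000
set_option backward.isDefEq.respectTransparency false
set_option backward.isDefEq.respectTransparency.types false

universe u

open CategoryTheory CategoryTheory.Limits AlgebraicGeometry TopologicalSpace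

namespace Groth.Agent.GrpdLib.GenericNorm

lemma surjective_redι (X : Scheme.{u}) : Function.Surjective X.nilradical.subschemeι := fun x => by
  show x ∈ Set.range X.nilradical.subschemeι
  rw [Scheme.IdealSheafData.range_subschemeι, Scheme.support_nilradical]
  trivial

lemma isReduced_red (X : Scheme.{u}) : IsReduced X.nilradical.subscheme :=
  Scheme.IdealSheafData.vanishingIdeal_top (X := X) ▸ Groth.Agent.RedSub.isReduced_vanishingIdeal _

/-- A finite finitely presented morphism is flat over the reduction near maximal points. -/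
lemma exists_flat_nhd {R U : Scheme.{u}} (f : R ⟶ U) [IsFinite f] [LocallyOfFinitePresentation f] :
    ∃ N : U.Opens, (∀ x : U, (∀ w, w ⤳ x → w = x) → x ∈ N) ∧
      Flat (pullback.snd f U.nilradical.subschemeι ∣_ (U.nilradical.subschemeι ⁻¹ᵁ N)) := by
  have := isReduced_red U
  let ι := U.nilradical.subschemeι
  let g := pullback.snd f ι
  let F : Set ↥(pullback f ι) := {z | (g.stalkMap z).hom.Flat}ᶜ
  have hF : IsClosed F := (Groth.Agent.FlatOpen.Scheme.isOpen_stalkMap_flat g).isClosed_compl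
  let N : U.Opens := ⟨(ι '' (g '' F))ᶜ,
    (ι.isClosedMap _ (g.isClosedMap _ hF)).isOpen_compl⟩
  refine ⟨N, fun x hx => ?_, ?_⟩
  · rintro ⟨y, ⟨z, hz, rfl⟩, rfl⟩
    have hmax : GrpScheme.Component.IsMaxGen (g z) := fun w hw =>
      ι.isClosedEmbedding.injective (hx _ (hw.map ι.continuous))
    let : Field (U.nilradical.subscheme.presheaf.stalk (g z)) :=
      (GrpScheme.HomFlat.isField_stalk hmax).toField
    refine hz ?_
    let := (g.stalkMap z).hom.toAlgebra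
    exact (inferInstance : Module.Flat (U.nilradical.subscheme.presheaf.stalk (g z))
      ((pullback f ι).presheaf.stalk z))
  · refine Flat.of_stalkMap _ fun z => ?_
    have : (RingHom.toMorphismProperty RingHom.Flat).RespectsIso :=
      RingHom.toMorphismProperty_respectsIso_iff.mp RingHom.Flat.respectsIso
    refine ((RingHom.toMorphismProperty RingHom.Flat).arrow_mk_iso_iff
      (morphismRestrictStalkMap g (ι ⁻¹ᵁ N) z)).2 ?_
    exact not_not.1 fun h => z.2 ⟨_, ⟨z.1, h, rfl⟩, rfl⟩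

variable {U : Scheme.{u}} {A : Type u} [CommRing A] (j : U ⟶ Spec (CommRingCat.of A)) [IsImmersion j]
  (I : Ideal A) (hI : ∀ x : U, j x ∉ PrimeSpectrum.zeroLocus (I : Set A))
  (hcl : IsClosed (PrimeSpectrum.zeroLocus (I : Set A) ∪ Set.range j))

include hcl in
lemma isClosedImmersion_restrict {h : A} (hh : h ∈ I) :
    IsClosedImmersion (j ∣_ PrimeSpectrum.basicOpen h) := by
  let D : (Spec (CommRingCat.of A)).Opens := PrimeSpectrum.basicOpen h
  refine IsClosedImmersion.of_isPreimmersion _ ?_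
  have : Set.range (j ∣_ D) = D.ι ⁻¹' (PrimeSpectrum.zeroLocus (I : Set A) ∪ Set.range j) := by
    ext y
    constructor
    · rintro ⟨x, rfl⟩
      refine Or.inr ⟨x.1, ?_⟩
      rw [← Scheme.Hom.comp_apply (j ∣_ D) D.ι, morphismRestrict_ι]
      rfl
    · rintro (hy | ⟨x, hx⟩)
      · exact absurd (hy hh) y.2
      · refine ⟨⟨x, show j x ∈ D from hx ▸ y.2⟩, D.ι.isOpenEmbedding.injective ?_⟩
        rw [← Scheme.Hom.comp_apply, morphismRestrict_ι]
        exact hx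
  rw [this]
  exact hcl.preimage D.ι.continuous

include hcl in
lemma isAffineOpen_preimage {h : A} (hh : h ∈ I) :
    IsAffineOpen (j ⁻¹ᵁ PrimeSpectrum.basicOpen h) := by
  have := isClosedImmersion_restrict j I hcl hh
  let D : (Spec (CommRingCat.of A)).Opens := PrimeSpectrum.basicOpen h
  have : IsAffine D.toScheme := IsAffineOpen.Spec_basicOpen (R := CommRingCat.of A) h
  exact isAffine_of_isAffineHom (j ∣_ D)

include hI in
lemma exists_basicOpen_le {O : Set U} (hO : O.Finite) (N : U.Opens) (hON : O ⊆ N) :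
    ∃ h ∈ I, O ⊆ j ⁻¹ᵁ PrimeSpectrum.basicOpen h ∧ j ⁻¹ᵁ PrimeSpectrum.basicOpen h ≤ N := by
  classical
  obtain ⟨J, hJ⟩ : ∃ J : Ideal A, (closure (j '' (N : Set U)ᶜ) : Set (PrimeSpectrum A)) = PrimeSpectrum.zeroLocus (J : Set A) :=
    (PrimeSpectrum.isClosed_iff_zeroLocus_ideal (R := A) _).mp isClosed_closure
  have hpre : ∀ x, j x ∈ closure (j '' (N : Set U)ᶜ) → x ∉ N := fun x hx => by
    have h1 := j.isEmbedding.isInducing.closure_eq_preimage_closure_image (s := (N : Set U)ᶜ)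
    rw [N.isOpen.isClosed_compl.closure_eq] at h1
    have h2 : x ∈ ((N : Set U)ᶜ) := by rw [h1]; exact hx
    exact h2
  have hav : ∃ h ∈ I * J, ∀ x ∈ O, h ∉ (j x).asIdeal := by
    by_contra hc
    push Not at hc
    have hfin := hO.image fun x => (j x).asIdeal
    have hprime : ∀ Q ∈ hfin.toFinset, Q.IsPrime := fun Q hQ => by
      obtain ⟨x, -, rfl⟩ := hfin.mem_toFinset.1 hQ
      exact (j x).isPrime
    obtain ⟨Q, hQ, hle⟩ := (Ideal.subset_union_prime (I := I * J) (f := id) ⊥ ⊥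
      fun Q hQ _ _ => hprime Q hQ).mp fun a ha => by
        obtain ⟨x, hx, hax⟩ := hc a ha
        exact Set.mem_biUnion (hfin.mem_toFinset.2 ⟨x, hx, rfl⟩) hax
    obtain ⟨x, hx, rfl⟩ := hfin.mem_toFinset.1 hQ
    rcases (j x).isPrime.mul_le.mp hle with hle | hle
    · exact hI x hle
    · exact hpre x (by rw [hJ]; exact hle) (hON hx)
  obtain ⟨h, hh, hO'⟩ := hav
  have hI' : h ∈ I := (Ideal.mul_le_left : I * J ≤ I) hh
  have hJ' : h ∈ J := (Ideal.mul_le_right : I * J ≤ J) hh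
  refine ⟨h, hI', fun x hx => ?_, fun x hx => ?_⟩
  · exact hO' x hx
  by_contra hxN
  have h1 : j x ∈ closure (j '' (N : Set U)ᶜ) := subset_closure ⟨x, hxN, rfl⟩
  have h2 : (j x : PrimeSpectrum A) ∈ PrimeSpectrum.zeroLocus (J : Set A) := hJ.subset h1
  have h3 : h ∈ (j x).asIdeal := (PrimeSpectrum.mem_zeroLocus _ _).1 h2 hJ'
  have h4 : h ∉ (j x).asIdeal := hx
  exact h4 h3

/-- Points with generic orbits lie in an invariant affine open cut out by an element of `I`. -/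
theorem exists_invariant_basicOpen {S : Scheme.{u}} (G : Grpd.GroupoidScheme S) [IsFinite G.s]
    [LocallyOfFinitePresentation G.s] (jU : G.U ⟶ Spec (CommRingCat.of A)) [IsImmersion jU]
    (hI' : ∀ x : G.U, jU x ∉ PrimeSpectrum.zeroLocus (I : Set A))
    (hcl' : IsClosed (PrimeSpectrum.zeroLocus (I : Set A) ∪ Set.range jU))
    {T : Set G.U} (hT : T.Finite)
    (hgen : ∀ y ∈ T, ∀ r : G.R, G.s r = y → ∀ x : G.U, x ⤳ G.t r → x = G.t r) :
    ∃ h ∈ I, IsAffineOpen (jU ⁻¹ᵁ PrimeSpectrum.basicOpen h) ∧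
      T ⊆ jU ⁻¹ᵁ PrimeSpectrum.basicOpen h ∧
      G.s ⁻¹ᵁ (jU ⁻¹ᵁ PrimeSpectrum.basicOpen h) = G.t ⁻¹ᵁ (jU ⁻¹ᵁ PrimeSpectrum.basicOpen h) := by
  obtain ⟨N₀, hN₀, hflat⟩ := exists_flat_nhd G.s
  have hrel := rel_equivalence G
  let O : Set G.U := G.t '' (G.s ⁻¹' T)
  have hO : O.Finite := by
    refine Set.Finite.image _ ?_
    rw [← Set.biUnion_of_singleton T, Set.preimage_iUnion₂]
    exact hT.biUnion fun y _ => G.s.finite_preimage_singleton y
  obtain ⟨h₁, hh₁, hO₁, hle⟩ := exists_basicOpen_le jU I hI' hO N₀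
    (by rintro _ ⟨r, hr, rfl⟩; exact hN₀ _ (hgen _ hr r rfl))
  let D : (Spec (CommRingCat.of A)).Opens := PrimeSpectrum.basicOpen h₁
  let W₁ : G.U.Opens := jU ⁻¹ᵁ D
  have hW₁ : IsAffineOpen W₁ := isAffineOpen_preimage jU I hcl' hh₁
  have hDaff : IsAffine D.toScheme := IsAffineOpen.Spec_basicOpen (R := CommRingCat.of A) h₁
  have hW₁' : IsAffine W₁.toScheme := hW₁
  let ι := G.U.nilradical.subschemeι
  let g := pullback.snd G.s ι
  let Y : G.U.nilradical.subscheme.Opens := ι ⁻¹ᵁ W₁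
  have hYa : IsAffineOpen Y := hW₁.preimage ι
  have hY : IsAffine Y.toScheme := hYa
  have hXa : IsAffineOpen (g ⁻¹ᵁ Y) := hYa.preimage g
  have hX : IsAffine (g ⁻¹ᵁ Y).toScheme := hXa
  have : IsFinite g := inferInstance
  have : LocallyOfFinitePresentation g := inferInstance
  have : Flat (g ∣_ Y) := by
    have e : Y ≤ ι ⁻¹ᵁ N₀ := fun y hy => hle hy
    let m : (g ⁻¹ᵁ Y).toScheme ⟶ (g ⁻¹ᵁ (ι ⁻¹ᵁ N₀)).toScheme :=
      (pullback G.s ι).homOfLE (g.preimage_mono e)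
    have : Flat (g ∣_ (ι ⁻¹ᵁ N₀)) := hflat
    have h : IsPullback m (g ∣_ Y) (g ∣_ (ι ⁻¹ᵁ N₀)) (G.U.nilradical.subscheme.homOfLE e) := by
      refine IsPullback.of_right ?_ ?_ (isPullback_morphismRestrict g (ι ⁻¹ᵁ N₀)).flip
      · simpa [m] using (isPullback_morphismRestrict g Y).flip
      · rw [← cancel_mono (ι ⁻¹ᵁ N₀).ι]; simp [m]
    exact MorphismProperty.of_isPullback h ‹Flat (g ∣_ (ι ⁻¹ᵁ N₀))›
  obtain ⟨P⟩ := nonempty_pres (g ∣_ Y)
  let k : (g ⁻¹ᵁ Y).toScheme ⟶ Spec (CommRingCat.of A) :=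
    (g ⁻¹ᵁ Y).ι ≫ pullback.fst G.s ι ≫ G.t ≫ jU
  let a₁ : Γ(Spec (CommRingCat.of A), ⊤) := (Scheme.ΓSpecIso (CommRingCat.of A)).inv h₁
  have hD : (Spec (CommRingCat.of A)).basicOpen a₁ = D := basicOpen_eq_of_affine _
  let a : Γ((g ⁻¹ᵁ Y).toScheme, ⊤) := k.appTop a₁
  have ha : ∀ x, x ∈ (g ⁻¹ᵁ Y).toScheme.basicOpen a ↔ k x ∈ D := fun x => by
    rw [← Scheme.preimage_basicOpen_top k a₁, hD]
    rfl
  -- descend the norm to `A`
  let c : Y.toScheme ⟶ D.toScheme := (ι ∣_ W₁) ≫ (jU ∣_ D)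
  have : IsClosedImmersion (jU ∣_ D) := isClosedImmersion_restrict jU I hcl' hh₁
  have : IsClosedImmersion (ι ∣_ W₁) := IsZariskiLocalAtTarget.restrict (inferInstanceAs (IsClosedImmersion ι)) W₁
  have hc : IsClosedImmersion c := inferInstance
  obtain ⟨z, hz⟩ := ((HasAffineProperty.iff_of_isAffine (P := @IsClosedImmersion)).1 hc).2 (P.norm a)
  let : Algebra Γ(Spec (CommRingCat.of A), ⊤) Γ(D.toScheme, ⊤) := D.ι.appTop.hom.toAlgebra
  have : IsLocalization.Away a₁ Γ(D.toScheme, ⊤) := isLocalization_toScheme a₁ hD.symm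
  obtain ⟨n, a₂, ha₂⟩ := IsLocalization.Away.surj a₁ z
  let b : A := (Scheme.ΓSpecIso (CommRingCat.of A)).hom a₂
  have hb : (Spec (CommRingCat.of A)).basicOpen a₂ = PrimeSpectrum.basicOpen b := by
    rw [show a₂ = (Scheme.ΓSpecIso (CommRingCat.of A)).inv b from
      ((Scheme.ΓSpecIso (CommRingCat.of A)).commRingCatIsoToRingEquiv.symm_apply_apply a₂).symm]
    exact basicOpen_eq_of_affine _
  have hzb : D.toScheme.basicOpen z = D.ι ⁻¹ᵁ (PrimeSpectrum.basicOpen b) := by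
    rw [← hb, Scheme.preimage_basicOpen_top]
    show _ = D.toScheme.basicOpen (algebraMap _ Γ(D.toScheme, ⊤) a₂)
    rw [← ha₂, Scheme.basicOpen_mul]
    have hu : IsUnit ((algebraMap _ Γ(D.toScheme, ⊤) a₁) ^ n) :=
      (IsLocalization.Away.algebraMap_isUnit a₁).pow n
    rw [Scheme.basicOpen_of_isUnit _ hu, inf_top_eq]
  have hnorm : ∀ y : Y.toScheme, y ∈ Y.toScheme.basicOpen (P.norm a) ↔
      jU (ι y.1) ∈ PrimeSpectrum.basicOpen b := fun y => by
    rw [← hz, show (c.appTop.hom z) = c.appTop z from rfl, ← Scheme.preimage_basicOpen_top c z, hzb]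
    show D.ι (c y) ∈ PrimeSpectrum.basicOpen b ↔ _
    rw [← Scheme.Hom.comp_apply, show c ≫ D.ι = Y.ι ≫ ι ≫ jU from (Category.assoc _ _ _).trans ((congrArg _ (morphismRestrict_ι jU D)).trans (morphismRestrict_ι_assoc ι W₁ jU))]
    rfl
  refine ⟨h₁ * b, I.mul_mem_right b hh₁, isAffineOpen_preimage jU I hcl' (I.mul_mem_right b hh₁), ?_⟩
  have hmem : ∀ x : G.U, x ∈ jU ⁻¹ᵁ PrimeSpectrum.basicOpen (h₁ * b) ↔
      x ∈ W₁ ∧ ∀ r : G.R, G.s r = x → G.t r ∈ W₁ := fun x => by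
    rw [PrimeSpectrum.basicOpen_mul]
    refine (and_congr_right fun hx => ?_)
    obtain ⟨y₀, rfl⟩ := surjective_redι G.U x
    let y : Y.toScheme := ⟨y₀, hx⟩
    show jU (ι y.1) ∈ PrimeSpectrum.basicOpen b ↔ _
    rw [← hnorm, mem_basicOpen_norm_iff]
    constructor
    · intro h r hr
      obtain ⟨q, hq₁, hq₂⟩ := Scheme.Pullback.exists_preimage_pullback (f := G.s) (g := ι) r y₀ hr
      have hq : q ∈ g ⁻¹ᵁ Y := show g q ∈ Y by rw [show g q = y₀ from hq₂]; exact hx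
      have := (ha ⟨q, hq⟩).1 (h ⟨q, hq⟩ (Y.ι.isOpenEmbedding.injective (by
        rw [← Scheme.Hom.comp_apply, morphismRestrict_ι]
        exact hq₂)))
      show jU (G.t r) ∈ D
      rw [← hq₁]
      exact this
    · intro h q hq
      refine (ha q).2 (h (pullback.fst G.s ι q.1) ?_)
      rw [← Scheme.Hom.comp_apply, pullback.condition, Scheme.Hom.comp_apply]
      refine congrArg ι ?_
      have := congrArg Y.ι hq
      rw [← Scheme.Hom.comp_apply, morphismRestrict_ι] at this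
      exact this
  refine ⟨fun y hy => (hmem y).2 ⟨hO₁ ⟨G.e y, show G.s (G.e y) ∈ T by rwa [s_e_apply], t_e_apply G y⟩,
    fun r hr => hO₁ ⟨r, show G.s r ∈ T by rwa [hr], rfl⟩⟩, ?_⟩
  have hinv : ∀ x y : G.U, Rel G x y → x ∈ jU ⁻¹ᵁ PrimeSpectrum.basicOpen (h₁ * b) →
      y ∈ jU ⁻¹ᵁ PrimeSpectrum.basicOpen (h₁ * b) := by
    intro x y hxy hx
    have horb : ∀ z, Rel G z y → z ∈ W₁ := fun z hz => by
      obtain ⟨r, hr₁, hr₂⟩ := hrel.trans hz (hrel.symm hxy)
      rw [← hr₁]; exact ((hmem x).mp hx).2 r hr₂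
    exact (hmem y).mpr ⟨horb y (hrel.refl y), fun r hr => horb _ ⟨r, rfl, hr⟩⟩
  ext r
  exact ⟨fun h => hinv _ _ (hrel.symm ⟨r, rfl, rfl⟩) h, fun h => hinv _ _ ⟨r, rfl, rfl⟩ h⟩

end Groth.Agent.GrpdLib.GenericNorm
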