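import Groth.Agent.GrpdLib.PinchAffine
import Groth.Agent.AffThick.Cover
import Mathlib.AlgebraicGeometry.Morphisms.SchemeTheoreticallyDominant
import Mathlib.AlgebraicGeometry.Morphisms.Finite
import Mathlib.FieldTheory.PurelyInseparable.PerfectClosure
import Mathlib.FieldTheory.IsAlgClosed.AlgebraicClosure
import Mathlib.FieldTheory.Normal.Basic
import Mathlib.LinearAlgebra.FreeModule.Finite.Matrix
import Mathlib.RingTheory.IntegralClosure.IntegrallyClosed
import Mathlib.RingTheory.Spectrum.Prime.Topology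

/-!
# The complement of the image of a zero locus under a finite map with going down is affine

Let `B` be a finite algebra over a Noetherian ring `A` and `b ∈ B` such that primes containing `b`
satisfy going down after base change to domains. Then the set of primes of `A` over which `b` is
nowhere zero is an affine open of `Spec A`: in each integral closed piece its trace on a finite
birational cover is cut out by (a power of) the product of the values of `b` at geometric generic points,
and one descends along the conductor square.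
-/

set_option autoImplicit false
set_option linter.style.haveILetI false
set_option maxHeartbeats 800000
set_option backward.isDefEq.respectTransparency false
set_option backward.isDefEq.respectTransparency.types false

universe u

open CategoryTheory AlgebraicGeometry TopologicalSpace Polynomial

namespace Groth.Agent.GrpdLib.NormAffine

open AffThick

/-- An open of an affine scheme covered by finitely many closed pieces with affine traces is affine. -/
theorem isAffineOpen_of_cover {R : Type u} [CommRing R] (U : (Spec (CommRingCat.of R)).Opens)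
    {κ : Type u} [Finite κ] (R' : κ → Type u) [∀ k, CommRing (R' k)] (ψ : ∀ k, R →+* R' k)
    (hψ : ∀ k, Function.Surjective (ψ k))
    (hcov : ∀ x : PrimeSpectrum R, (x : Spec (CommRingCat.of R)) ∈ U →
      ∃ k, RingHom.ker (ψ k) ≤ x.asIdeal)
    (haff : ∀ k, IsAffineOpen (Spec.map (CommRingCat.ofHom (ψ k)) ⁻¹ᵁ U)) : IsAffineOpen U := by
  have : ∀ k, IsClosedImmersion (Spec.map (CommRingCat.ofHom (ψ k))) := fun k =>
    IsClosedImmersion.spec_of_surjective _ (hψ k)
  have : ∀ k, IsAffine (Spec.map (CommRingCat.ofHom (ψ k)) ⁻¹ᵁ U).toScheme := haff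
  have : ∀ k, IsClosedImmersion (Spec.map (CommRingCat.ofHom (ψ k)) ∣_ U) := fun k =>
    IsZariskiLocalAtTarget.restrict (inferInstanceAs (IsClosedImmersion (Spec.map (CommRingCat.ofHom (ψ k))))) U
  refine AffThick.isAffine_of_finite_cover _ (fun k => Spec.map (CommRingCat.ofHom (ψ k)) ∣_ U) ?_
  intro x
  obtain ⟨k, hk⟩ := hcov x.1 x.2
  obtain ⟨y, hy⟩ : (x.1 : PrimeSpectrum R) ∈ Set.range (PrimeSpectrum.comap (ψ k)) := by
    rw [range_comap_of_surjective _ _ (hψ k)]
    exact hk
  have hy' : Spec.map (CommRingCat.ofHom (ψ k)) y = x.1 := hy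
  refine ⟨k, ⟨y, show Spec.map (CommRingCat.ofHom (ψ k)) y ∈ U from hy' ▸ x.2⟩,
    U.ι.isOpenEmbedding.injective ?_⟩
  rw [← Scheme.Hom.comp_apply, morphismRestrict_ι]
  exact hy'

/-- Descent of affineness along a conductor square. -/
theorem isAffineOpen_of_conductor {R R' : Type u} [CommRing R] [IsDomain R] [CommRing R'] (φ : R →+* R')
    (hφ : Function.Injective φ) (I : Ideal R) (hI : ∀ x ∈ I, ∀ y : R', ∃ z ∈ I, φ z = φ x * y)
    (U : (Spec (CommRingCat.of R)).Opens)
    (hY : IsAffineOpen (Spec.map (CommRingCat.ofHom φ) ⁻¹ᵁ U))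
    (hZ : IsAffineOpen (Spec.map (CommRingCat.ofHom (Ideal.Quotient.mk I)) ⁻¹ᵁ U)) :
    IsAffineOpen U := by
  let π := Spec.map (CommRingCat.ofHom φ)
  let i := Spec.map (CommRingCat.ofHom (Ideal.Quotient.mk I))
  let j := Spec.map (CommRingCat.ofHom (Ideal.Quotient.mk (I.map φ)))
  let k := Spec.map (CommRingCat.ofHom (Ideal.quotientMap (I.map φ) φ Ideal.le_comap_map))
  have hi : IsClosedImmersion i := IsClosedImmersion.spec_of_surjective _ Ideal.Quotient.mk_surjective
  have hj : IsClosedImmersion j := IsClosedImmersion.spec_of_surjective _ Ideal.Quotient.mk_surjective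
  have sq : j ≫ π = k ≫ i := by
    rw [← Spec.map_comp, ← Spec.map_comp]
    rfl
  have hdom : IsDominant π := by
    rw [isDominant_iff]
    exact (PrimeSpectrum.denseRange_comap_iff_ker_le_nilRadical φ).2
      (((RingHom.injective_iff_ker_eq_bot φ).1 hφ).le.trans bot_le)
  have : IsSchemeTheoreticallyDominant π := .of_isDominant π
  have hinj : ∀ W, Function.Injective (π.app W).hom := fun W => π.app_injective W
  let X := Spec (CommRingCat.of R)
  let Y := Spec (CommRingCat.of R')
  have hbasic : ∀ x ∈ U, ∃ g : Γ(X, ⊤), X.basicOpen g ≤ U ∧ x ∈ X.basicOpen g := fun x hx => by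
    obtain ⟨g, hg, hxg⟩ := (isAffineOpen_top X).exists_basicOpen_le ⟨x, hx⟩ trivial
    exact ⟨g, hg, hxg⟩
  have hker₀ : ∀ a : Γ(Y, ⊤), j.appTop.hom a = 0 →
      ∃ c : Γ(X, ⊤), i.appTop.hom c = 0 ∧ π.appTop.hom c = a := by
    intro a ha
    have h1 := Scheme.ΓSpecIso_inv_naturality (CommRingCat.ofHom (Ideal.Quotient.mk (I.map φ)))
    have h2 : (Scheme.ΓSpecIso (CommRingCat.of R')).hom a ∈ I.map φ := by
      rw [← Ideal.Quotient.eq_zero_iff_mem]
      have h3 := congr($(Scheme.ΓSpecIso_naturality (CommRingCat.ofHom (Ideal.Quotient.mk (I.map φ)))) a)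
      exact (h3.symm.trans (show (Scheme.ΓSpecIso _).hom (j.appTop.hom a) = _ from congrArg _ ha)).trans
        (map_zero _)
    obtain ⟨z, hz, hz'⟩ : ∃ z ∈ I, φ z = (Scheme.ΓSpecIso (CommRingCat.of R')).hom a := by
      revert h2
      generalize (Scheme.ΓSpecIso (CommRingCat.of R')).hom a = v
      intro h2
      suffices h : ∀ (w : R'), w ∈ I.map φ → ∃ z ∈ I, φ z = w from h v h2
      intro w hw
      induction hw using Submodule.span_induction with
      | mem w hw => obtain ⟨z, hz, rfl⟩ := hw; exact ⟨z, hz, rfl⟩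
      | zero => exact ⟨0, I.zero_mem, map_zero _⟩
      | add x y _ _ ihx ihy =>
        obtain ⟨z, hz, rfl⟩ := ihx
        obtain ⟨z', hz', rfl⟩ := ihy
        exact ⟨z + z', I.add_mem hz hz', map_add _ _ _⟩
      | smul c x hx ihx =>
        obtain ⟨z, hz, rfl⟩ := ihx
        obtain ⟨z', hz'I, hz'⟩ := hI z hz c
        exact ⟨z', hz'I, by rw [hz', smul_eq_mul, mul_comm]⟩
    refine ⟨(Scheme.ΓSpecIso (CommRingCat.of R)).inv z, ?_, ?_⟩
    · have h4 := congr($(Scheme.ΓSpecIso_inv_naturality (CommRingCat.ofHom (Ideal.Quotient.mk I))) z)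
      refine h4.symm.trans ?_
      show (Scheme.ΓSpecIso (CommRingCat.of (R ⧸ I))).inv.hom (Ideal.Quotient.mk I z) = 0
      rw [Ideal.Quotient.eq_zero_iff_mem.2 hz, map_zero]
    · have h4 := congr($(Scheme.ΓSpecIso_inv_naturality (CommRingCat.ofHom φ)) z)
      refine h4.symm.trans ?_
      show (Scheme.ΓSpecIso _).inv (φ z) = a
      rw [hz']
      exact (Scheme.ΓSpecIso (CommRingCat.of R')).commRingCatIsoToRingEquiv.symm_apply_apply a
  refine isAffineOpen_of_pinch π i j k sq U hY hZ hinj (fun x hx => ?_) fun x hx => ?_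
  · obtain ⟨g, hgU, hxg⟩ := hbasic x hx
    refine ⟨X.basicOpen g, hgU, hxg, (isAffineOpen_top X).basicOpen g, fun a ha => ?_⟩
    let g' := π.appTop.hom g
    have hW : π ⁻¹ᵁ X.basicOpen g = Y.basicOpen g' := Scheme.preimage_basicOpen_top π g
    let := (Y.presheaf.map (homOfLE (le_top : π ⁻¹ᵁ X.basicOpen g ≤ ⊤)).op).hom.toAlgebra
    have := (isAffineOpen_top Y).isLocalization_of_eq_basicOpen g' (homOfLE le_top) hW
    obtain ⟨n, a₀, ha₀⟩ := IsLocalization.Away.surj g' a
    have ha₀' : a * res le_top g' ^ n = res le_top a₀ := ha₀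
    obtain ⟨m, hm⟩ := exists_pow_mul_eq_zero_of_res_basicOpen_eq_zero_of_isCompact _
      (U := (⊤ : (Spec (CommRingCat.of (R' ⧸ I.map φ))).Opens)) isCompact_univ
      (j.appTop.hom a₀) (j.appTop.hom g') (by
        have h1 : (j.app (π ⁻¹ᵁ X.basicOpen g)).hom (res le_top a₀) = 0 := by
          rw [← ha₀', map_mul, ha, zero_mul]
        rw [app_res] at h1
        have e : j ⁻¹ᵁ (π ⁻¹ᵁ X.basicOpen g) =
            (Spec (CommRingCat.of (R' ⧸ I.map φ))).basicOpen (j.appTop.hom g') := by
          rw [hW]; exact Scheme.preimage_basicOpen_top j g'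
        have h2 := congrArg (res e.ge) h1
        rw [res_res, map_zero] at h2
        exact h2)
    obtain ⟨c, hc₁, hc₂⟩ := hker₀ (g' ^ m * a₀) (by rw [map_mul, map_pow]; exact hm)
    let := (X.presheaf.map (homOfLE (le_top : X.basicOpen g ≤ ⊤)).op).hom.toAlgebra
    have := (isAffineOpen_top X).isLocalization_of_eq_basicOpen g (homOfLE le_top) rfl
    obtain ⟨v, hv⟩ := ((IsLocalization.Away.algebraMap_isUnit (S := Γ(X, X.basicOpen g)) g).pow
      (n + m)).exists_right_inv
    have hv' : res le_top g ^ (n + m) * v = 1 := hv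
    refine ⟨res le_top c * v, ?_, ?_⟩
    · rw [map_mul, app_res]
      rw [show (i.app ⊤).hom c = 0 from hc₁, map_zero, zero_mul]
    · let ρ : Γ(Y, ⊤) →+* Γ(Y, π ⁻¹ᵁ X.basicOpen g) := res le_top
      let w : Γ(Y, π ⁻¹ᵁ X.basicOpen g) := (π.app (X.basicOpen g)).hom v
      have h1 : ρ g' ^ (n + m) * w = 1 := by
        have h := congrArg (π.app (X.basicOpen g)).hom hv'
        rw [map_mul, map_pow, map_one, app_res] at h
        exact h
      have h2 : ρ (g' ^ m * a₀) = ρ g' ^ m * (a * ρ g' ^ n) := by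
        rw [map_mul, map_pow]; exact congrArg _ ha₀'.symm
      have h3 : (π.app (X.basicOpen g)).hom (res le_top c * v) = ρ (g' ^ m * a₀) * w := by
        rw [map_mul, app_res]
        exact congrArg (· * w) (congrArg ρ hc₂)
      refine h3.trans ?_
      rw [h2]
      calc ρ g' ^ m * (a * ρ g' ^ n) * w = a * (ρ g' ^ (n + m) * w) := by ring
        _ = a := by rw [h1, mul_one]
  · obtain ⟨g, hgU, hxg⟩ := hbasic x hx
    refine ⟨res le_top g, ?_, ?_⟩
    · rw [basicOpen_res]; exact ⟨hx, hxg⟩
    · rw [basicOpen_res, inf_eq_right.2 hgU]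
      exact (isAffineOpen_top X).basicOpen g

/-- Over an algebraically closed fraction field a domain integral over an integrally closed subring
containing it adds nothing. -/
theorem surjective_of_isIntegral {A₀ Ω : Type u} [CommRing A₀] [Field Ω] [IsAlgClosed Ω] [Algebra A₀ Ω]
    {D : Type u} [CommRing D] [IsDomain D] (h : integralClosure A₀ Ω →+* D)
    (hh : h.IsIntegral) : Function.Surjective h := by
  intro d
  obtain ⟨f, hf, hfd⟩ := hh d
  let C := integralClosure A₀ Ω
  let g : Ω[X] := f.map (algebraMap C Ω)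
  have hroots : ∀ r ∈ g.roots, r ∈ C := fun r hr => by
    have h1 : IsIntegral C r := ⟨f, hf, by
      rw [eval₂_eq_eval_map]; exact (Polynomial.mem_roots'.1 hr).2⟩
    exact isIntegral_trans (R := A₀) (A := C) r h1
  obtain ⟨M, hM⟩ : ∃ M : Multiset C, g.roots = M.map (algebraMap C Ω) := by
    refine ⟨g.roots.attach.map fun r => ⟨r.1, hroots r.1 r.2⟩, ?_⟩
    rw [Multiset.map_map]
    exact g.roots.attach_map_val.symm
  have hfac : f = (M.map fun c => X - Polynomial.C c).prod := by
    apply Polynomial.map_injective (algebraMap C Ω) Subtype.val_injective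
    rw [Polynomial.map_multiset_prod, Multiset.map_map]
    refine ((IsAlgClosed.splits g).eq_prod_roots_of_monic (hf.map _)).trans ?_
    rw [hM, Multiset.map_map]
    simp [Polynomial.map_sub]
  rw [hfac, ← Polynomial.coe_eval₂RingHom, map_multiset_prod, Multiset.prod_eq_zero_iff,
    Multiset.map_map] at hfd
  obtain ⟨c, -, hc⟩ := Multiset.mem_map.1 hfd
  refine ⟨c, ?_⟩
  simp only [Function.comp_apply, coe_eval₂RingHom, eval₂_sub, eval₂_X] at hc
  exact (eval₂_C h d).symm.trans (sub_eq_zero.1 hc).symm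

variable (A : Type u) [CommRing A] (B : Type u) [CommRing B] [Algebra A B]

/-- Going down to geometric generic points for primes containing `b`. -/
def GoesDown (b : B) : Prop :=
  ∀ (C : Type u) [CommRing C] [IsDomain C] [Algebra A C] (Q : PrimeSpectrum B) (q : PrimeSpectrum C),
    Q.asIdeal.comap (algebraMap A B) = q.asIdeal.comap (algebraMap A C) → b ∈ Q.asIdeal →
      ∃ (D : Type u) (_ : CommRing D) (_ : IsDomain D) (g : B →+* D) (h : C →+* D),
        g.comp (algebraMap A B) = h.comp (algebraMap A C) ∧ Function.Injective h ∧ h.IsIntegral ∧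
          ∃ P : PrimeSpectrum D, P.asIdeal.comap g = Q.asIdeal ∧ P.asIdeal.comap h = q.asIdeal

variable {A B}

/-- On each integral closed piece the good locus is cut out by one element of a finite birational
extension. -/
theorem exists_birational [Module.Finite A B] (b : B) (hgd : GoesDown A B b) (p : Ideal A) [p.IsPrime] :
    ∃ (R' : Type u) (_ : CommRing R') (φ : A ⧸ p →+* R') (d : A ⧸ p) (n : R'), Function.Injective φ ∧
      d ≠ 0 ∧ (∀ y : R', ∃ z, φ z = φ d * y) ∧
      ∀ P : PrimeSpectrum R', n ∉ P.asIdeal ↔ ∀ Q : PrimeSpectrum B,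
        Q.asIdeal.comap (algebraMap A B) = P.asIdeal.comap (φ.comp (Ideal.Quotient.mk p)) →
          b ∉ Q.asIdeal := by
  classical
  let A₀ := A ⧸ p
  let K := FractionRing A₀
  let Ω := AlgebraicClosure K
  have : IsScalarTower A A₀ Ω := inferInstance
  have : Finite (B →ₐ[A] Ω) := by
    refine Finite.of_injective (β := TensorProduct A Ω B →ₐ[Ω] Ω) (fun σ =>
      Algebra.TensorProduct.lift (Algebra.ofId Ω Ω) σ fun _ _ => Commute.all _ _) ?_
    intro σ σ' he
    ext y
    have h := DFunLike.congr_fun he (1 ⊗ₜ[A] y)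
    simpa using h
  have := Fintype.ofFinite (B →ₐ[A] Ω)
  let c : Ω := ∏ σ : B →ₐ[A] Ω, σ b
  have hintσ : ∀ (σ : B →ₐ[A] Ω) (y : B), IsIntegral A₀ (σ y) := fun σ y =>
    ((Algebra.IsIntegral.isIntegral (R := A) y).map σ).tower_top
  have hfix : ∀ τ : Ω ≃ₐ[K] Ω, τ c = c := fun τ => by
    let τ' : Ω ≃ₐ[A] Ω := AlgEquiv.ofRingEquiv (f := τ.toRingEquiv) fun a => by
      show τ (algebraMap A Ω a) = algebraMap A Ω a
      have h : algebraMap A Ω a = algebraMap K Ω (algebraMap A₀ K (Ideal.Quotient.mk p a)) :=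
        (IsScalarTower.algebraMap_apply A A₀ Ω a).trans (IsScalarTower.algebraMap_apply A₀ K Ω _)
      rw [h]; exact τ.commutes _
    let e : (B →ₐ[A] Ω) ≃ (B →ₐ[A] Ω) :=
      { toFun := fun σ => τ'.toAlgHom.comp σ
        invFun := fun σ => τ'.symm.toAlgHom.comp σ
        left_inv := fun σ => AlgHom.ext fun y => τ'.symm_apply_apply (σ y)
        right_inv := fun σ => AlgHom.ext fun y => τ'.apply_symm_apply (σ y) }
    calc τ c = ∏ σ : B →ₐ[A] Ω, τ (σ b) := map_prod τ _ _
      _ = ∏ σ : B →ₐ[A] Ω, (e σ) b := rfl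
      _ = c := e.prod_comp fun σ => σ b
  have hcint : IsIntegral K c := Algebra.IsIntegral.isIntegral c
  have hpc : c ∈ perfectClosure K Ω := by
    rw [mem_perfectClosure_iff_natSepDegree_eq_one, natSepDegree_eq_of_isAlgClosed Ω]
    refine Finset.card_eq_one.2 ⟨c, Finset.eq_singleton_iff_unique_mem.2 ⟨?_, fun r hr => ?_⟩⟩
    · rw [Multiset.mem_toFinset, mem_aroots]
      exact ⟨minpoly.ne_zero hcint, minpoly.aeval _ _⟩
    · rw [Multiset.mem_toFinset, mem_aroots] at hr
      obtain ⟨τ, hτ⟩ := minpoly.exists_algEquiv_of_root' (L := Ω) hcint.isAlgebraic hr.2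
      rw [← hτ, hfix τ]
  obtain ⟨e, n₀, hn₀⟩ := mem_perfectClosure_iff.1 hpc
  have hq : ringExpChar K ^ e ≠ 0 := pow_ne_zero _ (expChar_ne_zero K (ringExpChar K))
  have hcA : IsIntegral A₀ c := IsIntegral.prod _ fun σ _ => hintσ σ b
  have hnint : IsIntegral A₀ n₀ := by
    refine (isIntegral_algebraMap_iff (B := Ω) (algebraMap K Ω).injective).1 ?_
    rw [hn₀]
    exact hcA.pow _
  let R' := Algebra.adjoin A₀ {n₀}
  let n : R' := ⟨n₀, Algebra.self_mem_adjoin_singleton A₀ n₀⟩
  have hφ : Function.Injective (algebraMap A₀ R') := fun x y he =>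
    IsFractionRing.injective A₀ K (congrArg Subtype.val he)
  obtain ⟨s, hs⟩ := IsIntegral.fg_adjoin_singleton hnint
  obtain ⟨d, hd⟩ := IsLocalization.exist_integer_multiples_of_finset (nonZeroDivisors A₀) s
  refine ⟨R', inferInstance, algebraMap A₀ R', d, n, hφ, nonZeroDivisors.coe_ne_zero d, fun y => ?_, fun P => ?_⟩
  · have hy : y.1 ∈ Submodule.span A₀ (s : Set K) := by rw [hs]; exact y.2
    suffices h : ∀ w ∈ Submodule.span A₀ (s : Set K), ∃ z : A₀, algebraMap A₀ K z = (d : A₀) • w by
      obtain ⟨z, hz⟩ := h _ hy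
      exact ⟨z, Subtype.ext (hz.trans (Algebra.smul_def _ _))⟩
    intro w hw
    induction hw using Submodule.span_induction with
    | mem x hx => exact hd x hx
    | zero => exact ⟨0, by simp⟩
    | add x x' _ _ ih ih' =>
      obtain ⟨z, hz⟩ := ih; obtain ⟨z', hz'⟩ := ih'
      exact ⟨z + z', by rw [map_add, hz, hz', smul_add]⟩
    | smul a x _ ih =>
      obtain ⟨z, hz⟩ := ih
      exact ⟨a * z, by rw [map_mul, hz, smul_comm (d : A₀) a x, Algebra.smul_def a]⟩
  -- the geometric closed cover
  let C := integralClosure A₀ Ω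
  have hR'C : ∀ x : R', algebraMap K Ω x.1 ∈ C := fun x =>
    ((adjoin_le_integralClosure hnint) x.2).map (IsScalarTower.toAlgHom A₀ K Ω)
  let ι : R' →+* C := ((algebraMap K Ω).comp R'.val.toRingHom).codRestrict C.toSubring hR'C
  have hιalg : ∀ a : A₀, ι (algebraMap A₀ R' a) = algebraMap A₀ C a := fun a =>
    Subtype.ext (IsScalarTower.algebraMap_apply A₀ K Ω a).symm
  have hι : ι.IsIntegral := RingHom.IsIntegral.tower_top (algebraMap A₀ R') ι (by
    rw [show ι.comp (algebraMap A₀ R') = algebraMap A₀ C from RingHom.ext hιalg]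
    exact fun x => Algebra.IsIntegral.isIntegral x)
  have hιinj : Function.Injective ι := fun x y he =>
    Subtype.ext ((algebraMap K Ω).injective (congrArg Subtype.val he))
  obtain ⟨q, hqP⟩ := hι.comap_surjective hιinj P
  have hqA : P.asIdeal.comap ((algebraMap A₀ R').comp (Ideal.Quotient.mk p)) =
      q.asIdeal.comap (algebraMap A C) := by
    rw [← hqP, PrimeSpectrum.comap_asIdeal, Ideal.comap_comap]
    congr 1
  let cC : C := ⟨c, hcA⟩
  have hnc : n ∈ P.asIdeal ↔ cC ∈ q.asIdeal := by
    rw [← hqP, PrimeSpectrum.comap_asIdeal, Ideal.mem_comap,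
      show ι n = cC ^ (ringExpChar K ^ e) from Subtype.ext hn₀,
      q.isPrime.pow_mem_iff_mem _ (Nat.pos_of_ne_zero hq)]
  let σC : (B →ₐ[A] Ω) → B →ₐ[A] C := fun σ =>
    σ.codRestrict (C.restrictScalars A) (hintσ σ)
  have hprod : cC = ∏ σ : B →ₐ[A] Ω, σC σ b :=
    Subtype.ext (by simp [cC, c, σC]; rfl)
  rw [hnc]
  constructor
  · intro hc Q hQ hbQ
    obtain ⟨D, _, _, g, h, hgh, hhinj, hhint, P', hPg, hPh⟩ := hgd C Q q (hQ.trans hqA) hbQ
    let eD : C ≃+* D := RingEquiv.ofBijective h ⟨hhinj, surjective_of_isIntegral h hhint⟩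
    let σ₀ : B →ₐ[A] Ω :=
      { toRingHom := C.val.toRingHom.comp (eD.symm.toRingHom.comp g)
        commutes' := fun a => by
          show (eD.symm (g (algebraMap A B a))).1 = _
          rw [show g (algebraMap A B a) = eD (algebraMap A C a) from RingHom.congr_fun hgh a,
            eD.symm_apply_apply]
          rfl }
    refine hc ?_
    rw [hprod]
    refine Ideal.mem_of_dvd _ (Finset.dvd_prod_of_mem _ (Finset.mem_univ σ₀)) ?_
    rw [← hPh, Ideal.mem_comap, show σC σ₀ b = eD.symm (g b) from Subtype.ext rfl,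
      show h (eD.symm (g b)) = g b from eD.apply_symm_apply _, ← Ideal.mem_comap, hPg]
    exact hbQ
  · intro hc hcq
    rw [hprod] at hcq
    obtain ⟨σ, -, hσ⟩ := q.isPrime.prod_mem_iff.1 hcq
    refine hc ⟨q.asIdeal.comap (σC σ).toRingHom, Ideal.comap_isPrime _ _⟩ ?_ hσ
    rw [hqA, Ideal.comap_comap, AlgHom.toRingHom_eq_coe, AlgHom.comp_algebraMap]

/-- The locus over which `b` is nowhere zero is affine. -/
theorem isAffineOpen_good [IsNoetherianRing A] [Module.Finite A B] (b : B) (hgd : GoesDown A B b)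
    (V : (Spec (CommRingCat.of A)).Opens)
    (hV : ∀ x : PrimeSpectrum A, (x : Spec (CommRingCat.of A)) ∈ V ↔
      ∀ Q : PrimeSpectrum B, Q.asIdeal.comap (algebraMap A B) = x.asIdeal → b ∉ Q.asIdeal) :
    IsAffineOpen V := by
  have key : ∀ p : Ideal A, p.IsPrime →
      IsAffineOpen (Spec.map (CommRingCat.ofHom (Ideal.Quotient.mk p)) ⁻¹ᵁ V) := by
    intro p
    induction p using IsNoetherian.induction with
    | _ p ih =>
      intro hp
      obtain ⟨R', _, φ, d, n, hφ, hd, hdI, hn⟩ := exists_birational b hgd p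
      let I : Ideal (A ⧸ p) :=
        { carrier := {x | ∀ y : R', ∃ z, φ z = φ x * y}
          add_mem' := fun {x x'} hx hx' y => by
            obtain ⟨z, hz⟩ := hx y
            obtain ⟨z', hz'⟩ := hx' y
            exact ⟨z + z', by rw [map_add, map_add, hz, hz', add_mul]⟩
          zero_mem' := fun y => ⟨0, by simp⟩
          smul_mem' := fun a x hx y => by
            obtain ⟨z, hz⟩ := hx y
            exact ⟨a * z, by rw [map_mul, hz, smul_eq_mul, map_mul, mul_assoc]⟩ }
      have hI : ∀ x ∈ I, ∀ y, ∃ z ∈ I, φ z = φ x * y := fun x hx y => by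
        obtain ⟨z, hz⟩ := hx y
        refine ⟨z, fun y' => ?_, hz⟩
        obtain ⟨z', hz'⟩ := hx (y * y')
        exact ⟨z', by rw [hz', hz, mul_assoc]⟩
      refine isAffineOpen_of_conductor φ hφ I hI _ ?_ ?_
      · have e : Spec.map (CommRingCat.ofHom φ) ⁻¹ᵁ
            (Spec.map (CommRingCat.ofHom (Ideal.Quotient.mk p)) ⁻¹ᵁ V) =
            (PrimeSpectrum.basicOpen n : (Spec (CommRingCat.of R')).Opens) := by
          ext P
          exact (hV (PrimeSpectrum.comap (φ.comp (Ideal.Quotient.mk p)) P)).trans (hn P).symm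
        rw [e]
        exact IsAffineOpen.Spec_basicOpen (R := CommRingCat.of R') n
      · let K₀ : Ideal A := I.comap (Ideal.Quotient.mk p)
        have hpK : p < K₀ := by
          refine lt_of_le_not_ge (fun a ha => ?_) fun hle => hd ?_
          · show Ideal.Quotient.mk p a ∈ I
            rw [Ideal.Quotient.eq_zero_iff_mem.2 ha]
            exact I.zero_mem
          · obtain ⟨d₀, rfl⟩ := Ideal.Quotient.mk_surjective d
            exact Ideal.Quotient.eq_zero_iff_mem.2 (hle (show Ideal.Quotient.mk p d₀ ∈ I from hdI))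
        have : Finite K₀.minimalPrimes :=
          (K₀.finite_minimalPrimes_of_isNoetherianRing A).to_subtype
        have hPle : ∀ P : K₀.minimalPrimes, K₀ ≤ P.1 := fun P => P.2.1.2
        refine isAffineOpen_of_cover _ (fun P : K₀.minimalPrimes => A ⧸ P.1)
          (fun P => Ideal.Quotient.lift I (Ideal.Quotient.lift p (Ideal.Quotient.mk P.1)
            fun a ha => Ideal.Quotient.eq_zero_iff_mem.2 ((hpK.le.trans (hPle P)) ha)) fun x hx => by
              obtain ⟨a, rfl⟩ := Ideal.Quotient.mk_surjective x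
              exact Ideal.Quotient.eq_zero_iff_mem.2 (hPle P hx))
          (fun P y => by
            obtain ⟨a, rfl⟩ := Ideal.Quotient.mk_surjective y
            exact ⟨Ideal.Quotient.mk I (Ideal.Quotient.mk p a), rfl⟩) ?_ ?_
        · intro x _
          let x₀ : Ideal A := (x.asIdeal.comap (Ideal.Quotient.mk I)).comap (Ideal.Quotient.mk p)
          obtain ⟨P, hP, hPx⟩ := Ideal.exists_minimalPrimes_le (I := K₀) (J := x₀) fun a ha => by
            show Ideal.Quotient.mk I (Ideal.Quotient.mk p a) ∈ x.asIdeal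
            rw [Ideal.Quotient.eq_zero_iff_mem.2 (show Ideal.Quotient.mk p a ∈ I from ha)]
            exact zero_mem _
          refine ⟨⟨P, hP⟩, fun y hy => ?_⟩
          obtain ⟨y₁, rfl⟩ := Ideal.Quotient.mk_surjective y
          obtain ⟨a, rfl⟩ := Ideal.Quotient.mk_surjective y₁
          exact hPx (Ideal.Quotient.eq_zero_iff_mem.1 hy)
        · intro P
          have h := ih P.1 (hpK.trans_le (hPle P)) P.2.1.1
          rw [← Scheme.Hom.comp_preimage, ← Scheme.Hom.comp_preimage, ← Spec.map_comp, ← Spec.map_comp]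
          exact h
  have : Finite (minimalPrimes A) := (minimalPrimes.finite_of_isNoetherianRing A).to_subtype
  refine isAffineOpen_of_cover V (fun P : minimalPrimes A => A ⧸ P.1) (fun P => Ideal.Quotient.mk P.1)
    (fun P => Ideal.Quotient.mk_surjective) (fun x _ => ?_) fun P => key P.1 P.2.1.1
  obtain ⟨P, hP, hPx⟩ := Ideal.exists_minimalPrimes_le (I := (⊥ : Ideal A)) (J := x.asIdeal) bot_le
  exact ⟨⟨P, hP⟩, by rw [Ideal.mk_ker]; exact hPx⟩

end Groth.Agent.GrpdLib.NormAffine
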