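import Groth.Agent.GrpdLib.Basic

/-!
# Restriction of a groupoid scheme along a monomorphism
-/

universe u

set_option maxHeartbeats 400000

open CategoryTheory CategoryTheory.Limits AlgebraicGeometry

namespace Groth.Agent.GrpdLib

variable {S : Scheme.{u}} (G : Grpd.GroupoidScheme S) {U' : Scheme.{u}} (u : U' ⟶ G.U)

/-- Arrows with both ends in `U'`. -/
noncomputable abbrev rmR : Scheme.{u} := pullback (pullback.fst G.t u ≫ G.s) u

/-- The arrow. -/
noncomputable def rmι : rmR G u ⟶ G.R := pullback.fst _ _ ≫ pullback.fst G.t u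

/-- The target. -/
noncomputable def rmT : rmR G u ⟶ U' := pullback.fst _ _ ≫ pullback.snd G.t u

/-- The source. -/
noncomputable def rmS : rmR G u ⟶ U' := pullback.snd _ _

lemma rmι_t : rmι G u ≫ G.t = rmT G u ≫ u := by
  rw [rmι, rmT, Category.assoc, Category.assoc, pullback.condition]

lemma rmι_s : rmι G u ≫ G.s = rmS G u ≫ u := by
  rw [rmι, rmS, Category.assoc, pullback.condition]

/-- The arrow `r` with ends `x` and `y`. -/
noncomputable def rmLift {T : Scheme.{u}} (r : T ⟶ G.R) (x y : T ⟶ U') (hx : r ≫ G.t = x ≫ u)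
    (hy : r ≫ G.s = y ≫ u) : T ⟶ rmR G u :=
  pullback.lift (pullback.lift r x hx) y (by rw [pullback.lift_fst_assoc, hy])

@[reassoc (attr := simp)] lemma rmLift_ι {T : Scheme.{u}} (r : T ⟶ G.R) (x y : T ⟶ U') (hx hy) :
    rmLift G u r x y hx hy ≫ rmι G u = r := by
  rw [rmLift, rmι, pullback.lift_fst_assoc, pullback.lift_fst]

@[reassoc (attr := simp)] lemma rmLift_T {T : Scheme.{u}} (r : T ⟶ G.R) (x y : T ⟶ U') (hx hy) :
    rmLift G u r x y hx hy ≫ rmT G u = x := by
  rw [rmLift, rmT, pullback.lift_fst_assoc, pullback.lift_snd]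

@[reassoc (attr := simp)] lemma rmLift_S {T : Scheme.{u}} (r : T ⟶ G.R) (x y : T ⟶ U') (hx hy) :
    rmLift G u r x y hx hy ≫ rmS G u = y := pullback.lift_snd _ _ _

variable [Mono u]

lemma rm_ext {T : Scheme.{u}} {f g : T ⟶ rmR G u} (h : f ≫ rmι G u = g ≫ rmι G u) : f = g := by
  apply pullback.hom_ext
  · apply pullback.hom_ext
    · simpa only [Category.assoc, rmι] using h
    · rw [← cancel_mono u]
      have h' := congrArg (· ≫ G.t) h
      simp only [Category.assoc, rmι_t] at h'
      simpa only [Category.assoc, rmT] using h'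
  · rw [← cancel_mono u]
    have h' := congrArg (· ≫ G.s) h
    simp only [Category.assoc, rmι_s] at h'
    simpa only [Category.assoc, rmS] using h'

lemma ι_comp {T : Scheme.{u}} {α β : T ⟶ rmR G u} (h : α ≫ rmS G u = β ≫ rmT G u) :
    (α ≫ rmι G u) ≫ G.s = (β ≫ rmι G u) ≫ G.t := by
  rw [Category.assoc, Category.assoc, rmι_s, rmι_t, reassoc_of% h]

/-- Composition. -/
noncomputable def rmC : pullback (rmS G u) (rmT G u) ⟶ rmR G u :=
  rmLift G u (comp G (pullback.fst _ _ ≫ rmι G u) (pullback.snd _ _ ≫ rmι G u)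
      (ι_comp G u pullback.condition))
    (pullback.fst _ _ ≫ rmT G u) (pullback.snd _ _ ≫ rmS G u)
    (by rw [comp_t, Category.assoc, rmι_t, Category.assoc])
    (by rw [comp_s, Category.assoc, rmι_s, Category.assoc])

lemma lift_rmC {T : Scheme.{u}} (α β : T ⟶ rmR G u) (h : α ≫ rmS G u = β ≫ rmT G u) :
    (pullback.lift α β h ≫ rmC G u) ≫ rmι G u =
      comp G (α ≫ rmι G u) (β ≫ rmι G u) (ι_comp G u h) := by
  rw [Category.assoc, rmC, rmLift_ι, naturality]
  exact comp_congr G _ _ (pullback.lift_fst_assoc _ _ _ _) (pullback.lift_snd_assoc _ _ _ _)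

/-- The restriction along `u`. -/
noncomputable def restrictMono : Grpd.GroupoidScheme S where
  U := U'
  R := rmR G u
  pU := u ≫ G.pU
  pR := rmι G u ≫ G.pR
  s := rmS G u
  t := rmT G u
  e := rmLift G u (u ≫ G.e) (𝟙 _) (𝟙 _) (by simp) (by simp)
  i := rmLift G u (rmι G u ≫ G.i) (rmS G u) (rmT G u) (by simp [rmι_s]) (by simp [rmι_t])
  c := rmC G u
  s_over := by rw [← Category.assoc, ← rmι_s, Category.assoc, G.s_over]
  t_over := by rw [← Category.assoc, ← rmι_t, Category.assoc, G.t_over]
  comp_s := fun α β h => by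
    rw [← cancel_mono u, Category.assoc, Category.assoc _ (rmS G u) u, ← rmι_s,
      ← Category.assoc, lift_rmC, comp_s, Category.assoc]
  comp_t := fun α β h => by
    rw [← cancel_mono u, Category.assoc, Category.assoc _ (rmT G u) u, ← rmι_t,
      ← Category.assoc, lift_rmC, comp_t, Category.assoc]
  assoc := fun α β γ h₁ h₂ => by
    refine rm_ext G u ((lift_rmC G u _ _ _).trans (Eq.trans ?_ (lift_rmC G u _ _ _).symm))
    exact (comp_congr G _ ((comp_s G _ _ _).trans (ι_comp G u h₂)) (lift_rmC G u α β h₁) rfl).trans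
      ((comp_assoc G _ _ _ (ι_comp G u h₁) (ι_comp G u h₂)).trans
        (comp_congr G _ _ rfl (lift_rmC G u β γ h₂).symm))
  e_s := rmLift_S G u _ _ _ _ _
  e_t := rmLift_T G u _ _ _ _ _
  comp_e := fun α => by
    refine rm_ext G u ((lift_rmC G u _ _ _).trans ?_)
    exact (comp_congr G _ (by simp [rmι_s]) rfl (by simp)).trans
      (comp_e G (α ≫ rmι G u) (α ≫ rmS G u ≫ u) (by simp [rmι_s]))
  e_comp := fun α => by
    refine rm_ext G u ((lift_rmC G u _ _ _).trans ?_)
    exact (comp_congr G _ (by simp [rmι_t]) (by simp) rfl).trans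
      (e_comp G (α ≫ rmι G u) (α ≫ rmT G u ≫ u) (by simp [rmι_t]))
  i_s := rmLift_S G u _ _ _ _ _
  i_t := rmLift_T G u _ _ _ _ _
  comp_i := fun α => by
    refine rm_ext G u ((lift_rmC G u _ _ _).trans ?_)
    refine (comp_congr G _ (by simp) rfl (by simp)).trans
      ((comp_i G (α ≫ rmι G u) (by simp)).trans ?_)
    rw [Category.assoc α, rmι_t]; simp
  i_comp := fun α => by
    refine rm_ext G u ((lift_rmC G u _ _ _).trans ?_)
    refine (comp_congr G _ (by simp) (by simp) rfl).trans
      ((i_comp G (α ≫ rmι G u) (by simp)).trans ?_)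
    rw [Category.assoc α, rmι_s]; simp

lemma restrictMono_mono_j [Mono G.j] : Mono (restrictMono G u).j := by
  refine ⟨fun {W} (f g : W ⟶ (restrictMono G u).R) h => ?_⟩
  suffices H : ∀ (f g : W ⟶ rmR G u), f ≫ rmS G u = g ≫ rmS G u →
      f ≫ rmT G u = g ≫ rmT G u → f = g by
    refine H f g ?_ ?_
    · have := congrArg (· ≫ pullback.snd (restrictMono G u).pU (restrictMono G u).pU) h
      simp only [Category.assoc, j_snd] at this
      exact this
    · have := congrArg (· ≫ pullback.fst (restrictMono G u).pU (restrictMono G u).pU) h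
      simp only [Category.assoc, j_fst] at this
      exact this
  clear h f g
  intro f g hs ht
  refine rm_ext G u ?_
  rw [← cancel_mono G.j]
  apply pullback.hom_ext
  · simp only [Category.assoc, j_fst, rmι_t, reassoc_of% ht]
  · simp only [Category.assoc, j_snd, rmι_s, reassoc_of% hs]

end Groth.Agent.GrpdLib
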