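import Groth.Agent.GrpdLib.Basic
import Groth.Agent.SchPoints.Basic
import Mathlib.AlgebraicGeometry.Morphisms.Flat
import Mathlib.AlgebraicGeometry.Morphisms.QuasiCompact
import Mathlib.AlgebraicGeometry.Morphisms.UniversallyOpen
import Mathlib.AlgebraicGeometry.IdealSheaf.Subscheme

/-!
# Saturations of sets of objects
-/

set_option autoImplicit false
universe u

open CategoryTheory CategoryTheory.Limits AlgebraicGeometry

namespace Groth.Agent.GrpdLib.Saturation

variable {S : Scheme.{u}} (G : Grpd.GroupoidScheme S)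

/-- The saturation of a set of objects. -/
def sat (A : Set G.U) : Set G.U := G.t '' (G.s ⁻¹' A)

lemma subset_sat (A : Set G.U) : A ⊆ sat G A := fun x hx =>
  ⟨G.e x, by rw [Set.mem_preimage, ← Scheme.Hom.comp_apply, G.e_s]; exact hx,
    by rw [← Scheme.Hom.comp_apply, G.e_t]; rfl⟩

lemma mem_sat_t (A : Set G.U) (r : G.R) (h : G.s r ∈ sat G A) : G.t r ∈ sat G A := by
  obtain ⟨r₀, hr₀, e⟩ := h
  obtain ⟨q, hq₁, hq₂⟩ := Scheme.Pullback.exists_preimage_pullback (f := G.s) (g := G.t) r r₀ e.symm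
  refine ⟨G.c q, ?_, ?_⟩
  · rw [Set.mem_preimage, ← Scheme.Hom.comp_apply, c_s, Scheme.Hom.comp_apply, hq₂]; exact hr₀
  · rw [← Scheme.Hom.comp_apply, c_t, Scheme.Hom.comp_apply, hq₁]

lemma mem_sat_s (A : Set G.U) (r : G.R) (h : G.t r ∈ sat G A) : G.s r ∈ sat G A := by
  have hs : G.s (G.i r) = G.t r := by rw [← Scheme.Hom.comp_apply, G.i_s]
  have ht : G.t (G.i r) = G.s r := by rw [← Scheme.Hom.comp_apply, G.i_t]
  exact ht ▸ mem_sat_t G A (G.i r) (hs.symm ▸ h)

lemma isCompact_sat [QuasiCompact G.s] (W : G.U.Opens) (hW : IsCompact (W : Set G.U)) :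
    IsCompact (sat G W) :=
  (G.s.isCompact_preimage hW).image G.t.continuous

lemma mem_sat_of_specializes [Flat G.t] (W : G.U.Opens) {x y : G.U} (h : y ⤳ x)
    (hx : x ∈ sat G W) : y ∈ sat G W := by
  obtain ⟨r, hr, rfl⟩ := hx
  obtain ⟨r', hr', rfl⟩ := Flat.generalizingMap G.t h
  exact ⟨r', (hr'.map G.s.continuous).mem_open W.2 hr, rfl⟩

/-- A compact set stable under generization has arbitrarily small compact open neighbourhoods. -/
lemma exists_compactOpen_avoiding {X : Scheme.{u}} {A : Set X} (hA : IsCompact A)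
    (hgen : ∀ x y, y ⤳ x → x ∈ A → y ∈ A) {x : X} (hx : x ∉ A) :
    ∃ V : X.Opens, IsCompact (V : Set X) ∧ A ⊆ V ∧ x ∉ V := by
  have h : ∀ y : A, ∃ V : X.Opens, IsCompact (V : Set X) ∧ (y : X) ∈ V ∧ x ∉ V := fun y => by
    have hns : ¬ x ⤳ y := fun h => hx (hgen _ _ h y.2)
    rw [specializes_iff_forall_open] at hns
    push_neg at hns
    obtain ⟨O, hO, hyO, hxO⟩ := hns
    obtain ⟨V, hV, hyV, hVO⟩ := exists_isAffineOpen_mem_and_subset (U := ⟨O, hO⟩) hyO
    exact ⟨V, hV.isCompact, hyV, fun hxV => hxO (hVO hxV)⟩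
  choose V hVc hyV hxV using h
  obtain ⟨F, hF⟩ := hA.elim_finite_subcover (fun y => (V y : Set X)) (fun y => (V y).2)
    fun y hy => Set.mem_iUnion.2 ⟨⟨y, hy⟩, hyV _⟩
  refine ⟨⟨⋃ y ∈ F, (V y : Set X), isOpen_biUnion fun y _ => (V y).2⟩,
    F.isCompact_biUnion fun y _ => hVc y, hF, ?_⟩
  simp only [TopologicalSpace.Opens.mem_mk, Set.mem_iUnion, not_exists]
  exact fun y _ => hxV y

lemma exists_compactOpen_superset {X : Scheme.{u}} {A : Set X} (hA : IsCompact A) :
    ∃ V : X.Opens, IsCompact (V : Set X) ∧ A ⊆ V := by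
  have h : ∀ y : A, ∃ V : X.Opens, IsCompact (V : Set X) ∧ (y : X) ∈ V := fun y =>
    let ⟨V, hV, hy, _⟩ := exists_isAffineOpen_mem_and_subset (U := ⊤) (x := (y : X)) trivial
    ⟨V, hV.isCompact, hy⟩
  choose V hVc hyV using h
  obtain ⟨F, hF⟩ := hA.elim_finite_subcover (fun y => (V y : Set X)) (fun y => (V y).2)
    fun y hy => Set.mem_iUnion.2 ⟨⟨y, hy⟩, hyV _⟩
  exact ⟨⟨⋃ y ∈ F, (V y : Set X), isOpen_biUnion fun y _ => (V y).2⟩,
    F.isCompact_biUnion fun y _ => hVc y, hF⟩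

/-- A point in the closure of the saturation of a closed set is a specialization of that saturation. -/
lemma exists_specializes [QuasiCompact G.t] {Z : Set G.U} (hZ : IsClosed Z) {x : G.U}
    (hx : x ∈ closure (sat G Z)) : ∃ z ∈ sat G Z, z ⤳ x := by
  let C : TopologicalSpace.Closeds G.R := ⟨G.s ⁻¹' Z, hZ.preimage G.s.continuous⟩
  let ι := (Scheme.IdealSheafData.vanishingIdeal C).subschemeι
  have hι : Set.range ι = G.s ⁻¹' Z :=
    (Scheme.IdealSheafData.range_subschemeι _).trans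
      (Scheme.IdealSheafData.coe_support_vanishingIdeal _)
  have hr : Set.range (ι ≫ G.t) = sat G Z := by
    ext y
    refine ⟨?_, ?_⟩
    · rintro ⟨a, rfl⟩
      exact ⟨ι a, hι ▸ ⟨a, rfl⟩, (Scheme.Hom.comp_apply _ _ _).symm⟩
    · rintro ⟨r, hr, rfl⟩
      obtain ⟨a, rfl⟩ : r ∈ Set.range ι := hι.symm ▸ hr
      exact ⟨a, Scheme.Hom.comp_apply _ _ _⟩
  obtain ⟨a, ha⟩ := SchPoints.exists_specializes_of_mem_closure_range (ι ≫ G.t) (hr.symm ▸ hx)
  exact ⟨_, hr ▸ ⟨a, rfl⟩, ha⟩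

/-- The complement of the closure of the saturation of a closed set is invariant. -/
lemma preimage_compl_closure [QuasiCompact G.t] [Flat G.s] [Flat G.t] {Z : Set G.U} (hZ : IsClosed Z) :
    G.s ⁻¹' (closure (sat G Z))ᶜ = G.t ⁻¹' (closure (sat G Z))ᶜ := by
  ext r
  simp only [Set.mem_preimage, Set.mem_compl_iff, not_iff_not]
  constructor
  · intro h
    obtain ⟨z, hz, hzr⟩ := exists_specializes G hZ h
    obtain ⟨r', hr', rfl⟩ := Flat.generalizingMap G.s hzr
    exact mem_closure_of_specializes (hr'.map G.t.continuous) (mem_sat_t G Z r' hz)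
  · intro h
    obtain ⟨z, hz, hzr⟩ := exists_specializes G hZ h
    obtain ⟨r', hr', rfl⟩ := Flat.generalizingMap G.t hzr
    exact mem_closure_of_specializes (hr'.map G.s.continuous) (mem_sat_s G Z r' hz)
where
  mem_closure_of_specializes {X : Type u} [TopologicalSpace X] {a b : X} {A : Set X} (h : a ⤳ b)
      (ha : a ∈ A) : b ∈ closure A :=
    h.mem_closed isClosed_closure (subset_closure ha)

end Groth.Agent.GrpdLib.Saturation
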