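import Mathlib
import Groth.Agent.SGA1Misc.IdealDesc

/-!
# Descent of ideal sheaves along jointly surjective flat families

Injectivity of `comap` for an arbitrary jointly surjective flat family, gluing of ideal sheaves
given on all affine opens, and effectivity of descent for finite affine flat families over an
affine scheme.
-/

set_option autoImplicit false
set_option linter.style.haveILetI false
universe w u

open CategoryTheory CategoryTheory.Limits AlgebraicGeometry TensorProduct

namespace Groth.Agent.GrpdLib.IdealFamDescent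

/-- A jointly surjective family of flat morphisms. -/
structure IsFlatJointlySurj {ι : Type w} {Z : Scheme.{u}} {P : ι → Scheme.{u}}
    (g : ∀ i, P i ⟶ Z) : Prop where
  flat : ∀ i, Flat (g i)
  surj : ∀ z : Z, ∃ i p, g i p = z

lemma IsFlatJointlySurj.pullback {ι : Type w} {Z Z' : Scheme.{u}} {P : ι → Scheme.{u}}
    {g : ∀ i, P i ⟶ Z} (hg : IsFlatJointlySurj g) (a : Z' ⟶ Z) :
    IsFlatJointlySurj fun i => pullback.fst a (g i) := by
  refine ⟨fun i => ?_, fun z => ?_⟩
  · have := hg.flat i; infer_instance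
  · obtain ⟨i, p, hp⟩ := hg.surj (a z)
    obtain ⟨q, hq, -⟩ :=
      Scheme.Pullback.exists_preimage_pullback (f := a) (g := g i) z p hp.symm
    exact ⟨i, q, hq⟩

theorem eq_bot_of_comap_eq_bot {ι : Type w} {Z : Scheme.{u}} {P : ι → Scheme.{u}}
    {g : ∀ i, P i ⟶ Z} (hg : IsFlatJointlySurj g)
    (I : Z.IdealSheafData) (h : ∀ i, I.comap (g i) = ⊥) : I = ⊥ := by
  have hk : ∀ i, I ≤ (g i).ker := fun i => by
    have h1 : I ≤ Scheme.IdealSheafData.map ⊥ (g i) :=
      Scheme.IdealSheafData.le_map_iff_comap_le.mpr (h i).le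
    rwa [Scheme.IdealSheafData.map, Scheme.Hom.ker_comp_of_isIso] at h1
  refine le_bot_iff.mp fun U s hs => ?_
  rw [Scheme.IdealSheafData.ideal_bot]
  refine Ideal.mem_bot.mpr (TopCat.Presheaf.section_ext Z.sheaf U.1 s 0 fun z hz' => ?_)
  obtain ⟨i, p, rfl⟩ := hg.surj z
  have := hg.flat i
  have hz : (g i).app U.1 s = 0 := RingHom.mem_ker.mp ((g i).ideal_ker_le U (hk i U hs))
  algebraize [((g i).stalkMap p).hom]
  have : Module.FaithfullyFlat (Z.presheaf.stalk (g i p)) ((P i).presheaf.stalk p) :=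
    @Module.FaithfullyFlat.of_flat_of_isLocalHom _ _ _ _ _ _ _ (Flat.stalkMap (g i) p)
      ((g i).toLRSHom.prop p)
  refine (‹RingHom.FaithfullyFlat ((g i).stalkMap p).hom›.injective ?_)
  refine ((g i).germ_stalkMap_apply U.1 p hz' s).trans ?_
  rw [hz, map_zero]
  exact ((congrArg _ (map_zero (Z.presheaf.germ U.1 (g i p) hz').hom)).trans
    (map_zero ((g i).stalkMap p).hom)).symm

theorem le_of_comap_le {ι : Type w} {Z : Scheme.{u}} {P : ι → Scheme.{u}}
    {g : ∀ i, P i ⟶ Z} (hg : IsFlatJointlySurj g)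
    {J J' : Z.IdealSheafData} (h : ∀ i, J.comap (g i) ≤ J'.comap (g i)) : J ≤ J' := by
  have key : J.comap J'.subschemeι = ⊥ := by
    refine eq_bot_of_comap_eq_bot (hg.pullback J'.subschemeι) _ fun i => le_bot_iff.mp ?_
    have hJ' : J'.comap J'.subschemeι = ⊥ := by
      refine le_bot_iff.mp (Scheme.IdealSheafData.le_map_iff_comap_le.mp ?_)
      rw [Scheme.IdealSheafData.map, Scheme.Hom.ker_comp_of_isIso,
        Scheme.IdealSheafData.ker_subschemeι]
    rw [← Scheme.IdealSheafData.comap_comp, pullback.condition,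
      Scheme.IdealSheafData.comap_comp]
    refine (Scheme.IdealSheafData.comap_mono _ (h i)).trans ?_
    change (J'.comap (g i)).comap (pullback.snd J'.subschemeι (g i)) ≤ ⊥
    rw [← Scheme.IdealSheafData.comap_comp, ← pullback.condition,
      Scheme.IdealSheafData.comap_comp, hJ', Scheme.IdealSheafData.comap_bot]
  have h1 := Scheme.IdealSheafData.le_map_iff_comap_le.mpr key.le
  rwa [Scheme.IdealSheafData.map, Scheme.Hom.ker_comp_of_isIso,
    Scheme.IdealSheafData.ker_subschemeι] at h1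

theorem eq_of_comap_eq {ι : Type w} {Z : Scheme.{u}} {P : ι → Scheme.{u}}
    {g : ∀ i, P i ⟶ Z} (hg : IsFlatJointlySurj g)
    {J J' : Z.IdealSheafData} (h : ∀ i, J.comap (g i) = J'.comap (g i)) : J = J' :=
  le_antisymm (le_of_comap_le hg fun i => (h i).le) (le_of_comap_le hg fun i => (h i).ge)

/-- The affine opens of a scheme as a flat jointly surjective family. -/
lemma isFlatJointlySurj_affineOpens (S : Scheme.{u}) :
    IsFlatJointlySurj fun U : S.affineOpens => U.1.ι := by
  refine ⟨fun U => inferInstance, fun z => ?_⟩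
  obtain ⟨U, hU, hz, -⟩ :=
    exists_isAffineOpen_mem_and_subset (X := S) (x := z) (U := ⊤) trivial
  exact ⟨⟨U, hU⟩, ⟨z, hz⟩, rfl⟩

/-- Compatible ideal sheaves on all affine opens glue. -/
theorem exists_glue {S : Scheme.{u}} (J : ∀ U : S.affineOpens, (U.1 : Scheme.{u}).IdealSheafData)
    (h : ∀ (U V : S.affineOpens) (e : V.1 ≤ U.1), (J U).comap (S.homOfLE e) = J V) :
    ∃ J₀ : S.IdealSheafData, ∀ U : S.affineOpens, J₀.comap U.1.ι = J U := by
  haveI : ∀ U : S.affineOpens, IsAffine (U.1 : Scheme.{u}) := fun U => U.2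
  let a : ∀ U : S.affineOpens, Γ(S, U.1) ⟶ Γ(U.1, ⊤) := fun U =>
    U.1.ι.appLE U.1 ⊤ U.1.ι_preimage_self.ge
  have hiso : ∀ U : S.affineOpens, Function.Bijective (a U).hom := fun U => by
    have : IsIso (a U) := by
      have : a U = S.presheaf.map (homOfLE (le_of_eq (by simp))).op ≫ (U.1.ι.appIso ⊤).hom :=
        IdealSh.Comap.appLE_comp_appIso _ _
      have hm : IsIso (S.presheaf.map (homOfLE (le_of_eq (show U.1.ι ''ᵁ ⊤ = U.1 by simp))).op) := by
        rw [show homOfLE (le_of_eq (show U.1.ι ''ᵁ ⊤ = U.1 by simp)) = eqToHom (by simp) from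
          Subsingleton.elim _ _]
        infer_instance
      rw [this]; infer_instance
    exact ConcreteCategory.bijective_of_isIso _
  let I : ∀ U : S.affineOpens, Ideal Γ(S, U.1) := fun U =>
    ((J U).ideal ⟨⊤, isAffineOpen_top _⟩).comap (a U).hom
  have hI : ∀ U, (I U).map (a U).hom = (J U).ideal ⟨⊤, isAffineOpen_top _⟩ := fun U =>
    Ideal.map_comap_of_surjective _ (hiso U).2 _
  let J₀ : S.IdealSheafData :=
    { ideal := I
      map_ideal_basicOpen := fun U f => by
        refine Function.Injective.eq_iff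
          (f := Ideal.map (a (S.affineBasicOpen f)).hom) ?_ |>.1 ?_
        · exact fun A B e => by
            rw [← Ideal.comap_map_of_bijective _ (hiso _) (I := A), e,
              Ideal.comap_map_of_bijective _ (hiso _)]
        · have e : (S.affineBasicOpen f).1 ≤ U.1 := S.basicOpen_le f
          rw [hI, ← h U (S.affineBasicOpen f) e,
            IdealSh.Comap.ideal_comap _ (S.homOfLE e) ⟨⊤, isAffineOpen_top _⟩
              ⟨⊤, isAffineOpen_top _⟩ le_top,
            ← hI U]
          have key : S.presheaf.map (homOfLE e).op ≫ a (S.affineBasicOpen f) =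
              a U ≫ (S.homOfLE e).appLE ⊤ ⊤ le_top := by
            dsimp only [a]
            rw [Scheme.Hom.map_appLE]
            refine Eq.trans ?_ (Scheme.Hom.appLE_comp_appLE _ _ _ _ _ _ _).symm
            simp only [Scheme.homOfLE_ι]
          have key' := congrArg (fun φ => (I U).map φ.hom) key
          simp only [CommRingCat.hom_comp, ← Ideal.map_map] at key'
          exact key' }
  refine ⟨J₀, fun U => ?_⟩
  refine Scheme.IdealSheafData.ext_of_isAffine ?_
  rw [IdealSh.Comap.ideal_comap _ U.1.ι U ⟨⊤, isAffineOpen_top _⟩ U.1.ι_preimage_self.ge]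
  exact hI U

/-- Descent of ideal sheaves for a finite affine flat family over an affine scheme. -/
theorem exists_comap_eq_of_finite {ι : Type w} [Finite ι] {W : Scheme.{u}} [IsAffine W]
    {P : ι → Scheme.{u}} [∀ i, IsAffine (P i)] (k : ∀ i, P i ⟶ W) (hk : ∀ i, Flat (k i))
    (I : ∀ i, (P i).IdealSheafData)
    (hI : ∀ {T : Scheme.{u}} (i j : ι) (x : T ⟶ P i) (y : T ⟶ P j), x ≫ k i = y ≫ k j →
      (I i).comap x = (I j).comap y) :
    ∃ J : W.IdealSheafData, ∀ i, J.comap (k i) = I i := by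
  classical
  letI : ∀ i, Algebra Γ(W, ⊤) Γ(P i, ⊤) := fun i => (k i).appTop.hom.toAlgebra
  refine ⟨Scheme.IdealSheafData.ofIdealTop
    (⨅ i, ((I i).ideal ⟨⊤, isAffineOpen_top _⟩).comap (algebraMap Γ(W, ⊤) Γ(P i, ⊤))),
    fun i => Scheme.IdealSheafData.ext_of_isAffine ?_⟩
  rw [IdealSh.Comap.ideal_comap_of_isAffine]
  simp only [Scheme.IdealSheafData.ofIdealTop_ideal, homOfLE_refl, op_id, CategoryTheory.Functor.map_id,
    CommRingCat.hom_id, Ideal.map_id]
  refine le_antisymm (Ideal.map_le_iff_le_comap.2 (iInf_le _ i)) fun y hy => ?_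
  have := hk i
  haveI : Module.Flat Γ(W, ⊤) Γ(P i, ⊤) := by
    have h := (k i).flat_appLE (isAffineOpen_top W) (isAffineOpen_top (P i)) le_top
    have h' : (k i).appTop.hom.Flat := by
      rw [Scheme.Hom.appTop, Scheme.Hom.app_eq_appLE]
      exact h
    exact h'  
  refine SGA1Misc.mem_map_of_forall_tensor (ι := ι) (B := Γ(W, ⊤)) (C := Γ(P i, ⊤))
    (fun j => Γ(P j, ⊤)) (fun j => (I j).ideal ⟨⊤, isAffineOpen_top _⟩) y fun j => ?_
  let R : CommRingCat.{u} := .of (Γ(P i, ⊤) ⊗[Γ(W, ⊤)] Γ(P j, ⊤))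
  let l : Γ(P i, ⊤) ⟶ R := CommRingCat.ofHom Algebra.TensorProduct.includeLeftRingHom
  let r : Γ(P j, ⊤) ⟶ R := CommRingCat.ofHom
    (Algebra.TensorProduct.includeRight : Γ(P j, ⊤) →ₐ[Γ(W, ⊤)] _).toRingHom
  have hlr : (k i).appTop ≫ l = (k j).appTop ≫ r := by
    ext b
    exact (Algebra.TensorProduct.includeLeft (S := Γ(W, ⊤)) (A := Γ(P i, ⊤))
      (B := Γ(P j, ⊤))).commutes b |>.trans
        (Algebra.TensorProduct.includeRight.commutes b).symm
  have happ : ∀ (q : ι) (m : Γ(P q, ⊤) ⟶ R),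
      (Spec.map m ≫ (P q).isoSpec.inv).appTop = m ≫ (Scheme.ΓSpecIso R).inv := by
    intro q m
    have h0 : (P q).isoSpec.inv.appTop = (Scheme.ΓSpecIso Γ(P q, ⊤)).inv := by
      haveI : IsIso (P q).isoSpec.hom.appTop :=
        inferInstanceAs (IsIso ((P q).isoSpec.hom.app ⊤))
      rw [← cancel_epi (P q).isoSpec.hom.appTop, ← Scheme.Hom.comp_appTop, Iso.inv_hom_id]
      simp [Scheme.isoSpec_hom, Scheme.toSpecΓ_appTop]
    rw [Scheme.Hom.comp_appTop, h0]
    exact (Scheme.ΓSpecIso_inv_naturality m).symm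
  have hsq : (Spec.map l ≫ (P i).isoSpec.inv) ≫ k i = (Spec.map r ≫ (P j).isoSpec.inv) ≫ k j := by
    refine ext_of_isAffine ?_
    rw [Scheme.Hom.comp_appTop _ (k i), Scheme.Hom.comp_appTop _ (k j), happ, happ,
      ← Category.assoc, ← Category.assoc, hlr]
  have e := congrArg (fun J => J.ideal ⟨⊤, isAffineOpen_top _⟩) (hI i j _ _ hsq)
  simp only [IdealSh.Comap.ideal_comap_of_isAffine, happ, CommRingCat.hom_comp,
    ← Ideal.map_map] at e
  have hinj : Function.Injective (Ideal.map (Scheme.ΓSpecIso R).inv.hom) := fun A B e => by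
    have hb : Function.Bijective (Scheme.ΓSpecIso R).inv.hom :=
      ConcreteCategory.bijective_of_isIso _
    rw [← Ideal.comap_map_of_bijective _ hb (I := A), e, Ideal.comap_map_of_bijective _ hb]
  have e' := hinj e
  have h3 : l y ∈ ((I i).ideal ⟨⊤, isAffineOpen_top _⟩).map l.hom := Ideal.mem_map_of_mem _ hy
  rw [e'] at h3
  exact h3

end Groth.Agent.GrpdLib.IdealFamDescent
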