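import Mathlib
import Groth.Prelude.Def_DescFam
import Groth.Agent.GrpdLib.IdealFamDescent

/-!
# Effectivity of descent data of closed and open immersions for fpqc families
-/

set_option autoImplicit false
set_option linter.style.haveILetI false
universe w u

open CategoryTheory CategoryTheory.Limits AlgebraicGeometry

namespace Groth.Agent.GrpdLib.FamDescent

open IdealFamDescent

/-- A descent datum of monomorphisms is effective as soon as its members are the pullbacks of one
monomorphism. -/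
theorem isEffective_of_mono {S : Scheme.{u}} {ι : Type w} {X : ι → Scheme.{u}}
    {f : ∀ i, X i ⟶ S} (D : Desc.SchDDFam f) (U : Over S) [Mono U.hom]
    (e : ∀ i, Over.mk (pullback.fst (f i) U.hom) ≅ D.obj i) : D.IsEffective := by
  have hm : ∀ i, Mono (D.obj i).hom := fun i => by
    have he : (e i).inv.left ≫ pullback.fst (f i) U.hom = (D.obj i).hom := Over.w (e i).inv
    have : Mono (e i).inv.left :=
      inferInstanceAs (Mono ((Over.forget _).map (e i).inv))
    rw [← he]
    infer_instance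
  refine ⟨U, ⟨⟨⟨fun i => (e i).hom, ?_⟩, ⟨fun i => (e i).inv, ?_⟩, ?_, ?_⟩⟩⟩
  · intro T i j x₀ x₁ h v w hw
    have := hm j
    exact (cancel_mono (D.obj j).hom).1 (((D.φ x₀ x₁ h w).2).trans
      ((Category.assoc _ _ _).trans ((congrArg (_ ≫ ·) (Over.w (e j).hom)).trans
        ((Desc.canonicalDDFam f U).φ x₀ x₁ h v).2)).symm)
  · intro T i j x₀ x₁ h v w hw
    exact (cancel_mono (pullback.fst (f j) U.hom)).1
      ((((Desc.canonicalDDFam f U).φ x₀ x₁ h w).2).trans
        ((Category.assoc _ _ _).trans ((congrArg (_ ≫ ·) (Over.w (e j).inv)).trans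
          (D.φ x₀ x₁ h v).2)).symm)
  · ext i : 2
    exact (e i).hom_inv_id
  · ext i : 2
    exact (e i).inv_hom_id

/-- The members of a descent datum have the same ideal sheaves on common test schemes. -/
theorem comap_ker_eq {S : Scheme.{u}} {ι : Type w} {X : ι → Scheme.{u}} {f : ∀ i, X i ⟶ S}
    (D : Desc.SchDDFam f) (hD : ∀ i, IsClosedImmersion (D.obj i).hom)
    {T : Scheme.{u}} {i j : ι} (x : T ⟶ X i) (y : T ⟶ X j) (h : x ≫ f i = y ≫ f j) :
    (D.obj i).hom.ker.comap x = (D.obj j).hom.ker.comap y := by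
  suffices key : ∀ (i j : ι) (x : T ⟶ X i) (y : T ⟶ X j), x ≫ f i = y ≫ f j →
      (D.obj j).hom.ker.comap y ≤ (D.obj i).hom.ker.comap x from
    le_antisymm (key j i y x h.symm) (key i j x y h)
  intro i j x y h
  have := hD i; have := hD j
  let v : Desc.Lifts (D.obj i) (pullback.fst x (D.obj i).hom ≫ x) :=
    ⟨pullback.snd x (D.obj i).hom, pullback.condition.symm⟩
  let w := D.φ _ (pullback.fst x (D.obj i).hom ≫ y) (by simp [h]) v
  rw [← Scheme.IdealSheafData.ker_fst_of_isClosedImmersion,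
    ← Scheme.IdealSheafData.ker_fst_of_isClosedImmersion]
  have e : pullback.lift (pullback.fst x (D.obj i).hom) w.1 w.2.symm ≫
      pullback.fst y (D.obj j).hom = pullback.fst x (D.obj i).hom := pullback.lift_fst _ _ _
  conv_rhs => rw [← e]
  exact Scheme.Hom.le_ker_comp _ _

/-- The ranges of the members of a descent datum of open immersions are stable. -/
theorem mem_range_of_eq {S : Scheme.{u}} {ι : Type w} {X : ι → Scheme.{u}} {f : ∀ i, X i ⟶ S}
    (D : Desc.SchDDFam f) {i j : ι} (hD : IsOpenImmersion (D.obj i).hom)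
    (a : X i) (b : X j) (h : f i a = f j b)
    (ha : a ∈ Set.range (D.obj i).hom) : b ∈ Set.range (D.obj j).hom := by
  obtain ⟨z, hz₁, hz₂⟩ := Scheme.Pullback.exists_preimage_pullback (f := f i) (g := f j) a b h
  have hzo : z ∈ pullback.fst (f i) (f j) ⁻¹ᵁ (D.obj i).hom.opensRange := by
    change pullback.fst (f i) (f j) z ∈ Set.range (D.obj i).hom
    rwa [hz₁]
  let O := pullback.fst (f i) (f j) ⁻¹ᵁ (D.obj i).hom.opensRange
  let v : Desc.Lifts (D.obj i) (O.ι ≫ pullback.fst (f i) (f j)) :=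
    ⟨IsOpenImmersion.lift (D.obj i).hom (O.ι ≫ pullback.fst (f i) (f j))
      (by rintro _ ⟨q, rfl⟩; exact q.2), IsOpenImmersion.lift_fac _ _ _⟩
  let w := D.φ _ (O.ι ≫ pullback.snd (f i) (f j)) (by simp [pullback.condition]) v
  refine ⟨w.1 ⟨z, hzo⟩, ?_⟩
  have e : w.1 ≫ (D.obj j).hom = O.ι ≫ pullback.snd (f i) (f j) := w.2
  exact (Scheme.Hom.comp_apply w.1 (D.obj j).hom _).symm.trans
    ((congrArg (fun φ : (O : Scheme.{u}) ⟶ X j => φ ⟨z, hzo⟩) e).trans hz₂)

variable {S : Scheme.{u}} {ι : Type w} {X : ι → Scheme.{u}} {f : ∀ i, X i ⟶ S}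

lemma flat_of_mem (hf : Presieve.ofArrows X f ∈ Scheme.fpqcPrecoverage S) (i : ι) :
    Flat (f i) := by
  rw [Scheme.fpqcPrecoverage] at hf
  exact ((Scheme.ofArrows_mem_precoverage_iff (P := @Flat)).1 hf.2).2 i

/-- Finitely many affine opens of the members cover a given affine open of the base. -/
lemma exists_finite_cover (hf : Presieve.ofArrows X f ∈ Scheme.fpqcPrecoverage S)
    (U : S.affineOpens) : ∃ (n : ℕ) (c : Fin n → ι) (V : ∀ m, (X (c m)).Opens)
      (_ : ∀ m, IsAffineOpen (V m)) (k : ∀ m, (V m : Scheme.{u}) ⟶ U.1),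
      (∀ m, k m ≫ U.1.ι = (V m).ι ≫ f (c m)) ∧ IsFlatJointlySurj k := by
  have hflat := flat_of_mem hf
  rw [Scheme.fpqcPrecoverage] at hf
  have : QuasiCompactCover
      ({ I₀ := ι, X := X, f := f } : PreZeroHypercover.{w} S) :=
    Scheme.presieve₀_mem_qcPrecoverage_iff.1 hf.1
  obtain ⟨n, c, V, hV, heq⟩ := QuasiCompactCover.exists_isAffineOpen_of_isCompact
    ({ I₀ := ι, X := X, f := f } : PreZeroHypercover.{w} S) U.2.isCompact
  have hle : ∀ m, Set.range ((V m).ι ≫ f (c m)) ⊆ Set.range U.1.ι := fun m => by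
    rintro _ ⟨q, rfl⟩
    rw [Scheme.Opens.range_ι, ← heq]
    exact Set.mem_iUnion.2 ⟨m, q.1, q.2, rfl⟩
  refine ⟨n, c, V, hV, fun m => IsOpenImmersion.lift U.1.ι ((V m).ι ≫ f (c m)) (hle m),
    fun m => IsOpenImmersion.lift_fac _ _ _, fun m => ?_, fun z => ?_⟩
  · have h : Flat (IsOpenImmersion.lift U.1.ι ((V m).ι ≫ f (c m)) (hle m) ≫ U.1.ι) := by
      rw [IsOpenImmersion.lift_fac]
      have := hflat (c m)
      infer_instance
    have sq : IsPullback (𝟙 _) (IsOpenImmersion.lift U.1.ι ((V m).ι ≫ f (c m)) (hle m))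
        (IsOpenImmersion.lift U.1.ι ((V m).ι ≫ f (c m)) (hle m) ≫ U.1.ι) U.1.ι :=
      .of_horiz_isIso_mono ⟨by simp⟩
    exact MorphismProperty.of_isPullback (P := @Flat) sq h
  · have hz : z.1 ∈ ⋃ m, f (c m) '' (V m : Set (X (c m))) := by rw [heq]; exact z.2
    obtain ⟨m, q, hq, e⟩ := Set.mem_iUnion.1 hz
    refine ⟨m, ⟨q, hq⟩, U.1.ι.injective ?_⟩
    exact (Scheme.Hom.comp_apply _ _ _).symm.trans
      ((congrArg (fun φ : (V m : Scheme.{u}) ⟶ S => φ ⟨q, hq⟩)
        (IsOpenImmersion.lift_fac U.1.ι ((V m).ι ≫ f (c m)) (hle m))).trans e)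

/-- Descent of ideal sheaves along an fpqc family. -/
theorem exists_comap_eq (hf : Presieve.ofArrows X f ∈ Scheme.fpqcPrecoverage S)
    (I : ∀ i, (X i).IdealSheafData)
    (hI : ∀ {T : Scheme.{u}} (i j : ι) (x : T ⟶ X i) (y : T ⟶ X j), x ≫ f i = y ≫ f j →
      (I i).comap x = (I j).comap y) :
    ∃ J : S.IdealSheafData, ∀ i, J.comap (f i) = I i := by
  have hloc : ∀ U : S.affineOpens, ∃ J : (U.1 : Scheme.{u}).IdealSheafData,
      ∀ (T : Scheme.{u}) (a : T ⟶ U.1) (i : ι) (x : T ⟶ X i), a ≫ U.1.ι = x ≫ f i →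
        J.comap a = (I i).comap x := by
    intro U
    obtain ⟨n, c, V, hV, k, hk, hks⟩ := exists_finite_cover hf U
    have : IsAffine (U.1 : Scheme.{u}) := U.2
    have : ∀ m, IsAffine (V m : Scheme.{u}) := hV
    obtain ⟨J, hJ⟩ := exists_comap_eq_of_finite k hks.flat
      (fun m => (I (c m)).comap (V m).ι) fun {T} p q x y h => by
        rw [← Scheme.IdealSheafData.comap_comp, ← Scheme.IdealSheafData.comap_comp]
        refine hI _ _ _ _ ?_
        rw [Category.assoc, Category.assoc, ← hk, ← hk, reassoc_of% h]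
    refine ⟨J, fun T a i x h => eq_of_comap_eq (hks.pullback a) fun m => ?_⟩
    rw [← Scheme.IdealSheafData.comap_comp, pullback.condition,
      Scheme.IdealSheafData.comap_comp, hJ, ← Scheme.IdealSheafData.comap_comp,
      ← Scheme.IdealSheafData.comap_comp]
    refine hI _ _ _ _ ?_
    rw [Category.assoc, Category.assoc, ← hk, ← h, pullback.condition_assoc]
  choose J hJ using hloc
  have hsurj : IsFlatJointlySurj f :=
    ⟨flat_of_mem hf, ((Scheme.ofArrows_mem_precoverage_iff (P := @Flat)).1 hf.2).1⟩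
  obtain ⟨J₀, hJ₀⟩ := exists_glue J fun U V e =>
    eq_of_comap_eq (hsurj.pullback V.1.ι) fun i => by
      rw [← Scheme.IdealSheafData.comap_comp,
        hJ U _ _ i (pullback.snd V.1.ι (f i)) (by
          rw [Category.assoc, Scheme.homOfLE_ι, pullback.condition]),
        hJ V _ _ i (pullback.snd V.1.ι (f i)) pullback.condition]
  refine ⟨J₀, fun i => eq_of_comap_eq ((isFlatJointlySurj_affineOpens S).pullback (f i))
    fun U => ?_⟩
  rw [← Scheme.IdealSheafData.comap_comp, pullback.condition,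
    Scheme.IdealSheafData.comap_comp, hJ₀, hJ U _ _ i _ pullback.condition.symm]

/-- Closed immersions descend effectively along fpqc families. -/
theorem isEffective_of_isClosedImmersion (hf : Presieve.ofArrows X f ∈ Scheme.fpqcPrecoverage S)
    (D : Desc.SchDDFam f) (hD : ∀ i, IsClosedImmersion (D.obj i).hom) : D.IsEffective := by
  obtain ⟨J, hJ⟩ := exists_comap_eq hf (fun i => (D.obj i).hom.ker)
    fun i j x y h => comap_ker_eq D hD x y h
  haveI : Mono (Over.mk J.subschemeι).hom := inferInstanceAs (Mono J.subschemeι)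
  refine isEffective_of_mono D (Over.mk J.subschemeι) (fun i => ?_)
  have := hD i
  have hker : (pullback.fst (f i) J.subschemeι).ker = (D.obj i).hom.ker := hJ i
  refine Over.isoMk
    { hom := IsClosedImmersion.lift (D.obj i).hom (pullback.fst (f i) J.subschemeι) hker.ge
      inv := IsClosedImmersion.lift (pullback.fst (f i) J.subschemeι) (D.obj i).hom hker.le
      hom_inv_id := ?_, inv_hom_id := ?_ } (IsClosedImmersion.lift_fac _ _ _)
  · rw [← cancel_mono (pullback.fst (f i) J.subschemeι)]; simp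
  · rw [← cancel_mono (D.obj i).hom]; simp

/-- A subset with open preimages along an fpqc family is open. -/
theorem isOpen_of_isOpen_preimage (hf : Presieve.ofArrows X f ∈ Scheme.fpqcPrecoverage S)
    (s : Set S) (hs : ∀ i, IsOpen (f i ⁻¹' s)) : IsOpen s := by
  rw [(Scheme.openCoverOfIsOpenCover S (fun U : S.affineOpens => U.1)
    (iSup_affineOpens_eq_top S)).isOpenCover_opensRange.isOpen_iff_inter]
  intro (U : S.affineOpens)
  change IsOpen (s ∩ Set.range U.1.ι)
  rw [← Set.image_preimage_eq_inter_range]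
  refine U.1.ι.isOpenEmbedding.isOpenMap _ ?_
  obtain ⟨n, c, V, hV, k, hk, hks⟩ := exists_finite_cover hf U
  have : IsAffine (U.1 : Scheme.{u}) := U.2
  have : ∀ m, IsAffine (V m : Scheme.{u}) := hV
  have : ∀ m, Flat (k m) := hks.flat
  let p : (∐ fun m : Fin n => (V m : Scheme.{u})) ⟶ U.1 := Sigma.desc k
  have : Surjective p := ⟨fun z => by
    obtain ⟨m, q, hq⟩ := hks.surj z
    exact ⟨Sigma.ι (fun m : Fin n => (V m : Scheme.{u})) m q, by
      rw [← Scheme.Hom.comp_apply, Sigma.ι_desc]; exact hq⟩⟩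
  refine (Flat.isQuotientMap_of_surjective p).isOpen_preimage.1 ?_
  rw [(sigmaOpenCover fun m : Fin n => (V m : Scheme.{u})).isOpenCover_opensRange.isOpen_iff_inter]
  intro (m : Fin n)
  change IsOpen (_ ∩ Set.range (Sigma.ι (fun m : Fin n => (V m : Scheme.{u})) m))
  rw [← Set.image_preimage_eq_inter_range]
  refine (Scheme.Hom.isOpenEmbedding
    (Sigma.ι (fun m : Fin n => (V m : Scheme.{u})) m)).isOpenMap _ ?_
  have e : Sigma.ι (fun m : Fin n => (V m : Scheme.{u})) m ⁻¹' (p ⁻¹' (U.1.ι ⁻¹' s)) =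
      (V m).ι ⁻¹' (f (c m) ⁻¹' s) := by
    ext q
    simp only [Set.mem_preimage, p, ← Scheme.Hom.comp_apply]
    rw [Sigma.ι_desc, hk]
  rw [e]
  exact (hs _).preimage (V m).ι.continuous

/-- Open immersions descend effectively along fpqc families. -/
theorem isEffective_of_isOpenImmersion (hf : Presieve.ofArrows X f ∈ Scheme.fpqcPrecoverage S)
    (D : Desc.SchDDFam f) (hD : ∀ i, IsOpenImmersion (D.obj i).hom) : D.IsEffective := by
  let s : Set S := ⋃ i, f i '' Set.range (D.obj i).hom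
  have hs : ∀ i, f i ⁻¹' s = Set.range (D.obj i).hom := fun i => by
    ext b
    refine ⟨fun hb => ?_, fun hb => Set.mem_iUnion.2 ⟨i, b, hb, rfl⟩⟩
    obtain ⟨j, a, ha, e⟩ := Set.mem_iUnion.1 hb
    exact mem_range_of_eq D (hD j) a b e ha
  let O : S.Opens := ⟨s, isOpen_of_isOpen_preimage hf s fun i => by
    have := hD i
    rw [hs]; exact (D.obj i).hom.isOpenEmbedding.isOpen_range⟩
  haveI : Mono (Over.mk O.ι).hom := inferInstanceAs (Mono O.ι)
  refine isEffective_of_mono D (Over.mk O.ι) (fun i => ?_)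
  have := hD i
  have hr : Set.range (pullback.fst (f i) O.ι) = Set.range (D.obj i).hom := by
    rw [Scheme.Pullback.range_fst, Scheme.Opens.range_ι]
    exact hs i
  exact Over.isoMk (IsOpenImmersion.isoOfRangeEq (pullback.fst (f i) O.ι) (D.obj i).hom hr)
    (IsOpenImmersion.isoOfRangeEq_hom_fac _ _ _)

end Groth.Agent.GrpdLib.FamDescent
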