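import Groth.Agent.GrpdLib.OnFieldClosure

/-!
# Translations and products on a groupoid over a field
-/

set_option maxHeartbeats 400000

universe u

open CategoryTheory CategoryTheory.Limits AlgebraicGeometry

namespace Groth.Agent.GrpdLib

variable {S : Scheme.{u}} (G : Grpd.GroupoidScheme S)

lemma naturality_of {T T' : Scheme.{u}} (f : T' ⟶ T) {α β : T ⟶ G.R} {h : α ≫ G.s = β ≫ G.t}
    {α' β' : T' ⟶ G.R} (h' : α' ≫ G.s = β' ≫ G.t) (e₁ : f ≫ α = α') (e₂ : f ≫ β = β') :
    f ≫ comp G α β h = comp G α' β' h' :=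
  (naturality G f α β h).trans (comp_congr G _ h' e₁ e₂)

/-- Left translation by a Z-point of arrows, as an isomorphism `Z ×_{s,U,t} R ≅ Z ×_{t,U,t} R`. -/
noncomputable def translateIso {Z : Scheme.{u}} (a : Z ⟶ G.R) :
    pullback (a ≫ G.s) G.t ≅ pullback (a ≫ G.t) G.t where
  hom := pullback.lift (pullback.fst _ _)
    (comp G (pullback.fst _ _ ≫ a) (pullback.snd (a ≫ G.s) G.t)
      ((Category.assoc _ _ _).trans pullback.condition))
    (by rw [comp_t, Category.assoc])
  inv := pullback.lift (pullback.fst _ _)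
    (comp G ((pullback.fst _ _ ≫ a) ≫ G.i) (pullback.snd (a ≫ G.t) G.t)
      (by rw [Category.assoc, G.i_s, Category.assoc, pullback.condition]))
    (by rw [comp_t, Category.assoc, G.i_t, Category.assoc])
  hom_inv_id := by
    have hc : (pullback.fst (a ≫ G.s) G.t ≫ a) ≫ G.s = pullback.snd (a ≫ G.s) G.t ≫ G.t :=
      (Category.assoc _ _ _).trans pullback.condition
    apply pullback.hom_ext
    · simp only [Category.assoc, pullback.lift_fst, Category.id_comp]
    · rw [Category.assoc, pullback.lift_snd, Category.id_comp]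
      exact (naturality_of G _ (by rw [Category.assoc, G.i_s, comp_t])
        (by simp only [Category.assoc, pullback.lift_fst_assoc])
        (pullback.lift_snd _ _ _)).trans (i_comp_cancel G _ _ hc)
  inv_hom_id := by
    have hc : (pullback.fst (a ≫ G.t) G.t ≫ a) ≫ G.t = pullback.snd (a ≫ G.t) G.t ≫ G.t :=
      (Category.assoc _ _ _).trans pullback.condition
    apply pullback.hom_ext
    · simp only [Category.assoc, pullback.lift_fst, Category.id_comp]
    · rw [Category.assoc, pullback.lift_snd, Category.id_comp]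
      exact (naturality_of G _ (by rw [comp_t, Category.assoc _ G.i, G.i_t])
        (by simp only [pullback.lift_fst_assoc])
        (pullback.lift_snd _ _ _)).trans (comp_i_cancel G _ _ hc)

variable (k : Type u) [Field k] (eU : G.U ≅ Spec (CommRingCat.of k))

include eU in
lemma universallyOpen_translate {Z : Scheme.{u}} (a : Z ⟶ G.R) :
    UniversallyOpen (comp G (pullback.fst _ _ ≫ a) (pullback.snd (a ≫ G.s) G.t)
      (by simp [pullback.condition])) := by
  have := universallyOpen_to_U G k eU (a ≫ G.t)
  have h : UniversallyOpen ((translateIso G a).hom ≫ pullback.snd (a ≫ G.t) G.t) := inferInstance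
  simpa only [translateIso, pullback.lift_snd] using h

include eU in
/-- The translates of an open set of arrows are open. -/
lemma isOpen_range_translate (W : G.R.Opens) {Z : Scheme.{u}} (a : Z ⟶ G.R) :
    IsOpen (Set.range ⇑(pullback.lift (pullback.fst (a ≫ G.s) (W.ι ≫ G.t) ≫ a)
      (pullback.snd (a ≫ G.s) (W.ι ≫ G.t) ≫ W.ι)
      ((Category.assoc _ _ _).trans (pullback.condition.trans (Category.assoc _ _ _).symm)) ≫ G.c)) := by
  let ι' : pullback (a ≫ G.s) (W.ι ≫ G.t) ⟶ pullback (a ≫ G.s) G.t :=
    pullback.map _ _ _ _ (𝟙 _) W.ι (𝟙 _) (by simp) (by simp)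
  have h : pullback.lift (pullback.fst (a ≫ G.s) (W.ι ≫ G.t) ≫ a)
      (pullback.snd (a ≫ G.s) (W.ι ≫ G.t) ≫ W.ι)
      ((Category.assoc _ _ _).trans (pullback.condition.trans (Category.assoc _ _ _).symm)) ≫ G.c =
      ι' ≫ comp G (pullback.fst _ _ ≫ a) (pullback.snd (a ≫ G.s) G.t) (by simp [pullback.condition]) := by
    rw [naturality, lift_c]
    refine comp_congr G _ _ ?_ ?_
    · rw [pullback.lift_fst_assoc, Category.comp_id]
    · exact (pullback.lift_snd _ _ _).symm
  rw [h]
  have := universallyOpen_translate G k eU a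
  have : IsOpenImmersion ι' := inferInstance
  exact (Scheme.Hom.isOpenMap _).isOpen_range

end Groth.Agent.GrpdLib
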