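import Mathlib
import Groth.Prelude.Def_Flat
import Groth.Agent.GrpdLib.OnFieldTranslate
import Groth.Agent.GrpScheme.Dimension

/-!
# Dimension of groupoids over a field
-/

set_option autoImplicit false
set_option linter.style.haveILetI false
universe u

open CategoryTheory CategoryTheory.Limits AlgebraicGeometry Order

namespace Groth.Agent.GrpdLib.FieldDim

variable {S : Scheme.{u}} (G : Grpd.GroupoidScheme S)
variable (k : Type u) [Field k] (eU : G.U ≅ Spec (CommRingCat.of k))

include eU in
lemma subsingleton_U : Subsingleton G.U := by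
  have : Subsingleton (Spec (CommRingCat.of k)) := inferInstanceAs (Subsingleton (PrimeSpectrum k))
  exact eU.hom.homeomorph.injective.subsingleton

include eU in
lemma jacobsonSpace_R [LocallyOfFiniteType G.s] : JacobsonSpace G.R :=
  LocallyOfFiniteType.jacobsonSpace (G.s ≫ eU.hom)

include eU in
lemma integral_flat_of_isClosed [LocallyOfFiniteType G.s] [LocallyOfFiniteType G.t]
    (r : G.R) (hr : IsClosed ({r} : Set G.R)) :
    ∃ (Z : Scheme.{u}) (z : Z) (a : Z ⟶ G.R), a z = r ∧ IsIntegralHom (a ≫ G.s) ∧
      IsIntegralHom (a ≫ G.t) ∧ Flat (a ≫ G.s) ∧ Flat (a ≫ G.t) := by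
  let κ := G.R.residueField r
  let K := AlgebraicClosure κ
  let q : Spec (CommRingCat.of K) ⟶ Spec κ := Spec.map (CommRingCat.ofHom (algebraMap κ K))
  have hq : IsIntegralHom q := IsIntegralHom.SpecMap_iff.mpr fun x => Algebra.IsIntegral.isIntegral x
  let a := q ≫ G.R.fromSpecResidueField r
  have := isClosed_singleton_iff_isClosedImmersion.mp hr
  have key : ∀ f : G.R ⟶ G.U, LocallyOfFiniteType f → IsIntegralHom (a ≫ f) ∧ Flat (a ≫ f) := by
    intro f hf
    have hfin : IsFinite (G.R.fromSpecResidueField r ≫ f ≫ eU.hom) := by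
      have : JacobsonSpace (Spec (CommRingCat.of k)) :=
        LocallyOfFiniteType.jacobsonSpace (𝟙 (Spec (CommRingCat.of k)))
      exact (isFinite_iff_locallyOfFiniteType_of_jacobsonSpace).mpr inferInstance
    have h1 : IsFinite (G.R.fromSpecResidueField r ≫ f) := by
      have := hfin
      have h : IsFinite ((G.R.fromSpecResidueField r ≫ f ≫ eU.hom) ≫ eU.inv) := inferInstance
      simpa using h
    have := subsingleton_U G k eU
    have : Nonempty G.U := ⟨eU.inv (IsLocalRing.closedPoint k)⟩
    have : IsIntegral G.U := isIntegral_of_isOpenImmersion eU.hom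
    exact ⟨by simp only [a, Category.assoc]; infer_instance, inferInstance⟩
  obtain ⟨z⟩ : Nonempty (Spec (CommRingCat.of K)) := inferInstance
  exact ⟨_, z, a, (Scheme.Hom.comp_apply q (G.R.fromSpecResidueField r) z).trans
      (Set.mem_singleton_iff.1 ((Scheme.range_fromSpecResidueField r).subset ⟨q z, rfl⟩)),
    (key G.s ‹_›).1, (key G.t ‹_›).1, (key G.s ‹_›).2, (key G.t ‹_›).2⟩

include eU in
/-- All closed points of the arrows have the codimension of an identity arrow. -/
theorem coheight_eq [LocallyOfFiniteType G.s] [LocallyOfFiniteType G.t]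
    (r : G.R) (hr : IsClosed ({r} : Set G.R)) (u : G.U) : coheight r = coheight (G.e u) := by
  have := subsingleton_U G k eU
  obtain ⟨Z, z, a, rfl, hs, ht, hs', ht'⟩ := integral_flat_of_isClosed G k eU r hr
  let x : Z ⟶ pullback (a ≫ G.s) G.t := pullback.lift (𝟙 Z) ((a ≫ G.s) ≫ G.e) (by simp)
  let p := pullback.snd (a ≫ G.s) G.t
  let p' := pullback.snd (a ≫ G.t) G.t
  have h₁ : p (x z) = G.e (G.s (a z)) := by
    rw [← Scheme.Hom.comp_apply]
    simp only [x, p, pullback.lift_snd]
    rfl
  have h₂ : p' ((translateIso G a).hom (x z)) = a z := by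
    have e : x ≫ (translateIso G a).hom ≫ p' = a := by
      simp only [translateIso, p', pullback.lift_snd]
      refine (naturality_of G x (by simp) ?_ (pullback.lift_snd _ _ _)).trans
        (comp_e G a (a ≫ G.s) (by simp))
      rw [← Category.assoc, pullback.lift_fst, Category.id_comp]
    exact congrArg (fun φ : Z ⟶ G.R => φ z) e
  rw [Subsingleton.elim u (G.s (a z)), ← h₁, ← h₂, ← GrpScheme.Dimension.coheight_apply p',
    ← GrpScheme.Dimension.coheight_apply p, coheight_eq_of_isOpenImmersion (translateIso G a).hom]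

include eU in
lemma isClosed_e (u : G.U) : IsClosed ({G.e u} : Set G.R) := by
  have := subsingleton_U G k eU
  have := isClosedImmersion_e G k eU
  have h : ({G.e u} : Set G.R) = Set.range G.e := by
    ext y
    exact ⟨fun h => ⟨u, h.symm⟩, fun ⟨v, hv⟩ => by rw [← hv, Subsingleton.elim v u]; rfl⟩
  rw [h]
  exact G.e.isClosedEmbedding.isClosed_range

include eU in
theorem krullDim_eq [LocallyOfFiniteType G.s] [LocallyOfFiniteType G.t] (u : G.U) :
    topologicalKrullDim G.R = (coheight (G.e u) : WithBot ℕ∞) := by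
  have := jacobsonSpace_R G k eU
  rw [show topologicalKrullDim G.R = krullDim G.R from
    Order.krullDim_eq_of_orderIso irreducibleSetEquivPoints, krullDim_eq_iSup_coheight]
  refine le_antisymm (iSup_le fun z => ?_) (le_iSup (fun a : G.R => (coheight a : WithBot ℕ∞)) _)
  obtain ⟨w, hw, hwc⟩ := nonempty_inter_closedPoints (Z := closure {z}) ⟨z, subset_closure rfl⟩
    isClosed_closure.isLocallyClosed
  rw [← coheight_eq G k eU w hwc u]
  exact WithBot.coe_le_coe.mpr (coheight_anti (show w ≤ z from specializes_iff_mem_closure.mpr hw))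

include eU in
theorem coheight_closed [LocallyOfFiniteType G.s] [LocallyOfFiniteType G.t]
    (r : G.R) (hr : IsClosed ({r} : Set G.R)) :
    (coheight r : WithBot ℕ∞) = topologicalKrullDim G.R := by
  rw [krullDim_eq G k eU (G.s r), coheight_eq G k eU r hr (G.s r)]

include eU in
theorem ringKrullDim_stalk [LocallyOfFiniteType G.s] [LocallyOfFiniteType G.t]
    (r : G.R) (hr : IsClosed ({r} : Set G.R)) :
    (ringKrullDim (G.R.presheaf.stalk r) : WithBot ℕ∞) = topologicalKrullDim G.R := by
  rw [ringKrullDim_stalk_eq_coheight, coheight_closed G k eU r hr]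

/-- Codimension can be computed in a subspace stable under generization. -/
lemma coheight_le_topologicalKrullDim {X : Scheme.{u}} (T : Set X) (x : X)
    (hT : ∀ y, y ⤳ x → y ∈ T) : (coheight x : WithBot ℕ∞) ≤ topologicalKrullDim T := by
  have hbot : (0 : WithBot ℕ∞) ≤ topologicalKrullDim T := by
    haveI : Nonempty T := ⟨⟨x, hT x (specializes_rfl)⟩⟩
    haveI : Nonempty (TopologicalSpace.IrreducibleCloseds T) :=
      ⟨⟨closure {⟨x, hT x specializes_rfl⟩}, isIrreducible_singleton.closure, isClosed_closure⟩⟩
    exact krullDim_nonneg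
  obtain ⟨d, hd⟩ := WithBot.ne_bot_iff_exists.1
    (ne_bot_of_le_ne_bot (WithBot.coe_ne_bot (a := (0 : ℕ∞))) hbot)
  rw [← hd, WithBot.coe_le_coe]
  refine coheight_le fun p hp => ?_
  have hmem : ∀ i, p i ∈ T := fun i => hT _ <| by
    have : p.head ≤ p i := p.monotone (Fin.zero_le _)
    exact hp ▸ this
  let q : LTSeries (TopologicalSpace.IrreducibleCloseds T) :=
    ⟨p.length, fun i => ⟨closure {⟨p i, hmem i⟩}, isIrreducible_singleton.closure, isClosed_closure⟩,
      fun i => by
        have h := p.step i
        constructor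
        · refine closure_minimal ?_ isClosed_closure
          rintro _ rfl
          exact specializes_iff_mem_closure.1 ((subtype_specializes_iff _ _).2 h.le)
        · intro hle
          have := hle (subset_closure rfl)
          exact h.not_ge ((subtype_specializes_iff _ _).1 (specializes_iff_mem_closure.2 this))⟩
  have := q.length_le_krullDim
  change (q.length : WithBot ℕ∞) ≤ topologicalKrullDim T at this
  rw [← hd, ← WithBot.coe_natCast, WithBot.coe_le_coe] at this
  exact this

include eU in
theorem equidimensional [LocallyOfFiniteType G.s] [LocallyOfFiniteType G.t] :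
    (∀ Z ∈ irreducibleComponents ↥G.R, topologicalKrullDim ↥Z = topologicalKrullDim ↥G.R) ∧
      ∀ r : G.R, FlatMor.localDim ↥G.R r = topologicalKrullDim ↥G.R := by
  have := jacobsonSpace_R G k eU
  have hloc : IsLocallyNoetherian G.R := by
    have : IsLocallyNoetherian (Spec (CommRingCat.of k)) := inferInstance
    exact LocallyOfFiniteType.isLocallyNoetherian (G.s ≫ eU.hom)
  have hle : ∀ T : Set G.R, topologicalKrullDim T ≤ topologicalKrullDim G.R := fun T =>
    Topology.IsEmbedding.subtypeVal.isInducing.topologicalKrullDim_le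
  refine ⟨fun Z hZ => le_antisymm (hle Z) ?_, fun r => le_antisymm ?_ (le_iInf fun U => ?_)⟩
  · obtain ⟨U, hU, hne, hUZ⟩ : ∃ U : Set G.R, IsOpen U ∧ U.Nonempty ∧ U ⊆ Z := by
      obtain ⟨z, hz⟩ := hZ.1.nonempty
      obtain ⟨V, hV, hzV, -⟩ := exists_isAffineOpen_mem_and_subset (x := z) (U := ⊤) trivial
      have : IsAffine (V : Scheme.{u}) := hV
      have : IsLocallyNoetherian (V : Scheme.{u}) := isLocallyNoetherian_of_isOpenImmersion V.ι
      have : TopologicalSpace.NoetherianSpace (V : Scheme.{u}) :=
        have : CompactSpace (V : Scheme.{u}) := inferInstance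
        have : IsNoetherian (V : Scheme.{u}) := ⟨⟩
        inferInstance
      obtain ⟨o, ho, hone, hoZ⟩ :=
        TopologicalSpace.NoetherianSpace.exists_isOpen_nonempty_subset_irreducibleComponent _
          (preimage_mem_irreducibleComponents hZ V.ι.isOpenEmbedding ⟨z, hz, ⟨z, hzV⟩, rfl⟩)
      exact ⟨V.ι '' o, V.ι.isOpenEmbedding.isOpenMap o ho, hone.image _,
        Set.image_subset_iff.2 hoZ⟩
    obtain ⟨w, hw, hwc⟩ := nonempty_inter_closedPoints hne hU.isLocallyClosed
    rw [← coheight_closed G k eU w hwc]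
    exact coheight_le_topologicalKrullDim Z w fun y hy => hUZ (hy.mem_open hU hw)
  · exact (iInf_le _ ⟨⊤, trivial⟩).trans (hle _)
  · obtain ⟨w, hw, hwc⟩ := nonempty_inter_closedPoints (Z := (U.1 : Set G.R)) ⟨r, U.2⟩
      U.1.2.isLocallyClosed
    rw [← coheight_closed G k eU w hwc]
    exact coheight_le_topologicalKrullDim _ w fun y hy => hy.mem_open U.1.2 hw

end Groth.Agent.GrpdLib.FieldDim
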