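import Mathlib
import Groth.Agent.GrpdLib.FieldDim

/-!
# The stabilizer contains the generizations of the identity arrows
-/

set_option autoImplicit false
set_option linter.style.haveILetI false
universe u

open CategoryTheory CategoryTheory.Limits AlgebraicGeometry Polynomial

namespace Groth.Agent.GrpdLib.FieldStabDim

lemma infinite_integral (K : Type u) [Field K] [IsAlgClosed K] :
    {y : K | IsIntegral ℤ y}.Infinite := by
  intro hfin
  classical
  let C := integralClosure ℤ K
  have : Finite C := hfin.to_subtype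
  have := Fintype.ofFinite C
  let P : C[X] := (∏ a : C, (X - Polynomial.C a)) + 1
  obtain ⟨y, hy⟩ := IsAlgClosed.exists_root (P.map (algebraMap C K)) (by
    have hm : (∏ a : C, (X - Polynomial.C a)).Monic := monic_prod_of_monic _ _ fun a _ => monic_X_sub_C a
    have hd : 0 < (∏ a : C, (X - Polynomial.C a)).degree := by
      rw [degree_eq_natDegree hm.ne_zero, natDegree_prod_of_monic _ _ fun a _ => monic_X_sub_C a]
      simp [Fintype.card_pos]
    have hP : P.degree = (∏ a : C, (X - Polynomial.C a)).degree :=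
      degree_add_eq_left_of_degree_lt (by rwa [degree_one])
    rw [degree_map_eq_of_injective Subtype.val_injective, hP]
    exact hd.ne')
  have hPm : P.Monic := by
    refine Monic.add_of_left (monic_prod_of_monic _ _ fun a _ => monic_X_sub_C a) ?_
    rw [degree_one, degree_eq_natDegree (monic_prod_of_monic _ _ fun a _ => monic_X_sub_C a).ne_zero,
      natDegree_prod_of_monic _ _ fun a _ => monic_X_sub_C a]
    simp [Fintype.card_pos]
  have hy' : (aeval y) P = 0 := by rwa [aeval_def, ← Polynomial.eval_map]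
  have hint : IsIntegral ℤ y := isIntegral_trans (A := C) y ⟨P, hPm, hy'⟩
  have h1 : (aeval y) (∏ a : C, (X - Polynomial.C a)) = 0 := by
    rw [map_prod]
    exact Finset.prod_eq_zero (Finset.mem_univ (⟨y, hint⟩ : C)) (by simp)
  simp [P, h1] at hy'

variable (k : Type u) [Field k] (A : Type u) [CommRing A] [IsDomain A] [Algebra k A]

/-- A second structure map of a finitely generated domain over `k` agreeing with the first at a
rational point is equal to it. -/
theorem eq_algebraMap [Algebra.FiniteType k A] (τ : k →+* A) (ε : A →ₐ[k] k)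
    (h : ∀ x, ε (τ x) = x) (x : k) : τ x = algebraMap k A x := by
  have halg : ∀ q : k[X], q ≠ 0 → aeval (τ x) q = 0 → τ x = algebraMap k A x := by
    intro q hq hq0
    have hint : IsIntegral k (τ x) := (IsAlgebraic.isIntegral ⟨q, hq, hq0⟩)
    have hirr := minpoly.irreducible hint
    have hroot : (minpoly k (τ x)).IsRoot x := by
      have := congrArg ε (minpoly.aeval k (τ x))
      rw [← aeval_algHom_apply, h, map_zero, coe_aeval_eq_eval] at this
      exact this
    have hdeg := degree_eq_one_of_irreducible_of_root hirr hroot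
    have e := minpoly.aeval k (τ x)
    rw [(minpoly.monic hint).eq_X_add_C (natDegree_eq_of_degree_eq_some hdeg)] at e hroot
    simp only [IsRoot.def, eval_add, eval_X, eval_C] at hroot
    simp only [map_add, aeval_X, aeval_C] at e
    rw [eq_neg_of_add_eq_zero_left e, ← map_neg, ← eq_neg_of_add_eq_zero_left hroot]
  by_contra hne
  have htr : Function.Injective (aeval (R := k) (τ x)).toRingHom := by
    rw [injective_iff_map_eq_zero]
    intro q hq
    by_contra hq0
    exact hne (halg q hq0 hq)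
  let φ : k[X] →ₐ[k] A := aeval (τ x)
  algebraize [φ.toRingHom]
  haveI : IsScalarTower k k[X] A := IsScalarTower.of_algebraMap_eq fun a => (φ.commutes a).symm
  haveI : FaithfulSMul k[X] A := (faithfulSMul_iff_algebraMap_injective k[X] A).2 htr
  haveI : Algebra.FiniteType k[X] A := Algebra.FiniteType.of_restrictScalars_finiteType k k[X] A
  obtain ⟨hh, hh0, hD⟩ : ∃ hh : k[X], hh ≠ 0 ∧
      (PrimeSpectrum.basicOpen hh : Set (PrimeSpectrum k[X])) ⊆
        Set.range (PrimeSpectrum.comap (algebraMap k[X] A)) := by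
    haveI : Algebra.FinitePresentation k[X] A := Algebra.FinitePresentation.of_finiteType.1 ‹_›
    haveI : Module.IsTorsionFree k[X] A := inferInstance
    haveI : Module.Flat k[X] A := inferInstance
    have ho := (PrimeSpectrum.isOpenMap_comap_of_hasGoingDown_of_finitePresentation
      (R := k[X]) (S := A)).isOpen_range
    obtain ⟨z⟩ : Nonempty (PrimeSpectrum A) := inferInstance
    obtain ⟨_, ⟨hh, rfl⟩, hz, hsub⟩ :=
      PrimeSpectrum.isTopologicalBasis_basic_opens.exists_subset_of_mem_open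
        (show PrimeSpectrum.comap (algebraMap k[X] A) z ∈ _ from Set.mem_range_self z) ho
    exact ⟨hh, fun h0 => by simp [h0] at hz, hsub⟩
  obtain ⟨y, hy, hyh⟩ : ∃ y : AlgebraicClosure k, IsIntegral ℤ y ∧ aeval y hh ≠ 0 := by
    by_contra hcon
    refine infinite_integral (AlgebraicClosure k) (Set.Finite.subset
      (rootSet_finite hh (AlgebraicClosure k)) fun y hy => ?_)
    rw [mem_rootSet]
    exact ⟨hh0, by_contra fun h => hcon ⟨y, hy, h⟩⟩
  obtain ⟨q, hqm, hq⟩ := hy
  have hmem : (⟨RingHom.ker (aeval (R := k) y).toRingHom, RingHom.ker_isPrime _⟩ :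
      PrimeSpectrum k[X]) ∈ (PrimeSpectrum.basicOpen hh : Set (PrimeSpectrum k[X])) := hyh
  obtain ⟨Q, hQ⟩ := hD hmem
  have hqQ : τ (q.eval₂ (Int.castRingHom k) x) ∈ Q.asIdeal := by
    have h1 : (q.map (Int.castRingHom k)) ∈ RingHom.ker (aeval (R := k) y).toRingHom := by
      change aeval y (q.map (algebraMap ℤ k)) = 0
      rw [aeval_map_algebraMap]
      exact hq
    rw [show RingHom.ker (aeval (R := k) y).toRingHom =
      Q.asIdeal.comap (algebraMap k[X] A) from congrArg PrimeSpectrum.asIdeal hQ.symm] at h1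
    have h2 : aeval (τ x) (q.map (Int.castRingHom k)) ∈ Q.asIdeal := h1
    rw [aeval_def, eval₂_map] at h2
    rw [hom_eval₂]
    convert h2 using 2
    exact RingHom.ext_int _ _
  have hzero : q.eval₂ (Int.castRingHom k) x = 0 := by
    by_contra h0
    exact Q.isPrime.ne_top (Q.asIdeal.eq_top_of_isUnit_mem hqQ ((Ne.isUnit h0).map τ))
  refine hne (halg (q.map (Int.castRingHom k)) (hqm.map _).ne_zero ?_)
  rw [aeval_def, eval₂_map, show (algebraMap k A).comp (Int.castRingHom k) =
    τ.comp (Int.castRingHom k) from RingHom.ext_int _ _, ← hom_eval₂, hzero, map_zero]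


variable {S : Scheme.{u}} (G : Grpd.GroupoidScheme S) (eU : G.U ≅ Spec (CommRingCat.of k))

include eU in
theorem exists_stabilizer_point [LocallyOfFiniteType G.s] (u : G.U) (η : G.R)
    (hη : η ⤳ G.e u) : η ∈ Set.range (pullback.fst G.j G.diag) := by
  have := FieldDim.subsingleton_U G k eU
  obtain ⟨W, hW, heW, -⟩ := exists_isAffineOpen_mem_and_subset (x := G.e u) (U := ⊤) trivial
  have hηW : η ∈ W := hη.mem_open W.2 heW
  let P := hW.primeIdealOf ⟨η, hηW⟩
  let mk : Γ(G.R, W) ⟶ CommRingCat.of (Γ(G.R, W) ⧸ P.asIdeal) :=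
    CommRingCat.ofHom (Ideal.Quotient.mk _)
  let γ := Spec.map mk ≫ hW.fromSpec
  let ψ : (G.R ⟶ Spec (CommRingCat.of k)) → (CommRingCat.of k ⟶ Γ(G.R, W)) := fun f =>
    (Scheme.ΓSpecIso (CommRingCat.of k)).inv ≫ f.appLE ⊤ W le_top
  have hψ : ∀ f, γ ≫ f = Spec.map (ψ f ≫ mk) := fun f => by
    simp only [γ, ψ, Category.assoc]
    rw [← IsAffineOpen.SpecMap_appLE_fromSpec f (isAffineOpen_top _) hW le_top,
      IsAffineOpen.fromSpec_top, Scheme.isoSpec_Spec_inv, ← Spec.map_comp, ← Spec.map_comp,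
      Category.assoc]
  let Ee := eU.inv ≫ G.e
  have hE : ⊤ ≤ Ee ⁻¹ᵁ W := fun z _ => by
    change G.e (eU.inv z) ∈ W
    rwa [Subsingleton.elim (eU.inv z) u]
  let ε0 : Γ(G.R, W) ⟶ CommRingCat.of k := Ee.appLE W ⊤ hE ≫ (Scheme.ΓSpecIso (CommRingCat.of k)).hom
  have hε0 : ∀ f, Ee ≫ f = 𝟙 _ → ψ f ≫ ε0 = 𝟙 _ := fun f hf => by
    simp only [ψ, ε0, Category.assoc]
    rw [← Category.assoc (f.appLE ⊤ W le_top),
      show f.appLE ⊤ W le_top ≫ Ee.appLE W ⊤ hE = (Ee ≫ f).appLE ⊤ ⊤ le_top from
        Scheme.Hom.appLE_comp_appLE _ _ _ _ _ _ _]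
    have h1 : ∀ g : Spec (CommRingCat.of k) ⟶ Spec (CommRingCat.of k), g = 𝟙 _ →
        g.appLE ⊤ ⊤ le_top = 𝟙 _ := fun g hg => by subst hg; simp [Scheme.Hom.appLE]
    rw [h1 _ hf, Category.id_comp, Iso.inv_hom_id]
  have hkill : ∀ b ∈ P.asIdeal, ε0.hom b = 0 := fun b hb => by
    by_contra h0
    have hu : IsUnit ((Ee.appLE W ⊤ hE).hom b) := by
      have := (Ne.isUnit h0).map (Scheme.ΓSpecIso (CommRingCat.of k)).inv.hom
      simpa [ε0, ← CommRingCat.comp_apply] using this
    have htop := (Spec (CommRingCat.of k)).basicOpen_of_isUnit hu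
    have hmem : Ee (IsLocalRing.closedPoint k) ∈ G.R.basicOpen b := by
      change IsLocalRing.closedPoint k ∈ Ee ⁻¹ᵁ G.R.basicOpen b
      rw [Scheme.preimage_basicOpen]
      have h1 : IsLocalRing.closedPoint k ∈
          (Spec (CommRingCat.of k)).basicOpen ((Ee.appLE W ⊤ hE).hom b) := htop.ge trivial
      rw [show (Ee.appLE W ⊤ hE).hom b = ((Spec (CommRingCat.of k)).presheaf.map (homOfLE hE).op).hom
        ((Ee.app W).hom b) from rfl] at h1
      exact ((Scheme.basicOpen_res _ _ _).le h1).2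
    have he' : Ee (IsLocalRing.closedPoint k) = G.e u := by
      change G.e (eU.inv _) = _
      rw [Subsingleton.elim (eU.inv (IsLocalRing.closedPoint k)) u]
    have hb' : P ∈ hW.fromSpec ⁻¹ᵁ G.R.basicOpen b := by
      change hW.fromSpec P ∈ G.R.basicOpen b
      rw [hW.fromSpec_primeIdealOf]
      exact hη.mem_open (G.R.basicOpen b).2 (he' ▸ hmem)
    rw [IsAffineOpen.fromSpec_preimage_basicOpen] at hb'
    exact hb' hb
  letI : Algebra k (Γ(G.R, W) ⧸ P.asIdeal) := (ψ (G.s ≫ eU.hom) ≫ mk).hom.toAlgebra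
  haveI : Algebra.FiniteType k (Γ(G.R, W) ⧸ P.asIdeal) := by
    have h1 := (G.s ≫ eU.hom).finiteType_appLE (isAffineOpen_top _) hW le_top
    exact (RingHom.FiniteType.of_surjective _ Ideal.Quotient.mk_surjective).comp
      (h1.comp (RingHom.FiniteType.of_surjective _ (ConcreteCategory.bijective_of_isIso
        (Scheme.ΓSpecIso (CommRingCat.of k)).inv).2))
  have hs0 := congrArg CommRingCat.Hom.hom (hε0 (G.s ≫ eU.hom) (by simp [Ee]))
  have ht0 := congrArg CommRingCat.Hom.hom (hε0 (G.t ≫ eU.hom) (by simp [Ee]))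
  let ε : (Γ(G.R, W) ⧸ P.asIdeal) →ₐ[k] k :=
    { Ideal.Quotient.lift P.asIdeal ε0.hom hkill with
      commutes' := fun c => RingHom.congr_fun hs0 c }
  have key : ψ (G.t ≫ eU.hom) ≫ mk = ψ (G.s ≫ eU.hom) ≫ mk := by
    ext c
    exact eq_algebraMap k _ (ψ (G.t ≫ eU.hom) ≫ mk).hom ε (fun x => RingHom.congr_fun ht0 x) c
  have hst : γ ≫ G.t = γ ≫ G.s := by
    refine (cancel_mono eU.hom).1 ?_
    refine ((Category.assoc γ _ _).trans (hψ _)).trans ?_
    refine Eq.trans ?_ ((Category.assoc γ _ _).trans (hψ _)).symm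
    rw [key]
  let z : Spec (CommRingCat.of (Γ(G.R, W) ⧸ P.asIdeal)) :=
    (⟨⊥, Ideal.isPrime_bot⟩ : PrimeSpectrum (Γ(G.R, W) ⧸ P.asIdeal))
  have hz : γ z = η := by
    have : Spec.map mk z = P := PrimeSpectrum.ext (Ideal.mk_ker (I := P.asIdeal))
    rw [Scheme.Hom.comp_apply, this]
    exact hW.fromSpec_primeIdealOf ⟨η, hηW⟩
  refine ⟨pullback.lift (f := G.j) (g := G.diag) γ (γ ≫ G.s)
    (by apply pullback.hom_ext <;> simp [hst]) z, ?_⟩
  rw [← Scheme.Hom.comp_apply, pullback.lift_fst, hz]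

include eU in
theorem dim_eq [LocallyOfFiniteType G.s] [LocallyOfFiniteType G.t] :
    topologicalKrullDim G.R = topologicalKrullDim G.stabilizer := by
  haveI : IsImmersion G.diag := by
    have : IsImmersion (G.diag ≫ pullback.fst G.pU G.pU) := by rw [diag_fst]; infer_instance
    exact IsImmersion.of_comp G.diag (pullback.fst G.pU G.pU)
  let σ : G.stabilizer ⟶ G.R := pullback.fst G.j G.diag
  have he : Topology.IsEmbedding σ := (pullback.fst G.j G.diag).isEmbedding
  refine le_antisymm ?_ he.isInducing.topologicalKrullDim_le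
  obtain ⟨u⟩ : Nonempty G.U := ⟨eU.inv (IsLocalRing.closedPoint k)⟩
  rw [FieldDim.krullDim_eq G k eU u]
  refine (FieldDim.coheight_le_topologicalKrullDim (Set.range σ) _
    (exists_stabilizer_point k G eU u)).trans ?_
  exact (IsHomeomorph.topologicalKrullDim_eq _ he.toHomeomorph.isHomeomorph).ge

end Groth.Agent.GrpdLib.FieldStabDim
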