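import Groth.Agent.AlgSp.Basic
import Groth.Agent.S7490

/-!
# An fppf map with the relation as kernel pair is a quotient sheaf
-/

set_option autoImplicit false
set_option maxHeartbeats 400000

universe u

open CategoryTheory CategoryTheory.Limits AlgebraicGeometry Opposite

namespace Groth.Agent.GrpdLib

variable {S : Scheme.{u}} {R U M : Over S}

/-- An fppf covering gives an epimorphism of fppf sheaves. -/
lemma epi_repMap_of_fppf (q : U ⟶ M) [Flat q.left] [Surjective q.left]
    [LocallyOfFinitePresentation q.left] : Epi (QuotSh.repMap Scheme.fppfPrecoverage q) := by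
  let pmq : yoneda.obj U ⋙ uliftFunctor.{u + 1, u} ⟶ yoneda.obj M ⋙ uliftFunctor.{u + 1, u} :=
    Functor.whiskerRight (yoneda.map q) uliftFunctor.{u + 1, u}
  have : Presheaf.IsLocallySurjective (AlgSp.J S) pmq := by
    refine ⟨fun {T} y => ?_⟩
    let V : Over S := Over.mk (pullback.snd q.left y.down.left ≫ T.hom)
    let k : V ⟶ T := Over.homMk (pullback.snd q.left y.down.left) rfl
    let x : V ⟶ U := Over.homMk (pullback.fst q.left y.down.left) (by
      show pullback.fst q.left y.down.left ≫ U.hom = pullback.snd q.left y.down.left ≫ T.hom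
      rw [← Over.w q, pullback.condition_assoc, Over.w y.down])
    have : Flat k.left := inferInstanceAs (Flat (pullback.snd q.left y.down.left))
    have : Surjective k.left := inferInstanceAs (Surjective (pullback.snd q.left y.down.left))
    have : LocallyOfFinitePresentation k.left :=
      inferInstanceAs (LocallyOfFinitePresentation (pullback.snd q.left y.down.left))
    exact AlgSp.mem_of_fppf k ⟨⟨x⟩, congrArg ULift.up (Over.OverMorphism.ext pullback.condition)⟩
  have : Presheaf.IsLocallySurjective (AlgSp.J S)
      (toSheafify (AlgSp.J S) (yoneda.obj U ⋙ uliftFunctor.{u + 1, u}) ≫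
        (QuotSh.repMap Scheme.fppfPrecoverage q).hom) := by
    rw [← show pmq ≫ toSheafify (AlgSp.J S) _ = _ from toSheafify_naturality (AlgSp.J S) pmq]
    exact Presheaf.isLocallySurjective_comp (AlgSp.J S) _ _
  have : Sheaf.IsLocallySurjective (QuotSh.repMap Scheme.fppfPrecoverage q) :=
    Presheaf.isLocallySurjective_of_isLocallySurjective (AlgSp.J S)
      (toSheafify (AlgSp.J S) (yoneda.obj U ⋙ uliftFunctor.{u + 1, u})) _
  exact (Sheaf.isLocallySurjective_iff_epi _).1 this

/-- An fppf covering whose kernel pair is the relation represents the quotient sheaf. -/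
lemma isQuotient_of_isPullback (s t : R ⟶ U) (q : U ⟶ M) [Flat q.left] [Surjective q.left]
    [LocallyOfFinitePresentation q.left] (h : IsPullback t.left s.left q.left q.left) :
    QuotSh.IsQuotient Scheme.fppfPrecoverage s t q := by
  refine S7490.result _ s t q (Over.OverMorphism.ext h.w.symm) h.w (epi_repMap_of_fppf q) ?_
  have : IsIso (pullback.lift t.left s.left h.w) := by
    rw [show pullback.lift t.left s.left h.w = h.isoPullback.hom by
      apply pullback.hom_ext
      · exact (pullback.lift_fst _ _ _).trans h.isoPullback_hom_fst.symm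
      · exact (pullback.lift_snd _ _ _).trans h.isoPullback_hom_snd.symm]
    infer_instance
  let c : R ⟶ Over.mk (pullback.fst q.left q.left ≫ U.hom) :=
    Over.homMk (pullback.lift t.left s.left h.w)
      (((Category.assoc _ _ _).symm.trans (congrArg (fun k => k ≫ U.hom) (pullback.lift_fst t.left s.left h.w))).trans (Over.w t))
  have : IsIso ((Over.forget S).map c) := ‹IsIso (pullback.lift t.left s.left h.w)›
  have : IsIso c := isIso_of_reflects_iso c (Over.forget S)
  have : IsIso (QuotSh.repMap Scheme.fppfPrecoverage c) := inferInstance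
  exact inferInstanceAs (Epi (QuotSh.repMap Scheme.fppfPrecoverage c))

end Groth.Agent.GrpdLib
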