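import Groth.Agent.Chow.Coords

/-!
# Morphisms to projective space from unimodular vectors
-/

set_option autoImplicit false
set_option backward.isDefEq.respectTransparency false
universe u

open CategoryTheory CategoryTheory.Limits AlgebraicGeometry MvPolynomial

namespace Groth.Agent.GrpdLib.ProjVec

open Groth.Agent.Chow (Pr str pt X_mem pt_eq_of_isUnit pt_congr comp_pt pt_scale pt_toSpec
  pt_preimage_basicOpen away away_mk toSpecΓ_SpecMap_injective)

/-- A function whose non-vanishing locus is everything is a unit. -/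
lemma isUnit_of_basicOpen {T : Scheme.{u}} (s : Γ(T, ⊤)) (h : T.basicOpen s = ⊤) : IsUnit s :=
  T.toLocallyRingedSpace.toRingedSpace.isUnit_of_isUnit_germ ⊤ s fun x _ =>
    (T.mem_basicOpen_top s x).1 (by rw [h]; trivial)

/-- A function pulls back to a unit along a morphism into its non-vanishing locus. -/
lemma isUnit_appTop_ι {T : Scheme.{u}} (s : Γ(T, ⊤)) : IsUnit ((T.basicOpen s).ι.appTop s) := by
  refine isUnit_of_basicOpen _ ?_
  rw [← Scheme.preimage_basicOpen_top]
  exact TopologicalSpace.Opens.ext (Set.eq_univ_of_forall fun x => x.2)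

/-- Functions which agree on a cover agree. -/
lemma eq_of_cover {T : Scheme.{u}} (𝒰 : T.OpenCover) {s t : Γ(T, ⊤)}
    (h : ∀ i, (𝒰.f i).appTop s = (𝒰.f i).appTop t) : s = t := by
  let C : CommRingCat.{u} := CommRingCat.of (MvPolynomial PUnit.{u+1} (ULift.{u} ℤ))
  let e : Γ(T, ⊤) → (C →+* Γ(T, ⊤)) := fun a =>
    eval₂Hom ((Int.castRingHom _).comp ULift.ringEquiv.toRingHom) fun _ => a
  have key : e s = e t := by
    apply toSpecΓ_SpecMap_injective (C := C)
    refine 𝒰.hom_ext _ _ fun i => ?_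
    rw [← Category.assoc, ← Category.assoc, Scheme.toSpecΓ_naturality, Category.assoc, Category.assoc,
      ← Spec.map_comp, ← Spec.map_comp]
    congr 2
    refine CommRingCat.hom_ext (MvPolynomial.ringHom_ext (fun r => ?_) fun j => ?_)
    · simp [e, C]
    · simpa [e, C] using h i
  have hh := RingHom.congr_fun key (X PUnit.unit)
  exact (eval₂_X _ _ _).symm.trans (hh.trans (eval₂_X _ _ _))

variable {n : ℕ} {R : Type u} [CommRing R]

local notation "P" => MvPolynomial (Fin (n + 1)) R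

/-- The coordinates after pulling back. -/
noncomputable abbrev res {T T' : Scheme.{u}} (g : T' ⟶ T) (ev : P →+* Γ(T, ⊤)) : P →+* Γ(T', ⊤) :=
  g.appTop.hom.comp ev

variable {T : Scheme.{u}}

lemma sup_basicOpen {v : Fin (n + 1) → Γ(T, ⊤)} (h : Ideal.span (Set.range v) = ⊤) (x : T) :
    ∃ i, x ∈ T.basicOpen (v i) := by
  by_contra hx
  simp only [not_exists] at hx
  have hle : Ideal.span (Set.range v) ≤ (IsLocalRing.maximalIdeal _).comap (T.presheaf.germ ⊤ x (TopologicalSpace.Opens.mem_top x)).hom := by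
    rw [Ideal.span_le]
    rintro _ ⟨i, rfl⟩
    exact fun hu => hx i ((T.mem_basicOpen_top (v i) x).2 hu)
  rw [h] at hle
  have h1 := hle (show (1 : Γ(T, ⊤)) ∈ (⊤ : Ideal Γ(T, ⊤)) from trivial)
  rw [Ideal.mem_comap, map_one] at h1
  exact (IsLocalRing.maximalIdeal.isMaximal (T.presheaf.stalk x)).ne_top ((Ideal.eq_top_iff_one _).2 h1)

/-- The cover by the non-vanishing loci of the coordinates. -/
noncomputable def cover (v : Fin (n + 1) → Γ(T, ⊤)) (h : Ideal.span (Set.range v) = ⊤) : T.OpenCover :=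
  T.openCoverOfIsOpenCover (fun i => T.basicOpen (v i))
    (.mk <| TopologicalSpace.Opens.ext <| Set.eq_univ_of_forall fun x =>
      TopologicalSpace.Opens.mem_iSup.2 (sup_basicOpen h x))

/-- The morphism with given unimodular coordinates. -/
theorem exists_vecHom (ev : P →+* Γ(T, ⊤)) (h : Ideal.span (Set.range fun i => ev (X i)) = ⊤) :
    ∃ f : T ⟶ Pr n R, f ≫ str n R = T.toSpecΓ ≫ Spec.map (CommRingCat.ofHom (ev.comp C)) ∧
      ∀ {T' : Scheme.{u}} (g : T' ⟶ T) (i : Fin (n + 1)) (hu : IsUnit (res g ev (X i))),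
        g ≫ f = pt (res g ev) (X i) (X_mem i) one_pos hu := by
  let 𝒰 := cover (fun i => ev (X i)) h
  have hu : ∀ i : Fin (n + 1), IsUnit (res (𝒰.f i) ev (X i)) := fun i => isUnit_appTop_ι (ev (X i))
  let f : T ⟶ Pr n R := 𝒰.glueMorphisms
    (fun i => pt (res (𝒰.f i) ev) (X i) (X_mem i) one_pos (hu i)) fun i j => by
      rw [comp_pt, comp_pt]
      have e : res (pullback.fst (𝒰.f i) (𝒰.f j)) (res (𝒰.f i) ev) =
          res (pullback.snd (𝒰.f i) (𝒰.f j)) (res (𝒰.f j) ev) := by
        rw [res, res, res, res, ← RingHom.comp_assoc, ← RingHom.comp_assoc, ← CommRingCat.hom_comp,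
          ← CommRingCat.hom_comp, ← Scheme.Hom.comp_appTop, ← Scheme.Hom.comp_appTop, pullback.condition]
      rw [pt_eq_of_isUnit _ (X_mem i) one_pos (X_mem j) one_pos _
        (show IsUnit (res (pullback.fst (𝒰.f i) (𝒰.f j)) (res (𝒰.f i) ev) (X j)) by
          rw [e]; exact (hu j).map (pullback.snd (𝒰.f i) (𝒰.f j)).appTop.hom)]
      exact pt_congr e rfl rfl _ _ _ _ _ _
  refine ⟨f, 𝒰.hom_ext _ _ fun i => ?_, fun {T'} g i hgi => ?_⟩
  · rw [Scheme.Cover.ι_glueMorphisms_assoc, pt_toSpec, Scheme.toSpecΓ_naturality_assoc, ← Spec.map_comp]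
    rfl
  · have hr : Set.range g ⊆ Set.range (𝒰.f i) := by
      rintro _ ⟨x, rfl⟩
      show g x ∈ Set.range (T.basicOpen (ev (X i))).ι
      rw [Scheme.Opens.range_ι]
      show x ∈ g ⁻¹ᵁ T.basicOpen (ev (X i))
      rw [Scheme.preimage_basicOpen_top, show g.appTop (ev (X i)) = res g ev (X i) from rfl,
        T'.basicOpen_of_isUnit hgi]
      trivial
    obtain ⟨g', rfl⟩ : ∃ g', g' ≫ 𝒰.f i = g := ⟨_, IsOpenImmersion.lift_fac (𝒰.f i) g hr⟩
    rw [Category.assoc, Scheme.Cover.ι_glueMorphisms, comp_pt]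
    exact pt_congr (RingHom.ext fun p => by simp [res]) rfl rfl _ _ _ _ _ _

/-- The morphism with given unimodular coordinates. -/
noncomputable def vecHom (ev : P →+* Γ(T, ⊤)) (h : Ideal.span (Set.range fun i => ev (X i)) = ⊤) :
    T ⟶ Pr n R :=
  (exists_vecHom ev h).choose

lemma vecHom_str (ev : P →+* Γ(T, ⊤)) (h : Ideal.span (Set.range fun i => ev (X i)) = ⊤) :
    vecHom ev h ≫ str n R = T.toSpecΓ ≫ Spec.map (CommRingCat.ofHom (ev.comp C)) :=
  (exists_vecHom ev h).choose_spec.1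

lemma comp_vecHom {T' : Scheme.{u}} (g : T' ⟶ T) (ev : P →+* Γ(T, ⊤))
    (h : Ideal.span (Set.range fun i => ev (X i)) = ⊤) (i : Fin (n + 1))
    (hu : IsUnit (res g ev (X i))) :
    g ≫ vecHom ev h = pt (res g ev) (X i) (X_mem i) one_pos hu :=
  (exists_vecHom ev h).choose_spec.2 g i hu

lemma span_res {T' : Scheme.{u}} (g : T' ⟶ T) (ev : P →+* Γ(T, ⊤))
    (h : Ideal.span (Set.range fun i => ev (X i)) = ⊤) :
    Ideal.span (Set.range fun i => res g ev (X i)) = ⊤ := by
  have := congrArg (Ideal.map g.appTop.hom) h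
  rwa [Ideal.map_span, Ideal.map_top, ← Set.range_comp] at this

lemma vecHom_naturality {T' : Scheme.{u}} (g : T' ⟶ T) (ev : P →+* Γ(T, ⊤))
    (h : Ideal.span (Set.range fun i => ev (X i)) = ⊤) :
    g ≫ vecHom ev h = vecHom (res g ev) (span_res g ev h) := by
  let 𝒰 := cover (fun i => res g ev (X i)) (span_res g ev h)
  refine 𝒰.hom_ext _ _ fun i => ?_
  have e : res (𝒰.f i ≫ g) ev = res (𝒰.f i) (res g ev) := RingHom.ext fun p => by simp [res]
  have hu : IsUnit (res (𝒰.f i) (res g ev) (X i)) := isUnit_appTop_ι (res g ev (X i))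
  rw [← Category.assoc, comp_vecHom _ ev h i (e ▸ hu), comp_vecHom _ (res g ev) _ i hu]
  exact pt_congr e rfl rfl _ _ _ _ _ _

lemma cross_of_eq {ev ev' : P →+* Γ(T, ⊤)} (h : Ideal.span (Set.range fun i => ev (X i)) = ⊤)
    (h' : Ideal.span (Set.range fun i => ev' (X i)) = ⊤) (he : vecHom ev h = vecHom ev' h')
    {T' : Scheme.{u}} (g : T' ⟶ T) {i j : Fin (n + 1)} (hi : IsUnit (res g ev (X i)))
    (hj : IsUnit (res g ev' (X j))) (a b : Fin (n + 1)) :
    g.appTop (ev (X a) * ev' (X b)) = g.appTop (ev (X b) * ev' (X a)) := by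
  have e0 : pt (res g ev) (X i) (X_mem i) one_pos hi = pt (res g ev') (X j) (X_mem j) one_pos hj := by
    rw [← comp_vecHom g ev h i hi, ← comp_vecHom g ev' h' j hj, he]
  have hi' : IsUnit (res g ev' (X i)) := by
    refine isUnit_of_basicOpen _ ?_
    rw [← pt_preimage_basicOpen (res g ev') (X_mem j) (X_mem i) hj, ← e0,
      pt_preimage_basicOpen (res g ev) (X_mem i) (X_mem i) hi]
    exact Scheme.basicOpen_of_isUnit _ hi
  rw [pt_eq_of_isUnit (res g ev') (X_mem j) one_pos (X_mem i) one_pos hj hi'] at e0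
  have e1 : away (res g ev) (X i) hi = away (res g ev') (X i) hi' := by
    apply toSpecΓ_SpecMap_injective
      (C := CommRingCat.of (HomogeneousLocalization.Away (CohB1.polyGrading n R) (X i : P)))
    rw [← cancel_mono (Proj.awayι (CohB1.polyGrading n R) (X i) (X_mem i) one_pos), Category.assoc,
      Category.assoc]
    exact e0
  have key : ∀ c, res g ev (X c) * res g ev' (X i) = res g ev' (X c) * res g ev (X i) := fun c => by
    have hh := Chow.away_mk (res g ev) (X i) hi (X_mem i) 1 (X c) (by simpa using X_mem c)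
    have hh' := Chow.away_mk (res g ev') (X i) hi' (X_mem i) 1 (X c) (by simpa using X_mem c)
    rw [pow_one (res g ev (X i))] at hh
    rw [pow_one (res g ev' (X i))] at hh'
    rw [← hh, ← hh', e1]
    ring
  simp only [map_mul]
  show res g ev (X a) * res g ev' (X b) = res g ev (X b) * res g ev' (X a)
  apply hi.mul_right_cancel
  linear_combination -res g ev (X a) * key b + res g ev (X b) * key a

/-- Coordinates of the same point are proportional, and conversely. -/
theorem vecHom_eq_iff {ev ev' : P →+* Γ(T, ⊤)} (h : Ideal.span (Set.range fun i => ev (X i)) = ⊤)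
    (h' : Ideal.span (Set.range fun i => ev' (X i)) = ⊤) (hC : ev.comp C = ev'.comp C) :
    vecHom ev h = vecHom ev' h' ↔ ∀ a b, ev (X a) * ev' (X b) = ev (X b) * ev' (X a) := by
  constructor
  · intro he a b
    let 𝒰 := cover _ h
    refine eq_of_cover 𝒰 fun i => eq_of_cover (cover _ (span_res (𝒰.f i) ev' h')) fun j => ?_
    let 𝒱 := cover _ (span_res (𝒰.f i) ev' h')
    have hi : IsUnit (res (𝒱.f j ≫ 𝒰.f i) ev (X i)) := by
      show IsUnit ((𝒱.f j ≫ 𝒰.f i).appTop (ev (X i)))
      rw [Scheme.Hom.comp_appTop, CommRingCat.comp_apply]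
      exact (isUnit_appTop_ι (ev (X i))).map (𝒱.f j).appTop.hom
    have hj : IsUnit (res (𝒱.f j ≫ 𝒰.f i) ev' (X j)) := by
      show IsUnit ((𝒱.f j ≫ 𝒰.f i).appTop (ev' (X j)))
      rw [Scheme.Hom.comp_appTop, CommRingCat.comp_apply]
      exact isUnit_appTop_ι ((𝒰.f i).appTop (ev' (X j)))
    have := cross_of_eq h h' he (𝒱.f j ≫ 𝒰.f i) hi hj a b
    rwa [Scheme.Hom.comp_appTop, CommRingCat.comp_apply, CommRingCat.comp_apply] at this
  · intro hx
    obtain ⟨l, hl⟩ := (Ideal.mem_span_range_iff_exists_fun).1 ((Ideal.eq_top_iff_one _).1 h')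
    let c := ∑ j, l j * ev (X j)
    have hc : ∀ a, ev (X a) = c * ev' (X a) := fun a => by
      calc ev (X a) = (∑ j, l j * ev' (X j)) * ev (X a) := by rw [hl, one_mul]
        _ = c * ev' (X a) := by
          rw [Finset.sum_mul, Finset.sum_mul]
          exact Finset.sum_congr rfl fun j _ => by linear_combination l j * hx a j
    have hcu : IsUnit c := by
      obtain ⟨l', hl'⟩ := (Ideal.mem_span_range_iff_exists_fun).1 ((Ideal.eq_top_iff_one _).1 h)
      refine IsUnit.of_mul_eq_one (∑ j, l' j * ev' (X j)) ?_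
      rw [Finset.mul_sum, ← hl']
      exact Finset.sum_congr rfl fun j _ => by rw [hc j]; ring
    let 𝒰 := cover (fun i => ev' (X i)) h'
    refine 𝒰.hom_ext _ _ fun i => ?_
    have hu' : IsUnit (res (𝒰.f i) ev' (X i)) := isUnit_appTop_ι (ev' (X i))
    have hu : IsUnit (res (𝒰.f i) ev (X i)) := by
      rw [show res (𝒰.f i) ev (X i) = (𝒰.f i).appTop (ev (X i)) from rfl, hc, map_mul]
      exact (hcu.map _).mul hu'
    rw [comp_vecHom _ ev h i hu, comp_vecHom _ ev' h' i hu']
    have hρ : (res (𝒰.f i) ev).comp C = (res (𝒰.f i) ev').comp C := by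
      simp only [res, RingHom.comp_assoc, hC]
    have e1 : res (𝒰.f i) ev' =
        eval₂Hom ((res (𝒰.f i) ev').comp C) (fun a => res (𝒰.f i) ev' (X a)) :=
      MvPolynomial.ringHom_ext (fun r => by simp) fun a => by simp
    have e2 : res (𝒰.f i) ev = eval₂Hom ((res (𝒰.f i) ev').comp C)
        (fun a => (𝒰.f i).appTop c * res (𝒰.f i) ev' (X a)) :=
      MvPolynomial.ringHom_ext (fun r => by simp [← hρ]) fun a => by
        rw [eval₂Hom_X']
        simp [res, hc a]
    refine (pt_congr e2 rfl rfl _ _ _ (X_mem i) one_pos (by rw [← e2]; exact hu)).trans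
      ((pt_scale _ _ _ (hcu.map _) (X_mem i) one_pos (by rw [← e1]; exact hu') _).trans
        (pt_congr e1.symm rfl rfl _ _ _ _ _ _))

end Groth.Agent.GrpdLib.ProjVec
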