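import Groth.Agent.GrpdLib.MonoClosedField
import Groth.Agent.GrpdLib.ProjVec
import Groth.Agent.GrpdLib.OrbitQuot
import Groth.Agent.UnipLib.Scheme
import Groth.Agent.ZetaLib.ProjPoints

/-!
# Homogeneous spaces of affine groups over a field
-/

set_option autoImplicit false
set_option backward.isDefEq.respectTransparency false
universe u

open CategoryTheory MonoidalCategory CartesianMonoidalCategory MonObj GrpObj AlgebraicGeometry Limits WithConv

noncomputable section

namespace Groth.Agent.GrpdLib.AffHomogeneous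

variable {k : Type u} [Field k]

local notation "Sk" => Spec (CommRingCat.of k)

attribute [local instance] UnipLib.algOf

section Points

variable {A : Type u} [CommRing A] [HopfAlgebra k A]

/-- The affine group of a Hopf algebra. -/
abbrev specG (A : Type u) [CommRing A] [HopfAlgebra k A] : Over (Spec (CommRingCat.of k)) :=
  (Spec (CommRingCat.of A)).asOver (Spec (CommRingCat.of k))

lemma algebraMap_comm {X Y : Over Sk} (h : Y ⟶ X) (r : k) :
    h.left.appTop (algebraMap k Γ(X.left, ⊤) r) = algebraMap k Γ(Y.left, ⊤) r := by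
  simp only [RingHom.algebraMap_toAlgebra, RingHom.comp_apply]
  rw [← Over.w h, Scheme.Hom.comp_appTop]
  rfl

/-- Pullback of functions. -/
def gam {X Y : Over (Spec (CommRingCat.of k))} (h : Y ⟶ X) : Γ(X.left, ⊤) →ₐ[k] Γ(Y.left, ⊤) :=
  { h.left.appTop.hom with commutes' := algebraMap_comm h }

lemma ptHom_surjective (X : Over Sk) (x : X ⟶ specG (k := k) A) :
    ∃ f : WithConv (A →ₐ[k] Γ(X.left, ⊤)), UnipLib.ptHom X f = x := by
  let φ : A →+* Γ(X.left, ⊤) := Chow.specHom x.left
  have hw : X.left.toSpecΓ ≫ Spec.map (CommRingCat.ofHom (φ.comp (algebraMap k A))) =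
      X.left.toSpecΓ ≫ Spec.map (CommRingCat.ofHom (algebraMap k Γ(X.left, ⊤))) := by
    refine Eq.trans ?_ ((Over.w (UnipLib.toGamma X)).trans rfl).symm
    rw [CommRingCat.ofHom_comp, Spec.map_comp, ← Category.assoc]
    erw [Chow.toSpecΓ_specHom x.left]
    exact Over.w x
  have hc := Chow.toSpecΓ_SpecMap_injective (C := CommRingCat.of k) hw
  refine ⟨toConv { φ with commutes' := fun r => RingHom.congr_fun hc r }, Over.OverMorphism.ext ?_⟩
  exact Chow.toSpecΓ_specHom x.left

/-- Points of an affine group as algebra maps. -/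
def ptEquiv (X : Over (Spec (CommRingCat.of k))) :
    WithConv (A →ₐ[k] Γ(X.left, ⊤)) ≃* (X ⟶ specG (k := k) A) :=
  MulEquiv.ofBijective
    ({ toFun := UnipLib.ptHom X, map_mul' := UnipLib.ptHom_mul X } :
      WithConv (A →ₐ[k] Γ(X.left, ⊤)) →ₙ* (X ⟶ specG (k := k) A))
    ⟨UnipLib.ptHom_injective X, ptHom_surjective X⟩

lemma comp_ptEquiv {X Y : Over Sk} (h : Y ⟶ X) (x : X ⟶ specG (k := k) A) :
    (ptEquiv Y).symm (h ≫ x) = toConv ((gam h).comp ((ptEquiv X).symm x).ofConv) := by
  apply (ptEquiv (A := A) Y).injective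
  rw [MulEquiv.apply_symm_apply]
  conv_lhs => rw [← (ptEquiv (A := A) X).apply_symm_apply x]
  exact UnipLib.comp_ptHom h _ _ fun a => rfl

end Points

section Orbit

variable {A : Type u} [CommRing A] [HopfAlgebra k A] {κ : Type} [Fintype κ] [DecidableEq κ]
  {a : κ → κ → A} (ha : Comod.IsMat k a) (v : κ → k)

/-- The coordinates of the image of the vector under a point. -/
def vec (a : κ → κ → A) (v : κ → k) {R : Type u} [CommRing R] [Algebra k R] (f : WithConv (A →ₐ[k] R))
    (i : κ) : R :=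
  Comod.actPt a f.ofConv v i

include ha in
lemma vec_mul {R : Type u} [CommRing R] [Algebra k R] (f g : WithConv (A →ₐ[k] R)) (i : κ) :
    vec a v (f * g) i = ∑ l, f.ofConv (a i l) * vec a v g l := by
  have h : ∀ j, (f * g).ofConv (a i j) = ∑ l, f.ofConv (a i l) * g.ofConv (a l j) := fun j => by
    show (f * g) (a i j) = _
    rw [AlgHom.convMul_apply, ha.comul, map_sum]
    simp
  simp only [vec, Comod.actPt, h, Finset.smul_sum, Finset.mul_sum, mul_smul_comm]
  exact Finset.sum_comm

include ha in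
lemma vec_one {R : Type u} [CommRing R] [Algebra k R] (i : κ) :
    vec a v (1 : WithConv (A →ₐ[k] R)) i = algebraMap k R (v i) := by
  have h : ∀ j, (1 : WithConv (A →ₐ[k] R)).ofConv (a i j) = if i = j then 1 else 0 := fun j => by
    show (1 : WithConv (A →ₐ[k] R)) (a i j) = _
    rw [AlgHom.convOne_apply, ha.counit]
    split_ifs <;> simp
  simp [vec, Comod.actPt, h, Algebra.smul_def]

/-- The inverse of a point. -/
def inv' {X : Over (Spec (CommRingCat.of k))} (f : WithConv (A →ₐ[k] Γ(X.left, ⊤))) :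
    WithConv (A →ₐ[k] Γ(X.left, ⊤)) :=
  (ptEquiv X).symm (ptEquiv X f)⁻¹

lemma inv'_mul {X : Over Sk} (f : WithConv (A →ₐ[k] Γ(X.left, ⊤))) : inv' f * f = 1 := by
  apply (ptEquiv (A := A) X).injective
  rw [map_mul, inv', MulEquiv.apply_symm_apply, inv_mul_cancel, map_one]

lemma mul_inv' {X : Over Sk} (f : WithConv (A →ₐ[k] Γ(X.left, ⊤))) : f * inv' f = 1 := by
  apply (ptEquiv (A := A) X).injective
  rw [map_mul, inv', MulEquiv.apply_symm_apply, mul_inv_cancel, map_one]

variable {i₀ : κ} (hv : v i₀ = 1)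

include ha hv in
lemma span_vec {X : Over Sk} (f : WithConv (A →ₐ[k] Γ(X.left, ⊤))) :
    Ideal.span (Set.range (vec a v f)) = ⊤ := by
  rw [Ideal.eq_top_iff_one]
  have h := vec_mul ha v (inv' f) f i₀
  rw [inv'_mul, vec_one ha, hv, map_one] at h
  rw [h]
  exact Ideal.sum_mem _ fun l _ => Ideal.mul_mem_left _ _ (Ideal.subset_span ⟨l, rfl⟩)

include ha hv in
/-- Two points give proportional vectors iff their quotient stabilises the line. -/
theorem cross_iff {X : Over Sk} (f g : WithConv (A →ₐ[k] Γ(X.left, ⊤))) :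
    (∀ p q, vec a v f p * vec a v g q = vec a v f q * vec a v g p) ↔
      Comod.StabLine a (inv' f * g).ofConv v := by
  constructor
  · intro hx
    obtain ⟨l, hl⟩ := (Ideal.mem_span_range_iff_exists_fun).1
      ((Ideal.eq_top_iff_one _).1 (span_vec ha v hv f))
    let c := ∑ j, l j * vec a v g j
    have hc : ∀ p, vec a v g p = c * vec a v f p := fun p => by
      calc vec a v g p = (∑ j, l j * vec a v f j) * vec a v g p := by rw [hl, _root_.one_mul]
        _ = c * vec a v f p := by
          rw [Finset.sum_mul, Finset.sum_mul]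
          exact Finset.sum_congr rfl fun j _ => by linear_combination l j * hx j p
    refine ⟨c, fun p => ?_⟩
    have h1 := vec_mul ha v (inv' f) g p
    have h2 := vec_mul ha v (inv' f) f p
    rw [inv'_mul, vec_one ha] at h2
    show vec a v (inv' f * g) p = _
    rw [h1, Algebra.smul_def, h2, Finset.sum_mul]
    exact Finset.sum_congr rfl fun l _ => by rw [hc l]; ring
  · rintro ⟨c, hc⟩ p q
    have h : ∀ p, vec a v g p = c * vec a v f p := fun p => by
      conv_lhs => rw [show g = f * (inv' f * g) by rw [← _root_.mul_assoc, mul_inv', _root_.one_mul]]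
      rw [vec_mul ha]
      show _ = c * Comod.actPt a f.ofConv v p
      rw [Comod.actPt, Finset.mul_sum]
      refine Finset.sum_congr rfl fun l _ => ?_
      rw [show vec a v (inv' f * g) l = v l • c from hc l]
      simp only [Algebra.smul_def]
      ring
    rw [h, h]
    ring

include ha hv in
/-- The orbit morphism of a line to projective space. -/
theorem exists_orbitHom : ∃ (P : Over Sk) (u : specG (k := k) A ⟶ P),
    LocallyOfFiniteType P.hom ∧
    ∀ {T : Over Sk} (x y : T ⟶ specG (k := k) A),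
      x ≫ u = y ≫ u ↔ Comod.StabLine a ((ptEquiv T).symm (x⁻¹ * y)).ofConv v := by
  obtain ⟨n, hn⟩ : ∃ n, Fintype.card κ = n + 1 :=
    ⟨_, (Nat.succ_pred_eq_of_pos (Fintype.card_pos_iff.2 ⟨i₀⟩)).symm⟩
  let e : Fin (n + 1) ≃ κ := ((Fintype.equivFin κ).trans (finCongr hn)).symm
  let ev : (T : Over Sk) → WithConv (A →ₐ[k] Γ(T.left, ⊤)) →
      MvPolynomial (Fin (n + 1)) k →+* Γ(T.left, ⊤) :=
    fun T f => MvPolynomial.eval₂Hom (algebraMap k Γ(T.left, ⊤)) fun j => vec a v f (e j)
  have hsp : ∀ (T : Over Sk) (f : WithConv (A →ₐ[k] Γ(T.left, ⊤))),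
      Ideal.span (Set.range fun j => ev T f (MvPolynomial.X j)) = ⊤ := fun T f => by
    rw [show (fun j => ev T f (MvPolynomial.X j)) = vec a v f ∘ e from funext fun j => by simp [ev],
      Set.range_comp, e.surjective.range_eq, Set.image_univ, span_vec ha v hv f]
  let X₀ : Over Sk := specG (k := k) A
  let f₀ := (ptEquiv (A := A) X₀).symm (𝟙 X₀)
  let u : X₀ ⟶ Over.mk (Chow.str n k) := Over.homMk (ProjVec.vecHom (ev X₀ f₀) (hsp _ _)) (by
    show ProjVec.vecHom _ _ ≫ Chow.str n k = _
    rw [ProjVec.vecHom_str]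
    refine Eq.trans ?_ (Over.w (UnipLib.toGamma X₀))
    show _ = X₀.left.toSpecΓ ≫ Spec.map (CommRingCat.ofHom (algebraMap k Γ(X₀.left, ⊤)))
    congr 3
    exact RingHom.ext fun r => by simp [ev])
  refine ⟨_, u, ZetaLib.locallyOfFiniteType_toSpec n k, fun {T} x y => ?_⟩
  have key : ∀ x : T ⟶ X₀, (x ≫ u).left = ProjVec.vecHom (ev T ((ptEquiv T).symm x)) (hsp _ _) := by
    intro x
    have e1 : ProjVec.res x.left (ev X₀ f₀) = ev T ((ptEquiv T).symm x) := by
      have hx : (ptEquiv T).symm x = toConv ((gam x).comp f₀.ofConv) := by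
        rw [← comp_ptEquiv, Category.comp_id]
      refine MvPolynomial.ringHom_ext (fun r => ?_) fun j => ?_
      · simp only [ProjVec.res, RingHom.comp_apply, ev, MvPolynomial.eval₂Hom_C]
        exact algebraMap_comm x r
      · simp only [ProjVec.res, RingHom.comp_apply, ev, MvPolynomial.eval₂Hom_X']
        rw [hx]
        show gam x (vec a v f₀ (e j)) = _
        simp [vec, Comod.actPt, map_sum, map_smul]
    show x.left ≫ ProjVec.vecHom (ev X₀ f₀) (hsp _ _) = _
    rw [ProjVec.vecHom_naturality]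
    congr 1
  have hC : ∀ f g, (ev T f).comp MvPolynomial.C = (ev T g).comp MvPolynomial.C := fun f g =>
    RingHom.ext fun r => by simp [ev]
  have hiff : x ≫ u = y ≫ u ↔ ∀ p q, vec a v ((ptEquiv T).symm x) p * vec a v ((ptEquiv T).symm y) q =
      vec a v ((ptEquiv T).symm x) q * vec a v ((ptEquiv T).symm y) p := by
    have h0 : x ≫ u = y ≫ u ↔ ProjVec.vecHom (ev T ((ptEquiv T).symm x)) (hsp _ _) =
        ProjVec.vecHom (ev T ((ptEquiv T).symm y)) (hsp _ _) :=
      ⟨fun h => (key x).symm.trans ((congrArg (fun m => Over.Hom.left m) h).trans (key y)),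
        fun h => Over.OverMorphism.ext ((key x).trans (h.trans (key y).symm))⟩
    rw [h0, ProjVec.vecHom_eq_iff _ _ (hC _ _)]
    simp only [ev, MvPolynomial.eval₂Hom_X']
    exact ⟨fun h p q => by simpa using h (e.symm p) (e.symm q), fun h p q => h _ _⟩
  rw [hiff, cross_iff ha v hv, inv', MulEquiv.apply_symm_apply, map_mul]

end Orbit

/-- A homomorphism into an affine group which is a monomorphism is the stabiliser of a point of
a scheme of finite type. -/
theorem exists_stabiliser_map (G H : Over Sk) [GrpObj G] [GrpObj H] [IsAffine G.left]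
    [LocallyOfFiniteType G.hom] [LocallyOfFiniteType H.hom] [QuasiCompact H.hom]
    (i : H ⟶ G) [IsMonHom i] [Mono i] :
    ∃ (P : Over Sk) (u : G ⟶ P), LocallyOfFiniteType P.hom ∧
      ∀ {T : Over Sk} (x y : T ⟶ G), x ≫ u = y ≫ u ↔ ∃ z : T ⟶ H, z ≫ i = x⁻¹ * y := by
  obtain ⟨A, B, _, _, eG, eH, π, hG, hH, hA, hπ, hsq⟩ := MonoClosedField.exists_hopf G H i
  have := MonoClosedField.isHopfIdeal_ker π
  obtain ⟨κ, _, _, a, v, i₀, ha, hv, hI⟩ :=
    Comod.exists_stabLine.{u, u, u} (k := k) (RingHom.ker (π : A →+* B))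
  obtain ⟨P, u, hP, hu⟩ := exists_orbitHom ha v hv
  refine ⟨P, eG.inv ≫ u, hP, fun {T} x y => ?_⟩
  have hmul : (x ≫ eG.inv)⁻¹ * (y ≫ eG.inv) = (x⁻¹ * y) ≫ eG.inv := by
    rw [MonObj.mul_comp, GrpObj.inv_comp]
  rw [← Category.assoc, ← Category.assoc, hu, hmul, ← hI]
  have hcomp : ∀ q : WithConv (B →ₐ[k] Γ(T.left, ⊤)),
      ptEquiv T q ≫ eH.hom ≫ i = ptEquiv T (toConv (q.ofConv.comp (π : A →ₐ[k] B))) ≫ eG.hom := by
    intro q
    refine Over.OverMorphism.ext ?_
    show (T.left.toSpecΓ ≫ Spec.map (CommRingCat.ofHom q.ofConv.toRingHom)) ≫ eH.hom.left ≫ i.left =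
      (T.left.toSpecΓ ≫ Spec.map (CommRingCat.ofHom
        (q.ofConv.toRingHom.comp (π : A →+* B)))) ≫ eG.hom.left
    simp only [CommRingCat.ofHom_comp, Spec.map_comp, Category.assoc, ← hsq]
  constructor
  · intro hker
    let f := ((ptEquiv (A := A) T).symm ((x⁻¹ * y) ≫ eG.inv)).ofConv
    let p : A →ₐ[k] B := π
    obtain ⟨q, hq⟩ : ∃ q : B →ₐ[k] Γ(T.left, ⊤), q.comp p = f := by
      let e := Ideal.quotientKerAlgEquivOfSurjective (f := p) hπ
      refine ⟨(Ideal.Quotient.liftₐ (RingHom.ker p) f hker).comp e.symm.toAlgHom, AlgHom.ext fun w => ?_⟩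
      have h1 : e.symm (p w) = Ideal.Quotient.mk _ w := by
        rw [AlgEquiv.symm_apply_eq]
        rfl
      change Ideal.Quotient.liftₐ (RingHom.ker p) f hker (e.symm (p w)) = _
      rw [h1]
      rfl
    refine ⟨ptEquiv T (toConv q) ≫ eH.hom, ?_⟩
    rw [Category.assoc, hcomp, show toConv ((toConv q).ofConv.comp (π : A →ₐ[k] B)) =
      (ptEquiv T).symm ((x⁻¹ * y) ≫ eG.inv) from congrArg toConv hq, MulEquiv.apply_symm_apply,
      Category.assoc, Iso.inv_hom_id, Category.comp_id]
  · rintro ⟨z, hz⟩ w hw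
    have h1 : (x⁻¹ * y) ≫ eG.inv = ptEquiv T (toConv (((ptEquiv (A := B) T).symm (z ≫ eH.inv)).ofConv.comp
        (π : A →ₐ[k] B))) := by
      rw [← cancel_mono eG.hom, ← hcomp, MulEquiv.apply_symm_apply]
      simp [hz]
    rw [h1, MulEquiv.symm_apply_apply]
    show ((ptEquiv (A := B) T).symm (z ≫ eH.inv)).ofConv (π w) = 0
    rw [show π w = 0 from hw, map_zero]

/-- The quotient of an affine group by a subgroup. -/
theorem exists_quotient (G H : Over Sk) [GrpObj G] [GrpObj H] [IsAffine G.left]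
    [LocallyOfFiniteType G.hom] [LocallyOfFiniteType H.hom] [QuasiCompact H.hom]
    (i : H ⟶ G) [IsMonHom i] [Mono i] :
    ∃ (X : Over Sk) (p : G ⟶ X) (a : AlgGrp.Action G X), a.orbitMap (η[G] ≫ p) = p ∧
      LocallyOfFiniteType X.hom ∧ QuasiCompact X.hom ∧ Flat p.left ∧ Surjective p.left ∧
      IsPullback (fst G H) ((G ◁ i) ≫ μ[G]) p p := by
  obtain ⟨P, u, hP, hu⟩ := exists_stabiliser_map G H i
  have hmul : (G ◁ i) ≫ μ[G] = fst G H * (snd G H ≫ i) := by
    rw [MonObj.mul_eq_mul, MonObj.comp_mul, whiskerLeft_fst, whiskerLeft_snd]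
  have w : fst G H ≫ u = ((G ◁ i) ≫ μ[G]) ≫ u :=
    (hu _ _).2 ⟨snd G H, by rw [hmul, inv_mul_cancel_left]⟩
  have hf : ∀ c : PullbackCone u u, ∃ z : c.pt ⟶ H, z ≫ i = c.fst⁻¹ * c.snd := fun c => (hu _ _).1 c.condition
  choose z hz using hf
  have sq₀ : IsPullback (fst G H) ((G ◁ i) ≫ μ[G]) u u :=
    IsPullback.of_isLimit' ⟨w⟩ (PullbackCone.IsLimit.mk _ (fun c => lift c.fst (z c))
      (fun c => lift_fst _ _)
      (fun c => by rw [hmul, MonObj.comp_mul, lift_fst, lift_snd_assoc, hz, mul_inv_cancel_left])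
      (fun c m h₁ h₂ => by
        refine CartesianMonoidalCategory.hom_ext _ _ (h₁.trans (lift_fst _ _).symm) ?_
        rw [lift_snd, ← cancel_mono i, hz, ← h₁, ← h₂, hmul, MonObj.comp_mul, inv_mul_cancel_left,
          Category.assoc]))
  have hflat : Flat (pullback.fst u u).left := by
    have h1 : Flat (fst G H).left :=
      MorphismProperty.pullback_fst G.hom H.hom (inferInstance : Flat H.hom)
    rw [← sq₀.isoPullback_inv_fst, Over.comp_left]
    exact MorphismProperty.comp_mem _ _ _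
      (MorphismProperty.of_isIso @Flat ((Over.forget _).map sq₀.isoPullback.inv)) h1
  obtain ⟨X, p, j, e, hps, hpf, hpp, _, hXp⟩ := OrbitQuot.exists_factor_over u hflat
  have sq : IsPullback (fst G H) ((G ◁ i) ≫ μ[G]) p p :=
    OrbitQuot.isPullback_of_comp_mono j (by rw [e]; exact sq₀)
  have hX : QuasiCompact X.hom := by
    have : CompactSpace G.left := inferInstance
    have : CompactSpace X.left := p.left.surjective.compactSpace p.left.continuous
    exact (quasiCompact_iff_compactSpace X.hom).2 this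
  have hcp : ∀ R : Over Sk, EffectiveEpi (R ◁ p).left := fun R => by
    have h : (@Surjective ⊓ @Flat ⊓ @LocallyOfFinitePresentation : MorphismProperty Scheme.{u})
        (R ◁ p).left :=
      GrpScheme.Basic.whiskerLeft_mem _ p _ ⟨⟨hps, hpf⟩, hpp⟩
    obtain ⟨⟨_, _⟩, _⟩ := h
    infer_instance
  have hp : ∀ {T : Over Sk} (g x y : T ⟶ G), x ≫ p = y ≫ p → (g * x) ≫ p = (g * y) ≫ p := fun g x y h => by
    rw [← cancel_mono j, Category.assoc, Category.assoc, e]
    have h' : x ≫ u = y ≫ u := by rw [← e, reassoc_of% h]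
    obtain ⟨n, hn⟩ := (hu _ _).1 h'
    exact (hu _ _).2 ⟨n, by rw [hn, _root_.mul_inv_rev, _root_.mul_assoc, inv_mul_cancel_left]⟩
  have := hcp G
  obtain ⟨act, hact, -⟩ := GrpOver.existsUnique_desc (G ◁ p) (μ[G] ≫ p) fun T x y hxy => by
    have h1 : x ≫ fst G G = y ≫ fst G G := by
      have := congrArg (· ≫ fst G X) hxy
      simpa using this
    have h2 : (x ≫ snd G G) ≫ p = (y ≫ snd G G) ≫ p := by
      have := congrArg (· ≫ snd G X) hxy
      simpa using this
    rw [← Category.assoc, ← Category.assoc, MonObj.mul_eq_mul, MonObj.comp_mul, MonObj.comp_mul, h1]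
    exact hp _ _ _ h2
  have hpe : EffectiveEpi p.left := by infer_instance
  let a : AlgGrp.Action G X :=
    { act := act
      one_act := by
        have := hcp (𝟙_ (Over Sk))
        refine GrpOver.cancel_left (𝟙_ (Over Sk) ◁ p) ?_
        rw [← Category.assoc, whisker_exchange, Category.assoc, hact, ← Category.assoc, MonObj.one_mul,
          leftUnitor_naturality]
      mul_act := by
        have := hcp (G ⊗ G)
        refine GrpOver.cancel_left ((G ⊗ G) ◁ p) ?_
        rw [← Category.assoc, whisker_exchange, Category.assoc, hact, associator_naturality_right_assoc,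
          ← MonoidalCategory.whiskerLeft_comp_assoc, hact, MonoidalCategory.whiskerLeft_comp_assoc, hact,
          ← Category.assoc, MonObj.mul_assoc]
        simp only [Category.assoc] }
  refine ⟨X, p, a, ?_, ?_, hX, hpf, hps, sq⟩
  · show lift (𝟙 G) (toUnit G ≫ η[G] ≫ p) ≫ act = p
    have : lift (𝟙 G) (toUnit G ≫ η[G] ≫ p) = lift (𝟙 G) (toUnit G ≫ η[G]) ≫ (G ◁ p) := by
      rw [lift_whiskerLeft, Category.assoc]
    rw [this, Category.assoc, hact, ← Category.assoc, ← Hom.mul_def, ← Hom.one_def, _root_.mul_one,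
      Category.id_comp]
  · infer_instance

end Groth.Agent.GrpdLib.AffHomogeneous
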