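import Groth.Agent.GrpdLib.SepDense
import Groth.Agent.GrpScheme.IdComponent
import Groth.Agent.GrpScheme.Homogeneous

/-!
# Identities and factorizations tested on points over big fields
-/

set_option autoImplicit false
set_option backward.isDefEq.respectTransparency false

universe u

open CategoryTheory MonoidalCategory CartesianMonoidalCategory AlgebraicGeometry Limits

namespace Groth.Agent.GrpdLib.SepExt

variable (k K : Type u) [Field k] [Field K] [Algebra k K]

local notation "φ" => Spec.map (CommRingCat.ofHom (algebraMap k K))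

/-- Morphisms to a separated scheme agree if they agree on points over a separably closed field. -/
theorem ext_of_points [IsSepClosed K] {X Y : Over (Spec (CommRingCat.of k))}
    [LocallyOfFiniteType X.hom] [GeometricallyReduced X.hom] [IsSeparated Y.hom] (a b : X ⟶ Y)
    (h : ∀ x : Over.mk φ ⟶ X, x ≫ a = x ≫ b) : a = b := by
  have : IsClosedImmersion (lift (𝟙 Y) (𝟙 Y)).left :=
    inferInstanceAs (IsClosedImmersion (pullback.diagonal Y.hom))
  obtain ⟨l, hl⟩ := SepDense.exists_factor k K (lift a b) (lift (𝟙 Y) (𝟙 Y)) fun x =>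
    ⟨x ≫ a, by rw [comp_lift, comp_lift, Category.comp_id, ← h x]⟩
  have h₁ := congr($hl ≫ fst Y Y)
  have h₂ := congr($hl ≫ snd Y Y)
  rw [Category.assoc, lift_fst, lift_fst, Category.comp_id] at h₁
  rw [Category.assoc, lift_snd, lift_snd, Category.comp_id] at h₂
  exact h₁ ▸ h₂

/-- Products of smooth schemes are geometrically reduced. -/
lemma tensor_geomReduced (X Y : Over (Spec (CommRingCat.of k))) [Smooth X.hom] [Smooth Y.hom] :
    GeometricallyReduced (X ⊗ Y).hom := by
  have : Smooth (X ⊗ Y).hom :=
    inferInstanceAs (Smooth (pullback.fst X.hom Y.hom ≫ X.hom))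
  exact SepDense.geometricallyReduced_of_smooth _

lemma tensor_lft (X Y : Over (Spec (CommRingCat.of k))) [LocallyOfFiniteType X.hom]
    [LocallyOfFiniteType Y.hom] : LocallyOfFiniteType (X ⊗ Y).hom :=
  inferInstanceAs (LocallyOfFiniteType (pullback.fst X.hom Y.hom ≫ X.hom))

/-- Points over an algebraically closed field are dense in a base change. -/
theorem dense_bc_algClosed [IsAlgClosed K] (X : Over (Spec (CommRingCat.of k)))
    [LocallyOfFiniteType X.hom] :
    Dense {p : ↥(Red.bc φ X).left |
      ∃ (s : 𝟙_ (Over (Spec (CommRingCat.of K))) ⟶ Red.bc φ X) (t : ↥(Spec (CommRingCat.of K))),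
        s.left.base t = p} := by
  let g := pullback.snd X.hom φ
  have := LocallyOfFiniteType.jacobsonSpace g
  refine Dense.mono ?_ (dense_iff_closure_eq.mpr
    (closure_closedPoints (X := (pullback X.hom φ : Scheme.{u}))))
  intro p hp
  refine ⟨Over.homMk (pointOfClosedPoint g p hp) (pointOfClosedPoint_comp g p hp),
    IsLocalRing.closedPoint K, ?_⟩
  exact pointOfClosedPoint_apply g p hp _

/-- A morphism from a reduced scheme factors through a closed subscheme if its points over an
algebraically closed field do. -/
theorem exists_factor_algClosed [IsAlgClosed K] {X : Over (Spec (CommRingCat.of k))}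
    [LocallyOfFiniteType X.hom] [IsReduced X.left] {Y Z : Over (Spec (CommRingCat.of k))}
    (f : X ⟶ Y) (c : Z ⟶ Y) [IsClosedImmersion c.left]
    (h : ∀ x : Over.mk φ ⟶ X, ∃ z : Over.mk φ ⟶ Z, z ≫ c = x ≫ f) :
    ∃ l : X ⟶ Z, l ≫ c = f := by
  let p : Over.mk (pullback.fst f.left c.left ≫ X.hom) ⟶ X :=
    Over.homMk (pullback.fst f.left c.left) rfl
  let q : Over.mk (pullback.fst f.left c.left ≫ X.hom) ⟶ Z :=
    Over.homMk (pullback.snd f.left c.left) (by
      show _ = pullback.fst f.left c.left ≫ X.hom
      rw [← Over.w c, ← pullback.condition_assoc, Over.w f])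
  have hpq : p ≫ f = q ≫ c := Over.OverMorphism.ext pullback.condition
  have : IsClosedImmersion p.left := by
    show IsClosedImmersion (pullback.fst f.left c.left)
    infer_instance
  have : IsIso p := SchDensePts.isIso_of_dense k K X (dense_bc_algClosed k K X) _ p fun x => by
    obtain ⟨z, hz⟩ := h x
    refine ⟨Over.homMk (pullback.lift x.left z.left congr(($hz).left).symm) ?_,
      Over.OverMorphism.ext (pullback.lift_fst _ _ _)⟩
    show pullback.lift _ _ _ ≫ pullback.fst f.left c.left ≫ X.hom = _
    rw [pullback.lift_fst_assoc, Over.w x]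
  exact ⟨inv p ≫ q, by rw [Category.assoc, ← hpq, IsIso.inv_hom_id_assoc]⟩

end Groth.Agent.GrpdLib.SepExt
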