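import Groth.Agent.GrpdLib.GrpOver

/-!
# Arguments by local lifting for group schemes

Isomorphisms and factorisations detected after an effective-epimorphic base change.
-/

set_option autoImplicit false

universe u

open CategoryTheory MonoidalCategory CartesianMonoidalCategory MonObj GrpObj AlgebraicGeometry
  Limits

namespace Groth.Agent.GrpdLib.GrpLocal

variable {S : Scheme.{u}}

/-- A point which lifts along a monomorphism after an effective-epimorphic base change lifts. -/
lemma factor_of_local {H G T T' : Over S} (i : H ⟶ G) [Mono i] (g : T ⟶ G) (c : T' ⟶ T)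
    [EffectiveEpi c.left] (h : T' ⟶ H) (hh : h ≫ i = c ≫ g) : ∃ g' : T ⟶ H, g' ≫ i = g := by
  obtain ⟨g', hg', -⟩ := GrpOver.existsUnique_desc c h fun U a b hab ↦ by
    rw [← cancel_mono i, Category.assoc, Category.assoc, hh, reassoc_of% hab]
  refine ⟨g', GrpOver.cancel_left c ?_⟩
  rw [reassoc_of% hg', hh]

/-- A monomorphism which is locally surjective on points is an isomorphism. -/
lemma isIso_of_mono_of_local {A B T : Over S} (f : A ⟶ B) [Mono f] (c : T ⟶ B)
    [EffectiveEpi c.left] (g : T ⟶ A) (hg : g ≫ f = c) : IsIso f := by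
  obtain ⟨s, hs⟩ := factor_of_local f (𝟙 B) c g (by rw [hg, Category.comp_id])
  exact ⟨s, by rw [← cancel_mono f, Category.assoc, hs, Category.comp_id, Category.id_comp], hs⟩

/-- The subobject of points at which two maps to a separated scheme agree. -/
lemma exists_equalizer {A B : Over S} [IsSeparated B.hom] (f g : A ⟶ B) :
    ∃ (E : Over S) (c : E ⟶ A), IsClosedImmersion c.left ∧ c ≫ f = c ≫ g ∧
      ∀ {T : Over S} (t : T ⟶ A), t ≫ f = t ≫ g → ∃ z : T ⟶ E, z ≫ c = t := by
  exact ⟨equalizer f g, equalizer.ι f g, inferInstance, equalizer.condition f g,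
    fun t ht ↦ ⟨equalizer.lift t ht, equalizer.lift_ι _ _⟩⟩

/-- The preimage of a closed subscheme. -/
lemma exists_preimage {A B H : Over S} (i : H ⟶ B) [IsClosedImmersion i.left] (f : A ⟶ B) :
    ∃ (E : Over S) (c : E ⟶ A) (e : E ⟶ H), IsClosedImmersion c.left ∧ c ≫ f = e ≫ i ∧
      ∀ {T : Over S} (t : T ⟶ A) (h : T ⟶ H), t ≫ f = h ≫ i → ∃ z : T ⟶ E, z ≫ c = t := by
  refine ⟨Over.mk (pullback.fst f.left i.left ≫ A.hom), Over.homMk (pullback.fst _ _) rfl,
    Over.homMk (pullback.snd _ _) ?_, inferInstanceAs (IsClosedImmersion (pullback.fst f.left i.left)),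
    Over.OverMorphism.ext pullback.condition, fun {T} t h ht ↦ ?_⟩
  · change pullback.snd f.left i.left ≫ H.hom = pullback.fst f.left i.left ≫ A.hom
    rw [← Over.w i, ← pullback.condition_assoc, Over.w f]
  · refine ⟨Over.homMk (pullback.lift t.left h.left (congrArg Over.Hom.left ht)) ?_,
      Over.OverMorphism.ext (pullback.lift_fst _ _ _)⟩
    change pullback.lift _ _ _ ≫ pullback.fst _ _ ≫ A.hom = T.hom
    rw [pullback.lift_fst_assoc, Over.w t]

end Groth.Agent.GrpdLib.GrpLocal
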