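import Groth.Agent.GrpdLib.SepExt

/-!
# Closed sets containing all points over big fields
-/

set_option autoImplicit false
set_option backward.isDefEq.respectTransparency false

universe u

open CategoryTheory MonoidalCategory CartesianMonoidalCategory AlgebraicGeometry Limits

namespace Groth.Agent.GrpdLib.PtsClosed

variable (k K : Type u) [Field k] [Field K] [Algebra k K] [IsAlgClosed K]

local notation "φ" => Spec.map (CommRingCat.ofHom (algebraMap k K))

/-- A closed set containing the images of all `K`-points is everything. -/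
theorem eq_univ {X : Over (Spec (CommRingCat.of k))} [LocallyOfFiniteType X.hom] {S : Set X.left}
    (hS : IsClosed S) (h : ∀ x : Over.mk φ ⟶ X, ∀ t, x.left t ∈ S) : S = Set.univ := by
  have hsub : Set.univ ⊆ (pullback.fst X.hom φ) ⁻¹' S := by
    rw [← (SepExt.dense_bc_algClosed k K X).closure_eq]
    refine closure_minimal ?_ (hS.preimage (pullback.fst X.hom φ).continuous)
    rintro _ ⟨s, t, rfl⟩
    have hs : s.left ≫ pullback.snd X.hom φ = 𝟙 _ := Over.w s
    exact h (Over.homMk (U := Over.mk φ) (s.left ≫ pullback.fst X.hom φ)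
      (by rw [Category.assoc, pullback.condition, reassoc_of% hs]; rfl)) t
  have : Surjective φ := ⟨fun x => ⟨IsLocalRing.closedPoint K, Subsingleton.elim _ _⟩⟩
  refine Set.eq_univ_of_forall fun x => ?_
  obtain ⟨y, rfl⟩ := (pullback.fst X.hom φ).surjective x
  exact hsub (Set.mem_univ y)

/-- A morphism from a reduced scheme over `K` factors through a closed subscheme if its rational
points do. -/
theorem exists_factor_over {W Y Z : Scheme.{u}} (w : W ⟶ Spec (CommRingCat.of K))
    [LocallyOfFiniteType w] [IsReduced W] (f : W ⟶ Y) (c : Z ⟶ Y) [IsClosedImmersion c]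
    (h : ∀ x : Spec (CommRingCat.of K) ⟶ W, x ≫ w = 𝟙 _ → ∃ z, z ≫ c = x ≫ f) :
    ∃ l : W ⟶ Z, l ≫ c = f := by
  refine RedSub.exists_lift_closed c f ?_
  rintro _ ⟨p, rfl⟩
  have := LocallyOfFiniteType.jacobsonSpace w
  suffices Set.univ ⊆ f ⁻¹' Set.range c from this (Set.mem_univ p)
  rw [← closure_closedPoints (X := W)]
  refine closure_minimal (fun q hq => ?_) (c.isClosedEmbedding.isClosed_range.preimage f.continuous)
  obtain ⟨z, hz⟩ := h _ (pointOfClosedPoint_comp w q hq)
  refine ⟨z (IsLocalRing.closedPoint K), ?_⟩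
  rw [← Scheme.Hom.comp_apply, hz, Scheme.Hom.comp_apply, pointOfClosedPoint_apply]

end Groth.Agent.GrpdLib.PtsClosed
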