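import Groth.Agent.RedSub.Basic
import Groth.Prelude.Def_ActBC

/-!
# Reduced schemes with dense rational points
-/

set_option autoImplicit false

universe u

open CategoryTheory MonoidalCategory CartesianMonoidalCategory AlgebraicGeometry Limits

namespace Groth.Agent.GrpdLib.SchDensePts

/-- A surjective closed immersion onto a reduced scheme is an isomorphism. -/
lemma isIso_of_surjective {Z X : Scheme.{u}} (c : Z ⟶ X) [IsClosedImmersion c] [IsReduced X]
    (h : ∀ x : X, x ∈ Set.range c) : IsIso c := by
  obtain ⟨l, hl⟩ := RedSub.exists_lift_closed c (𝟙 X) (fun x _ => h x)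
  have : IsSplitEpi c := ⟨⟨⟨l, hl⟩⟩⟩
  exact isIso_of_mono_of_isSplitEpi c

variable (k K : Type u) [Field k] [Field K] [Algebra k K]

local notation "φ" => Spec.map (CommRingCat.ofHom (algebraMap k K))

/-- If the `K`-points are dense in `X_K` and all factor through the closed `Z`, then `Z = X`. -/
theorem isIso_of_dense (X : Over (Spec (CommRingCat.of k))) [IsReduced X.left]
    (hK : Dense {p : ↥(Red.bc φ X).left |
        ∃ (s : 𝟙_ (Over (Spec (CommRingCat.of K))) ⟶ Red.bc φ X) (t : ↥(Spec (CommRingCat.of K))),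
          s.left.base t = p})
    (Z : Over (Spec (CommRingCat.of k))) (c : Z ⟶ X) [IsClosedImmersion c.left]
    (hZ : ∀ x : Over.mk φ ⟶ X, ∃ z : Over.mk φ ⟶ Z, z ≫ c = x) :
    IsIso c := by
  have hsub : Set.univ ⊆ (pullback.fst X.hom φ) ⁻¹' Set.range c.left := by
    rw [← hK.closure_eq]
    refine closure_minimal ?_
      ((c.left.isClosedEmbedding.isClosed_range).preimage (pullback.fst X.hom φ).continuous)
    rintro _ ⟨s, t, rfl⟩
    have hs : s.left ≫ pullback.snd X.hom φ = 𝟙 _ := Over.w s
    obtain ⟨z, hz⟩ := hZ (Over.homMk (U := Over.mk φ) (s.left ≫ pullback.fst X.hom φ)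
      (by rw [Category.assoc, pullback.condition, reassoc_of% hs]; rfl))
    refine ⟨z.left t, ?_⟩
    exact congr(($hz).left t)
  have : Surjective (pullback.fst X.hom φ) := by
    have : Surjective φ := ⟨fun x => ⟨IsLocalRing.closedPoint K, Subsingleton.elim _ _⟩⟩
    infer_instance
  have : IsIso c.left := isIso_of_surjective c.left fun x => by
    obtain ⟨y, rfl⟩ := (pullback.fst X.hom φ).surjective x
    exact hsub (Set.mem_univ y)
  exact (isIso_iff_of_reflects_iso c (Over.forget _)).mp this

end Groth.Agent.GrpdLib.SchDensePts
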