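import Groth.Agent.GrpdLib.FieldSmooth
import Groth.Agent.GrpdLib.SchDensePts
import Groth.Agent.GrpScheme.RatDense
import Groth.Agent.GrpScheme.SepPoint
import Groth.Agent.GrpScheme.Homogeneous

/-!
# Rational points are dense over separably closed fields
-/

set_option autoImplicit false
set_option backward.isDefEq.respectTransparency false

universe u

open CategoryTheory MonoidalCategory CartesianMonoidalCategory AlgebraicGeometry Limits

namespace Groth.Agent.GrpdLib.SepDense

lemma geometricallyReduced_of_smooth {X S : Scheme.{u}} (f : X ⟶ S) [Smooth f] :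
    GeometricallyReduced f := by
  refine ⟨fun L _ y Z fst snd h => ?_⟩
  have : Smooth snd := MorphismProperty.of_isPullback h inferInstance
  exact GrpScheme.Homogeneous.isReduced_of_smooth snd

/-- Rational points of a geometrically reduced scheme over a separably closed field are dense. -/
theorem dense_ratPoints {k : Type u} [Field k] [IsSepClosed k] {X : Scheme.{u}}
    (f : X ⟶ Spec (CommRingCat.of k)) [GeometricallyReduced f] [LocallyOfFiniteType f] :
    Dense (GrpScheme.RatDense.ratPoints f) := by
  rw [dense_iff_inter_open]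
  intro U hU hne
  let g : Spec (CommRingCat.of (AlgebraicClosure k)) ⟶ Spec (CommRingCat.of k) :=
    Spec.map (CommRingCat.ofHom (algebraMap k (AlgebraicClosure k)))
  have : Surjective g := ⟨fun x => ⟨IsLocalRing.closedPoint _, Subsingleton.elim _ _⟩⟩
  obtain ⟨x, hx⟩ := hne
  obtain ⟨y₀, hy₀⟩ := (pullback.fst f g).surjective x
  obtain ⟨y, hyU, hy⟩ := (pullback.snd f g).dense_smoothLocus_of_perfectField.inter_open_nonempty
    ((pullback.fst f g) ⁻¹' U) (hU.preimage (pullback.fst f g).continuous)
    ⟨y₀, show pullback.fst f g y₀ ∈ U from hy₀.symm ▸ hx⟩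
  obtain ⟨W, hW, hsm⟩ := (FieldSmooth.smAt_iff_of_isPullback
    (IsPullback.of_hasPullback f g) y).mp ((FieldSmooth.smAt_iff _ y).mpr hy)
  let V : X.Opens := ⟨U, hU⟩ ⊓ W
  have : Nonempty V.toScheme := ⟨⟨pullback.fst f g y, hyU, hW⟩⟩
  have : Smooth (V.ι ≫ f) := by
    rw [← X.homOfLE_ι (inf_le_right : V ≤ W), Category.assoc]
    infer_instance
  obtain ⟨s, hs⟩ := GrpScheme.SepPoint.exists_point (V.ι ≫ f)
  exact ⟨(s ≫ V.ι) (IsLocalRing.closedPoint k), (s (IsLocalRing.closedPoint k)).2.1,
    s ≫ V.ι, by rw [Category.assoc, hs], rfl⟩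

variable (k K : Type u) [Field k] [Field K] [Algebra k K] [IsSepClosed K]

local notation "φ" => Spec.map (CommRingCat.ofHom (algebraMap k K))

/-- `K`-points are dense in the base change of a geometrically reduced scheme. -/
theorem dense_bc (X : Over (Spec (CommRingCat.of k))) [LocallyOfFiniteType X.hom]
    [GeometricallyReduced X.hom] :
    Dense {p : ↥(Red.bc φ X).left |
      ∃ (s : 𝟙_ (Over (Spec (CommRingCat.of K))) ⟶ Red.bc φ X) (t : ↥(Spec (CommRingCat.of K))),
        s.left.base t = p} :=
  (dense_ratPoints (pullback.snd X.hom φ)).mono (s₂ := {p : ↥(Red.bc φ X).left |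
      ∃ (s : 𝟙_ (Over (Spec (CommRingCat.of K))) ⟶ Red.bc φ X) (t : ↥(Spec (CommRingCat.of K))),
        s.left.base t = p}) fun _ hp => by
    obtain ⟨x, hx, hxp⟩ := hp
    exact ⟨Over.homMk x hx, IsLocalRing.closedPoint K, hxp⟩

/-- A closed subscheme containing all `K`-points of a geometrically reduced scheme is everything. -/
theorem isIso_of_points (X : Over (Spec (CommRingCat.of k))) [LocallyOfFiniteType X.hom]
    [GeometricallyReduced X.hom] (Z : Over (Spec (CommRingCat.of k))) (c : Z ⟶ X)
    [IsClosedImmersion c.left] (hZ : ∀ x : Over.mk φ ⟶ X, ∃ z : Over.mk φ ⟶ Z, z ≫ c = x) :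
    IsIso c :=
  have : IsReduced X.left := GeometricallyReduced.isReduced_of_flat_of_isLocallyNoetherian X.hom
  SchDensePts.isIso_of_dense k K X (dense_bc k K X) Z c hZ

/-- A morphism from a geometrically reduced scheme factors through a closed subscheme if its
`K`-points do. -/
theorem exists_factor {X : Over (Spec (CommRingCat.of k))} [LocallyOfFiniteType X.hom]
    [GeometricallyReduced X.hom] {Y Z : Over (Spec (CommRingCat.of k))} (f : X ⟶ Y) (c : Z ⟶ Y)
    [IsClosedImmersion c.left]
    (h : ∀ x : Over.mk φ ⟶ X, ∃ z : Over.mk φ ⟶ Z, z ≫ c = x ≫ f) :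
    ∃ l : X ⟶ Z, l ≫ c = f := by
  let p : Over.mk (pullback.fst f.left c.left ≫ X.hom) ⟶ X :=
    Over.homMk (pullback.fst f.left c.left) rfl
  let q : Over.mk (pullback.fst f.left c.left ≫ X.hom) ⟶ Z :=
    Over.homMk (pullback.snd f.left c.left) (by
      show _ = pullback.fst f.left c.left ≫ X.hom
      rw [← Over.w c, ← pullback.condition_assoc, Over.w f])
  have hpq : p ≫ f = q ≫ c := Over.OverMorphism.ext pullback.condition
  have : IsClosedImmersion p.left := by
    show IsClosedImmersion (pullback.fst f.left c.left)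
    infer_instance
  have : IsIso p := isIso_of_points k K X _ p fun x => by
    obtain ⟨z, hz⟩ := h x
    refine ⟨Over.homMk (pullback.lift x.left z.left congr(($hz).left).symm) ?_,
      Over.OverMorphism.ext (pullback.lift_fst _ _ _)⟩
    show pullback.lift _ _ _ ≫ pullback.fst f.left c.left ≫ X.hom = _
    rw [pullback.lift_fst_assoc, Over.w x]
  exact ⟨inv p ≫ q, by rw [Category.assoc, ← hpq, IsIso.inv_hom_id_assoc]⟩

end Groth.Agent.GrpdLib.SepDense
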