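import Groth.Agent.GrpdLib.FppfQuot
import Groth.Agent.AlgSp.Quot
import Groth.Agent.AlgSp.FppfLocal2
import Groth.Agent.GrpdLib.QuasiSection
import Mathlib.CategoryTheory.EquivalenceRelation

/-!
# Equivalence relations and their fppf quotient sheaves
-/

set_option autoImplicit false
set_option maxHeartbeats 400000
set_option backward.isDefEq.respectTransparency.types false

universe u

open CategoryTheory CategoryTheory.Limits AlgebraicGeometry

namespace Groth.Agent.GrpdLib

instance flat_descendsAlong :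
    MorphismProperty.DescendsAlong @Flat.{u} (@Surjective ⊓ @Flat ⊓ @LocallyOfFinitePresentation) where
  of_isPullback {A X Y Z} fst snd f g h hf hfst := by
    obtain ⟨⟨hs, hfl⟩, -⟩ := hf
    have : Flat snd := MorphismProperty.of_isPullback (P := @Flat) h hfl
    have : Surjective snd := MorphismProperty.of_isPullback (P := @Surjective) h hs
    have : Flat (snd ≫ g) := by rw [← h.w]; infer_instance
    exact flat_of_comp_flat_surjective snd g

instance flat_isLocalAtTarget_fppf :
    MorphismProperty.IsLocalAtTarget @Flat Scheme.fppfPrecoverage.{u} :=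
  AlgSp.isLocalAtTarget_fppf _

variable {S : Scheme.{u}} {R U Y : Over S} (s t : R ⟶ U)

lemma isEqvRel_of_isEquivalenceRelation [h : IsEquivalenceRelation s t] : AlgSp.IsEqvRel s t := by
  obtain ⟨e⟩ := h.nonempty_equivalenceRelation
  refine ⟨fun T r r' ht hs => e.toJointlyMono₂.right_cancellation r r' hs ht, fun T => ?_⟩
  refine ⟨fun a => ⟨a ≫ e.r, ?_, ?_⟩, ?_, ?_⟩
  · rw [Category.assoc, e.reflexivity₂, Category.comp_id]
  · rw [Category.assoc, e.reflexivity₁, Category.comp_id]
  · rintro a b ⟨r, rfl, rfl⟩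
    exact ⟨r ≫ e.s, by rw [Category.assoc, e.symmetry₂], by rw [Category.assoc, e.symmetry₁]⟩
  · rintro a b c ⟨r₁, rfl, h₁⟩ ⟨r₂, h₂, rfl⟩
    obtain ⟨l, hl₁, hl₂⟩ := PullbackCone.IsLimit.lift' e.isLimit r₂ r₁ (h₂.trans h₁.symm)
    exact ⟨l ≫ e.t, by rw [Category.assoc, e.transitivity₂, reassoc_of% hl₂],
      by rw [Category.assoc, e.transitivity₁, reassoc_of% hl₁]⟩

variable {s t}

lemma repWith_map_of_isQuotient (heq : AlgSp.IsEqvRel s t) {q : U ⟶ Y}
    (hq : QuotSh.IsQuotient Scheme.fppfPrecoverage s t q) :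
    IsPullback t s q q ∧ ∀ (P : MorphismProperty Scheme.{u}) [P.IsStableUnderBaseChange]
      [P.IsLocalAtTarget Scheme.fppfPrecoverage], P s.left → P q.left := by
  obtain ⟨w, hiso⟩ := hq
  have hπ : QuotSh.quotπ Scheme.fppfPrecoverage s t ≫ QuotSh.quotDesc Scheme.fppfPrecoverage q w =
      QuotSh.repMap Scheme.fppfPrecoverage q := coequalizer.π_desc _ _
  let E : QuotSh.quot Scheme.fppfPrecoverage s t ≅ (AlgSp.yon S).obj Y :=
    asIso (QuotSh.quotDesc Scheme.fppfPrecoverage q w) ≪≫
      QuotSh.repIsoUliftYoneda Scheme.fppfPrecoverage Y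
  have hE : AlgSp.yπ s t ≫ E.hom = (AlgSp.yon S).map q := by
    simp only [AlgSp.yπ, E, Iso.trans_hom, asIso_hom, Category.assoc, reassoc_of% hπ]
    rw [← Category.assoc, AlgSp.repMap_repIso, Category.assoc, Iso.inv_hom_id, Category.comp_id]
  have sq : IsPullback ((AlgSp.yon S).map t) ((AlgSp.yon S).map s) ((AlgSp.yon S).map q)
      ((AlgSp.yon S).map q) :=
    IsPullback.of_iso (AlgSp.isPullback_yπ s t heq) (Iso.refl _) (Iso.refl _) (Iso.refl _) E
      (by simp) (by simp) (by simp [hE]) (by simp [hE])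
  refine ⟨IsPullback.of_map (AlgSp.yon S)
    ((AlgSp.yon S).map_injective (by simpa using sq.w)) sq, fun P _ _ hP => ?_⟩
  have : Sheaf.IsLocallySurjective ((AlgSp.yon S).map q) := by
    rw [← hE]
    have := AlgSp.isLocallySurjective_yπ s t
    exact Sheaf.isLocallySurjective_comp _ _
  have h' : AlgSp.RepWith P ((AlgSp.yon S).map q) :=
    AlgSp.repWith_of_isPullback_of_isLocallySurjective _ (AlgSp.representable_yon_map q) _
      ((AlgSp.yon S).map t) ((AlgSp.yon S).map s) sq P ((AlgSp.repWith_yon_map_iff P s).2 hP)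
  exact (AlgSp.repWith_yon_map_iff P q).1 h'

end Groth.Agent.GrpdLib
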