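import Groth.Agent.GrpdLib.EffQuot
import Groth.Agent.GrpdLib.FppfSourceDescentScheme
import Groth.Agent.AlgSpB.Art.Wrap
import Groth.Agent.AlgSpB.Bootstrap2
import Groth.Agent.AlgSp.QuotRestrict
import Groth.Agent.S5224

/-!
# Factorization of morphisms with flat kernel pair
-/

set_option autoImplicit false
set_option backward.isDefEq.respectTransparency false
set_option backward.isDefEq.respectTransparency.types false

universe u

open CategoryTheory CategoryTheory.Limits AlgebraicGeometry Opposite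

namespace Groth.Agent.GrpdLib.EpiMonoFactor

open _root_.AlgSp
open Groth.Agent.AlgSp (exists_cover_lift mem_of_cover yEquiv yEquiv_map yπ isPullback_yπ
  isLocallySurjective_yπ mono_of_yon isLocallySurjective_prodMap)

variable {S : Scheme.{u}}

/-- A map out of a quotient is mono if it does not enlarge the kernel pair. -/
theorem mono_of_kernelPair {U R : Over S} {F G : Sp S} (p : (yon S).obj U ⟶ F)
    [Sheaf.IsLocallySurjective p] {t s : R ⟶ U} (sq : IsPullback ((yon S).map t) ((yon S).map s) p p)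
    (ψ : F ⟶ G)
    (h : ∀ ⦃W : Over S⦄ (u v : W ⟶ U), (yon S).map u ≫ p ≫ ψ = (yon S).map v ≫ p ≫ ψ →
      ∃ r : W ⟶ R, r ≫ t = u ∧ r ≫ s = v) : Mono ψ := by
  refine mono_of_yon ψ fun T a b hab => ?_
  have := isLocallySurjective_prodMap p p
  obtain ⟨P, hP, hl⟩ := exists_cover_lift (prod.map p p) (prod.lift a b)
  apply yEquiv.injective
  refine (((isSheaf_iff_isSheaf_of_type _ _).1 F.property).isSeparated
    _ (mem_of_cover (T := Sieve.generate (fun W q => (yon S).map q ≫ a = (yon S).map q ≫ b)) hP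
      fun W k hk => ?_)).ext fun W q hq => ?_
  · obtain ⟨l, hh⟩ := hl k hk
    obtain ⟨u₀, hu₀⟩ := (yon S).map_surjective (l ≫ prod.fst)
    obtain ⟨v₀, hv₀⟩ := (yon S).map_surjective (l ≫ prod.snd)
    have ha : (yon S).map u₀ ≫ p = (yon S).map (Over.homMk k rfl : Over.mk (k ≫ T.hom) ⟶ T) ≫ a := by
      rw [hu₀, Category.assoc, ← prod.map_fst p p, ← Category.assoc, hh, Category.assoc, prod.lift_fst]
    have hb : (yon S).map v₀ ≫ p = (yon S).map (Over.homMk k rfl : Over.mk (k ≫ T.hom) ⟶ T) ≫ b := by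
      rw [hv₀, Category.assoc, ← prod.map_snd p p, ← Category.assoc, hh, Category.assoc, prod.lift_snd]
    refine Sieve.le_generate _ _ _ ?_
    change _ = _
    rw [← ha, ← hb]
    obtain ⟨r, hr1, hr2⟩ := h u₀ v₀ (by
      rw [← Category.assoc, ha, ← Category.assoc, hb, Category.assoc, Category.assoc, hab])
    rw [← hr1, ← hr2, Functor.map_comp, Functor.map_comp, Category.assoc, Category.assoc, sq.w]
  · obtain ⟨Z, e, q', hq', rfl⟩ := hq
    rw [← yEquiv_map, ← yEquiv_map, Functor.map_comp, Category.assoc, Category.assoc, hq']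

variable {X Y : Scheme.{u}} (f : X ⟶ Y)

/-- The source, over the target. -/
noncomputable abbrev src : Over Y := Over.mk f

/-- The kernel pair, over the target. -/
noncomputable abbrev ker : Over Y := Over.mk (pullback.fst f f ≫ f)

/-- First projection. -/
noncomputable abbrev p₁ : ker f ⟶ src f := Over.homMk (pullback.fst f f) rfl

/-- Second projection. -/
noncomputable abbrev p₂ : ker f ⟶ src f := Over.homMk (pullback.snd f f) pullback.condition.symm

lemma exists_rel {W : Over Y} (a b : W ⟶ src f) : ∃ r : W ⟶ ker f, r ≫ p₂ f = a ∧ r ≫ p₁ f = b :=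
  ⟨Over.homMk (pullback.lift b.left a.left ((Over.w b).trans (Over.w a).symm))
      (by
        show pullback.lift _ _ _ ≫ pullback.fst f f ≫ f = _
        rw [pullback.lift_fst_assoc]
        exact Over.w b),
    Over.OverMorphism.ext (pullback.lift_snd _ _ _), Over.OverMorphism.ext (pullback.lift_fst _ _ _)⟩

lemma isEqvRel : _root_.AlgSp.IsEqvRel (p₁ f) (p₂ f) := by
  refine ⟨fun T r r' h₁ h₂ => Over.OverMorphism.ext (pullback.hom_ext congr(($h₂).left) congr(($h₁).left)),
    fun T => ⟨fun a => ?_, fun {a b} _ => ?_, fun {a b c} _ _ => ?_⟩⟩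
  all_goals exact exists_rel f _ _

variable [LocallyOfFinitePresentation f]

/-- A morphism of finite presentation with flat kernel pair is fppf followed by a monomorphism. -/
theorem exists_factor (hfst : Flat (pullback.fst f f)) :
    ∃ (X' : Scheme.{u}) (f' : X ⟶ X') (f'' : X' ⟶ Y),
      Surjective f' ∧ Flat f' ∧ LocallyOfFinitePresentation f' ∧ Mono f'' ∧ f' ≫ f'' = f := by
  have : Flat (p₁ f).left := hfst
  have : LocallyOfFinitePresentation (p₁ f).left :=
    inferInstanceAs (LocallyOfFinitePresentation (pullback.fst f f))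
  have : Flat (p₂ f).left := by
    show Flat (pullback.snd f f)
    rw [← pullbackSymmetry_hom_comp_fst]
    infer_instance
  have : LocallyOfFinitePresentation (p₂ f).left :=
    inferInstanceAs (LocallyOfFinitePresentation (pullback.snd f f))
  have : Surjective (p₁ f).left :=
    ⟨fun x => ⟨pullback.diagonal f x, by
      show pullback.fst f f _ = x
      rw [← Scheme.Hom.comp_apply, pullback.diagonal_fst]; rfl⟩⟩
  have heq := isEqvRel f
  obtain ⟨hd, hp, hsu⟩ := Groth.Agent.AlgSpB.Art.cover_yπ heq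
  have hF : IsAlgSpace (QuotSh.quot Scheme.fppfPrecoverage (p₁ f) (p₂ f)) :=
    Groth.Agent.AlgSpB.Art.isAlgSpace_of_fppf_cover hd _ hp hsu
  let F := QuotSh.quot Scheme.fppfPrecoverage (p₁ f) (p₂ f)
  let T : Over Y := Over.mk (𝟙 Y)
  let q : src f ⟶ T := Over.homMk f (Category.comp_id f)
  have w : p₁ f ≫ q = p₂ f ≫ q := Over.OverMorphism.ext pullback.condition
  let ψ : F ⟶ (yon Y).obj T := QuotSh.quotDesc Scheme.fppfPrecoverage q w ≫
    (QuotSh.repIsoUliftYoneda Scheme.fppfPrecoverage T).hom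
  have hψ : yπ (p₁ f) (p₂ f) ≫ ψ = (yon Y).map q := by
    have hπ : QuotSh.quotπ Scheme.fppfPrecoverage (p₁ f) (p₂ f) ≫
        QuotSh.quotDesc Scheme.fppfPrecoverage q w = QuotSh.repMap Scheme.fppfPrecoverage q :=
      coequalizer.π_desc _ _
    simp only [yπ, ψ, Category.assoc, reassoc_of% hπ]
    rw [← Category.assoc, Groth.Agent.AlgSp.repMap_repIso, Category.assoc, Iso.inv_hom_id,
      Category.comp_id]
  have sq := isPullback_yπ (p₁ f) (p₂ f) heq
  have := isLocallySurjective_yπ (p₁ f) (p₂ f)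
  have : Mono ψ := mono_of_kernelPair _ sq ψ fun W u v _ => exists_rel f u v
  have hlft : LocP @LocallyOfFiniteType ψ := by
    intro A B a b h ha hb e
    obtain ⟨W, k, l, sqW⟩ := Groth.Agent.AlgSpB.exists_pullback_yon ha.1 (yπ (p₁ f) (p₂ f))
    have hk : (@Flat ⊓ @LocallyOfFinitePresentation : MorphismProperty Scheme.{u}) k.left ∧ Surjective k.left :=
      ⟨hp.2 _ _ _ sqW.flip, hsu.2 _ _ _ sqW.flip⟩
    have hl : Etale l.left := ha.2 _ _ _ sqW
    obtain ⟨⟨hkf, hkp⟩, hks⟩ := hk
    have : LocallyOfFinitePresentation (k.left ≫ A.hom) := by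
      rw [Over.w k, ← Over.w l]
      exact inferInstanceAs (LocallyOfFinitePresentation (l.left ≫ f))
    have := FppfSourceDescent.locallyOfFinitePresentation_of_comp_fppf k.left A.hom
    have : LocallyOfFiniteType (h.left ≫ B.hom) := by
      rw [Over.w h]; infer_instance
    exact locallyOfFiniteType_of_comp h.left B.hom
  obtain ⟨O, ⟨E⟩⟩ := Groth.Agent.AlgSpB.exists_iso_of_lqf_sep hF ψ
    (Groth.Agent.AlgSpB.locP_lqf_of_mono hF ψ hlft) (Groth.Agent.AlgSpB.isSeparatedMor_of_mono ψ)
  obtain ⟨g, hg⟩ := (yon Y).map_surjective (yπ (p₁ f) (p₂ f) ≫ E.inv)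
  obtain ⟨j, hj⟩ := (yon Y).map_surjective (E.hom ≫ ψ)
  have hP : ∀ (P : MorphismProperty Scheme.{u}) [P.IsStableUnderBaseChange],
      RepWith P (yπ (p₁ f) (p₂ f)) → P g.left := fun P _ h => by
    have : (RepWith P : MorphismProperty (Sp Y)).RespectsIso := inferInstance
    refine (repWith_yon_map_iff P g).1 ?_
    rw [hg]
    exact (MorphismProperty.cancel_right_of_respectsIso _ _ _).2 h
  have hgj : g ≫ j = q := (yon Y).map_injective (by
    rw [Functor.map_comp, hg, hj, Category.assoc, E.inv_hom_id_assoc, hψ])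
  refine ⟨O.left, g.left, j.left, hP @Surjective hsu, ?_, ?_, ?_, congr(($hgj).left)⟩
  · exact (hP (@Flat ⊓ @LocallyOfFinitePresentation) hp).1
  · exact (hP (@Flat ⊓ @LocallyOfFinitePresentation) hp).2
  · have : Mono ((yon Y).map j) := by rw [hj]; infer_instance
    have hjm : Mono j := (yon Y).mono_of_mono_map this
    refine ⟨fun {Z} a b hab => ?_⟩
    have := hjm.right_cancellation (Z := Over.mk (a ≫ O.hom)) (Over.homMk a rfl)
      (Over.homMk b (by
        show b ≫ O.hom = a ≫ O.hom
        rw [← Over.w j, reassoc_of% hab]))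
      (Over.OverMorphism.ext hab)
    exact congr(($this).left)

end Groth.Agent.GrpdLib.EpiMonoFactor
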