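import Groth.Agent.GrpdLib.RingGrpd
import Mathlib.RingTheory.TensorProduct.Basic
import Mathlib.Data.Nat.Factorial.Basic

/-!
# Rank-corrected characteristic polynomials of invariant elements
-/

universe u

open CategoryTheory Polynomial

namespace Groth.Agent.GrpdLib

namespace Pres

variable {A B : Type*} [CommRing A] [CommRing B] {σ : A →+* B} (P : Pres σ)

/-- The rank polynomial `det (1 - E + X E)`. -/
noncomputable def rankPoly : A[X] := P.chi 0

lemma chi_base (f : A) : P.chi (σ f) = P.rankPoly.comp (X - C f) := by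
  have h : P.mat (σ f) = f • P.mat 1 := by rw [← P.mat_smul, mul_one]
  have h0 : P.mat (0 : B) = 0 := by ext j k; simp [mat, cross]
  rw [rankPoly, chi, chi, ← Polynomial.coe_compRingHom_apply, RingHom.map_det, h, h0]
  congr 1
  refine Matrix.ext fun j k => ?_
  rcases eq_or_ne j k with rfl | hjk <;> simp [RingHom.mapMatrix_apply, *] <;> ring

lemma eval₂_rankPoly {R : Type*} [CommRing R] (f : A →+* R) (t : R) :
    P.rankPoly.eval₂ f t =
      (1 + (t • (P.mat 1).map f - (P.mat 1).map f)).det := by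
  have h0 : P.mat (0 : B) = 0 := by ext j k; simp [mat, cross]
  rw [rankPoly, chi, ← Polynomial.coe_eval₂RingHom, RingHom.map_det, h0]
  congr 1
  refine Matrix.ext fun j k => ?_
  rcases eq_or_ne j k with rfl | hjk <;>
    simp [RingHom.mapMatrix_apply, *] <;> ring

lemma eval₂_rankPoly_mul {R : Type*} [CommRing R] (f : A →+* R) (s t : R) :
    P.rankPoly.eval₂ f s * P.rankPoly.eval₂ f t = P.rankPoly.eval₂ f (s * t) := by
  have hE : (P.mat 1).map f * (P.mat 1).map f = (P.mat 1).map f := by
    rw [← Matrix.map_mul, mat_mul, one_mul]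
  simp only [eval₂_rankPoly, ← Matrix.det_mul]
  congr 1
  simp only [mul_add, add_mul, mul_sub, sub_mul, one_mul, mul_one, Matrix.mul_smul,
    Matrix.smul_mul, hE, smul_smul, mul_comm t s]
  abel

lemma rankPoly_eval_one : P.rankPoly.eval 1 = 1 := by
  rw [eval, P.eval₂_rankPoly (RingHom.id A) 1]
  simp

lemma coeff_rankPoly_mul (j : ℕ) :
    C (P.rankPoly.coeff j) * P.rankPoly = C (P.rankPoly.coeff j) * X ^ j := by
  have h := P.eval₂_rankPoly_mul ((C : A[X] →+* A[X][X]).comp C) (C X) X
  have h₁ : P.rankPoly.eval₂ ((C : A[X] →+* A[X][X]).comp C) (C X) = C P.rankPoly := by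
    rw [← Polynomial.hom_eval₂]; simp
  have h₂ : P.rankPoly.eval₂ ((C : A[X] →+* A[X][X]).comp C) X = P.rankPoly.map C := by
    rw [← Polynomial.eval₂_map, eval₂_C_X]
  rw [h₁, h₂] at h
  have h' := congrArg (fun p => p.coeff j) h
  simp only [coeff_C_mul, coeff_map, eval₂_eq_sum, RingHom.comp_apply, sum_def, finsetSum_coeff,
    mul_pow, ← C_pow, ← C_mul, ← mul_assoc] at h'
  rw [mul_comm, h']
  rw [Finset.sum_eq_single j]
  · simp
  · intro r _ hr; simp [coeff_X_pow, hr.symm]
  · intro hj; simp [notMem_support_iff.mp hj]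

lemma coeff_rankPoly_mul_chi_base (f : A) (j : ℕ) :
    C (P.rankPoly.coeff j) * P.chi (σ f) = C (P.rankPoly.coeff j) * (X - C f) ^ j := by
  have := congrArg (fun p => p.comp (X - C f)) (P.coeff_rankPoly_mul j)
  simpa [chi_base] using this

end Pres

namespace RingGrpd

variable (D : RingGrpd.{u})

/-- The rank-corrected characteristic polynomial of `τ a`. -/
noncomputable def chi (a : D.A) : (D.A)[X] := D.P.chi (D.τ a)

lemma coeff_chi_mem (a : D.A) (m : ℕ) : (D.chi a).coeff m ∈ D.invariants := by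
  obtain ⟨P₁, -, -, -, h₁⟩ := exists_pres_baseChange' D.hfst D.P
  obtain ⟨P₂, -, -, -, h₂⟩ := exists_pres_baseChange' D.hcomp D.P
  have e : D.π₁ (D.τ a) = D.γ (D.τ a) := (congrArg (fun f => f.hom a) D.τ_γ).symm
  have h := (h₁ (D.τ a)).symm.trans ((Pres.chi_eq P₁ P₂ _).trans (e ▸ h₂ (D.τ a)))
  have := congrArg (fun q => q.coeff m) h
  show D.σ.hom _ = D.τ.hom _
  simpa [chi] using this.symm

lemma eval_chi_self (a : D.A) : (D.chi a).eval a = 0 := by
  rw [chi, Pres.eval_chi]
  obtain ⟨y, hy⟩ := D.P.dvd_norm_of_retraction D.ε.hom D.ε_σ (D.σ a - D.τ a)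
  rw [hy, map_sub, D.ε_σ, D.ε_τ, sub_self, zero_mul]

lemma chi_of_mem {f : D.A} (hf : f ∈ D.invariants) : D.chi f = D.P.chi (D.σ f) := by
  rw [chi]; exact congrArg _ (Eq.symm hf)

/-- The rank idempotents. -/
noncomputable def rankIdem (r : ℕ) : D.A := D.P.rankPoly.coeff r

lemma rankIdem_mem (r : ℕ) : D.rankIdem r ∈ D.invariants := by
  have := D.coeff_chi_mem 0 r
  rw [chi, map_zero] at this
  exact this

lemma rankIdem_zero : D.rankIdem 0 = 0 := by
  rw [rankIdem, coeff_zero_eq_eval_zero, Pres.rankPoly, Pres.eval_chi]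
  obtain ⟨y, hy⟩ := D.P.dvd_norm_of_retraction D.ε.hom D.ε_σ (D.σ 0 - 0)
  rw [hy]
  simp

lemma sum_rankIdem : ∑ r ∈ Finset.range (D.P.rankPoly.natDegree + 1), D.rankIdem r = 1 := by
  rw [← D.P.rankPoly_eval_one, eval_eq_sum_range]
  simp [rankIdem]

/-- A polynomial with coefficients in the image of `g` restricting to a power of `X - f` for an
invariant `f`, given that the coefficients of `chi f` lie in that image. -/
lemma exists_pow_eq_map {R : Type*} [CommRing R] (g : R →+* D.A)
    {f : D.A} (hf : f ∈ D.invariants)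
    (he : ∀ r, D.rankIdem r ∈ Set.range g) (hc : ∀ m, (D.chi f).coeff m ∈ Set.range g) :
    ∃ (n : ℕ) (Q : R[X]), 0 < n ∧ Q.map g = (X - C f) ^ n := by
  choose e he using he
  obtain ⟨q, hq⟩ := (Polynomial.mem_lifts _).mp ((Polynomial.lifts_iff_coeff_lifts _).mpr hc)
  let d := D.P.rankPoly.natDegree
  refine ⟨d.factorial, ∑ r ∈ Finset.range (d + 1), C (e r) * q ^ (d.factorial / r),
    Nat.factorial_pos _, ?_⟩
  simp only [Polynomial.map_sum, Polynomial.map_mul, map_C, Polynomial.map_pow, hq, he]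
  calc ∑ r ∈ Finset.range (d + 1), C (D.rankIdem r) * D.chi f ^ (d.factorial / r)
      = ∑ r ∈ Finset.range (d + 1), C (D.rankIdem r) * (X - C f) ^ d.factorial := by
        refine Finset.sum_congr rfl fun r hr => ?_
        rcases Nat.eq_zero_or_pos r with rfl | hpos
        · simp [rankIdem_zero]
        have h1 : C (D.rankIdem r) * D.chi f = C (D.rankIdem r) * (X - C f) ^ r := by
          rw [D.chi_of_mem hf]; exact D.P.coeff_rankPoly_mul_chi_base f r
        have hm : ∀ m, C (D.rankIdem r) * D.chi f ^ m = C (D.rankIdem r) * (X - C f) ^ (r * m) := by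
          intro m
          induction m with
          | zero => simp
          | succ m ih =>
            rw [pow_succ, ← mul_assoc, ih, mul_right_comm, h1, mul_assoc, ← pow_add,
              Nat.mul_succ, add_comm r]
        rw [hm, Nat.mul_div_cancel' (Nat.dvd_factorial hpos (Nat.lt_succ_iff.mp (Finset.mem_range.mp hr)))]
    _ = (X - C f) ^ d.factorial := by
        rw [← Finset.sum_mul, ← map_sum, D.sum_rankIdem, map_one, one_mul]

end RingGrpd

end Groth.Agent.GrpdLib
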