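import Groth.Agent.GrpdLib.Basic
import Groth.Agent.GrpScheme.Basic
import Mathlib.AlgebraicGeometry.Morphisms.QuasiFinite
import Mathlib.AlgebraicGeometry.Noetherian
import Mathlib.CategoryTheory.Monoidal.Cartesian.Over

/-!
# The groupoid scheme of an action
-/

set_option autoImplicit false
set_option maxHeartbeats 400000
set_option backward.isDefEq.respectTransparency false
set_option backward.isDefEq.respectTransparency.types false

universe u

open CategoryTheory MonoidalCategory CartesianMonoidalCategory MonObj GrpObj AlgebraicGeometry Limits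

namespace Groth.Agent.GrpdLib.ActionGrpd

open GrpScheme.Basic (smul comp_smul mul_smul' inv_smul_smul' smul_inv_smul' one_smul')

variable {S : Scheme.{u}} {G X : Over S} [GrpObj G] (a : AlgGrp.Action G X)

/-- Pairs of composable arrows, over the base. -/
noncomputable def P : Over S :=
  Over.mk (pullback.fst (snd G X).left a.act.left ≫ (G ⊗ X).hom)

/-- The first arrow. -/
noncomputable def π₁ : P a ⟶ G ⊗ X := Over.homMk (pullback.fst (snd G X).left a.act.left) rfl

/-- The second arrow. -/
noncomputable def π₂ : P a ⟶ G ⊗ X :=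
  Over.homMk (pullback.snd (snd G X).left a.act.left) (by
    show pullback.snd (snd G X).left a.act.left ≫ (G ⊗ X).hom =
      pullback.fst (snd G X).left a.act.left ≫ (G ⊗ X).hom
    rw [← Over.w a.act, ← pullback.condition_assoc, Over.w (snd G X), Over.w a.act])

/-- The composition. -/
noncomputable def cOver : P a ⟶ G ⊗ X :=
  lift ((π₁ a ≫ fst G X) * (π₂ a ≫ fst G X)) (π₂ a ≫ snd G X)

lemma lift_cOver {T : Over S} (α β : T ⟶ G ⊗ X) (h : α ≫ snd G X = β ≫ a.act) :
    pullback.lift α.left β.left (congrArg CommaMorphism.left h) ≫ (cOver a).left =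
      (lift ((α ≫ fst G X) * (β ≫ fst G X)) (β ≫ snd G X)).left := by
  let k : T ⟶ P a := Over.homMk (pullback.lift α.left β.left (congrArg CommaMorphism.left h)) (by
    show pullback.lift _ _ _ ≫ pullback.fst (snd G X).left a.act.left ≫ (G ⊗ X).hom = T.hom
    rw [pullback.lift_fst_assoc, Over.w])
  have h₁ : k ≫ π₁ a = α := Over.OverMorphism.ext (pullback.lift_fst _ _ _)
  have h₂ : k ≫ π₂ a = β := Over.OverMorphism.ext (pullback.lift_snd _ _ _)
  show (k ≫ cOver a).left = _
  simp only [cOver, comp_lift, comp_mul, reassoc_of% h₁, reassoc_of% h₂]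

/-- The composite of two arrows. -/
noncomputable def comp' {T : Over S} (α β : T ⟶ G ⊗ X) : T ⟶ G ⊗ X :=
  lift ((α ≫ fst G X) * (β ≫ fst G X)) (β ≫ snd G X)

lemma comp'_snd {T : Over S} (α β : T ⟶ G ⊗ X) : comp' α β ≫ snd G X = β ≫ snd G X :=
  lift_snd _ _

lemma act_eq {T : Over S} (α : T ⟶ G ⊗ X) :
    α ≫ a.act = smul a (α ≫ fst G X) (α ≫ snd G X) := by
  rw [smul, ← comp_lift, lift_fst_snd, Category.comp_id]

lemma comp'_act {T : Over S} (α β : T ⟶ G ⊗ X) (h : α ≫ snd G X = β ≫ a.act) :
    comp' α β ≫ a.act = α ≫ a.act := by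
  rw [act_eq, act_eq a α, comp', lift_fst, lift_snd, mul_smul', h, act_eq a β]

/-- A point of the arrows over the base. -/
noncomputable def pt {T : Scheme.{u}} (α : T ⟶ (G ⊗ X).left) :
    Over.mk (α ≫ (G ⊗ X).hom) ⟶ G ⊗ X := Over.homMk α rfl

/-- A second point over the same base. -/
noncomputable def pt₂ {T : Scheme.{u}} (α β : T ⟶ (G ⊗ X).left)
    (h : α ≫ (snd G X).left = β ≫ a.act.left) : Over.mk (α ≫ (G ⊗ X).hom) ⟶ G ⊗ X :=
  Over.homMk β (by
    show β ≫ (G ⊗ X).hom = α ≫ (G ⊗ X).hom
    rw [← Over.w a.act, ← Category.assoc, ← h, Category.assoc, Over.w a.act, Over.w (snd G X)])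

lemma pt_snd {T : Scheme.{u}} (α β : T ⟶ (G ⊗ X).left)
    (h : α ≫ (snd G X).left = β ≫ a.act.left) : pt α ≫ snd G X = pt₂ a α β h ≫ a.act :=
  Over.OverMorphism.ext h

lemma lift_c {T : Scheme.{u}} (α β : T ⟶ (G ⊗ X).left)
    (h : α ≫ (snd G X).left = β ≫ a.act.left) :
    pullback.lift α β h ≫ (cOver a).left = (comp' (pt α) (pt₂ a α β h)).left :=
  lift_cOver a (pt α) (pt₂ a α β h) (pt_snd a α β h)

/-- The identity arrows. -/
noncomputable def eOver : X ⟶ G ⊗ X := lift 1 (𝟙 X)

/-- The inverse arrows. -/
noncomputable def iOver : G ⊗ X ⟶ G ⊗ X := lift (fst G X)⁻¹ a.act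

/-- The groupoid of an action. -/
noncomputable def grpd : Grpd.GroupoidScheme S where
  U := X.left
  R := (G ⊗ X).left
  pU := X.hom
  pR := (G ⊗ X).hom
  s := (snd G X).left
  t := a.act.left
  e := (eOver (G := G) (X := X)).left
  i := (iOver a).left
  c := (cOver a).left
  s_over := Over.w _
  t_over := Over.w _
  comp_s α β h := by
    rw [lift_c]
    exact congrArg CommaMorphism.left (comp'_snd (pt α) (pt₂ a α β h))
  comp_t α β h := by
    rw [lift_c]
    exact congrArg CommaMorphism.left (comp'_act a (pt α) (pt₂ a α β h) (pt_snd a α β h))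
  assoc α β γ h₁ h₂ := by
    let T := Over.mk (α ≫ (G ⊗ X).hom)
    let A : T ⟶ G ⊗ X := pt α
    let B : T ⟶ G ⊗ X := pt₂ a α β h₁
    let C : T ⟶ G ⊗ X := Over.homMk γ (by
      show γ ≫ (G ⊗ X).hom = α ≫ (G ⊗ X).hom
      refine (congrArg (γ ≫ ·) (Over.w a.act)).symm.trans ?_
      rw [← Category.assoc, ← h₂, Category.assoc, Over.w (snd G X)]
      exact Over.w B)
    have hAB : A ≫ snd G X = B ≫ a.act := pt_snd a α β h₁
    have hBC : B ≫ snd G X = C ≫ a.act := Over.OverMorphism.ext h₂
    have eAB : pullback.lift α β h₁ ≫ (cOver a).left = (comp' A B).left := lift_cOver a A B hAB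
    have eBC : pullback.lift β γ h₂ ≫ (cOver a).left = (comp' B C).left := lift_cOver a B C hBC
    simp only [eAB, eBC]
    refine (lift_cOver a (comp' A B) C ((comp'_snd A B).trans hBC)).trans
      (Eq.trans ?_ (lift_cOver a A (comp' B C) (hAB.trans (comp'_act a B C hBC).symm)).symm)
    refine congrArg CommaMorphism.left ?_
    simp [comp', _root_.mul_assoc]
  e_s := congrArg CommaMorphism.left (show eOver ≫ snd G X = 𝟙 X from lift_snd _ _)
  e_t := congrArg CommaMorphism.left (show eOver ≫ a.act = 𝟙 X by
    rw [act_eq, eOver, lift_fst, lift_snd, one_smul'])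
  comp_e α := by
    refine (lift_cOver a (pt α) (pt α ≫ snd G X ≫ eOver) ?_).trans (congrArg CommaMorphism.left (show _ = pt α from ?_))
    · rw [Category.assoc, Category.assoc, show eOver ≫ a.act = 𝟙 X by
        rw [act_eq, eOver, lift_fst, lift_snd, one_smul'], Category.comp_id]
    · apply CartesianMonoidalCategory.hom_ext
      · simp [eOver, Hom.one_def]
      · simp [eOver]
  e_comp α := by
    refine (lift_cOver a (pt α ≫ a.act ≫ eOver) (pt α) ?_).trans (congrArg CommaMorphism.left (show _ = pt α from ?_))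
    · simp [eOver]
    · apply CartesianMonoidalCategory.hom_ext
      · simp [eOver, comp_one]
      · simp
  i_s := congrArg CommaMorphism.left (show iOver a ≫ snd G X = a.act from lift_snd _ _)
  i_t := congrArg CommaMorphism.left (show iOver a ≫ a.act = snd G X by
    rw [act_eq, iOver, lift_fst, lift_snd]
    conv_lhs => rw [← Category.id_comp a.act, act_eq, Category.id_comp, Category.id_comp]
    exact inv_smul_smul' a _ _)
  comp_i α := by
    refine (lift_cOver a (pt α) (pt α ≫ iOver a) ?_).trans (congrArg CommaMorphism.left (show _ = pt α ≫ a.act ≫ eOver from ?_))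
    · rw [Category.assoc]
      congr 1
      rw [act_eq, iOver, lift_fst, lift_snd]
      conv_rhs => rw [← Category.id_comp a.act, act_eq, Category.id_comp, Category.id_comp]
      exact (inv_smul_smul' a _ _).symm
    · apply CartesianMonoidalCategory.hom_ext <;> simp [iOver, eOver, GrpObj.comp_inv, comp_one]
  i_comp α := by
    refine (lift_cOver a (pt α ≫ iOver a) (pt α) ?_).trans (congrArg CommaMorphism.left (show _ = pt α ≫ snd G X ≫ eOver from ?_))
    · simp [iOver]
    · apply CartesianMonoidalCategory.hom_ext <;> simp [iOver, eOver, GrpObj.comp_inv, comp_one]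

/-- The graph of the action is a groupoid's `(t, s)`. -/
lemma grpd_j : (grpd a).j = (lift a.act (snd G X)).left := by
  apply pullback.hom_ext
  · rw [j_fst]
    exact (congrArg CommaMorphism.left (lift_fst a.act (snd G X))).symm
  · rw [j_snd]
    exact (congrArg CommaMorphism.left (lift_snd a.act (snd G X))).symm

lemma mono_j [Mono (lift a.act (snd G X))] : Mono (grpd a).j := by
  rw [grpd_j]
  exact inferInstanceAs (Mono ((Over.forget S).map (lift a.act (snd G X))))

/-- A quasi-finite stabilizer makes the graph quasi-finite. -/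
lemma lqf_graph [LocallyOfFiniteType (lift a.act (snd G X)).left]
    [QuasiCompact (lift a.act (snd G X)).left]
    (hF : LocallyQuasiFinite (pullback.snd (lift a.act (snd G X)) (lift (𝟙 X) (𝟙 X))).left) :
    LocallyQuasiFinite (lift a.act (snd G X)).left := by
  let d := lift a.act (snd G X)
  let Δ := lift (𝟙 X) (𝟙 X)
  let st := pullback.snd d Δ
  let r₁ := pullback.fst d d
  let r₂ := pullback.snd d d
  have hc₁ : r₁ ≫ a.act = r₂ ≫ a.act := by
    have := congr($(pullback.condition (f := d) (g := d)) ≫ fst X X)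
    simpa [r₁, r₂, d] using this
  have hc₂ : r₁ ≫ snd G X = r₂ ≫ snd G X := by
    have := congr($(pullback.condition (f := d) (g := d)) ≫ snd X X)
    simpa [r₁, r₂, d] using this
  have hloop : smul a ((r₂ ≫ fst G X)⁻¹ * (r₁ ≫ fst G X)) (r₁ ≫ snd G X) = r₁ ≫ snd G X := by
    rw [mul_smul', ← act_eq, hc₁, act_eq, inv_smul_smul', hc₂]
  let l : pullback d d ⟶ pullback d Δ :=
    pullback.lift (lift ((r₂ ≫ fst G X)⁻¹ * (r₁ ≫ fst G X)) (r₁ ≫ snd G X)) (r₁ ≫ snd G X) (by
      apply CartesianMonoidalCategory.hom_ext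
      · simpa [d, Δ, smul] using hloop
      · simp [d, Δ])
  let θ : pullback d d ⟶ pullback st (snd G X) := pullback.lift l r₁ (pullback.lift_snd _ _ _)
  let z := pullback.fst st (snd G X) ≫ pullback.fst d Δ
  let r := pullback.snd st (snd G X)
  have hz₁ : z ≫ a.act = r ≫ snd G X := by
    have := congr($(pullback.condition (f := d) (g := Δ)) ≫ fst X X)
    simp only [d, Δ, Category.assoc, lift_fst, Category.comp_id] at this
    rw [Category.assoc, this, ← pullback.condition]
  have hz₂ : z ≫ snd G X = r ≫ snd G X := by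
    have := congr($(pullback.condition (f := d) (g := Δ)) ≫ snd X X)
    simp only [d, Δ, Category.assoc, lift_snd, Category.comp_id] at this
    rw [Category.assoc, this, ← pullback.condition]
  let r' := lift ((r ≫ fst G X) * (z ≫ fst G X)⁻¹) (r ≫ snd G X)
  have hinv : smul a (z ≫ fst G X)⁻¹ (r ≫ snd G X) = r ≫ snd G X := by
    conv_lhs => rw [← hz₁, act_eq, inv_smul_smul']
    exact hz₂
  let ψ : pullback st (snd G X) ⟶ pullback d d := pullback.lift r r' (by
    apply CartesianMonoidalCategory.hom_ext
    · simp only [d, Category.assoc, lift_fst]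
      rw [act_eq, act_eq a r', lift_fst, lift_snd, mul_smul', hinv]
    · simp [d, r'])
  have h₁ : θ ≫ ψ = 𝟙 _ := by
    apply pullback.hom_ext
    · simp only [Category.assoc, ψ, pullback.lift_fst, Category.id_comp]
      exact pullback.lift_snd _ _ _
    · simp only [Category.assoc, ψ, pullback.lift_snd, Category.id_comp]
      have e₁ : θ ≫ r = r₁ := pullback.lift_snd _ _ _
      have e₂ : θ ≫ z = lift ((r₂ ≫ fst G X)⁻¹ * (r₁ ≫ fst G X)) (r₁ ≫ snd G X) := by
        rw [← Category.assoc, pullback.lift_fst, pullback.lift_fst]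
      apply CartesianMonoidalCategory.hom_ext
      · simp [r', comp_mul, GrpObj.comp_inv, reassoc_of% e₁, reassoc_of% e₂]
        exact rfl
      · simpa [r', reassoc_of% e₁] using hc₂
  have h₂ : ψ ≫ θ = 𝟙 _ := by
    have e₁ : ψ ≫ r₁ = r := pullback.lift_fst _ _ _
    have e₂ : ψ ≫ r₂ = r' := pullback.lift_snd _ _ _
    apply pullback.hom_ext
    · simp only [Category.assoc, θ, pullback.lift_fst, Category.id_comp]
      apply pullback.hom_ext
      · simp only [Category.assoc, l, pullback.lift_fst]
        apply CartesianMonoidalCategory.hom_ext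
        · simp [r', z, comp_mul, GrpObj.comp_inv, reassoc_of% e₁, reassoc_of% e₂]
        · simpa [reassoc_of% e₁, z] using hz₂.symm
      · simp only [Category.assoc, l, pullback.lift_snd, reassoc_of% e₁]
        exact pullback.condition.symm
    · simp only [Category.assoc, θ, pullback.lift_snd, Category.id_comp]
      exact e₁
  have : IsIso θ := ⟨ψ, h₁, h₂⟩
  have hm := (IsPullback.of_hasPullback st (snd G X)).map (Over.forget S)
  have hsnd : LocallyQuasiFinite (pullback.snd st (snd G X)).left :=
    MorphismProperty.of_isPullback (P := @LocallyQuasiFinite) hm hF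
  have hr₁ : LocallyQuasiFinite r₁.left := by
    rw [show r₁ = θ ≫ pullback.snd st (snd G X) from (pullback.lift_snd _ _ _).symm]
    have : IsIso ((Over.forget S).map θ) := inferInstance
    exact (MorphismProperty.cancel_left_of_respectsIso @LocallyQuasiFinite
      ((Over.forget S).map θ) _).2 hsnd
  have hm' := (IsPullback.of_hasPullback d d).map (Over.forget S)
  have hfst : LocallyQuasiFinite (pullback.fst d.left d.left) := by
    have e : hm'.isoPullback.inv ≫ r₁.left = pullback.fst d.left d.left := hm'.isoPullback_inv_fst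
    rw [← e]
    exact (MorphismProperty.cancel_left_of_respectsIso @LocallyQuasiFinite _ _).2 hr₁
  refine LocallyQuasiFinite.of_finite_preimage_singleton d.left fun y => ?_
  rcases (d.left ⁻¹' {y}).eq_empty_or_nonempty with he | ⟨x, hx⟩
  · exact he ▸ Set.finite_empty
  · refine (((pullback.fst d.left d.left).finite_preimage_singleton x).image
      (pullback.snd d.left d.left)).subset fun x' hx' => ?_
    obtain ⟨q, hq₁, hq₂⟩ := Scheme.Pullback.exists_preimage_pullback (f := d.left) (g := d.left) x x'
      ((hx : d.left x = y).trans (hx' : d.left x' = y).symm)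
    exact ⟨q, hq₁, hq₂⟩

end Groth.Agent.GrpdLib.ActionGrpd
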