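import Groth.Agent.GrpdLib.MaxOpen
import Groth.Agent.GrpdLib.EffQuot
import Groth.Agent.GrpScheme.Basic

/-!
# The flat locus of the stabilizer of an action is invariant
-/

set_option autoImplicit false
set_option backward.isDefEq.respectTransparency false
set_option backward.isDefEq.respectTransparency.types false
universe u

open CategoryTheory MonoidalCategory CartesianMonoidalCategory MonObj GrpObj AlgebraicGeometry Limits

namespace Groth.Agent.GrpdLib.ActionStab

open GrpScheme.Basic (smul mul_smul' inv_smul_smul' one_smul')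

variable {S : Scheme.{u}} {G X : Over S} [GrpObj G] (a : AlgGrp.Action G X)

local notation "𝖽" => lift a.act (snd G X)
local notation "𝖾" => lift (𝟙 X) (𝟙 X)

lemma stab_fst_act : pullback.fst 𝖽 𝖾 ≫ a.act = pullback.snd 𝖽 𝖾 := by
  have h := congr($(pullback.condition (f := 𝖽) (g := 𝖾)) ≫ fst X X)
  simpa using h

lemma stab_fst_snd : pullback.fst 𝖽 𝖾 ≫ snd G X = pullback.snd 𝖽 𝖾 := by
  have h := congr($(pullback.condition (f := 𝖽) (g := 𝖾)) ≫ snd X X)
  simpa using h

/-- The point `(h, x)` underlying a point of the stabilizer. -/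
lemma stab_fst_eq {T : Over S} (z : T ⟶ pullback 𝖽 𝖾) :
    z ≫ pullback.fst 𝖽 𝖾 = lift (z ≫ pullback.fst 𝖽 𝖾 ≫ fst G X) (z ≫ pullback.snd 𝖽 𝖾) :=
  CartesianMonoidalCategory.hom_ext _ _ (by simp) (by simp [stab_fst_snd])

lemma stab_smul {T : Over S} (z : T ⟶ pullback 𝖽 𝖾) :
    smul a (z ≫ pullback.fst 𝖽 𝖾 ≫ fst G X) (z ≫ pullback.snd 𝖽 𝖾) = z ≫ pullback.snd 𝖽 𝖾 := by
  rw [smul, ← stab_fst_eq a z, Category.assoc, stab_fst_act]

lemma stab_hom_ext {T : Over S} {z z' : T ⟶ pullback 𝖽 𝖾}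
    (h₁ : z ≫ pullback.fst 𝖽 𝖾 ≫ fst G X = z' ≫ pullback.fst 𝖽 𝖾 ≫ fst G X)
    (h₂ : z ≫ pullback.snd 𝖽 𝖾 = z' ≫ pullback.snd 𝖽 𝖾) : z = z' := by
  refine pullback.hom_ext ?_ h₂
  rw [stab_fst_eq a z, stab_fst_eq a z', h₁, h₂]

/-- A point of the stabilizer. -/
lemma exists_stab {T : Over S} (h : T ⟶ G) (x : T ⟶ X) (e : smul a h x = x) :
    ∃ z : T ⟶ pullback 𝖽 𝖾, z ≫ pullback.fst 𝖽 𝖾 ≫ fst G X = h ∧ z ≫ pullback.snd 𝖽 𝖾 = x :=
  ⟨pullback.lift (lift h x) x (by
    rw [comp_lift, comp_lift, lift_snd, Category.comp_id]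
    exact congrArg (fun v => lift v x) e), by rw [pullback.lift_fst_assoc, lift_fst], pullback.lift_snd _ _ _⟩

/-- Conjugation identifies the pullbacks of the stabilizer along the action and the projection. -/
theorem exists_isPullback_act :
    ∃ pa : pullback (pullback.snd 𝖽 𝖾) (snd G X) ⟶ pullback 𝖽 𝖾,
      IsPullback pa (pullback.snd (pullback.snd 𝖽 𝖾) (snd G X)) (pullback.snd 𝖽 𝖾) a.act := by
  let p := pullback.fst (pullback.snd 𝖽 𝖾) (snd G X)
  let q := pullback.snd (pullback.snd 𝖽 𝖾) (snd G X)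
  let g := q ≫ fst G X
  let x := q ≫ snd G X
  let h := p ≫ pullback.fst 𝖽 𝖾 ≫ fst G X
  have hx : p ≫ pullback.snd 𝖽 𝖾 = x := pullback.condition
  have hh : smul a h x = x := by rw [← hx]; exact stab_smul a p
  have hq : q ≫ a.act = smul a g x := by
    simp only [smul, g, x, ← comp_lift_assoc, lift_fst_snd, Category.id_comp]
  obtain ⟨pa, hpa₁, hpa₂⟩ := exists_stab a (g * h * g⁻¹) (q ≫ a.act) (by
    rw [hq, mul_smul', inv_smul_smul', mul_smul', hh])
  have hL : ∀ c : PullbackCone (pullback.snd 𝖽 𝖾) a.act, ∃ z : c.pt ⟶ pullback 𝖽 𝖾,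
      z ≫ pullback.fst 𝖽 𝖾 ≫ fst G X =
        (c.snd ≫ fst G X)⁻¹ * (c.fst ≫ pullback.fst 𝖽 𝖾 ≫ fst G X) * (c.snd ≫ fst G X) ∧
      z ≫ pullback.snd 𝖽 𝖾 = c.snd ≫ snd G X := fun c => by
    refine exists_stab a _ _ ?_
    have e1 : c.fst ≫ pullback.snd 𝖽 𝖾 = smul a (c.snd ≫ fst G X) (c.snd ≫ snd G X) := by
      rw [c.condition]
      simp only [smul, ← comp_lift_assoc, lift_fst_snd, Category.id_comp]
    rw [mul_smul', mul_smul', ← e1, stab_smul, e1, inv_smul_smul']
  choose L hL₁ hL₂ using hL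
  refine ⟨pa, ⟨⟨hpa₂⟩, ⟨PullbackCone.IsLimit.mk _ (fun c => pullback.lift (L c) c.snd (hL₂ c))
    (fun c => ?_) (fun c => pullback.lift_snd _ _ _) (fun c m hm₁ hm₂ => ?_)⟩⟩⟩
  · refine stab_hom_ext a ?_ ?_
    · rw [Category.assoc, hpa₁]
      simp only [g, h, MonObj.comp_mul, GrpObj.comp_inv, p, q, pullback.lift_fst_assoc,
        pullback.lift_snd_assoc]
      rw [hL₁]
      group
    · rw [Category.assoc, hpa₂]
      simp only [q, pullback.lift_snd_assoc]
      exact c.condition.symm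
  · refine pullback.hom_ext ?_ (hm₂.trans (pullback.lift_snd _ _ _).symm)
    rw [pullback.lift_fst]
    refine stab_hom_ext a ?_ ?_
    · rw [hL₁, ← hm₁, ← hm₂]
      simp only [Category.assoc, hpa₁, g, h, MonObj.comp_mul, GrpObj.comp_inv, p, q]
      group
    · rw [hL₂, ← hm₂, Category.assoc, hx, Category.assoc]

/-- The locus of flatness of the stabilizer, as an invariant open containing every open of flatness. -/
theorem exists_invariant_flat_open [Flat G.hom] [LocallyOfFinitePresentation G.hom] [Surjective G.hom] :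
    ∃ W : X.left.Opens, Flat ((pullback.snd 𝖽 𝖾).left ∣_ W) ∧ a.act.left ⁻¹ᵁ W = (snd G X).left ⁻¹ᵁ W ∧
      ∀ W' : X.left.Opens, Flat ((pullback.snd 𝖽 𝖾).left ∣_ W') → W' ≤ W := by
  let f := (pullback.snd 𝖽 𝖾).left
  have : (RingHom.toMorphismProperty RingHom.Flat).RespectsIso :=
    RingHom.toMorphismProperty_respectsIso_iff.mp RingHom.Flat.respectsIso
  have hiff : ∀ (V : X.left.Opens), Flat (f ∣_ V) ↔ ∀ z, f z ∈ V → (f.stalkMap z).hom.Flat := fun V => by
    constructor
    · intro hV z hz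
      exact ((RingHom.toMorphismProperty RingHom.Flat).arrow_mk_iso_iff
        (morphismRestrictStalkMap f V ⟨z, hz⟩)).1 (Flat.stalkMap _ _)
    · intro hV
      exact Flat.of_stalkMap _ fun z => ((RingHom.toMorphismProperty RingHom.Flat).arrow_mk_iso_iff
        (morphismRestrictStalkMap f V z)).2 (hV z.1 z.2)
  let W : X.left.Opens := sSup {V | Flat (f ∣_ V)}
  have hW : Flat (f ∣_ W) := (hiff W).2 fun z hz => by
    obtain ⟨V, hV, hzV⟩ := TopologicalSpace.Opens.mem_sSup.1 hz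
    exact (hiff V).1 hV z hzV
  refine ⟨W, hW, ?_, fun W' h => le_sSup h⟩
  obtain ⟨pa, hpa⟩ := exists_isPullback_act a
  let Q : MorphismProperty Scheme.{u} := @Flat ⊓ @LocallyOfFinitePresentation
  have : MorphismProperty.IsLocalAtTarget @Flat (Scheme.precoverage Q) := flat_isLocalAtTarget_fppf
  have hs : ∀ b : G ⊗ X ⟶ X, (∀ (P : MorphismProperty Scheme.{u}) [P.IsStableUnderBaseChange], P G.hom → P b.left) →
      Presieve.singleton b.left ∈ Scheme.precoverage Q X.left := fun b hb => by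
    refine (Scheme.singleton_mem_precoverage_iff (P := Q) b.left).2
      ⟨(hb @Surjective inferInstance).surj, hb @Flat inferInstance, hb @LocallyOfFinitePresentation inferInstance⟩
  exact MaxOpen.preimage_eq (@Flat ⊓ @LocallyOfFinitePresentation : MorphismProperty Scheme.{u})
    (fun {A B} g hg => have : IsOpenImmersion g := hg; ⟨inferInstance, inferInstance⟩)
    (fun {A B} g hg => by
      have : Flat g := hg.1
      have : LocallyOfFinitePresentation g := hg.2
      exact g.isOpenMap)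
    @Flat f (snd G X).left a.act.left
    (pullback.fst (pullback.snd 𝖽 𝖾) (snd G X)).left pa.left (pullback.snd (pullback.snd 𝖽 𝖾) (snd G X)).left
    ((IsPullback.of_hasPullback (pullback.snd 𝖽 𝖾) (snd G X)).map (Over.forget S)) (hpa.map (Over.forget S))
    (hs _ fun P _ h => GrpScheme.Basic.snd_left_mem P h)
    (hs _ fun P _ h => GrpScheme.Basic.act_mem P a h) W hW fun W' h => le_sSup h

end Groth.Agent.GrpdLib.ActionStab
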