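import Groth.Prelude.Def_Grpd
import Mathlib.AlgebraicGeometry.PullbackCarrier

/-!
# Basic algebra of groupoid schemes

Composition, cancellation and the induced relation on the points of the underlying spaces.
-/

set_option linter.unusedSimpArgs false

universe u

open CategoryTheory CategoryTheory.Limits AlgebraicGeometry

namespace Groth.Agent.GrpdLib

variable {S : Scheme.{u}} (G : Grpd.GroupoidScheme S) {T T' : Scheme.{u}}

/-- The composite of two composable T-points of arrows. -/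
noncomputable def comp (α β : T ⟶ G.R) (h : α ≫ G.s = β ≫ G.t) : T ⟶ G.R :=
  pullback.lift α β h ≫ G.c

lemma comp_congr {α α' β β' : T ⟶ G.R} (h : α ≫ G.s = β ≫ G.t) (h' : α' ≫ G.s = β' ≫ G.t)
    (e₁ : α = α') (e₂ : β = β') : comp G α β h = comp G α' β' h' := by
  subst e₁ e₂; rfl

@[simp] lemma comp_s (α β : T ⟶ G.R) (h) : comp G α β h ≫ G.s = β ≫ G.s := G.comp_s α β h

@[simp] lemma comp_t (α β : T ⟶ G.R) (h) : comp G α β h ≫ G.t = α ≫ G.t := G.comp_t α β h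

@[reassoc (attr := simp)] lemma i_comp_s : G.i ≫ G.s = G.t := G.i_s

@[reassoc (attr := simp)] lemma i_comp_t : G.i ≫ G.t = G.s := G.i_t

@[reassoc (attr := simp)] lemma e_comp_s : G.e ≫ G.s = 𝟙 G.U := G.e_s

@[reassoc (attr := simp)] lemma e_comp_t : G.e ≫ G.t = 𝟙 G.U := G.e_t

@[reassoc (attr := simp)] lemma j_fst : G.j ≫ pullback.fst G.pU G.pU = G.t :=
  pullback.lift_fst _ _ _

@[reassoc (attr := simp)] lemma j_snd : G.j ≫ pullback.snd G.pU G.pU = G.s :=
  pullback.lift_snd _ _ _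

@[reassoc (attr := simp)] lemma diag_fst : G.diag ≫ pullback.fst G.pU G.pU = 𝟙 G.U :=
  pullback.lift_fst _ _ _

@[reassoc (attr := simp)] lemma diag_snd : G.diag ≫ pullback.snd G.pU G.pU = 𝟙 G.U :=
  pullback.lift_snd _ _ _

lemma stabilizer_fst_s : pullback.fst G.j G.diag ≫ G.s = pullback.snd G.j G.diag := by
  simpa using congrArg (· ≫ pullback.snd G.pU G.pU) (pullback.condition (f := G.j) (g := G.diag))

lemma stabilizer_fst_t : pullback.fst G.j G.diag ≫ G.t = pullback.snd G.j G.diag := by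
  simpa using congrArg (· ≫ pullback.fst G.pU G.pU) (pullback.condition (f := G.j) (g := G.diag))

lemma comp_assoc (α β γ : T ⟶ G.R) (h₁ : α ≫ G.s = β ≫ G.t) (h₂ : β ≫ G.s = γ ≫ G.t) :
    comp G (comp G α β h₁) γ ((comp_s G α β h₁).trans h₂) =
      comp G α (comp G β γ h₂) (h₁.trans (comp_t G β γ h₂).symm) :=
  G.assoc α β γ h₁ h₂

lemma naturality (f : T' ⟶ T) (α β : T ⟶ G.R) (h : α ≫ G.s = β ≫ G.t) :
    f ≫ comp G α β h = comp G (f ≫ α) (f ≫ β) (by simp [h]) := by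
  simp only [comp, ← Category.assoc]
  congr 1
  apply pullback.hom_ext
  · rw [Category.assoc, pullback.lift_fst, pullback.lift_fst]
  · rw [Category.assoc, pullback.lift_snd, pullback.lift_snd]

lemma comp_e (α : T ⟶ G.R) (x : T ⟶ G.U) (h : α ≫ G.s = (x ≫ G.e) ≫ G.t) :
    comp G α (x ≫ G.e) h = α := by
  have hx : x = α ≫ G.s := by simpa using h.symm
  subst hx
  exact (comp_congr G _ (by simp [G.e_t]) rfl (Category.assoc _ _ _)).trans (G.comp_e α)

lemma e_comp (α : T ⟶ G.R) (x : T ⟶ G.U) (h : (x ≫ G.e) ≫ G.s = α ≫ G.t) :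
    comp G (x ≫ G.e) α h = α := by
  have hx : x = α ≫ G.t := by simpa using h
  subst hx
  exact (comp_congr G _ (by simp [G.e_s]) (Category.assoc _ _ _) rfl).trans (G.e_comp α)

lemma comp_i (α : T ⟶ G.R) (h : α ≫ G.s = (α ≫ G.i) ≫ G.t) :
    comp G α (α ≫ G.i) h = (α ≫ G.t) ≫ G.e := by
  rw [Category.assoc]; exact G.comp_i α

lemma i_comp (α : T ⟶ G.R) (h : (α ≫ G.i) ≫ G.s = α ≫ G.t) :
    comp G (α ≫ G.i) α h = (α ≫ G.s) ≫ G.e := by
  rw [Category.assoc]; exact G.i_comp α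

lemma i_comp_cancel (α β : T ⟶ G.R) (h : α ≫ G.s = β ≫ G.t) :
    comp G (α ≫ G.i) (comp G α β h) (by simp) = β := by
  rw [← comp_assoc G (α ≫ G.i) α β (by simp) h]
  exact (comp_congr G _ (by simpa using h) (i_comp G α _) rfl).trans (e_comp G β _ _)

lemma comp_i_cancel (α β : T ⟶ G.R) (h : α ≫ G.t = β ≫ G.t) :
    comp G α (comp G (α ≫ G.i) β (by simp [h])) (by simp) = β := by
  rw [← comp_assoc G α (α ≫ G.i) β (by simp) (by simpa using h)]
  exact (comp_congr G _ (by simp [h]) (comp_i G α _) rfl).trans (e_comp G β _ _)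

lemma comp_cancel_right (α β : T ⟶ G.R) (h : α ≫ G.s = β ≫ G.t) :
    comp G (comp G α β h) (β ≫ G.i) (by simp) = α := by
  rw [comp_assoc G α β (β ≫ G.i) h (by simp)]
  exact (comp_congr G _ (by simp [h]) rfl (comp_i G β _)).trans (comp_e G α _ _)

lemma comp_inv_cancel_right (α β : T ⟶ G.R) (h : α ≫ G.s = β ≫ G.s) :
    comp G (comp G α (β ≫ G.i) (by simp [h])) β (by simp) = α := by
  rw [comp_assoc G α (β ≫ G.i) β (by simp [h]) (by simp)]
  exact (comp_congr G _ (by simp [h]) rfl (i_comp G β _)).trans (comp_e G α _ _)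

lemma c_s : G.c ≫ G.s = pullback.snd G.s G.t ≫ G.s := by
  have h := G.comp_s (pullback.fst G.s G.t) (pullback.snd G.s G.t) pullback.condition
  rwa [show pullback.lift (pullback.fst G.s G.t) (pullback.snd G.s G.t) pullback.condition =
    𝟙 _ by ext <;> simp, Category.id_comp] at h

lemma c_t : G.c ≫ G.t = pullback.fst G.s G.t ≫ G.t := by
  have h := G.comp_t (pullback.fst G.s G.t) (pullback.snd G.s G.t) pullback.condition
  rwa [show pullback.lift (pullback.fst G.s G.t) (pullback.snd G.s G.t) pullback.condition =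
    𝟙 _ by ext <;> simp, Category.id_comp] at h

lemma lift_c (α β : T ⟶ G.R) (h : α ≫ G.s = β ≫ G.t) :
    pullback.lift α β h ≫ G.c = comp G α β h := rfl

lemma i_i : G.i ≫ G.i = 𝟙 G.R := by
  have h1 := comp_cancel_right G (𝟙 G.R) G.i (by simp [G.i_t])
  rw [← h1]
  symm
  refine (comp_congr G _ (by simp [G.i_s, G.i_t, G.e_s]) ?_ rfl).trans
    (e_comp G (G.i ≫ G.i) G.t (by simp [G.e_s, G.i_t, G.i_s]))
  have := comp_i G (𝟙 G.R) (by simp [G.i_t])
  simpa using this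

/-! ## Points -/

lemma exists_comp_point {r₁ r₂ : G.R} (h : G.s r₁ = G.t r₂) :
    ∃ r : G.R, G.t r = G.t r₁ ∧ G.s r = G.s r₂ := by
  obtain ⟨z, h₁, h₂⟩ := Scheme.Pullback.exists_preimage_pullback r₁ r₂ h
  refine ⟨G.c z, ?_, ?_⟩
  · rw [← Scheme.Hom.comp_apply, c_t, Scheme.Hom.comp_apply, h₁]
  · rw [← Scheme.Hom.comp_apply, c_s, Scheme.Hom.comp_apply, h₂]

lemma t_i_apply (r : G.R) : G.t (G.i r) = G.s r := by
  rw [← Scheme.Hom.comp_apply, G.i_t]

lemma s_i_apply (r : G.R) : G.s (G.i r) = G.t r := by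
  rw [← Scheme.Hom.comp_apply, G.i_s]

lemma s_e_apply (u : G.U) : G.s (G.e u) = u := by
  rw [← Scheme.Hom.comp_apply, G.e_s]; rfl

lemma t_e_apply (u : G.U) : G.t (G.e u) = u := by
  rw [← Scheme.Hom.comp_apply, G.e_t]; rfl

/-- Two points of U are equivalent when they are target and source of an arrow. -/
def Rel (x y : G.U) : Prop := ∃ r : G.R, G.t r = x ∧ G.s r = y

lemma rel_equivalence : Equivalence (Rel G) where
  refl x := ⟨G.e x, t_e_apply G x, s_e_apply G x⟩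
  symm := fun ⟨r, h₁, h₂⟩ ↦ ⟨G.i r, (t_i_apply G r).trans h₂, (s_i_apply G r).trans h₁⟩
  trans := fun ⟨r₁, h₁, h₂⟩ ⟨r₂, h₃, h₄⟩ ↦ by
    obtain ⟨r, hr₁, hr₂⟩ := exists_comp_point G (h₂.trans h₃.symm)
    exact ⟨r, hr₁.trans h₁, hr₂.trans h₄⟩

lemma preimage_saturation (W : Set G.U) :
    ⇑G.s ⁻¹' (⇑G.t '' (⇑G.s ⁻¹' W)) = ⇑G.t ⁻¹' (⇑G.t '' (⇑G.s ⁻¹' W)) := by
  ext r
  constructor
  · rintro ⟨r₁, hw, h⟩
    obtain ⟨r', h₁, h₂⟩ := exists_comp_point G (r₁ := r) (r₂ := r₁) h.symm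
    exact ⟨r', by simpa [h₂] using hw, h₁⟩
  · rintro ⟨r₁, hw, h⟩
    obtain ⟨r', h₁, h₂⟩ := exists_comp_point G (r₁ := G.i r) (r₂ := r₁)
      ((s_i_apply G r).trans h.symm)
    exact ⟨r', by simpa [h₂] using hw, h₁.trans (t_i_apply G r)⟩

end Groth.Agent.GrpdLib
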