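import Groth.Agent.GrpdLib.AffineGrpd
import Mathlib.RingTheory.TensorProduct.Free

/-!
# Invariants when `t^* x_i` is a basis along `s`
-/

universe u

open CategoryTheory CategoryTheory.Limits AlgebraicGeometry

namespace Groth.Agent.GrpdLib

/-- A basis stays independent after a pushout. -/
lemma linearCombination_injective_of_isPushout {A A' B B' : CommRingCat.{u}} {φ : A ⟶ A'}
    {σ : A ⟶ B} {σ' : A' ⟶ B'} {ψ : B ⟶ B'} (h : IsPushout φ σ σ' ψ) {I : Type*}
    (b : letI := σ.hom.toAlgebra; Module.Basis I A B) {f g : I →₀ A'}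
    (e : f.sum (fun i a => σ' a * ψ (letI := σ.hom.toAlgebra; b i)) =
      g.sum (fun i a => σ' a * ψ (letI := σ.hom.toAlgebra; b i))) : f = g := by
  algebraize [φ.hom, σ.hom, σ'.hom, ψ.hom, σ'.hom.comp φ.hom]
  have : IsScalarTower A B B' := .of_algebraMap_eq' (congrArg CommRingCat.Hom.hom h.w)
  have hp : Algebra.IsPushout A A' B B' := CommRingCat.isPushout_iff_isPushout.mp h
  let b' := (Algebra.TensorProduct.basis A' b).map hp.out.equiv
  have hb : ∀ i, b' i = ψ (b i) := fun i => by
    simp [b', IsBaseChange.equiv_tmul, RingHom.algebraMap_toAlgebra]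
  have key : ∀ f : I →₀ A', f.sum (fun i a => σ' a * ψ (b i)) = Finsupp.linearCombination A' b' f :=
    fun f => by
      rw [Finsupp.linearCombination_apply]
      simp [hb, Algebra.smul_def, RingHom.algebraMap_toAlgebra]
  exact b'.linearIndependent (by rw [← key, ← key]; exact e)

variable {S : Scheme.{u}} (G : Grpd.GroupoidScheme S) [IsAffine G.U] [IsAffine G.R]
variable {I : Type*} {x : I → Γ(G.U, ⊤)}

lemma eq_of_sum_eq (b : letI := G.s.appTop.hom.toAlgebra; Module.Basis I Γ(G.U, ⊤) Γ(G.R, ⊤))
    (hb : letI := G.s.appTop.hom.toAlgebra; ∀ i, b i = G.t.appTop.hom (x i))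
    {f g : I →₀ Γ(G.U, ⊤)}
    (e : f.sum (fun i a => G.s.appTop.hom a * G.t.appTop.hom (x i)) =
      g.sum (fun i a => G.s.appTop.hom a * G.t.appTop.hom (x i))) : f = g := by
  let := G.s.appTop.hom.toAlgebra
  refine b.linearIndependent ?_
  simp only [Finsupp.linearCombination_apply, Algebra.smul_def, RingHom.algebraMap_toAlgebra, hb]
  exact e

lemma exists_repr_invariants
    (b : letI := G.s.appTop.hom.toAlgebra; Module.Basis I Γ(G.U, ⊤) Γ(G.R, ⊤))
    (hb : letI := G.s.appTop.hom.toAlgebra; ∀ i, b i = G.t.appTop.hom (x i)) (a : Γ(G.U, ⊤)) :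
    ∃ c : I →₀ G.invariants, a = c.sum (fun i c => (c : Γ(G.U, ⊤)) * x i) := by
  let := G.s.appTop.hom.toAlgebra
  let f := b.repr (G.t.appTop.hom a)
  have hf : G.t.appTop.hom a = f.sum (fun i a => G.s.appTop.hom a * b i) := by
    conv_lhs => rw [← b.linearCombination_repr (G.t.appTop.hom a)]
    simp [f, Finsupp.linearCombination_apply, Algebra.smul_def, RingHom.algebraMap_toAlgebra]
  have h1 := isPushout_appTop_of_isPullback (IsPullback.of_hasPullback G.s G.t).flip
  have h2 := isPushout_appTop_of_isPullback (S7457.result S G).2.flip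
  have hct : ∀ z, (pullback.fst G.s G.t).appTop (G.t.appTop z) = G.c.appTop (G.t.appTop z) := by
    intro z
    rw [← CommRingCat.comp_apply, ← CommRingCat.comp_apply, ← Scheme.Hom.comp_appTop,
      ← Scheme.Hom.comp_appTop, c_t]
  have hinv : f.mapRange G.t.appTop.hom (map_zero _) = f.mapRange G.s.appTop.hom (map_zero _) := by
    refine linearCombination_injective_of_isPushout h1 b ?_
    rw [Finsupp.sum_mapRange_index (by simp), Finsupp.sum_mapRange_index (by simp)]
    have e1 := congrArg (pullback.fst G.s G.t).appTop hf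
    have e2 := congrArg G.c.appTop hf
    rw [hct, e2] at e1
    simp only [map_finsuppSum, map_mul] at e1
    have w1 : ∀ z, (pullback.fst G.s G.t).appTop (G.s.appTop z) =
        (pullback.snd G.s G.t).appTop (G.t.appTop z) := fun z =>
      (congrArg (fun f => f.hom z) h1.w).symm
    have w2 : ∀ z, G.c.appTop (G.s.appTop z) = (pullback.snd G.s G.t).appTop (G.s.appTop z) :=
      fun z => (congrArg (fun f => f.hom z) h2.w).symm
    refine (Eq.trans ?_ e1.symm).trans ?_
    · refine Finsupp.sum_congr fun i _ => ?_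
      erw [w1]
    · refine Finsupp.sum_congr fun i _ => ?_
      rw [hb]
      erw [w2, hct]
  have hmem : ∀ i, f i ∈ G.invariants := fun i => by
    have := (DFunLike.congr_fun hinv i).symm
    simp only [Finsupp.mapRange_apply] at this
    exact this
  refine ⟨Finsupp.onFinset f.support (fun i => ⟨f i, hmem i⟩) (fun i hi => by
    simpa [Subtype.ext_iff] using hi), ?_⟩
  have := congrArg G.e.appTop.hom hf
  rw [e_app_t, map_finsuppSum] at this
  rw [Finsupp.onFinset_sum _ (by simp)]
  refine this.trans (Finset.sum_congr rfl fun i _ => ?_)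
  simp [e_app_s, hb, e_app_t]

end Groth.Agent.GrpdLib
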