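import Groth.Agent.GrpdLib.Quotient
import Mathlib.FieldTheory.IsAlgClosed.AlgebraicClosure
import Mathlib.AlgebraicGeometry.ResidueField

/-!
# The quotient map of a finite locally free groupoid
-/

universe u

set_option maxHeartbeats 400000

open CategoryTheory CategoryTheory.Limits AlgebraicGeometry

namespace Groth.Agent.GrpdLib

variable {S : Scheme.{u}} {G : Grpd.GroupoidScheme S} [IsFinite G.s] [Flat G.s]
  [LocallyOfFinitePresentation G.s]

variable (G) in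
/-- Every orbit lies in an affine open. -/
def OrbitsInAffines : Prop :=
  ∀ x : G.U, ∃ V : G.U.Opens, IsAffineOpen V ∧ ∀ r : G.R, G.s r = x → G.t r ∈ V

lemma InvAff.isIntegralHom_q (j : InvAff G) : IsIntegralHom j.q := by
  have : IsAffine j.res.U := j.2.1
  have : IsAffine j.res.R := j.2.1.preimage G.s
  have : IsFinite j.res.s :=
    MorphismProperty.of_isPullback (isPullback_morphismRestrict G.s j.1).flip ‹IsFinite G.s›
  have : Flat j.res.s :=
    MorphismProperty.of_isPullback (isPullback_morphismRestrict G.s j.1).flip ‹Flat G.s›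
  have : LocallyOfFinitePresentation j.res.s :=
    MorphismProperty.of_isPullback (isPullback_morphismRestrict G.s j.1).flip
      ‹LocallyOfFinitePresentation G.s›
  exact isIntegralHom_toQuot j.res

variable (hG : OrbitsInAffines G)
include hG

lemma exists_invAff (x : G.U) : ∃ j : InvAff G, x ∈ j.1 := by
  obtain ⟨V, hV, hx⟩ := hG x
  obtain ⟨W, hW, hxW, -, hinv⟩ := exists_invariant_affine G hV hx
  exact ⟨⟨W, hW, hinv⟩, hxW⟩

lemma isOpenCover_invAff : TopologicalSpace.IsOpenCover (fun j : InvAff G => j.1) :=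
  TopologicalSpace.IsOpenCover.mk (eq_top_iff.mpr fun x _ =>
    TopologicalSpace.Opens.mem_iSup.mpr (exists_invAff hG x))

/-- The invariant affine cover. -/
noncomputable def invCover : G.U.OpenCover :=
  G.U.openCoverOfIsOpenCover (fun j : InvAff G => j.1) (isOpenCover_invAff hG)

omit hG in
lemma q_incl_agree (i j : InvAff G) :
    pullback.fst i.1.ι j.1.ι ≫ i.q ≫ i.incl = pullback.snd i.1.ι j.1.ι ≫ j.q ≫ j.incl := by
  let φ : pullback i.1.ι j.1.ι ⟶ G.U := pullback.fst _ _ ≫ i.1.ι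
  have hcov : TopologicalSpace.IsOpenCover
      (fun l : {l : InvAff G // l ≤ i ∧ l ≤ j} => φ ⁻¹ᵁ l.1.1) := by
    refine TopologicalSpace.IsOpenCover.mk (eq_top_iff.mpr fun z _ => ?_)
    have hi : φ z ∈ i.1 := by
      show i.1.ι (pullback.fst i.1.ι j.1.ι z) ∈ i.1
      exact (pullback.fst i.1.ι j.1.ι z).2
    have hj : φ z ∈ j.1 := by
      rw [show φ = pullback.snd i.1.ι j.1.ι ≫ j.1.ι from pullback.condition]
      exact (pullback.snd i.1.ι j.1.ι z).2
    obtain ⟨l, hl, hlj, hli⟩ := exists_invAff_le (V := j.1)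
      (fun r hr => j.t_mem.mpr (by rw [hr]; exact hj)) i hi
    exact TopologicalSpace.Opens.mem_iSup.mpr ⟨⟨l, hli, hlj⟩, hl⟩
  refine Scheme.Cover.hom_ext (Scheme.openCoverOfIsOpenCover _ _ hcov) _ _ fun ⟨l, hli, hlj⟩ => ?_
  let m : (φ ⁻¹ᵁ l.1).toScheme ⟶ (l.1 : Scheme) := φ ∣_ l.1
  have h1 : (φ ⁻¹ᵁ l.1).ι ≫ pullback.fst _ _ = m ≫ G.U.homOfLE hli := by
    rw [← cancel_mono i.1.ι, Category.assoc, Category.assoc, Scheme.homOfLE_ι]
    exact (morphismRestrict_ι φ l.1).symm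
  have h2 : (φ ⁻¹ᵁ l.1).ι ≫ pullback.snd _ _ = m ≫ G.U.homOfLE hlj := by
    rw [← cancel_mono j.1.ι, Category.assoc, Category.assoc, Scheme.homOfLE_ι,
      ← pullback.condition]
    exact (morphismRestrict_ι φ l.1).symm
  show (φ ⁻¹ᵁ l.1).ι ≫ pullback.fst _ _ ≫ i.q ≫ i.incl =
    (φ ⁻¹ᵁ l.1).ι ≫ pullback.snd _ _ ≫ j.q ≫ j.incl
  rw [reassoc_of% h1, reassoc_of% h2, ← q_mapY_assoc hli, ← q_mapY_assoc hlj, mapY_incl, mapY_incl]

/-- The quotient map. -/
noncomputable def quotMap : G.U ⟶ quot G :=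
  (invCover hG).glueMorphisms (fun j => InvAff.q (G := G) j ≫ InvAff.incl j) q_incl_agree

@[reassoc]
lemma ι_quotMap (j : InvAff G) : j.1.ι ≫ quotMap hG = j.q ≫ j.incl :=
  Scheme.Cover.ι_glueMorphisms (invCover hG) _ _ j

lemma quotMap_apply (j : InvAff G) (x : (j.1 : Scheme)) : quotMap hG x.1 = j.incl (j.q x) := by
  rw [show quotMap hG x.1 = (j.1.ι ≫ quotMap hG) x from rfl, ι_quotMap, Scheme.Hom.comp_apply]

lemma quotMap_condition : G.t ≫ quotMap hG = G.s ≫ quotMap hG := by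
  refine Scheme.Cover.hom_ext (Scheme.openCoverOfIsOpenCover _
    (fun j : InvAff G => G.s ⁻¹ᵁ j.1) (TopologicalSpace.IsOpenCover.mk (eq_top_iff.mpr fun r _ =>
      TopologicalSpace.Opens.mem_iSup.mpr (exists_invAff hG (G.s r))))) _ _ fun j => ?_
  show (G.s ⁻¹ᵁ j.1).ι ≫ G.t ≫ _ = (G.s ⁻¹ᵁ j.1).ι ≫ G.s ≫ _
  rw [← Scheme.Hom.resLE_comp_ι_assoc G.t j.2.2.le, ← morphismRestrict_ι_assoc, ι_quotMap]
  rw [← Category.assoc, j.isAffQuot.w, Category.assoc]

lemma quotMap_eq_iff (x y : G.U) : quotMap hG x = quotMap hG y ↔ Rel G x y := by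
  obtain ⟨i, hi⟩ := exists_invAff hG x
  obtain ⟨j, hj⟩ := exists_invAff hG y
  exact (quotMap_apply hG i ⟨x, hi⟩).symm ▸ (quotMap_apply hG j ⟨y, hj⟩).symm ▸
    incl_q_eq_iff i j ⟨x, hi⟩ ⟨y, hj⟩

lemma surjective_quotMap : Function.Surjective (quotMap hG) := by
  intro y
  obtain ⟨j, z, rfl⟩ := Scheme.IsLocallyDirected.ι_jointly_surjective (diagram G) y
  obtain ⟨x, rfl⟩ := j.isAffQuot.surj z
  exact ⟨x.1, quotMap_apply hG j x⟩

lemma isOpenMap_quotMap : IsOpenMap (quotMap hG) := by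
  intro O hO
  have : (quotMap hG) '' O = ⋃ j : InvAff G, j.incl '' (j.q '' (j.1.ι ⁻¹' O)) := by
    ext y
    simp only [Set.mem_image, Set.mem_iUnion, Set.mem_preimage]
    constructor
    · rintro ⟨x, hx, rfl⟩
      obtain ⟨j, hj⟩ := exists_invAff hG x
      exact ⟨j, _, ⟨⟨x, hj⟩, hx, rfl⟩, (quotMap_apply hG j ⟨x, hj⟩).symm⟩
    · rintro ⟨j, _, ⟨x, hx, rfl⟩, rfl⟩
      exact ⟨x.1, hx, quotMap_apply hG j x⟩
  rw [this]
  exact isOpen_iUnion fun j => j.incl.isOpenEmbedding.isOpenMap _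
    (j.isAffQuot.isOpenMap _ (hO.preimage j.1.ι.continuous))

/-- The quotient is a coequalizer of schemes. -/
noncomputable def isColimitQuot : IsColimit (Cofork.ofπ (quotMap hG) (quotMap_condition hG)) :=
  Cofork.IsColimit.mk' _ fun c => by
    have hd : ∀ j : InvAff G, ∃ f : j.Y ⟶ c.pt, j.q ≫ f = j.1.ι ≫ c.π := fun j =>
      j.isAffQuot.exists_desc _ (by
        rw [Scheme.Hom.resLE_comp_ι_assoc, morphismRestrict_ι_assoc, c.condition])
    choose f hf using hd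
    let cc : Cocone (diagram G) :=
      { pt := c.pt
        ι :=
          { app := f
            naturality := fun i j φ => i.isAffQuot.hom_ext (by
              dsimp [diagram]
              rw [q_mapY_assoc, hf, Scheme.homOfLE_ι_assoc, Category.comp_id, hf]) } }
    refine ⟨colimit.desc (diagram G) cc, ?_, fun {m} hm => ?_⟩
    · refine Scheme.Cover.hom_ext (invCover hG) _ _ fun j => ?_
      show j.1.ι ≫ quotMap hG ≫ _ = j.1.ι ≫ c.π
      rw [ι_quotMap_assoc, ← hf j]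
      exact congrArg (j.q ≫ ·) (colimit.ι_desc cc j)
    · refine colimit.hom_ext (F := diagram G) fun (j : InvAff G) => j.isAffQuot.hom_ext ?_
      erw [colimit.ι_desc]
      show j.q ≫ j.incl ≫ m = j.q ≫ f j
      rw [hf, ← ι_quotMap_assoc hG, ← hm]
      rfl

lemma preimage_opensRange_incl (j : InvAff G) :
    quotMap hG ⁻¹ᵁ j.incl.opensRange = j.1.ι.opensRange := by
  ext x
  constructor
  · rintro ⟨z, hz⟩
    obtain ⟨y, rfl⟩ := j.isAffQuot.surj z
    rw [← quotMap_apply hG] at hz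
    obtain ⟨r, hr₁, hr₂⟩ := (quotMap_eq_iff hG _ _).mp hz
    refine ⟨⟨x, ?_⟩, rfl⟩
    rw [← hr₂]; exact j.t_mem.mp (by rw [hr₁]; exact y.2)
  · rintro ⟨y, rfl⟩
    exact ⟨j.q y, (quotMap_apply hG j y).symm⟩

lemma isPullback_incl (j : InvAff G) : IsPullback j.q j.1.ι j.incl (quotMap hG) :=
  IsOpenImmersion.isPullback _ _ _ _ (ι_quotMap hG j) (preimage_opensRange_incl hG j)

lemma isIntegralHom_quotMap : IsIntegralHom (quotMap hG) := by
  refine IsZariskiLocalAtTarget.of_openCover (P := @IsIntegralHom)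
    (Scheme.IsLocallyDirected.openCover (diagram G)) fun j => ?_
  have e := (isPullback_incl hG j).flip
  have h : IsIntegralHom (e.isoPullback.inv ≫ j.q) :=
    (MorphismProperty.cancel_left_of_respectsIso @IsIntegralHom _ _).mpr j.isIntegralHom_q
  rw [IsPullback.isoPullback_inv_snd] at h
  exact h

omit hG in
lemma InvAff.exists_arrow_point (j : InvAff G) {Ω : Type u} [Field Ω] [IsAlgClosed Ω]
    (x₀ x₁ : Spec (CommRingCat.of Ω) ⟶ (j.1 : Scheme)) (h : x₀ ≫ j.q = x₁ ≫ j.q) :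
    ∃ r : Spec (CommRingCat.of Ω) ⟶ G.R, r ≫ G.t = x₀ ≫ j.1.ι ∧ r ≫ G.s = x₁ ≫ j.1.ι := by
  have : IsAffine j.res.U := j.2.1
  have : IsAffine j.res.R := j.2.1.preimage G.s
  have : IsFinite j.res.s :=
    MorphismProperty.of_isPullback (isPullback_morphismRestrict G.s j.1).flip ‹IsFinite G.s›
  have : Flat j.res.s :=
    MorphismProperty.of_isPullback (isPullback_morphismRestrict G.s j.1).flip ‹Flat G.s›
  have : LocallyOfFinitePresentation j.res.s :=
    MorphismProperty.of_isPullback (isPullback_morphismRestrict G.s j.1).flip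
      ‹LocallyOfFinitePresentation G.s›
  obtain ⟨r, hr, hr'⟩ : ∃ r : Spec (CommRingCat.of Ω) ⟶ ((G.s ⁻¹ᵁ j.1 : G.R.Opens) : Scheme),
      r ≫ G.t.resLE j.1 (G.s ⁻¹ᵁ j.1) j.2.2.le = x₀ ∧ r ≫ G.s ∣_ j.1 = x₁ :=
    (point_eq_iff j.res Ω x₀ x₁).mp h
  refine ⟨r ≫ (G.s ⁻¹ᵁ j.1).ι, ?_, ?_⟩
  · rw [Category.assoc, ← Scheme.Hom.resLE_comp_ι G.t j.2.2.le, ← hr]
    exact (Category.assoc _ _ _).symm
  · rw [Category.assoc, ← morphismRestrict_ι, ← hr']
    exact (Category.assoc _ _ _).symm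

lemma exists_geometric_arrow {Ω : Type u} [Field Ω] [IsAlgClosed Ω]
    (ψ : Spec (CommRingCat.of Ω) ⟶ pullback (quotMap hG) (quotMap hG)) :
    ∃ r : Spec (CommRingCat.of Ω) ⟶ G.R, r ≫ pullback.lift G.t G.s (quotMap_condition hG) = ψ := by
  let y₀ := ψ ≫ pullback.fst (quotMap hG) (quotMap hG)
  let y₁ := ψ ≫ pullback.snd (quotMap hG) (quotMap hG)
  have hy : y₀ ≫ quotMap hG = y₁ ≫ quotMap hG := by simp [y₀, y₁, pullback.condition]
  let w : Spec (CommRingCat.of Ω) := (⊥ : PrimeSpectrum Ω)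
  obtain ⟨j, hj⟩ := exists_invAff hG (y₀ w)
  have huniq : ∀ v : Spec (CommRingCat.of Ω), v = w := fun v => Subsingleton.elim _ _
  have hj' : y₁ w ∈ j.1 := by
    obtain ⟨r, hr₁, hr₂⟩ := (quotMap_eq_iff hG (y₀ w) (y₁ w)).mp (by
      rw [← Scheme.Hom.comp_apply, hy, Scheme.Hom.comp_apply])
    rw [← hr₂]; exact j.t_mem.mp (by rw [hr₁]; exact hj)
  have hr₀ : Set.range y₀ ⊆ Set.range j.1.ι := by
    rintro _ ⟨v, rfl⟩; rw [Scheme.Opens.range_ι, huniq v]; exact hj
  have hr₁ : Set.range y₁ ⊆ Set.range j.1.ι := by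
    rintro _ ⟨v, rfl⟩; rw [Scheme.Opens.range_ι, huniq v]; exact hj'
  have hq : IsOpenImmersion.lift j.1.ι y₀ hr₀ ≫ j.q = IsOpenImmersion.lift j.1.ι y₁ hr₁ ≫ j.q := by
    rw [← cancel_mono j.incl, Category.assoc, Category.assoc, ← ι_quotMap hG,
      IsOpenImmersion.lift_fac_assoc, IsOpenImmersion.lift_fac_assoc, hy]
  obtain ⟨r, hr, hr'⟩ := j.exists_arrow_point _ _ hq
  refine ⟨r, ?_⟩
  rw [IsOpenImmersion.lift_fac] at hr hr'
  apply pullback.hom_ext
  · rw [Category.assoc, pullback.lift_fst, hr]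
  · rw [Category.assoc, pullback.lift_snd, hr']

omit [IsFinite G.s] [Flat G.s] [LocallyOfFinitePresentation G.s] hG in
lemma exists_geometric_point (X : Scheme.{u}) (z : X) :
    ∃ (Ω : Type u) (_ : Field Ω) (_ : IsAlgClosed Ω) (ψ : Spec (CommRingCat.of Ω) ⟶ X),
      ∀ w, ψ w = z :=
  let k := X.residueField z
  let φ : CommRingCat.of k ⟶ CommRingCat.of (AlgebraicClosure k) :=
    CommRingCat.ofHom (algebraMap k (AlgebraicClosure k))
  ⟨_, inferInstance, inferInstance, Spec.map φ ≫ X.fromSpecResidueField z,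
    fun w => by rw [Scheme.Hom.comp_apply]; exact Scheme.fromSpecResidueField_apply _ _⟩

lemma surjective_lift :
    Function.Surjective (pullback.lift G.t G.s (quotMap_condition hG)) := by
  intro z
  obtain ⟨Ω, _, _, ψ, hψ⟩ := exists_geometric_point _ z
  obtain ⟨r, hr⟩ := exists_geometric_arrow hG ψ
  refine ⟨r (⊥ : PrimeSpectrum Ω), ?_⟩
  rw [← Scheme.Hom.comp_apply, hr]
  exact hψ _

lemma isAffine_quot [IsAffine G.U] : IsAffine (quot G) := by
  have : IsAffine G.R := isAffine_of_isAffineHom G.s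
  have h := isAffQuot_toQuot G
  obtain ⟨f, hf⟩ := h.exists_desc (quotMap hG) (quotMap_condition hG)
  obtain ⟨g, hg⟩ : ∃ g, quotMap hG ≫ g = G.toQuot :=
    ⟨(isColimitQuot hG).desc (Cofork.ofπ G.toQuot h.w),
      Cofork.IsColimit.π_desc (isColimitQuot hG)⟩
  have h1 : f ≫ g = 𝟙 _ := h.hom_ext (by rw [reassoc_of% hf, hg, Category.comp_id])
  have h2 : g ≫ f = 𝟙 _ := Cofork.IsColimit.hom_ext (isColimitQuot hG) (by
    simp only [Cofork.π_ofπ]; rw [reassoc_of% hg, hf]; exact (Category.comp_id _).symm)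
  have : IsIso g := ⟨f, h2, h1⟩
  exact .of_isIso g

end Groth.Agent.GrpdLib
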