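import Groth.Agent.GrpdLib.DenseSatBasic
import Groth.Agent.S1936
import Groth.Agent.S2081
import Groth.Agent.S7508
import Groth.Agent.AlgSp.FppfLocal2
import Groth.Agent.GrpdLib.EffQuot
import Groth.Agent.FlatMor.GenericPts

/-!
# A dense saturated open with a quasi-section
-/

set_option autoImplicit false
set_option linter.style.haveILetI false
set_option maxHeartbeats 400000
set_option backward.isDefEq.respectTransparency false
set_option backward.isDefEq.respectTransparency.types false

universe u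

open CategoryTheory CategoryTheory.Limits AlgebraicGeometry TopologicalSpace

namespace Groth.Agent.GrpdLib.DenseSat

/-- Finite locally free. -/
abbrev PF : MorphismProperty Scheme.{u} :=
  (@IsFinite ⊓ @Flat ⊓ @LocallyOfFinitePresentation : MorphismProperty Scheme.{u})

lemma sSup_restrict {X Y : Scheme.{u}} (P : MorphismProperty Scheme.{u}) [IsZariskiLocalAtTarget P]
    (f : X ⟶ Y) : P (f ∣_ sSup {V : Y.Opens | P (f ∣_ V)}) := by
  set 𝒲 := {V : Y.Opens | P (f ∣_ V)}
  refine IsZariskiLocalAtTarget.of_iSup_eq_top (fun V : 𝒲 => (sSup 𝒲).ι ⁻¹ᵁ V.1) ?_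
    fun V => (restrict_restrict P f _ _ (le_sSup V.2)).2 V.2
  refine eq_top_iff.2 fun x _ => ?_
  obtain ⟨V, hV, hxV⟩ := Opens.mem_sSup.1 x.2
  exact Opens.mem_iSup.2 ⟨⟨V, hV⟩, hxV⟩

lemma eq_of_specializes_of_lqf {X Y : Scheme.{u}} (f : X ⟶ Y) [LocallyQuasiFinite f] {x x' : X}
    (h : x ⤳ x') (e : f x = f x') : x = x' := by
  have : DiscreteTopology (f ⁻¹' {f x'}) := (f.isDiscrete_preimage_singleton (f x')).to_subtype
  exact congrArg Subtype.val ((subtype_specializes_iff
    (⟨x, e⟩ : f ⁻¹' {f x'}) ⟨x', rfl⟩).2 h).eq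

/-- A finite type flat quasi-finite map of noetherian schemes is finite over a dense open. -/
lemma exists_dense_isFinite {X Y : Scheme.{u}} (f : X ⟶ Y) [IsNoetherian Y] [LocallyOfFiniteType f]
    [QuasiCompact f] [Flat f] [LocallyQuasiFinite f] :
    ∃ V : Y.Opens, Dense (V : Set Y) ∧ IsFinite (f ∣_ V) := by
  have := LocallyOfFiniteType.isLocallyNoetherian f
  have : CompactSpace X := QuasiCompact.compactSpace_of_compactSpace f
  have : IsNoetherian X := {}
  refine Groth.Agent.S2081.result f NoetherianSpace.finite_irreducibleComponents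
    NoetherianSpace.finite_irreducibleComponents fun x =>
    ⟨FlatMor.GenericPts.generic_of_generalizingMap (Flat.generalizingMap f) f.continuous, fun hx => ?_⟩
  rw [FlatMor.GenericPts.closure_mem_irreducibleComponents_iff] at hx ⊢
  intro z hz
  have h1 := hz.map f.continuous
  have : f z = f x := (h1.antisymm (hx _ h1)).eq
  exact (eq_of_specializes_of_lqf f hz this).symm ▸ specializes_rfl

variable {S : Scheme.{u}} (G : Grpd.GroupoidScheme S)

/-- The two base changes of the source map of the arrows into a subscheme agree. -/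
lemma exists_isPullback_sV_s {X : Scheme.{u}} (u : X ⟶ G.U) :
    ∃ pb, IsPullback pb (pullback.snd (sV G u) G.t) (sV G u) G.s := by
  let p₁ := pullback.fst (sV G u) G.t
  let p₂ := pullback.snd (sV G u) G.t
  let M : pullback (sV G u) G.t ⟶ pullback G.s G.t := pullback.lift (p₁ ≫ pullback.fst G.t u) p₂
    (by rw [Category.assoc]; exact pullback.condition)
  have hM : IsPullback p₁ M (pullback.fst G.t u) (pullback.fst G.s G.t) := by
    refine IsPullback.of_bot ?_ (pullback.lift_fst _ _ _).symm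
      (IsPullback.of_hasPullback G.s G.t)
    rw [pullback.lift_snd]
    exact IsPullback.of_hasPullback (sV G u) G.t
  let pb : pullback (sV G u) G.t ⟶ pullback G.t u := pullback.lift (M ≫ G.c) (p₁ ≫ pullback.snd G.t u) (by
    rw [Category.assoc, c_t, ← Category.assoc, pullback.lift_fst, Category.assoc, Category.assoc,
      pullback.condition])
  have hpb : IsPullback M pb G.c (pullback.fst G.t u) := by
    refine IsPullback.of_bot ?_ (pullback.lift_fst _ _ _).symm (IsPullback.of_hasPullback G.t u)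
    rw [pullback.lift_snd, c_t]
    exact hM.flip.paste_vert (IsPullback.of_hasPullback G.t u)
  refine ⟨pb, ?_⟩
  have h3 := hpb.flip.paste_vert (MaxOpen.isPullback_c_snd G)
  rw [pullback.lift_snd] at h3
  exact h3

/-- The source map of a restriction along an open is a restriction of the source map. -/
lemma exists_isPullback_sV_restrictMono (A : G.U.Opens) {X : Scheme.{u}} (g : X ⟶ (A : Scheme.{u})) :
    ∃ M, IsPullback M (sV (restrictMono G A.ι) g) (sV G (g ≫ A.ι)) A.ι := by
  let sA := pullback.fst G.t A.ι ≫ G.s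
  let fR : rmR G A.ι ⟶ pullback G.t A.ι := pullback.fst sA A.ι
  let lK : pullback G.t (g ≫ A.ι) ⟶ pullback G.t A.ι :=
    pullback.lift (pullback.fst G.t (g ≫ A.ι)) (pullback.snd G.t (g ≫ A.ι) ≫ g)
      (by rw [Category.assoc]; exact pullback.condition)
  have hK : IsPullback lK (pullback.snd G.t (g ≫ A.ι)) (pullback.snd G.t A.ι) g := by
    refine IsPullback.of_right ?_ (pullback.lift_snd _ _ _) (IsPullback.of_hasPullback G.t A.ι)
    rw [pullback.lift_fst]
    exact IsPullback.of_hasPullback G.t (g ≫ A.ι)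
  have hQ : IsPullback (pullback.fst (rmT G A.ι) g) (pullback.snd (rmT G A.ι) g) (rmT G A.ι) g :=
    IsPullback.of_hasPullback _ _
  let M : pullback (rmT G A.ι) g ⟶ pullback G.t (g ≫ A.ι) :=
    pullback.lift (pullback.fst (rmT G A.ι) g ≫ rmι G A.ι) (pullback.snd (rmT G A.ι) g)
      (by rw [Category.assoc, rmι_t, pullback.condition_assoc])
  have hMl : M ≫ lK = pullback.fst (rmT G A.ι) g ≫ fR := by
    apply pullback.hom_ext
    · simp [M, lK, fR, rmι, sA]
    · rw [Category.assoc, pullback.lift_snd, pullback.lift_snd_assoc, ← pullback.condition,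
        Category.assoc]
      rfl
  have hM : IsPullback (pullback.fst (rmT G A.ι) g) M fR lK := by
    refine IsPullback.of_bot ?_ hMl.symm hK
    rw [pullback.lift_snd]
    exact hQ
  have h3 := hM.flip.paste_vert (IsPullback.of_hasPullback sA A.ι)
  refine ⟨M, ?_⟩
  have e : lK ≫ sA = sV G (g ≫ A.ι) := pullback.lift_fst_assoc _ _ _ _
  rw [e] at h3
  exact h3

lemma restrictMono_lqf_stab (A : G.U.Opens) [LocallyQuasiFinite G.j] [LocallyOfFiniteType G.j] :
    LocallyQuasiFinite (restrictMono G A.ι).stabilizerToU ∧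
      LocallyOfFiniteType (restrictMono G A.ι).stabilizerToU := by
  let H := restrictMono G A.ι
  let k : pullback H.pU H.pU ⟶ pullback G.pU G.pU :=
    pullback.map H.pU H.pU G.pU G.pU A.ι A.ι (𝟙 S) (Category.comp_id _) (Category.comp_id _)
  have e : H.j ≫ k = rmι G A.ι ≫ G.j := by
    apply pullback.hom_ext
    · rw [Category.assoc, pullback.lift_fst, j_fst_assoc, Category.assoc, j_fst, rmι_t]
      rfl
    · rw [Category.assoc, pullback.lift_snd, j_snd_assoc, Category.assoc, j_snd, rmι_s]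
      rfl
  have : IsOpenImmersion (rmι G A.ι) := by
    unfold rmι; infer_instance
  have h1 : LocallyQuasiFinite H.j := by
    have : LocallyQuasiFinite (H.j ≫ k) := by rw [e]; infer_instance
    exact LocallyQuasiFinite.of_comp H.j k
  have h2 : LocallyOfFiniteType H.j := by
    have : LocallyOfFiniteType (H.j ≫ k) := by rw [e]; infer_instance
    exact locallyOfFiniteType_of_comp H.j k
  exact ⟨inferInstanceAs (LocallyQuasiFinite (pullback.snd H.j H.diag)),
    inferInstanceAs (LocallyOfFiniteType (pullback.snd H.j H.diag))⟩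

lemma range_invariant {X : Scheme.{u}} (u : X ⟶ G.U) {x y : G.U} (h : Rel G x y) :
    x ∈ Set.range (sV G u) ↔ y ∈ Set.range (sV G u) := by
  have hr : ∀ z, z ∈ Set.range (sV G u) ↔ ∃ a, Rel G (u a) z := fun z => by
    constructor
    · rintro ⟨v, rfl⟩
      refine ⟨pullback.snd G.t u v, pullback.fst G.t u v, ?_, rfl⟩
      rw [← Scheme.Hom.comp_apply, pullback.condition, Scheme.Hom.comp_apply]
    · rintro ⟨a, r, hr₁, hr₂⟩
      obtain ⟨v, hv₁, -⟩ := Scheme.Pullback.exists_preimage_pullback (f := G.t) (g := u) r a hr₁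
      exact ⟨v, by rw [sV, Scheme.Hom.comp_apply, hv₁, hr₂]⟩
  rw [hr, hr]
  exact exists_congr fun a => ⟨fun h' => (rel_equivalence G).trans h' h,
    fun h' => (rel_equivalence G).trans h' ((rel_equivalence G).symm h)⟩

variable [IsNoetherian S] [Flat G.s] [LocallyOfFiniteType G.s] [QuasiCompact G.s]
  [LocallyOfFiniteType G.pU] [QuasiCompact G.pU] [LocallyQuasiFinite G.j] [LocallyOfFiniteType G.j]

omit [Flat G.s] [LocallyOfFiniteType G.s] [QuasiCompact G.s] [LocallyQuasiFinite G.j]
  [LocallyOfFiniteType G.j] in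
lemma isNoetherian_U : IsNoetherian G.U := by
  have := LocallyOfFiniteType.isLocallyNoetherian G.pU
  have : CompactSpace G.U := QuasiCompact.compactSpace_of_compactSpace G.pU
  exact {}

/-- Every non-empty saturated open contains a non-empty good saturated open. -/
theorem exists_good_le (O : G.U.Opens) (hO : G.s ⁻¹ᵁ O = G.t ⁻¹ᵁ O) (hne : (O : Set G.U).Nonempty) :
    ∃ W : G.U.Opens, Good G W ∧ W ≤ O ∧ (W : Set G.U).Nonempty := by
  have := isNoetherian_U G
  have : LocallyOfFinitePresentation G.s := inferInstance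
  have : Flat G.t := t_property G (P := @Flat) inferInstance
  have : LocallyOfFinitePresentation G.t := t_property G (P := @LocallyOfFinitePresentation) inferInstance
  obtain ⟨A, hA₁, -, -, hA₄⟩ := Groth.Agent.S1936.result S G
  let A' : G.U.Opens := A ⊓ O
  have hne' : Nonempty (A' : Scheme.{u}) := by
    obtain ⟨x, hx⟩ := hne
    obtain ⟨r, hr, rfl⟩ := hA₄.symm.subset (Set.mem_univ x)
    exact ⟨⟨G.t r, hr, (mem_iff G hO r).1 hx⟩⟩
  let H := restrictMono G A'.ι
  let σA := pullback.fst G.t A'.ι ≫ G.s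
  have : LocallyOfFinitePresentation σA := inferInstance
  have hlfps : LocallyOfFinitePresentation H.s :=
    inferInstanceAs (LocallyOfFinitePresentation (pullback.snd σA A'.ι))
  have hs : ∀ r, Grpd.IsCMAt H.s r := fun r => by
    rw [Groth.Agent.FlatOpen.GrpdCM.grpd_isCMAt_iff]
    refine Groth.Agent.FlatOpen.GrpdCM.isCMAt_baseChange (f := σA) (g := A'.ι)
      (IsPullback.of_hasPullback σA A'.ι) r ?_
    refine Groth.Agent.FlatOpen.GrpdCM.isCMAt_comp _ _ _
      (Groth.Agent.FlatOpen.GrpdCM.isCMAt_openImmersion _ _) ?_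
    rw [← Groth.Agent.FlatOpen.GrpdCM.grpd_isCMAt_iff]
    refine hA₁.subset ?_
    show G.t _ ∈ A
    rw [← Scheme.Hom.comp_apply, pullback.condition, Scheme.Hom.comp_apply]
    exact (pullback.snd G.t A'.ι _).2.1
  have : IsIso H.i := isIso_i H
  have hlfpt : LocallyOfFinitePresentation H.t :=
    t_property H (P := @LocallyOfFinitePresentation) hlfps
  have ht : ∀ r, Grpd.IsCMAt H.t r := fun r => by
    rw [Groth.Agent.FlatOpen.GrpdCM.grpd_isCMAt_iff, ← H.i_s]
    exact Groth.Agent.FlatOpen.GrpdCM.isCMAt_comp _ _ _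
      (Groth.Agent.FlatOpen.GrpdCM.isCMAt_openImmersion _ _)
      ((Groth.Agent.FlatOpen.GrpdCM.grpd_isCMAt_iff _ _).1 (hs _))
  obtain ⟨hq₁, hq₂⟩ := restrictMono_lqf_stab G A'
  have : IsLocallyNoetherian (A' : Scheme.{u}) := inferInstance
  have : CompactSpace (A' : Scheme.{u}) := isCompact_iff_compactSpace.mp (NoetherianSpace.isCompact _)
  obtain ⟨x, -, hx⟩ := IsClosed.exists_closed_singleton (X := (A' : Scheme.{u})) isClosed_univ
    Set.univ_nonempty
  have hxft : LocallyOfFiniteType ((A' : Scheme.{u}).fromSpecResidueField x) := by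
    have : IsClosedImmersion ((A' : Scheme.{u}).fromSpecResidueField x) :=
      IsClosedImmersion.of_isPreimmersion _ (by rw [Scheme.range_fromSpecResidueField]; exact hx)
    infer_instance
  obtain ⟨X, hX, g, x', hgi, hgf, hgx, ⟨hf, hlfp, -, hlqf⟩, -, -⟩ :=
    Groth.Agent.S7508.result S H hs ht x hxft
  let u₀ : X ⟶ G.U := g ≫ A'.ι
  have : IsLocallyNoetherian X := LocallyOfFiniteType.isLocallyNoetherian (u₀ ≫ G.pU)
  have : IsNoetherian X := {}
  have hP : Flat (sV H g) ∧ LocallyOfFinitePresentation (sV H g) ∧ LocallyQuasiFinite (sV H g) := by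
    have e : sV H g = (pullbackSymmetry H.t g).hom ≫ pullback.snd g H.t ≫ H.s := by
      rw [sV, pullbackSymmetry_hom_comp_snd_assoc]
    rw [e]
    exact ⟨inferInstance, inferInstance, inferInstance⟩
  obtain ⟨M, hM⟩ := exists_isPullback_sV_restrictMono G A' g
  let f := sV G u₀ ∣_ A'
  have hopens : A'.ι.opensRange = A' := Scheme.Opens.opensRange_ι A'
  have hfl : Flat f := by
    have h := (restrict_of_isPullback @Flat hM).1 hP.1
    rwa [hopens] at h
  have hfp : LocallyOfFinitePresentation f := by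
    have h := (restrict_of_isPullback @LocallyOfFinitePresentation hM).1 hP.2.1
    rwa [hopens] at h
  have hfq : LocallyQuasiFinite f := by
    have h := (restrict_of_isPullback @LocallyQuasiFinite hM).1 hP.2.2
    rwa [hopens] at h
  have : QuasiCompact (sV G u₀) := inferInstanceAs (QuasiCompact (pullback.fst G.t u₀ ≫ G.s))
  have : QuasiCompact f := IsZariskiLocalAtTarget.restrict ‹QuasiCompact (sV G u₀)› A'
  have : IsNoetherian (A' : Scheme.{u}) := {}
  obtain ⟨D, hD, hDfin⟩ := exists_dense_isFinite f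
  let W₀ : G.U.Opens := sSup {V : G.U.Opens | PF (sV G u₀ ∣_ V)}
  have hW₀ : PF (sV G u₀ ∣_ W₀) := sSup_restrict PF _
  have hDW : A'.ι ''ᵁ D ≤ W₀ := by
    refine le_sSup ?_
    show PF (sV G u₀ ∣_ A'.ι ''ᵁ D)
    rw [← PF.arrow_mk_iso_iff (morphismRestrictRestrict (sV G u₀) A' D)]
    exact ⟨⟨hDfin, IsZariskiLocalAtTarget.restrict hfl D⟩, IsZariskiLocalAtTarget.restrict hfp D⟩
  have hW₀inv : G.s ⁻¹ᵁ W₀ = G.t ⁻¹ᵁ W₀ := by
    obtain ⟨pb, hpb⟩ := exists_isPullback_sV_s G u₀
    let Q : MorphismProperty Scheme.{u} := @Flat ⊓ @LocallyOfFinitePresentation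
    have : MorphismProperty.IsLocalAtTarget @IsFinite (Scheme.precoverage Q) :=
      inferInstanceAs (MorphismProperty.IsLocalAtTarget @IsFinite Scheme.fppfPrecoverage.{u})
    have : MorphismProperty.IsLocalAtTarget @Flat (Scheme.precoverage Q) := flat_isLocalAtTarget_fppf
    have : MorphismProperty.IsLocalAtTarget @LocallyOfFinitePresentation (Scheme.precoverage Q) :=
      inferInstanceAs (MorphismProperty.IsLocalAtTarget @LocallyOfFinitePresentation
        Scheme.fppfPrecoverage.{u})
    have hK : ∀ b : G.R ⟶ G.U, Surjective b → Flat b → LocallyOfFinitePresentation b →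
        Presieve.singleton b ∈ Scheme.precoverage Q G.U := fun b h₁ h₂ h₃ =>
      (Scheme.singleton_mem_precoverage_iff (P := Q) b).2 ⟨h₁.surj, h₂, h₃⟩
    exact MaxOpen.preimage_eq Q
      (fun {A B} g hg => have : IsOpenImmersion g := hg; ⟨inferInstance, inferInstance⟩)
      (fun {A B} g hg => have : Flat g := hg.1; have : LocallyOfFinitePresentation g := hg.2; g.isOpenMap)
      PF (sV G u₀) G.t G.s _ pb _ (IsPullback.of_hasPullback _ _) hpb
      (hK _ ⟨fun y => ⟨G.e y, t_e_apply G y⟩⟩ inferInstance inferInstance)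
      (hK _ ⟨fun y => ⟨G.e y, s_e_apply G y⟩⟩ inferInstance inferInstance)
      W₀ hW₀ fun W' h => le_sSup h
  have hopen : IsOpen ((W₀ : Set G.U) ∩ Set.range (sV G u₀)) := by
    have : Flat (sV G u₀ ∣_ W₀) := hW₀.1.2
    have : LocallyOfFinitePresentation (sV G u₀ ∣_ W₀) := hW₀.2
    have h := W₀.ι.isOpenEmbedding.isOpenMap _ ((sV G u₀ ∣_ W₀).isOpenMap.isOpen_range)
    convert h using 1
    ext y
    constructor
    · rintro ⟨hy, v, rfl⟩
      exact ⟨_, ⟨⟨v, hy⟩, rfl⟩, by
        rw [← Scheme.Hom.comp_apply, morphismRestrict_ι]; rfl⟩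
    · rintro ⟨_, ⟨v, rfl⟩, rfl⟩
      rw [← Scheme.Hom.comp_apply, morphismRestrict_ι]
      exact ⟨v.2, v.1, rfl⟩
  let W : G.U.Opens := ⟨_, hopen⟩
  have hWinv : G.s ⁻¹ᵁ W = G.t ⁻¹ᵁ W := by
    ext r
    show (G.s r ∈ W₀ ∧ G.s r ∈ Set.range _) ↔ (G.t r ∈ W₀ ∧ G.t r ∈ Set.range _)
    rw [mem_iff G hW₀inv r, ← range_invariant G u₀ ⟨r, rfl, rfl⟩]
  refine ⟨W, ⟨hWinv, _, u₀ ∣_ W, ?_, ?_, ?_, ?_⟩, ?_, ?_⟩
  · exact IsZariskiLocalAtTarget.restrict (P := @IsImmersion) inferInstance W
  · exact isCompact_iff_compactSpace.mp (NoetherianSpace.isCompact _)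
  · intro F hF
    have : CompactSpace (u₀ ⁻¹ᵁ W : X.Opens).toScheme :=
      isCompact_iff_compactSpace.mp (NoetherianSpace.isCompact _)
    have : (u₀ ⁻¹ᵁ W : X.Opens).toScheme.IsQuasiAffine :=
      Scheme.IsQuasiAffine.of_isImmersion (u₀ ⁻¹ᵁ W).ι
    exact exists_affine_of_finite_of_isQuasiAffine hF
  · refine (sV_restrict_iff G PQS W hWinv u₀ _ _ (isPullback_morphismRestrict u₀ W).flip).2 ⟨?_, ?_⟩
    · exact (restrict_restrict PF (sV G u₀) W₀ W fun y hy => hy.1).1
        (IsZariskiLocalAtTarget.restrict hW₀ _)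
    · refine ⟨fun y => ?_⟩
      obtain ⟨v, hv⟩ := y.2.2
      refine ⟨⟨v, show sV G u₀ v ∈ W from hv ▸ y.2⟩, W.ι.isOpenEmbedding.injective ?_⟩
      rw [← Scheme.Hom.comp_apply, morphismRestrict_ι]
      exact hv
  · rintro y ⟨-, v, rfl⟩
    show G.s (pullback.fst G.t u₀ v) ∈ O
    rw [mem_iff G hO, ← Scheme.Hom.comp_apply, pullback.condition]
    exact (g (pullback.snd G.t u₀ v)).2.2
  · obtain ⟨q, hq⟩ := Scheme.Pullback.exists_preimage_pullback (f := H.t) (g := g) (H.e x) x'
      (by rw [t_e_apply]; exact hgx.symm)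
    have hopf : IsOpen (Set.range f) := f.isOpenMap.isOpen_range
    obtain ⟨d, ⟨v, hv⟩, hdD⟩ := hD.inter_open_nonempty _ hopf
      ⟨_, ⟨⟨M q, by
        show sV G u₀ (M q) ∈ A'
        rw [← Scheme.Hom.comp_apply, hM.w, Scheme.Hom.comp_apply]
        exact (sV H g q).2⟩, rfl⟩⟩
    refine ⟨A'.ι d, hDW ⟨d, hdD, rfl⟩, v.1, ?_⟩
    rw [← hv, ← Scheme.Hom.comp_apply, morphismRestrict_ι]
    rfl

/-- A dense saturated open with a quasi-section. -/
theorem exists_dense_good : ∃ W : G.U.Opens, Good G W ∧ Dense (W : Set G.U) := by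
  have := isNoetherian_U G
  have : LocallyOfFinitePresentation G.s := inferInstance
  have : Flat G.t := t_property G (P := @Flat) inferInstance
  have : LocallyOfFinitePresentation G.t := t_property G (P := @LocallyOfFinitePresentation) inferInstance
  obtain ⟨W, hW, hmax⟩ := (wellFounded_gt (α := G.U.Opens)).has_min {W | Good G W} ⟨⊥, good_bot G⟩
  refine ⟨W, hW, ?_⟩
  by_contra hnd
  let O : G.U.Opens := ⟨(closure (W : Set G.U))ᶜ, isClosed_closure.isOpen_compl⟩
  have hO : G.s ⁻¹ᵁ O = G.t ⁻¹ᵁ O := by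
    obtain ⟨hW', -⟩ := hW
    ext r
    show G.s r ∉ closure (W : Set G.U) ↔ G.t r ∉ closure (W : Set G.U)
    rw [← Set.mem_preimage (f := G.s), ← Set.mem_preimage (f := G.t),
      G.s.isOpenMap.preimage_closure_eq_closure_preimage G.s.continuous,
      G.t.isOpenMap.preimage_closure_eq_closure_preimage G.t.continuous]
    exact not_congr (by rw [show G.s ⁻¹' (W : Set G.U) = G.t ⁻¹' (W : Set G.U) from
      congrArg (fun V : G.R.Opens => (V : Set G.R)) hW'])
  have hne : (O : Set G.U).Nonempty :=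
    Set.nonempty_compl.2 fun h => hnd (dense_iff_closure_eq.2 h)
  obtain ⟨W₁, hW₁, hle, y, hy⟩ := exists_good_le G O hO hne
  have hd : Disjoint W W₁ := disjoint_iff_inf_le.2 fun z hz => hle hz.2 (subset_closure hz.1)
  refine hmax _ (good_sup G hW hW₁ hd) ?_
  exact lt_of_le_not_ge le_sup_left fun h => hle hy (subset_closure (h (Or.inr hy)))

/-- The quotient of a dense saturated open. -/
theorem exists_dense_saturated_open_quotient :
    ∃ (W : G.U.Opens) (hW : G.t ⁻¹ᵁ W = G.s ⁻¹ᵁ W), Dense (W : Set G.U) ∧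
      ∃ (V : Scheme.{u}) (p : (W : Scheme.{u}) ⟶ V)
        (w : G.t.resLE W (G.s ⁻¹ᵁ W) hW.ge ≫ p = (G.s ∣_ W) ≫ p) (q : V ⟶ S),
        Nonempty (IsColimit (Cofork.ofπ p w)) ∧ p ≫ q = W.ι ≫ G.pU ∧
        Surjective p ∧ IsOpenMap p.base ∧ LocallyOfFinitePresentation p ∧
        LocallyOfFinitePresentation q ∧ QuasiCompact q ∧ QuasiSeparated q ∧
        Function.Surjective (pullback.lift (G.t.resLE W (G.s ⁻¹ᵁ W) hW.ge) (G.s ∣_ W) w).base ∧
        (Mono G.j → IsPullback (G.t.resLE W (G.s ⁻¹ᵁ W) hW.ge) (G.s ∣_ W) p p ∧ Flat p) := by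
  have := isNoetherian_U G
  have : LocallyOfFinitePresentation G.s := inferInstance
  obtain ⟨W, ⟨hW, X, u, hu, hc, hf, hP⟩, hdense⟩ := exists_dense_good G
  let H := restrict G W hW
  have h : IsQuasiSection H u := isQuasiSection_of_good hu hf hP
  have : Flat H.s := IsZariskiLocalAtTarget.restrict ‹Flat G.s› W
  have : LocallyOfFinitePresentation H.s :=
    IsZariskiLocalAtTarget.restrict ‹LocallyOfFinitePresentation G.s› W
  have : Flat H.t := t_property H (P := @Flat) inferInstance
  have hpU : LocallyOfFiniteType H.pU := inferInstanceAs (LocallyOfFiniteType (W.ι ≫ G.pU))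
  have : LocallyOfFiniteType (u ≫ H.pU) := by
    have : LocallyOfFiniteType u := inferInstance
    exact MorphismProperty.comp_mem _ _ _ this hpU
  obtain ⟨q, hq, hqft⟩ := exists_structure_map H h
  have : CompactSpace h.Y := by
    have := h.surjective_p
    have : CompactSpace (W : Scheme.{u}) := isCompact_iff_compactSpace.mp (NoetherianSpace.isCompact _)
    have : CompactSpace H.U := ‹CompactSpace (W : Scheme.{u})›
    exact ⟨h.p.surjective.range_eq ▸ isCompact_range h.p.continuous⟩
  have : IsLocallyNoetherian h.Y := LocallyOfFiniteType.isLocallyNoetherian q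
  have : IsNoetherian h.Y := {}
  have : LocallyOfFiniteType (h.p ≫ q) := by rw [hq]; exact hpU
  have : LocallyOfFiniteType h.p := locallyOfFiniteType_of_comp h.p q
  have hmono : Mono G.j → Mono H.j := fun hj => by
    refine ⟨fun {T} a b e => ?_⟩
    have ht : a ≫ H.t = b ≫ H.t := by
      have := congrArg (· ≫ pullback.fst _ _) e
      simp only [Category.assoc] at this
      rwa [j_fst] at this
    have hs : a ≫ H.s = b ≫ H.s := by
      have := congrArg (· ≫ pullback.snd _ _) e
      simp only [Category.assoc] at this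
      rwa [j_snd] at this
    refine (cancel_mono (G.s ⁻¹ᵁ W).ι).mp (eq_of_comp_t_s G ?_ ?_)
    · rw [Category.assoc, Category.assoc, ← Scheme.Hom.resLE_comp_ι G.t hW.le, ← Category.assoc,
        ← Category.assoc]
      exact congrArg (· ≫ W.ι) ht
    · rw [Category.assoc, Category.assoc, ← morphismRestrict_ι, ← Category.assoc, ← Category.assoc]
      exact congrArg (· ≫ W.ι) hs
  refine ⟨W, hW.symm, hdense, h.Y, h.p, h.p_condition, q, ⟨h.isColimit⟩, hq, h.surjective_p,
    h.isOpenMap_p (isOpenMap_t H), inferInstanceAs (LocallyOfFinitePresentation h.p), inferInstance,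
    inferInstance, inferInstance, h.surjective_lift_p, fun hj => ?_⟩
  have := hmono hj
  exact ⟨h.isPullback_p, h.flat_p⟩

end Groth.Agent.GrpdLib.DenseSat
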