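import Mathlib
import Groth.Agent.GrpdLib.Basic

/-!
# Invariance of largest opens with a property which is local on the target
-/

set_option autoImplicit false
set_option linter.style.haveILetI false
universe u

open CategoryTheory CategoryTheory.Limits AlgebraicGeometry

namespace Groth.Agent.GrpdLib.MaxOpen

variable {X U R Pb : Scheme.{u}}

/-- If the base changes of `f` along `a` and `b` agree, then `a ⁻¹ W ≤ b ⁻¹ W` for the largest open
`W` over which `f` has `P`. -/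
theorem preimage_le (Q : MorphismProperty Scheme.{u}) [Q.IsStableUnderBaseChange]
    [Q.IsStableUnderComposition] (hopen : ∀ {X Y : Scheme.{u}} (g : X ⟶ Y), IsOpenImmersion g → Q g)
    (P : MorphismProperty Scheme.{u}) [P.IsLocalAtTarget (Scheme.precoverage Q)]
    (f : X ⟶ U) (a b : R ⟶ U) (pa pb : Pb ⟶ X) (q : Pb ⟶ R)
    (ha : IsPullback pa q f a) (hb : IsPullback pb q f b)
    (has : Surjective a) (haQ : Q a) (hbQ : Q b) (hbo : IsOpenMap b)
    (W : U.Opens) (hW : P (f ∣_ W)) (hmax : ∀ W' : U.Opens, P (f ∣_ W') → W' ≤ W) :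
    a ⁻¹ᵁ W ≤ b ⁻¹ᵁ W := by
  let V : R.Opens := a ⁻¹ᵁ W
  let W' : U.Opens := ⟨b '' V, hbo _ V.2⟩
  have hV' : V ≤ b ⁻¹ᵁ W' := fun x hx => ⟨x, hx, rfl⟩
  let ka : (V : Scheme.{u}) ⟶ W := a.resLE W V le_rfl
  let kb : (V : Scheme.{u}) ⟶ W' := b.resLE W' V hV'
  have hka : ka ≫ W.ι = V.ι ≫ a := Scheme.Hom.resLE_comp_ι _ _
  have hkb : kb ≫ W'.ι = V.ι ≫ b := Scheme.Hom.resLE_comp_ι _ _
  have cov : ∀ {T : Scheme.{u}} {O : U.Opens} (k : T ⟶ O) (g : T ⟶ U), k ≫ O.ι = g → Q g →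
      (∀ y : O, ∃ x, k x = y) → Presieve.singleton k ∈ Scheme.precoverage Q (O : Scheme.{u}) := by
    intro T O k g hk hg hsurj
    refine (Scheme.singleton_mem_precoverage_iff (P := Q) k).2 ⟨hsurj, ?_⟩
    have sq : IsPullback (𝟙 T) k (k ≫ O.ι) O.ι := .of_horiz_isIso_mono ⟨by simp⟩
    exact Q.of_isPullback sq (hk ▸ hg)
  have hca : Presieve.singleton ka ∈ Scheme.precoverage Q (W : Scheme.{u}) := by
    refine cov ka _ hka (Q.comp_mem _ _ (hopen _ inferInstance) haQ) fun y => ?_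
    obtain ⟨x, hx⟩ := has.surj y.1
    refine ⟨⟨x, by change a x ∈ W; rw [hx]; exact y.2⟩, W.ι.injective ?_⟩
    exact (Scheme.Hom.comp_apply _ _ _).symm.trans
      ((congrArg (fun φ : (V : Scheme.{u}) ⟶ U => φ _) hka).trans hx)
  have hcb : Presieve.singleton kb ∈ Scheme.precoverage Q (W' : Scheme.{u}) := by
    refine cov kb _ hkb (Q.comp_mem _ _ (hopen _ inferInstance) hbQ) fun y => ?_
    obtain ⟨x, hx, e⟩ := y.2
    refine ⟨⟨x, hx⟩, W'.ι.injective ?_⟩
    exact (Scheme.Hom.comp_apply _ _ _).symm.trans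
      ((congrArg (fun φ : (V : Scheme.{u}) ⟶ U => φ _) hkb).trans e)
  have sq : ∀ {O : U.Opens} (c : R ⟶ U) (p : Pb ⟶ X) (k : (V : Scheme.{u}) ⟶ O),
      IsPullback p q f c → k ≫ O.ι = V.ι ≫ c →
      ∃ x, IsPullback x (q ∣_ V) (f ∣_ O) k := fun {O} c p k hp hk => by
    have sA := (isPullback_morphismRestrict q V).flip.paste_horiz hp
    have sB := (isPullback_morphismRestrict f O).flip
    have hw : ((q ⁻¹ᵁ V).ι ≫ p) ≫ f = ((q ∣_ V) ≫ k) ≫ O.ι := by
      rw [sA.w, Category.assoc, hk]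
    refine ⟨sB.lift _ _ hw, IsPullback.of_right ?_ (sB.lift_snd _ _ hw) sB⟩
    rw [sB.lift_fst, hk]
    exact sA
  have hq : P (q ∣_ V) := by
    obtain ⟨x, hx⟩ := sq a pa ka ha hka
    have := P.cancel_left_of_respectsIso hx.isoPullback.inv (q ∣_ V)
    rw [← this, hx.isoPullback_inv_snd]
    exact MorphismProperty.IsLocalAtTarget.pullbackSnd hca (.mk) hW
  have hW' : P (f ∣_ W') := by
    refine MorphismProperty.IsLocalAtTarget.of_forall_pullbackSnd hcb ?_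
    rintro _ _ _ ⟨⟩
    obtain ⟨x, hx⟩ := sq b pb kb hb hkb
    rw [← hx.isoPullback_inv_snd]
    exact (P.cancel_left_of_respectsIso _ _).2 hq
  exact fun x hx => hmax W' hW' ⟨x, hx, rfl⟩

theorem preimage_eq (Q : MorphismProperty Scheme.{u}) [Q.IsStableUnderBaseChange]
    [Q.IsStableUnderComposition] (hopen : ∀ {X Y : Scheme.{u}} (g : X ⟶ Y), IsOpenImmersion g → Q g)
    (hQo : ∀ {X Y : Scheme.{u}} (g : X ⟶ Y), Q g → IsOpenMap g)
    (P : MorphismProperty Scheme.{u}) [P.IsLocalAtTarget (Scheme.precoverage Q)]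
    (f : X ⟶ U) (a b : R ⟶ U) (pa pb : Pb ⟶ X) (q : Pb ⟶ R)
    (ha : IsPullback pa q f a) (hb : IsPullback pb q f b)
    (haK : Presieve.singleton a ∈ Scheme.precoverage Q U)
    (hbK : Presieve.singleton b ∈ Scheme.precoverage Q U)
    (W : U.Opens) (hW : P (f ∣_ W)) (hmax : ∀ W' : U.Opens, P (f ∣_ W') → W' ≤ W) :
    b ⁻¹ᵁ W = a ⁻¹ᵁ W := by
  obtain ⟨has, haQ⟩ := (Scheme.singleton_mem_precoverage_iff (P := Q) a).1 haK
  obtain ⟨hbs, hbQ⟩ := (Scheme.singleton_mem_precoverage_iff (P := Q) b).1 hbK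
  exact le_antisymm
    (preimage_le Q hopen P f b a pb pa q hb ha ⟨hbs⟩
      hbQ haQ (hQo _ haQ) W hW hmax)
    (preimage_le Q hopen P f a b pa pb q ha hb ⟨has⟩
      haQ hbQ (hQo _ hbQ) W hW hmax)

variable {S : Scheme.{u}} (G : Grpd.GroupoidScheme S)

theorem isPullback_c_snd : IsPullback G.c (pullback.snd G.s G.t) G.s G.s := by
  refine ⟨⟨c_s G⟩, ⟨PullbackCone.IsLimit.mk _
    (fun c => pullback.lift (comp G c.fst (c.snd ≫ G.i) ?_) c.snd ?_)
    (fun c => ?_) (fun c => pullback.lift_snd _ _ _) (fun c m hm₁ hm₂ => ?_)⟩⟩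
  · simp [c.condition]
  · simp
  · rw [lift_c]
    exact comp_inv_cancel_right G c.fst c.snd c.condition
  · apply pullback.hom_ext
    · rw [pullback.lift_fst]
      have h : (m ≫ pullback.fst G.s G.t) ≫ G.s = c.snd ≫ G.t := by
        rw [Category.assoc, pullback.condition, reassoc_of% hm₂]
      have hm : comp G (m ≫ pullback.fst G.s G.t) c.snd h = c.fst := by
        rw [← lift_c]
        refine Eq.trans ?_ hm₁
        congr 1
        apply pullback.hom_ext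
        · rw [pullback.lift_fst]
        · rw [pullback.lift_snd, hm₂]
      refine (comp_cancel_right G _ _ h).symm.trans ?_
      exact comp_congr G _ (by simp [c.condition]) hm rfl
    · rw [pullback.lift_snd, hm₂]


/-- The arrow underlying a point of the stabilizer. -/
noncomputable def sFst : G.stabilizer ⟶ G.R := pullback.fst G.j G.diag

theorem stab_loop {T : Scheme.{u}} (x : T ⟶ G.stabilizer) :
    (x ≫ (sFst G)) ≫ G.s = x ≫ G.stabilizerToU ∧
      (x ≫ (sFst G)) ≫ G.t = x ≫ G.stabilizerToU :=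
  ⟨(Category.assoc _ _ _).trans (congrArg (x ≫ ·) (stabilizer_fst_s G)),
    (Category.assoc _ _ _).trans (congrArg (x ≫ ·) (stabilizer_fst_t G))⟩

/-- A loop at `y` gives a point of the stabilizer. -/
theorem exists_stab_point {T : Scheme.{u}} (g : T ⟶ G.R) (y : T ⟶ G.U) (hs : g ≫ G.s = y)
    (ht : g ≫ G.t = y) :
    ∃ x : T ⟶ G.stabilizer, x ≫ (sFst G) = g ∧ x ≫ G.stabilizerToU = y :=
  ⟨pullback.lift g y (by apply pullback.hom_ext <;> simp [hs, ht]),
    pullback.lift_fst _ _ _, pullback.lift_snd _ _ _⟩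

theorem stab_hom_ext {T : Scheme.{u}} {x y : T ⟶ G.stabilizer}
    (h₁ : x ≫ (sFst G) = y ≫ (sFst G))
    (h₂ : x ≫ G.stabilizerToU = y ≫ G.stabilizerToU) : x = y :=
  pullback.hom_ext h₁ h₂

/-- Conjugation of a loop at `a.s` to a loop at `a.t`. -/
theorem exists_up {T : Scheme.{u}} (x : T ⟶ G.stabilizer) (a : T ⟶ G.R)
    (h : x ≫ G.stabilizerToU = a ≫ G.s) :
    ∃ (x' : T ⟶ G.stabilizer) (h₁ : (x ≫ (sFst G)) ≫ G.s = (a ≫ G.i) ≫ G.t)
      (h₂ : a ≫ G.s = comp G (x ≫ (sFst G)) (a ≫ G.i) h₁ ≫ G.t),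
      x' ≫ (sFst G) =
          comp G a (comp G (x ≫ (sFst G)) (a ≫ G.i) h₁) h₂ ∧
        x' ≫ G.stabilizerToU = a ≫ G.t := by
  obtain ⟨l₁, l₂⟩ := stab_loop G x
  have h₁ : (x ≫ (sFst G)) ≫ G.s = (a ≫ G.i) ≫ G.t := by
    rw [l₁, h, Category.assoc, i_comp_t]
  have h₂ : a ≫ G.s = comp G (x ≫ (sFst G)) (a ≫ G.i) h₁ ≫ G.t := by
    rw [comp_t, l₂, h]
  obtain ⟨x', hx₁, hx₂⟩ := exists_stab_point G
    (comp G a (comp G (x ≫ (sFst G)) (a ≫ G.i) h₁) h₂) (a ≫ G.t) (by simp) (by simp)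
  exact ⟨x', h₁, h₂, hx₁, hx₂⟩

/-- Conjugation of a loop at `a.t` to a loop at `a.s`. -/
theorem exists_down {T : Scheme.{u}} (x : T ⟶ G.stabilizer) (a : T ⟶ G.R)
    (h : x ≫ G.stabilizerToU = a ≫ G.t) :
    ∃ (x' : T ⟶ G.stabilizer) (h₁ : (x ≫ (sFst G)) ≫ G.s = a ≫ G.t)
      (h₂ : (a ≫ G.i) ≫ G.s = comp G (x ≫ (sFst G)) a h₁ ≫ G.t),
      x' ≫ (sFst G) =
          comp G (a ≫ G.i) (comp G (x ≫ (sFst G)) a h₁) h₂ ∧
        x' ≫ G.stabilizerToU = a ≫ G.s := by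
  obtain ⟨l₁, l₂⟩ := stab_loop G x
  have h₁ : (x ≫ (sFst G)) ≫ G.s = a ≫ G.t := by rw [l₁, h]
  have h₂ : (a ≫ G.i) ≫ G.s = comp G (x ≫ (sFst G)) a h₁ ≫ G.t := by
    rw [comp_t, l₂, h, Category.assoc, i_comp_s]
  obtain ⟨x', hx₁, hx₂⟩ := exists_stab_point G
    (comp G (a ≫ G.i) (comp G (x ≫ (sFst G)) a h₁) h₂) (a ≫ G.s) (by simp) (by simp)
  exact ⟨x', h₁, h₂, hx₁, hx₂⟩

theorem down_up {T : Scheme.{u}} (g a : T ⟶ G.R) (h₁ : g ≫ G.s = (a ≫ G.i) ≫ G.t)
    (h₂ : a ≫ G.s = comp G g (a ≫ G.i) h₁ ≫ G.t)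
    (h₃ : comp G a (comp G g (a ≫ G.i) h₁) h₂ ≫ G.s = a ≫ G.t)
    (h₄ : (a ≫ G.i) ≫ G.s = comp G (comp G a (comp G g (a ≫ G.i) h₁) h₂) a h₃ ≫ G.t) :
    comp G (a ≫ G.i) (comp G (comp G a (comp G g (a ≫ G.i) h₁) h₂) a h₃) h₄ = g := by
  have hga : a ≫ G.s = g ≫ G.t := by simpa using h₂
  have hgs : g ≫ G.s = a ≫ G.s := by simpa using h₁
  refine (comp_congr G _ (by simp) rfl ?_).trans (i_comp_cancel G a g hga)
  refine (comp_congr G _ ?_ (comp_assoc G a g (a ≫ G.i) hga h₁).symm rfl).trans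
    (comp_inv_cancel_right G (comp G a g hga) a (by simp [hgs]))
  simp

theorem up_down {T : Scheme.{u}} (g a : T ⟶ G.R) (h₁ : g ≫ G.s = a ≫ G.t)
    (h₂ : (a ≫ G.i) ≫ G.s = comp G g a h₁ ≫ G.t)
    (h₃ : comp G (a ≫ G.i) (comp G g a h₁) h₂ ≫ G.s = (a ≫ G.i) ≫ G.t)
    (h₄ : a ≫ G.s = comp G (comp G (a ≫ G.i) (comp G g a h₁) h₂) (a ≫ G.i) h₃ ≫ G.t) :
    comp G a (comp G (comp G (a ≫ G.i) (comp G g a h₁) h₂) (a ≫ G.i) h₃) h₄ = g := by
  have hgt : a ≫ G.t = g ≫ G.t := by simpa using h₂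
  refine (comp_congr G _ ?_ rfl ?_).trans (comp_i_cancel G a g hgt)
  · simp [hgt]
  refine (comp_congr G _ ?_ (comp_assoc G (a ≫ G.i) g a (by simp [hgt]) h₁).symm rfl).trans
    (comp_cancel_right G _ _ (by simp [h₁]))
  simp

/-- Conjugation identifies the two base changes of the stabilizer. -/
theorem exists_isPullback_stab : ∃ pb : pullback G.stabilizerToU G.t ⟶ G.stabilizer,
    IsPullback pb (pullback.snd G.stabilizerToU G.t) G.stabilizerToU G.s := by
  obtain ⟨pb, h₁, h₂, hpb₁, hpb₂⟩ := exists_down G (pullback.fst G.stabilizerToU G.t)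
    (pullback.snd G.stabilizerToU G.t) pullback.condition
  choose up u₁ u₂ hup₁ hup₂ using fun (c : PullbackCone G.stabilizerToU G.s) =>
    exists_up G c.fst c.snd c.condition
  refine ⟨pb, ⟨⟨hpb₂⟩, ⟨PullbackCone.IsLimit.mk _ (fun c => pullback.lift (up c) c.snd (hup₂ c))
    (fun c => ?_) (fun c => pullback.lift_snd _ _ _) (fun c m hm₁ hm₂ => ?_)⟩⟩⟩
  · refine stab_hom_ext G ?_ ?_
    · rw [Category.assoc, hpb₁, naturality]
      refine (comp_congr G _ ?_ ?_ ?_).trans (down_up G _ _ (u₁ c) (u₂ c) ?_ ?_)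
      · simp
      · rw [← Category.assoc, pullback.lift_snd]
      · rw [naturality]
        refine comp_congr G _ _ ?_ (pullback.lift_snd _ _ _)
        rw [← Category.assoc, pullback.lift_fst]; exact hup₁ c
      · simp
      · simp
    · rw [Category.assoc, hpb₂, ← Category.assoc, pullback.lift_snd]
      exact c.condition.symm
  · apply pullback.hom_ext
    · rw [pullback.lift_fst]
      refine stab_hom_ext G ?_ ?_
      · have hd := congrArg (· ≫ (sFst G)) hm₁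
        simp only [Category.assoc, hpb₁, naturality] at hd
        rw [hup₁ c]
        have hg₁ : ((m ≫ pullback.fst G.stabilizerToU G.t) ≫ (sFst G)) ≫ G.s =
            c.snd ≫ G.t := by
          rw [(stab_loop G _).1, Category.assoc, pullback.condition, reassoc_of% hm₂]
        have hg₂ : ((m ≫ pullback.fst G.stabilizerToU G.t) ≫ (sFst G)) ≫ G.t =
            c.snd ≫ G.t := by
          rw [(stab_loop G _).2, Category.assoc, pullback.condition, reassoc_of% hm₂]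
        refine (up_down G _ c.snd hg₁ ?_ ?_ ?_).symm.trans ?_
        · simpa using hg₂.symm
        · simp
        · simp [hg₂]
        refine comp_congr G _ _ rfl (comp_congr G _ _ ?_ rfl)
        refine Eq.trans ?_ hd
        exact comp_congr G _ _ (by rw [← Category.assoc, hm₂])
          (comp_congr G _ _ (Category.assoc _ _ _) hm₂.symm)
      · rw [hup₂ c, Category.assoc, pullback.condition, reassoc_of% hm₂]
    · rw [pullback.lift_snd, hm₂]

end Groth.Agent.GrpdLib.MaxOpen
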