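import Groth.Agent.GrpdLib.QuasiSection
import Groth.Agent.GrpdLib.FiniteInAffine
import Groth.Agent.GrpdLib.MaxOpen
import Mathlib.RingTheory.Adjoin.Tower
import Mathlib.AlgebraicGeometry.Noetherian

/-!
# Quasi-sections over saturated opens
-/

set_option autoImplicit false
set_option linter.style.haveILetI false
set_option maxHeartbeats 400000
set_option backward.isDefEq.respectTransparency false
set_option backward.isDefEq.respectTransparency.types false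

universe u

open CategoryTheory CategoryTheory.Limits AlgebraicGeometry TopologicalSpace

namespace Groth.Agent.GrpdLib.DenseSat

/-- Finite locally free and surjective. -/
abbrev PQS : MorphismProperty Scheme.{u} :=
  (@IsFinite ⊓ @Flat ⊓ @LocallyOfFinitePresentation : MorphismProperty Scheme.{u}) ⊓ @Surjective

/-- Every finite set lies in an affine open. -/
def FinAff (X : Scheme.{u}) : Prop :=
  ∀ F : Set X, F.Finite → ∃ V : X.Opens, IsAffineOpen V ∧ F ⊆ V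

lemma isPullback_of_range {X' X O Y : Scheme.{u}} (m : X' ⟶ X) (u'' : X' ⟶ O) (u : X ⟶ Y)
    (j : O ⟶ Y) [IsOpenImmersion m] [IsOpenImmersion j] (w : m ≫ u = u'' ≫ j)
    (hr : ∀ x, u x ∈ Set.range j ↔ x ∈ Set.range m) : IsPullback m u'' u j :=
  (IsOpenImmersion.isPullback u'' m j u w (by ext x; exact hr x)).flip

lemma of_sup_eq_top {X Y : Scheme.{u}} (P : MorphismProperty Scheme.{u}) [IsZariskiLocalAtTarget P]
    (f : X ⟶ Y) (V₁ V₂ : Y.Opens) (h : V₁ ⊔ V₂ = ⊤) (h₁ : P (f ∣_ V₁)) (h₂ : P (f ∣_ V₂)) :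
    P f := by
  refine IsZariskiLocalAtTarget.of_iSup_eq_top (fun b : Bool => cond b V₁ V₂) ?_ ?_
  · rw [← sup_eq_iSup]; exact h
  · rintro (_ | _)
    · exact h₂
    · exact h₁

lemma restrict_of_isPullback {X' X O Y : Scheme.{u}} (P : MorphismProperty Scheme.{u})
    [P.RespectsIso] {m : X' ⟶ X} {f' : X' ⟶ O} {f : X ⟶ Y} {j : O ⟶ Y} [IsOpenImmersion j]
    (sq : IsPullback m f' f j) : P f' ↔ P (f ∣_ j.opensRange) := by
  rw [P.arrow_mk_iso_iff (morphismRestrictOpensRange f j), ← sq.isoPullback_hom_snd,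
    P.cancel_left_of_respectsIso]

lemma restrict_restrict {X Y : Scheme.{u}} (P : MorphismProperty Scheme.{u}) [P.RespectsIso]
    (f : X ⟶ Y) (O O₁ : Y.Opens) (h : O₁ ≤ O) : P ((f ∣_ O) ∣_ (O.ι ⁻¹ᵁ O₁)) ↔ P (f ∣_ O₁) :=
  (P.arrow_mk_iso_iff (morphismRestrictRestrict f O (O.ι ⁻¹ᵁ O₁))).trans
    (P.arrow_mk_iso_iff (morphismRestrictEq f (Opens.ext (by
      rw [Scheme.Hom.coe_image]
      show O.ι '' (O.ι ⁻¹' (O₁ : Set Y)) = _
      rw [Set.image_preimage_eq_inter_range, Scheme.Opens.range_ι]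
      exact Set.inter_eq_left.2 h))))

lemma sup_restrict {X Y : Scheme.{u}} (P : MorphismProperty Scheme.{u}) [IsZariskiLocalAtTarget P]
    (f : X ⟶ Y) (O₁ O₂ : Y.Opens) (h₁ : P (f ∣_ O₁)) (h₂ : P (f ∣_ O₂)) :
    P (f ∣_ (O₁ ⊔ O₂)) := by
  refine of_sup_eq_top P _ ((O₁ ⊔ O₂).ι ⁻¹ᵁ O₁) ((O₁ ⊔ O₂).ι ⁻¹ᵁ O₂) ?_
    ((restrict_restrict P f _ _ le_sup_left).2 h₁) ((restrict_restrict P f _ _ le_sup_right).2 h₂)
  ext x
  simp only [Opens.coe_top, Set.mem_univ, iff_true]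
  exact x.2

/-- An immersion of coproducts with disjoint open targets. -/
lemma isPullback_inl_desc {X₁ X₂ Y : Scheme.{u}} (u₁ : X₁ ⟶ Y) (u₂ : X₂ ⟶ Y) {O : Scheme.{u}}
    (j : O ⟶ Y) [IsOpenImmersion j] (v : X₁ ⟶ O) (hv : v ≫ j = u₁)
    (h₂ : ∀ x, u₂ x ∉ Set.range j) : IsPullback coprod.inl v (coprod.desc u₁ u₂) j := by
  refine isPullback_of_range _ _ _ _ (by simp [hv]) fun x => ?_
  obtain ⟨(x | x), rfl⟩ := (coprodMk _ _).surjective x
  · rw [coprodMk_inl, ← Scheme.Hom.comp_apply, coprod.inl_desc, ← hv, Scheme.Hom.comp_apply]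
    simp
  · rw [coprodMk_inr, ← Scheme.Hom.comp_apply, coprod.inr_desc]
    refine iff_of_false (h₂ x) ?_
    rintro ⟨y, hy⟩
    exact inl_ne_inr _ _ y x hy

lemma isPullback_inr_desc {X₁ X₂ Y : Scheme.{u}} (u₁ : X₁ ⟶ Y) (u₂ : X₂ ⟶ Y) {O : Scheme.{u}}
    (j : O ⟶ Y) [IsOpenImmersion j] (v : X₂ ⟶ O) (hv : v ≫ j = u₂)
    (h₁ : ∀ x, u₁ x ∉ Set.range j) : IsPullback coprod.inr v (coprod.desc u₁ u₂) j := by
  refine isPullback_of_range _ _ _ _ (by simp [hv]) fun x => ?_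
  obtain ⟨(x | x), rfl⟩ := (coprodMk _ _).surjective x
  · rw [coprodMk_inl, ← Scheme.Hom.comp_apply, coprod.inl_desc]
    refine iff_of_false (h₁ x) ?_
    rintro ⟨y, hy⟩
    exact inr_ne_inl _ _ x y hy
  · rw [coprodMk_inr, ← Scheme.Hom.comp_apply, coprod.inr_desc, ← hv, Scheme.Hom.comp_apply]
    simp

lemma finAff_coprod {X₁ X₂ : Scheme.{u}} (h₁ : FinAff X₁) (h₂ : FinAff X₂) :
    FinAff (X₁ ⨿ X₂) := by
  intro F hF
  obtain ⟨V₁, hV₁, hF₁⟩ := h₁ _ (hF.preimage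
    (coprod.inl : X₁ ⟶ X₁ ⨿ X₂).isOpenEmbedding.injective.injOn)
  obtain ⟨V₂, hV₂, hF₂⟩ := h₂ _ (hF.preimage
    (coprod.inr : X₂ ⟶ X₁ ⨿ X₂).isOpenEmbedding.injective.injOn)
  refine ⟨(coprod.inl : X₁ ⟶ X₁ ⨿ X₂) ''ᵁ V₁ ⊔ (coprod.inr : X₂ ⟶ X₁ ⨿ X₂) ''ᵁ V₂,
    IsAffineOpen.sup_of_disjoint (hV₁.image_of_isOpenImmersion _) (hV₂.image_of_isOpenImmersion _)
      ((isCompl_opensRange_inl_inr X₁ X₂).disjoint.mono
        (Scheme.Hom.image_le_opensRange _ _) (Scheme.Hom.image_le_opensRange _ _)), fun x hx => ?_⟩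
  obtain ⟨(y | y), rfl⟩ := (coprodMk _ _).surjective x
  · rw [coprodMk_inl] at hx ⊢
    exact Or.inl ⟨y, hF₁ hx, rfl⟩
  · rw [coprodMk_inr] at hx ⊢
    exact Or.inr ⟨y, hF₂ hx, rfl⟩

variable {S : Scheme.{u}} (G : Grpd.GroupoidScheme S)

lemma mem_iff {O : G.U.Opens} (hO : G.s ⁻¹ᵁ O = G.t ⁻¹ᵁ O) (r : G.R) : G.s r ∈ O ↔ G.t r ∈ O := by
  show r ∈ G.s ⁻¹ᵁ O ↔ r ∈ G.t ⁻¹ᵁ O
  rw [hO]

lemma mem_of_rel {O : G.U.Opens} (hO : G.s ⁻¹ᵁ O = G.t ⁻¹ᵁ O) {x y : G.U} (h : Rel G x y) :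
    x ∈ O ↔ y ∈ O := by
  obtain ⟨r, rfl, rfl⟩ := h
  exact (mem_iff G hO r).symm

/-- The source map of the restriction is the restriction of the source map. -/
lemma exists_isPullback_sV (O : G.U.Opens) (hO : G.s ⁻¹ᵁ O = G.t ⁻¹ᵁ O) {X X' : Scheme.{u}}
    (u : X ⟶ G.U) (u'' : X' ⟶ (O : Scheme.{u})) (m : X' ⟶ X) (sq : IsPullback m u'' u O.ι) :
    ∃ M, IsPullback M (sV (restrict G O hO) u'') (sV G u) O.ι := by
  let t' : (G.s ⁻¹ᵁ O : G.R.Opens).toScheme ⟶ O := G.t.resLE O (G.s ⁻¹ᵁ O) hO.le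
  have ht : t' ≫ O.ι = (G.s ⁻¹ᵁ O).ι ≫ G.t := Scheme.Hom.resLE_comp_ι _ _
  have sqA : IsPullback (pullback.fst t' u'') (pullback.snd t' u'') t' u'' :=
    IsPullback.of_hasPullback _ _
  have outer := sqA.paste_vert sq.flip
  let M : pullback t' u'' ⟶ pullback G.t u :=
    pullback.lift (pullback.fst t' u'' ≫ (G.s ⁻¹ᵁ O).ι) (pullback.snd t' u'' ≫ m) (by
      rw [Category.assoc, ← ht, Category.assoc, sq.w, pullback.condition_assoc])
  have hM : IsPullback (pullback.fst t' u'') M (G.s ⁻¹ᵁ O).ι (pullback.fst G.t u) := by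
    refine IsPullback.of_bot ?_ (pullback.lift_fst _ _ _).symm (IsPullback.of_hasPullback G.t u)
    rw [pullback.lift_snd, ← ht]
    exact outer
  exact ⟨M, hM.flip.paste_vert (isPullback_morphismRestrict G.s O).flip⟩

lemma sV_restrict_iff (P : MorphismProperty Scheme.{u}) [P.RespectsIso] (O : G.U.Opens)
    (hO : G.s ⁻¹ᵁ O = G.t ⁻¹ᵁ O) {X X' : Scheme.{u}} (u : X ⟶ G.U)
    (u'' : X' ⟶ (O : Scheme.{u})) (m : X' ⟶ X) (sq : IsPullback m u'' u O.ι) :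
    P (sV (restrict G O hO) u'') ↔ P (sV G u ∣_ O) := by
  obtain ⟨M, hM⟩ := exists_isPullback_sV G O hO u u'' m sq
  have := restrict_of_isPullback P hM
  rwa [Scheme.Opens.opensRange_ι] at this

/-- The restriction to `O` has a quasi-section with good finiteness properties. -/
def Good (O : G.U.Opens) : Prop :=
  ∃ (hO : G.s ⁻¹ᵁ O = G.t ⁻¹ᵁ O) (X : Scheme.{u}) (u : X ⟶ (O : Scheme.{u})),
    IsImmersion u ∧ CompactSpace X ∧ FinAff X ∧ PQS (sV (restrict G O hO) u)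

lemma good_bot : Good G ⊥ := by
  have : IsEmpty (⊥ : G.U.Opens).toScheme := ⟨fun x => x.2.elim⟩
  have hO : G.s ⁻¹ᵁ (⊥ : G.U.Opens) = G.t ⁻¹ᵁ (⊥ : G.U.Opens) := rfl
  refine ⟨hO, _, 𝟙 _, inferInstance, inferInstance, fun F _ => ⟨⊥, isAffineOpen_bot _, fun x _ => ?_⟩, ?_⟩
  · exact isEmptyElim x
  · have : IsIso (sV (restrict G ⊥ hO) (𝟙 (⊥ : G.U.Opens).toScheme)) := by
      have : IsEmpty (restrict G ⊥ hO).U := ‹IsEmpty (⊥ : G.U.Opens).toScheme›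
      exact isIso_of_isEmpty _
    exact ⟨⟨⟨inferInstance, inferInstance⟩, inferInstance⟩, inferInstance⟩

/-- Good opens are closed under disjoint unions. -/
lemma good_sup {O₁ O₂ : G.U.Opens} (h₁ : Good G O₁) (h₂ : Good G O₂) (hd : Disjoint O₁ O₂) :
    Good G (O₁ ⊔ O₂) := by
  obtain ⟨hO₁, X₁, u₁, hi₁, hc₁, hf₁, hP₁⟩ := h₁
  obtain ⟨hO₂, X₂, u₂, hi₂, hc₂, hf₂, hP₂⟩ := h₂
  have hO : G.s ⁻¹ᵁ (O₁ ⊔ O₂) = G.t ⁻¹ᵁ (O₁ ⊔ O₂) := by
    rw [Scheme.Hom.preimage_sup, Scheme.Hom.preimage_sup, hO₁, hO₂]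
  let O := O₁ ⊔ O₂
  let j₁ := G.U.homOfLE (le_sup_left : O₁ ≤ O)
  let j₂ := G.U.homOfLE (le_sup_right : O₂ ≤ O)
  let u : X₁ ⨿ X₂ ⟶ (O : Scheme.{u}) := coprod.desc (u₁ ≫ j₁) (u₂ ≫ j₂)
  have hsep : ∀ {A B : G.U.Opens} (_ : Disjoint A B) (hA : A ≤ O) (hB : B ≤ O) (z : (A : Scheme.{u})),
      G.U.homOfLE hA z ∉ Set.range (G.U.homOfLE hB) := by
    rintro A B hAB hA hB z ⟨y, hy⟩
    have e := congrArg O.ι hy
    rw [← Scheme.Hom.comp_apply, ← Scheme.Hom.comp_apply, Scheme.homOfLE_ι, Scheme.homOfLE_ι] at e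
    have hz : A.ι z ∈ (A ⊓ B : G.U.Opens) := ⟨z.2, e ▸ y.2⟩
    rw [hAB.eq_bot] at hz
    exact hz
  have e₁ : IsPullback coprod.inl u₁ u j₁ :=
    isPullback_inl_desc _ _ _ _ rfl fun x => hsep hd.symm le_sup_right le_sup_left (u₂ x)
  have e₂ : IsPullback coprod.inr u₂ u j₂ :=
    isPullback_inr_desc _ _ _ _ rfl fun x => hsep hd le_sup_left le_sup_right (u₁ x)
  refine ⟨hO, X₁ ⨿ X₂, u, ?_, ?_, finAff_coprod hf₁ hf₂, ?_⟩
  · refine of_sup_eq_top @IsImmersion u j₁.opensRange j₂.opensRange ?_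
      ((restrict_of_isPullback @IsImmersion e₁).1 hi₁)
      ((restrict_of_isPullback @IsImmersion e₂).1 hi₂)
    refine eq_top_iff.2 fun x _ => ?_
    rcases x.2 with h | h
    · exact Or.inl ⟨⟨_, h⟩, Subtype.ext (coe_homOfLE_apply _ _)⟩
    · exact Or.inr ⟨⟨_, h⟩, Subtype.ext (coe_homOfLE_apply _ _)⟩
  · exact (coprodMk X₁ X₂).compactSpace
  · refine (sV_restrict_iff G PQS O hO (u ≫ O.ι) u (𝟙 _) (.of_horiz_isIso_mono ⟨by simp⟩)).2 ?_
    refine sup_restrict PQS _ O₁ O₂ ?_ ?_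
    · refine (sV_restrict_iff G PQS O₁ hO₁ (u ≫ O.ι) u₁ coprod.inl ?_).1 hP₁
      simpa [j₁, O] using e₁.paste_vert (IsPullback.of_vert_isIso_mono (snd := 𝟙 (O₁ : Scheme.{u})) (f := O.ι) (g := O₁.ι) (fst := j₁) ⟨by simp [j₁, O]⟩)
    · refine (sV_restrict_iff G PQS O₂ hO₂ (u ≫ O.ι) u₂ coprod.inr ?_).1 hP₂
      simpa [j₂, O] using e₂.paste_vert (IsPullback.of_vert_isIso_mono (snd := 𝟙 (O₂ : Scheme.{u})) (f := O.ι) (g := O₂.ι) (fst := j₂) ⟨by simp [j₂, O]⟩)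

variable {G}

lemma isQuasiSection_of_good {O : G.U.Opens} {hO : G.s ⁻¹ᵁ O = G.t ⁻¹ᵁ O} {X : Scheme.{u}}
    {u : X ⟶ (O : Scheme.{u})} (hu : IsImmersion u) (hf : FinAff X)
    (hP : PQS (sV (restrict G O hO) u)) : IsQuasiSection (restrict G O hO) u where
  mono := inferInstance
  fin := hP.1.1.1
  flat := hP.1.1.2
  lfp := hP.1.2
  surj := hP.2
  aff E hE := by
    rcases E.eq_empty_or_nonempty with rfl | ⟨y, hy⟩
    · exact ⟨⊥, isAffineOpen_bot _, Set.empty_subset _⟩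
    have : IsFinite (sV (restrict G O hO) u) := hP.1.1.1
    obtain ⟨V, hV, hsub⟩ := hf _
      (((sV (restrict G O hO) u).finite_preimage_singleton (u y)).image
        (pullback.snd (restrict G O hO).t u))
    refine ⟨V, hV, fun x hx => hsub ?_⟩
    obtain ⟨r, hr₁, hr₂⟩ := hE x hx y hy
    obtain ⟨v, hv₁, hv₂⟩ := Scheme.Pullback.exists_preimage_pullback
      (f := (restrict G O hO).t) (g := u) r x hr₁
    refine ⟨v, ?_, hv₂⟩
    show sV (restrict G O hO) u v = u y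
    rw [sV, Scheme.Hom.comp_apply, hv₁, hr₂]
    rfl

/-- A descended map out of an affine quotient by a finite map is of finite type. -/
lemma locallyOfFiniteType_desc {R U Y : Scheme.{u}} {t s : R ⟶ U} {p : U ⟶ Y}
    (h : IsAffQuot t s p) [IsLocallyNoetherian S] [IsFinite p] (q : Y ⟶ S)
    [LocallyOfFiniteType (p ≫ q)] : LocallyOfFiniteType q := by
  have := h.affY
  have hy : ∀ y : Y, ∃ (c : Γ(Y, ⊤)) (V : S.Opens), IsAffineOpen V ∧ y ∈ Y.basicOpen c ∧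
      Y.basicOpen c ≤ q ⁻¹ᵁ V := fun y => by
    obtain ⟨V, hV, hyV, -⟩ := exists_isAffineOpen_mem_and_subset (U := (⊤ : S.Opens))
      (Opens.mem_top (q y))
    obtain ⟨c, hc, hyc⟩ := (isAffineOpen_top Y).exists_basicOpen_le (V := q ⁻¹ᵁ V) ⟨y, hyV⟩
      (Opens.mem_top y)
    exact ⟨c, V, hV, hyc, hc⟩
  choose c V hV hmem hle using hy
  refine IsZariskiLocalAtSource.of_openCover (P := @LocallyOfFiniteType)
    (Y.openCoverOfIsOpenCover (fun y => Y.basicOpen (c y))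
      (IsOpenCover.mk (eq_top_iff.mpr fun y _ => Opens.mem_iSup.mpr ⟨y, hmem y⟩))) fun y => ?_
  show LocallyOfFiniteType ((Y.basicOpen (c y)).ι ≫ q)
  rw [← Scheme.Hom.resLE_comp_ι q (hle y)]
  set D := Y.basicOpen (c y)
  set k := q.resLE (V y) D (hle y)
  have hb := h.basicOpen (c y)
  have hAY : IsAffine D.toScheme := hb.affY
  have hAU : IsAffine (p ⁻¹ᵁ D : U.Opens).toScheme := hb.affU
  have : IsAffine (V y).toScheme := hV y
  have : IsFinite (p ∣_ D) := IsZariskiLocalAtTarget.restrict ‹IsFinite p› D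
  suffices LocallyOfFiniteType k by infer_instance
  have h1 : LocallyOfFiniteType (p ∣_ D ≫ k) := by
    have : LocallyOfFiniteType ((p ∣_ D ≫ k) ≫ (V y).ι) := by
      rw [Category.assoc, Scheme.Hom.resLE_comp_ι, morphismRestrict_ι_assoc]
      infer_instance
    exact locallyOfFiniteType_of_comp _ (V y).ι
  have hA : ((p ∣_ D ≫ k).appTop).hom.FiniteType :=
    (HasRingHomProperty.iff_of_isAffine (P := @LocallyOfFiniteType)).1 h1
  have hfin : (p ∣_ D).appTop.hom.Finite :=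
    ((HasAffineProperty.iff_of_isAffine (P := @IsFinite)).1 ‹IsFinite (p ∣_ D)›).2
  rw [HasRingHomProperty.iff_of_isAffine (P := @LocallyOfFiniteType)]
  let b := k.appTop
  let a := (p ∣_ D).appTop
  rw [Scheme.Hom.comp_appTop] at hA
  have : IsNoetherianRing Γ((V y).toScheme, ⊤) :=
    letI := IsLocallyNoetherian.component_noetherian ⟨V y, hV y⟩
    isNoetherianRing_of_ringEquiv Γ(S, V y) ((V y).topIso.symm).commRingCatIsoToRingEquiv
  algebraize [b.hom, a.hom, (b ≫ a).hom]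
  have : IsScalarTower Γ((V y).toScheme, ⊤) Γ(D.toScheme, ⊤) Γ((p ⁻¹ᵁ D : U.Opens).toScheme, ⊤) :=
    IsScalarTower.of_algebraMap_eq fun _ => rfl
  have : Algebra.FiniteType Γ((V y).toScheme, ⊤) Γ((p ⁻¹ᵁ D : U.Opens).toScheme, ⊤) := hA
  have : Module.Finite Γ(D.toScheme, ⊤) Γ((p ⁻¹ᵁ D : U.Opens).toScheme, ⊤) := hfin
  exact ⟨fg_of_fg_of_fg Γ((V y).toScheme, ⊤) Γ(D.toScheme, ⊤) Γ((p ⁻¹ᵁ D : U.Opens).toScheme, ⊤)
    Algebra.FiniteType.out Module.Finite.fg_top hb.inj⟩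

/-- The structure map of a quotient with a quasi-section of finite type is of finite type. -/
lemma exists_structure_map {T : Scheme.{u}} [IsLocallyNoetherian T] (H : Grpd.GroupoidScheme T)
    {X : Scheme.{u}} {v : X ⟶ H.U} (h : IsQuasiSection H v) [LocallyOfFiniteType (v ≫ H.pU)] :
    ∃ q : h.Y ⟶ T, h.p ≫ q = H.pU ∧ LocallyOfFiniteType q := by
  obtain ⟨q, hq⟩ : ∃ q : h.Y ⟶ T, h.p ≫ q = H.pU :=
    ⟨h.isColimit.desc (Cofork.ofπ H.pU (H.t_over.trans H.s_over.symm)),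
      h.isColimit.fac _ WalkingParallelPair.one⟩
  refine ⟨q, hq, ?_⟩
  refine IsZariskiLocalAtSource.of_openCover (P := @LocallyOfFiniteType)
    (Scheme.IsLocallyDirected.openCover (diagram h.G')) fun (j : InvAff h.G') => ?_
  show LocallyOfFiniteType (j.incl ≫ q)
  have e : j.q ≫ j.incl ≫ q = j.1.ι ≫ v ≫ H.pU := by
    have e1 : (v ≫ h.p) ≫ q = h.p' ≫ q := congrArg (· ≫ q) h.u_p
    rw [← hq]
    exact (ι_quotMap_assoc h.orbitsInAffines j q).symm.trans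
      (congrArg (j.1.ι ≫ ·) (e1.symm.trans (Category.assoc _ _ _)))
  have : IsIntegralHom j.q := j.isIntegralHom_q
  have : LocallyOfFiniteType (j.1.ι ≫ v ≫ H.pU) := inferInstance
  have hl : LocallyOfFiniteType (j.q ≫ j.incl ≫ q) := e ▸ this
  have : LocallyOfFiniteType j.q := locallyOfFiniteType_of_comp j.q (j.incl ≫ q)
  have : IsFinite j.q := (IsFinite.iff_isIntegralHom_and_locallyOfFiniteType _).2 ⟨inferInstance, this⟩
  exact locallyOfFiniteType_desc j.isAffQuot (j.incl ≫ q)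

end Groth.Agent.GrpdLib.DenseSat
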