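import Mathlib.RingTheory.Polynomial.Basic
import Mathlib.RingTheory.Localization.AtPrime.Basic
import Mathlib.RingTheory.LocalRing.ResidueField.Basic
import Mathlib.RingTheory.Flat.Localization
import Mathlib.RingTheory.Flat.Stability
import Mathlib.LinearAlgebra.TensorProduct.RightExactness
import Mathlib.RingTheory.TensorProduct.Quotient
import Mathlib.LinearAlgebra.Dimension.Free
import Mathlib.RingTheory.FiniteType

/-!
# A flat local algebra with infinite residue field at a prime, and detection of zero
-/

universe u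

open Polynomial TensorProduct

namespace Groth.Agent.GrpdLib

variable {C : Type u} [CommRing C] (p : Ideal C) [p.IsPrime]

/-- The localisation of `C[X]` at `p[X]`. -/
abbrev GenPt : Type u := Localization.AtPrime (p.map (Polynomial.C : C →+* C[X]))

instance genPt_flat : Module.Flat C (GenPt p) := Module.Flat.trans C C[X] _

instance genPt_infinite : Infinite (IsLocalRing.ResidueField (GenPt p)) := by
  refine Infinite.of_injective
    (fun i : ℕ => IsLocalRing.residue _ (algebraMap C[X] (GenPt p) (X ^ i))) fun i j h => ?_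
  by_contra hij
  have : algebraMap C[X] (GenPt p) (X ^ i - X ^ j) ∈ IsLocalRing.maximalIdeal (GenPt p) := by
    rw [map_sub]; exact Ideal.Quotient.eq.mp h
  rw [IsLocalization.AtPrime.to_map_mem_maximal_iff _ (p.map (Polynomial.C : C →+* C[X]))] at this
  have := (Ideal.mem_map_C_iff.mp this) i
  rw [coeff_sub, coeff_X_pow_self, coeff_X_pow, if_neg hij, sub_zero] at this
  exact (Ideal.IsPrime.ne_top ‹_›) ((Ideal.eq_top_iff_one p).mpr this)

lemma genPt_mem_maximalIdeal {c : C} (hc : c ∈ p) :
    algebraMap C (GenPt p) c ∈ IsLocalRing.maximalIdeal (GenPt p) := by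
  rw [IsScalarTower.algebraMap_apply C C[X] (GenPt p),
    IsLocalization.AtPrime.to_map_mem_maximal_iff _ (p.map (Polynomial.C : C →+* C[X]))]
  exact Ideal.mem_map_of_mem _ hc

variable {p} in
/-- An element killed by `⊗ GenPt p` is killed by an element outside `p`. -/
lemma exists_smul_eq_zero {M : Type u} [AddCommGroup M] [Module C M] {m : M}
    (h : m ⊗ₜ[C] (1 : GenPt p) = 0) : ∃ s, s ∉ p ∧ s • m = 0 := by
  by_contra hc
  push Not at hc
  let I : Ideal C := LinearMap.ker (LinearMap.toSpanSingleton C M m)
  have hI : I ≤ p := fun s hs => by_contra fun hsp => hc s hsp hs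
  let f : C ⧸ I →ₗ[C] M := Submodule.liftQ I (LinearMap.toSpanSingleton C M m) le_rfl
  have hf : Function.Injective f := LinearMap.ker_eq_bot.mp (Submodule.ker_liftQ_eq_bot _ _ _ le_rfl)
  have h1 : f.rTensor (GenPt p) ((Ideal.Quotient.mk I 1) ⊗ₜ 1) = 0 := by
    rw [LinearMap.rTensor_tmul, show f (Ideal.Quotient.mk I 1) = m from one_smul C m]
    exact h
  rw [← map_zero (f.rTensor (GenPt p))] at h1
  have h2 := Module.Flat.rTensor_preserves_injective_linearMap f hf h1
  let e := TensorProduct.quotTensorEquivQuotSMul (GenPt p) I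
  have h3 := congrArg e h2
  rw [map_zero, show e ((Ideal.Quotient.mk I 1) ⊗ₜ 1) = Submodule.Quotient.mk ((1 : C) • (1 : GenPt p))
    from TensorProduct.quotTensorEquivQuotSMul_mk_tmul I 1 1, one_smul,
    Submodule.Quotient.mk_eq_zero] at h3
  have hle : (I • ⊤ : Submodule C (GenPt p)) ≤
      (IsLocalRing.maximalIdeal (GenPt p)).restrictScalars C := by
    rw [Submodule.smul_le]
    intro c hc' x _
    show c • x ∈ IsLocalRing.maximalIdeal _
    rw [Algebra.smul_def]
    exact Ideal.mul_mem_right _ _ (genPt_mem_maximalIdeal p (hI hc'))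
  exact (Ideal.IsMaximal.ne_top inferInstance) ((Ideal.eq_top_iff_one _).mpr (hle h3))

/-- A generating family of `n` elements of a free module of rank `n` is independent. -/
lemma eq_zero_of_span_eq_top {R M : Type*} [CommRing R] [AddCommGroup M] [Module R M] {n : ℕ}
    (b : Module.Basis (Fin n) R M) (v : Fin n → M) (hv : Submodule.span R (Set.range v) = ⊤)
    (w : Fin n → R) (hw : ∑ i, w i • v i = 0) : w = 0 := by
  have := Module.Finite.of_basis b
  let φ : M →ₗ[R] M := b.constr R v
  have hφ : ∀ i, φ (b i) = v i := fun i => b.constr_basis R v i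
  have hsurj : Function.Surjective φ := by
    rw [← LinearMap.range_eq_top, eq_top_iff, ← hv, Submodule.span_le]
    rintro _ ⟨i, rfl⟩
    exact ⟨b i, hφ i⟩
  have h0 : b.equivFun.symm w = 0 := OrzechProperty.injective_of_surjective_endomorphism φ hsurj
    (by simp [Module.Basis.equivFun_symm_apply, hφ, hw])
  have := congrArg b.equivFun h0
  rwa [LinearEquiv.apply_symm_apply, map_zero] at this

end Groth.Agent.GrpdLib
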