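import Mathlib.RingTheory.Ideal.Quotient.Basic
import Mathlib.RingTheory.LocalRing.ResidueField.Basic
import Mathlib.RingTheory.Nakayama
import Mathlib.LinearAlgebra.FiniteDimensional.Lemmas
import Mathlib.LinearAlgebra.Dimension.Free
import Mathlib.RingTheory.FiniteType
import Mathlib.LinearAlgebra.LinearIndependent.Lemmas

/-!
# Bases inside a generating submodule over a semilocal ring
-/

universe u

namespace Groth.Agent.GrpdLib

variable {B A : Type u} [CommRing B] [IsLocalRing B] [Infinite (IsLocalRing.ResidueField B)]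
  [CommRing A] [Algebra B A]

variable {M : Type u} [AddCommGroup M] [Module A M] [Module B M] [IsScalarTower B A M]

/-- Avoid finitely many proper submodules inside `N`. -/
lemma exists_mem_notMem_forall {κ : Type*} (N : Submodule B M) (W : κ → Submodule A M)
    (s : Finset κ) (hW : ∀ k ∈ s, ∃ y ∈ N, y ∉ W k) :
    ∃ x ∈ N, ∀ k ∈ s, x ∉ W k := by
  classical
  induction s using Finset.induction with
  | empty => exact ⟨0, N.zero_mem, by simp⟩
  | insert a s ha ih =>
    obtain ⟨x, hx, hxs⟩ := ih fun k hk => hW k (Finset.mem_insert_of_mem hk)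
    obtain ⟨y, hy, hya⟩ := hW a (Finset.mem_insert_self a s)
    -- for each index at most one residue class of `c` is bad
    let bad : κ → Set (IsLocalRing.ResidueField B) := fun k =>
      {r | ∃ c : B, IsLocalRing.residue B c = r ∧ x + algebraMap B A c • y ∈ W k}
    have hsub : ∀ k ∈ insert a s, (bad k).Subsingleton := by
      rintro k hk _ ⟨c, rfl, hc⟩ _ ⟨d, rfl, hd⟩
      by_contra hne
      have hu : IsUnit (c - d) := by
        by_contra h
        exact hne (sub_eq_zero.mp (by
          rw [← map_sub]; exact (IsLocalRing.residue_eq_zero_iff _).mpr h))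
      have hy' : y ∈ W k := by
        have := (W k).sub_mem hc hd
        rw [add_sub_add_left_eq_sub, ← sub_smul, ← map_sub] at this
        obtain ⟨v, hv⟩ := hu.map (algebraMap B A)
        rw [← hv] at this
        simpa [smul_smul] using (W k).smul_mem (↑v⁻¹ : A) this
      rcases Finset.mem_insert.mp hk with rfl | hks
      · exact hya hy'
      · refine hxs k hks ?_
        simpa using (W k).sub_mem hc ((W k).smul_mem (algebraMap B A c) hy')
    obtain ⟨r, hr⟩ := ((insert a s).finite_toSet.biUnion fun k hk =>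
      (hsub k hk).finite).exists_notMem
    obtain ⟨c, rfl⟩ := IsLocalRing.residue_surjective r
    refine ⟨x + algebraMap B A c • y, N.add_mem hx ?_, fun k hk hm =>
      hr (Set.mem_biUnion hk ⟨c, rfl, hm⟩)⟩
    rw [algebraMap_smul]; exact N.smul_mem c hy

variable [Finite (MaximalSpectrum A)]

/-- `N` contains a basis of `M`. -/
theorem exists_basis_mem_of_span_eq_top {n : ℕ} (b : Module.Basis (Fin n) A M)
    (N : Submodule B M) (hN : Submodule.span A (N : Set M) = ⊤) :
    ∃ b' : Module.Basis (Fin n) A M, ∀ i, b' i ∈ N := by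
  classical
  let _ : Fintype (MaximalSpectrum A) := Fintype.ofFinite _
  let π : ∀ Q : MaximalSpectrum A, M →ₗ[A] (Fin n → A ⧸ Q.1) := fun Q =>
    LinearMap.pi fun i => (Algebra.linearMap A (A ⧸ Q.1)).comp (b.coord i)
  have hπsurj : ∀ Q, Function.Surjective (π Q) := by
    intro Q v
    choose w hw using fun i => Ideal.Quotient.mk_surjective (v i)
    refine ⟨b.equivFun.symm w, funext fun i => ?_⟩
    rw [← hw i]
    show Ideal.Quotient.mk Q.1 (b.coord i (b.equivFun.symm w)) = _
    rw [b.coord_apply, ← b.equivFun_apply, LinearEquiv.apply_symm_apply]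
  have hspan : ∀ Q : MaximalSpectrum A,
      Submodule.span (A ⧸ Q.1) ((π Q) '' (N : Set M)) = ⊤ := by
    intro Q
    rw [eq_top_iff]
    rintro v -
    obtain ⟨m, rfl⟩ := hπsurj Q v
    have hm : π Q m ∈ (Submodule.span A (N : Set M)).map (π Q) :=
      ⟨m, by rw [hN]; trivial, rfl⟩
    rw [Submodule.map_span] at hm
    exact Submodule.span_subset_span A (A ⧸ Q.1) _ hm
  have key : ∀ j ≤ n, ∃ x : Fin j → M, (∀ i, x i ∈ N) ∧
      ∀ Q : MaximalSpectrum A, LinearIndependent (A ⧸ Q.1) (π Q ∘ x) := by
    intro j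
    induction j with
    | zero => exact fun _ => ⟨Fin.elim0, fun i => i.elim0, fun Q => linearIndependent_empty_type⟩
    | succ j ih =>
      intro hj
      obtain ⟨x, hx, hli⟩ := ih (Nat.le_of_succ_le hj)
      let W : MaximalSpectrum A → Submodule A M := fun Q =>
        ((Submodule.span (A ⧸ Q.1) (Set.range (π Q ∘ x))).restrictScalars A).comap (π Q)
      have hW : ∀ Q ∈ (Finset.univ : Finset (MaximalSpectrum A)), ∃ y ∈ N, y ∉ W Q := by
        intro Q _
        by_contra hc
        push Not at hc
        let := Ideal.Quotient.field Q.1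
        have htop : Submodule.span (A ⧸ Q.1) (Set.range (π Q ∘ x)) = ⊤ := by
          rw [eq_top_iff, ← hspan Q, Submodule.span_le]
          rintro _ ⟨y, hy, rfl⟩
          exact hc y hy
        have := finrank_range_le_card (R := A ⧸ Q.1) (π Q ∘ x)
        rw [Set.finrank, htop, finrank_top, Module.finrank_fin_fun, Fintype.card_fin] at this
        omega
      obtain ⟨y, hy, hyW⟩ := exists_mem_notMem_forall N W Finset.univ hW
      refine ⟨Fin.snoc x y, fun i => ?_, fun Q => ?_⟩
      · refine Fin.lastCases ?_ (fun i => ?_) i <;> simp [hy, hx]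
      · let := Ideal.Quotient.field Q.1
        rw [Fin.comp_snoc]
        exact linearIndependent_finSnoc.mpr ⟨hli Q, hyW Q (Finset.mem_univ _)⟩
  obtain ⟨x, hx, hli⟩ := key n le_rfl
  have := Module.Finite.of_basis b
  have htop : Submodule.span A (Set.range x) = ⊤ := by
    by_contra hne
    set S := Submodule.span A (Set.range x)
    have : Nontrivial (M ⧸ S) := Submodule.Quotient.nontrivial_iff.mpr hne
    obtain ⟨Q, hQ, hle⟩ := Ideal.exists_le_maximal (Module.annihilator A (M ⧸ S)) (by
      rw [Ne, Module.annihilator_eq_top_iff]; exact not_subsingleton _)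
    let := Ideal.Quotient.field Q
    have hx' : Submodule.span (A ⧸ Q) (Set.range (π ⟨Q, hQ⟩ ∘ x)) = ⊤ :=
      LinearIndependent.span_eq_top_of_card_eq_finrank' (hli ⟨Q, hQ⟩) (by simp)
    have hsmul : (⊤ : Submodule A (M ⧸ S)) ≤ Q • ⊤ := by
      intro z _
      obtain ⟨m, rfl⟩ := S.mkQ_surjective z
      have : π ⟨Q, hQ⟩ m ∈ S.map (π ⟨Q, hQ⟩) := by
        rw [Submodule.map_span, ← Set.range_comp,
          ← Submodule.restrictScalars_span A (A ⧸ Q) Ideal.Quotient.mk_surjective, hx']
        trivial
      obtain ⟨m', hm', he⟩ := this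
      have hd : ∀ i, b.coord i (m - m') ∈ Q := fun i => by
        rw [map_sub, ← Ideal.Quotient.eq]
        exact (congrFun he i).symm
      have h2 : S.mkQ (m - m') = S.mkQ m := by
        rw [map_sub, Submodule.mkQ_apply, Submodule.mkQ_apply,
          (Submodule.Quotient.mk_eq_zero S).mpr hm', sub_zero]
      rw [← h2, ← b.sum_repr (m - m'), map_sum]
      refine Submodule.sum_mem _ fun i _ => ?_
      rw [map_smul]
      exact Submodule.smul_mem_smul (hd i) trivial
    obtain ⟨r, hr, hr0⟩ := Submodule.exists_sub_one_mem_and_smul_eq_zero_of_fg_of_le_smul Q ⊤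
      Module.Finite.fg_top hsmul
    have : r ∈ Q := hle (Module.mem_annihilator.mpr fun z => hr0 z trivial)
    exact hQ.ne_top ((Ideal.eq_top_iff_one Q).mpr (by simpa using Q.sub_mem this hr))
  let φ : M →ₗ[A] M := (b.constr A) x
  have hφ : ∀ i, φ (b i) = x i := fun i => b.constr_basis A x i
  have hsurj : Function.Surjective φ := by
    rw [← LinearMap.range_eq_top, eq_top_iff, ← htop, Submodule.span_le]
    rintro _ ⟨i, rfl⟩
    exact ⟨b i, hφ i⟩
  let e := LinearEquiv.ofBijective φ
    ⟨OrzechProperty.injective_of_surjective_endomorphism φ hsurj, hsurj⟩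
  exact ⟨b.map e, fun i => by
    rw [Module.Basis.map_apply]; exact (hφ i).symm ▸ hx i⟩

end Groth.Agent.GrpdLib
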