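import Groth.Agent.GrpdLib.RingGrpdBC
import Groth.Agent.GrpdLib.SemilocalBasis
import Groth.Agent.GrpdLib.LocalGeneric
import Mathlib.RingTheory.LocalRing.Module
import Mathlib.RingTheory.Flat.Rank
import Mathlib.RingTheory.Spectrum.Prime.FreeLocus
import Mathlib.RingTheory.TensorProduct.Free

/-!
# An equivalence relation over a local ring of invariants with infinite residue field
-/

universe u

open CategoryTheory TensorProduct

namespace Groth.Agent.GrpdLib

/-- A basis stays independent after a pushout. -/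
lemma finsupp_eq_of_isPushout {A A' B B' : CommRingCat.{u}} {φ : A ⟶ A'}
    {σ : A ⟶ B} {σ' : A' ⟶ B'} {ψ : B ⟶ B'} (h : IsPushout φ σ σ' ψ) {I : Type*} [Fintype I]
    (b : letI := σ.hom.toAlgebra; Module.Basis I A B) {f g : I → A'}
    (e : ∑ i, σ' (f i) * ψ (letI := σ.hom.toAlgebra; b i) =
      ∑ i, σ' (g i) * ψ (letI := σ.hom.toAlgebra; b i)) : f = g := by
  algebraize [φ.hom, σ.hom, σ'.hom, ψ.hom, σ'.hom.comp φ.hom]
  have : IsScalarTower A B B' := .of_algebraMap_eq' (congrArg CommRingCat.Hom.hom h.w)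
  have hp : Algebra.IsPushout A A' B B' := CommRingCat.isPushout_iff_isPushout.mp h
  let b' := (Algebra.TensorProduct.basis A' b).map hp.out.equiv
  have hb : ∀ i, b' i = ψ (b i) := fun i => by
    simp [b', IsBaseChange.equiv_tmul, RingHom.algebraMap_toAlgebra]
  have key : ∀ f : I → A', ∑ i, σ' (f i) * ψ (b i) = ∑ i, f i • b' i := fun f => by
    simp [hb, Algebra.smul_def, RingHom.algebraMap_toAlgebra]
  rw [key, key, ← b'.equivFun_symm_apply, ← b'.equivFun_symm_apply] at e
  exact b'.equivFun.symm.injective e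

namespace RingGrpd

variable (D : RingGrpd.{u})

/-- If `τ x` is a basis along `σ` then every element is an invariant combination of the `x`. -/
lemma exists_invariant_coords {I : Type*} [Fintype I] (x : I → D.A)
    (b : letI := D.σ.hom.toAlgebra; Module.Basis I D.A D.B)
    (hb : letI := D.σ.hom.toAlgebra; ∀ i, b i = D.τ (x i)) (a : D.A) :
    ∃ c : I → D.invariants, a = ∑ i, (c i : D.A) * x i := by
  let := D.σ.hom.toAlgebra
  let f := b.equivFun (D.τ a)
  have hf : D.τ a = ∑ i, D.σ (f i) * b i := by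
    conv_lhs => rw [← b.equivFun.symm_apply_apply (D.τ a)]
    simp [f, Module.Basis.equivFun_symm_apply, Algebra.smul_def, RingHom.algebraMap_toAlgebra]
  have wfst : ∀ z, D.π₁ (D.σ z) = D.π₂ (D.τ z) := fun z =>
    (congrArg (fun f => f.hom z) D.hfst.w).symm
  have wcomp : ∀ z, D.γ (D.σ z) = D.π₂ (D.σ z) := fun z =>
    (congrArg (fun f => f.hom z) D.hcomp.w).symm
  have wτ : ∀ z, D.γ (D.τ z) = D.π₁ (D.τ z) := fun z => congrArg (fun f => f.hom z) D.τ_γ
  have hinv : (fun i => D.τ (f i)) = fun i => D.σ (f i) := by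
    refine finsupp_eq_of_isPushout D.hfst b ?_
    have e1 := congrArg D.π₁ hf
    have e2 := congrArg D.γ hf
    rw [map_sum] at e1 e2
    simp only [map_mul, wfst, wcomp, hb, wτ] at e1 e2 ⊢
    exact e1.symm.trans e2
  refine ⟨fun i => ⟨f i, (congrFun hinv i).symm⟩, ?_⟩
  have := congrArg D.ε hf
  rw [D.ε_τ, map_sum] at this
  simpa [hb, D.ε_σ, D.ε_τ] using this

lemma eq_zero_of_sum_smul_eq_zero {I : Type*} [Fintype I] (x : I → D.A)
    (b : letI := D.σ.hom.toAlgebra; Module.Basis I D.A D.B)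
    (hb : letI := D.σ.hom.toAlgebra; ∀ i, b i = D.τ (x i)) (c : I → D.invariants)
    (h : ∑ i, (c i : D.A) * x i = 0) : c = 0 := by
  let := D.σ.hom.toAlgebra
  have h' := congrArg D.τ h
  rw [map_sum, map_zero] at h'
  have : (fun i => (c i : D.A)) = 0 := by
    apply b.equivFun.symm.injective
    rw [map_zero, ← h']
    simp [Module.Basis.equivFun_symm_apply, Algebra.smul_def, RingHom.algebraMap_toAlgebra, hb,
      D.σ_inv]
  exact funext fun i => Subtype.ext (congrFun this i)

/-- The rank of `σ` agrees at the two ends of an arrow. -/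
lemma finrank_comap_eq (x : PrimeSpectrum D.B) :
    D.σ.hom.finrank (PrimeSpectrum.comap D.τ.hom x) =
      D.σ.hom.finrank (PrimeSpectrum.comap D.σ.hom x) := by
  have hfl : D.σ.hom.Flat := by
    let := D.σ.hom.toAlgebra
    have : Module.Projective D.A D.B := by
      refine Module.Projective.of_split
        (LinearMap.mk ⟨D.P.coord, fun a b => map_add _ a b⟩ fun a b => ?_)
        (Fintype.linearCombination D.A D.P.e) ?_
      · exact D.P.coord_smul a b
      · ext b
        simp [Fintype.linearCombination_apply, Algebra.smul_def, RingHom.algebraMap_toAlgebra,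
          D.P.sum_coord]
    exact (inferInstance : Module.Flat D.A D.B)
  rw [← CommRingCat.finrank_eq_of_isPushout D.hfst.flip hfl D.σ_finite,
    ← CommRingCat.finrank_eq_of_isPushout D.hcomp.flip hfl D.σ_finite]

variable {C' : Type u} [CommRing C'] [IsLocalRing C'] (ι : C' →+* D.A)
  (hrange : ∀ a, a ∈ D.invariants ↔ a ∈ ι.range)
include hrange

lemma isIntegral_of_range : ι.IsIntegral := by
  intro a
  obtain ⟨q, hq, hqa⟩ := D.isIntegral.isIntegral a
  have hlift : q.map (algebraMap D.invariants D.A) ∈ Polynomial.lifts ι := by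
    rw [Polynomial.lifts_iff_coeff_lifts]
    intro m
    rw [Polynomial.coeff_map]
    exact (hrange _).mp (q.coeff m).2
  obtain ⟨q', hq', -, hmon⟩ := Polynomial.lifts_and_natDegree_eq_and_monic hlift (hq.map _)
  refine ⟨q', hmon, ?_⟩
  rw [← Polynomial.eval_map, hq', Polynomial.eval_map]
  exact hqa

lemma comap_maximal_eq (Q : Ideal D.A) [Q.IsMaximal] :
    Q.comap ι = IsLocalRing.maximalIdeal C' := by
  let := ι.toAlgebra
  have : Algebra.IsIntegral C' D.A := ⟨D.isIntegral_of_range ι hrange⟩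
  exact IsLocalRing.eq_maximalIdeal (Ideal.isMaximal_comap_of_isIntegral_of_isMaximal (R := C') Q)

lemma comap_invariants_eq (Q Q' : Ideal D.A) [Q.IsMaximal] [Q'.IsMaximal] :
    Q.comap D.invariants.subtype = Q'.comap D.invariants.subtype := by
  ext c
  obtain ⟨r, hr⟩ := (hrange c.1).mp c.2
  show c.1 ∈ Q ↔ c.1 ∈ Q'
  rw [← hr, ← Ideal.mem_comap, ← Ideal.mem_comap, D.comap_maximal_eq ι hrange Q,
    D.comap_maximal_eq ι hrange Q']

lemma finite_maximalSpectrum : Finite (MaximalSpectrum D.A) := by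
  rcases isEmpty_or_nonempty (MaximalSpectrum D.A) with h | ⟨⟨Q₁⟩⟩
  · infer_instance
  have := ((D.finite_fibre Q₁.1).image fun Q => Q.comap D.τ.hom).to_subtype
  refine Finite.of_injective (β := ((fun Q : Ideal D.B => Q.comap D.τ.hom) ''
      {Q : Ideal D.B | Q.IsPrime ∧ Q.comap D.σ.hom = Q₁.1}))
    (fun Q => ⟨Q.1, ?_⟩) fun Q Q' h => MaximalSpectrum.ext (congrArg Subtype.val h)
  obtain ⟨Qb, hp, h0, h1⟩ :=
    D.exists_prime_of_comap_eq Q.1 Q₁.1 (D.comap_invariants_eq ι hrange Q.1 Q₁.1)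
  exact ⟨Qb, ⟨hp, h1⟩, h0⟩

/-- `B` is free over `A`. -/
lemma exists_basis_σ :
    ∃ n, Nonempty (letI := D.σ.hom.toAlgebra; Module.Basis (Fin n) D.A D.B) := by
  let := D.σ.hom.toAlgebra
  have := D.finite_maximalSpectrum ι hrange
  have : Module.Finite D.A D.B := D.σ_finite
  have : Module.Projective D.A D.B := by
    refine Module.Projective.of_split
      (LinearMap.mk ⟨D.P.coord, fun a b => map_add _ a b⟩ fun a b => ?_)
      (Fintype.linearCombination D.A D.P.e) ?_
    · exact D.P.coord_smul a b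
    · ext b
      simp [Fintype.linearCombination_apply, Algebra.smul_def, RingHom.algebraMap_toAlgebra,
        D.P.sum_coord]
  rcases isEmpty_or_nonempty (MaximalSpectrum D.A) with h | ⟨⟨Q₁⟩⟩
  · exact ⟨0, Module.nonempty_basis_of_flat_of_finrank_eq D.A D.B 0 fun P => h.elim P⟩
  refine ⟨Module.rankAtStalk D.B ⟨Q₁.1, inferInstance⟩,
    Module.nonempty_basis_of_flat_of_finrank_eq D.A D.B _ fun P => ?_⟩
  let := Ideal.Quotient.field P.1
  have hP : Module.rankAtStalk D.B (⟨P.1, inferInstance⟩ : PrimeSpectrum D.A) =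
      Module.rankAtStalk D.B (⟨Q₁.1, inferInstance⟩ : PrimeSpectrum D.A) := by
    obtain ⟨Qb, hp, h0, h1⟩ :=
      D.exists_prime_of_comap_eq P.1 Q₁.1 (D.comap_invariants_eq ι hrange P.1 Q₁.1)
    have e0 : PrimeSpectrum.comap D.τ.hom ⟨Qb, hp⟩ = ⟨P.1, inferInstance⟩ := PrimeSpectrum.ext h0
    have e1 : PrimeSpectrum.comap D.σ.hom ⟨Qb, hp⟩ = ⟨Q₁.1, inferInstance⟩ := PrimeSpectrum.ext h1
    rw [← e0, ← e1]
    exact D.finrank_comap_eq ⟨Qb, hp⟩
  rw [← hP]
  have h := Module.rankAtStalk_baseChange (R := D.A) (M := D.B)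
    (⟨⊥, Ideal.isPrime_bot⟩ : PrimeSpectrum (D.A ⧸ P.1))
  rw [Module.rankAtStalk_eq_finrank_of_free, Pi.natCast_apply] at h
  rw [Nat.cast_id] at h
  rw [h]
  congr 1
  refine PrimeSpectrum.ext ?_
  exact Ideal.mk_ker

/-- The structure over a local ring of invariants with infinite residue field. -/
theorem exists_basis_of_local [Infinite (IsLocalRing.ResidueField C')] {J : Type u} (a : J → D.A)
    (ha : letI := D.σ.hom.toAlgebra; Submodule.span D.A (Set.range fun j => D.τ (a j)) = ⊤)
    (hι : Function.Injective ι) :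
    ∃ n, Nonempty (letI := ι.toAlgebra; Module.Basis (Fin n) C' D.A) ∧
      Nonempty (letI := D.σ.hom.toAlgebra; Module.Basis (Fin n) D.A D.B) ∧
      (letI := ι.toAlgebra; Submodule.span C' (Set.range a) = ⊤) := by
  let := ι.toAlgebra
  let := D.σ.hom.toAlgebra
  let : Algebra C' D.B := (D.σ.hom.comp ι).toAlgebra
  have : IsScalarTower C' D.A D.B := .of_algebraMap_eq' rfl
  have := D.finite_maximalSpectrum ι hrange
  have : Algebra.IsIntegral C' D.A := ⟨D.isIntegral_of_range ι hrange⟩
  obtain ⟨n, ⟨b₀⟩⟩ := D.exists_basis_σ ι hrange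
  let τC : D.A →ₗ[C'] D.B :=
    { toFun := D.τ, map_add' := map_add _,
      map_smul' := fun c x => by
        simp only [Algebra.smul_def, RingHom.id_apply, RingHom.algebraMap_toAlgebra, map_mul]
        congr 1
        exact ((hrange (ι c)).mpr ⟨c, rfl⟩).symm }
  obtain ⟨b, hb⟩ := exists_basis_mem_of_span_eq_top b₀
    ((Submodule.span C' (Set.range a)).map τC) (by
      rw [eq_top_iff, ← ha]
      refine Submodule.span_mono ?_
      rintro _ ⟨j, rfl⟩
      exact ⟨a j, Submodule.subset_span ⟨j, rfl⟩, rfl⟩)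
  choose x hx hxb using hb
  have hb' : ∀ i, b i = D.τ (x i) := fun i => (hxb i).symm
  have hspan : ∀ z : D.A, z ∈ Submodule.span C' (Set.range x) := by
    intro z
    obtain ⟨c, hc⟩ := D.exists_invariant_coords x b hb' z
    rw [hc]
    refine Submodule.sum_mem _ fun i _ => ?_
    obtain ⟨r, hr⟩ := (hrange _).mp (c i).2
    rw [← hr]
    exact (Algebra.smul_def r (x i)) ▸ Submodule.smul_mem _ r (Submodule.subset_span ⟨i, rfl⟩)
  have hli : LinearIndependent C' x := by
    refine Fintype.linearIndependent_iff.mpr fun g hg i => hι ?_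
    let c : Fin n → D.invariants := fun i => ⟨ι (g i), (hrange _).mpr ⟨g i, rfl⟩⟩
    have h0 := D.eq_zero_of_sum_smul_eq_zero x b hb' c
      (by simpa [c, Algebra.smul_def, RingHom.algebraMap_toAlgebra] using hg)
    rw [map_zero]
    exact congrArg Subtype.val (congrFun h0 i)
  refine ⟨n, ⟨Module.Basis.mk hli fun z _ => hspan z⟩, ⟨b⟩, ?_⟩
  exact eq_top_iff.mpr fun z _ => Submodule.span_le.mpr (by
    rintro _ ⟨i, rfl⟩; exact hx i) (hspan z)

end RingGrpd

end Groth.Agent.GrpdLib
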