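import Groth.Agent.GrpdLib.EquivLocal
import Groth.Agent.ProjDesc.Basic
import Mathlib.RingTheory.Flat.FaithfullyFlat.Algebra

/-!
# An affine equivalence relation is the kernel pair of the map to the spectrum of the invariants
-/

universe u

open CategoryTheory TensorProduct

namespace Groth.Agent.GrpdLib.RingGrpd

variable (D : RingGrpd.{u})

attribute [local instance] algB algB₂

/-- The comparison map `a ⊗ a' ↦ σ a * τ a'`. -/
noncomputable def θ : D.A ⊗[D.invariants] D.A →ₐ[D.invariants] D.B :=
  Algebra.TensorProduct.productMap D.σA D.τA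

lemma θ_tmul (a a' : D.A) : D.θ (a ⊗ₜ a') = D.σ a * D.τ a' :=
  Algebra.TensorProduct.productMap_apply_tmul _ _ _ _

/-- `τ` generates `B` over `σ`. -/
def Gen : Prop := Function.Surjective D.θ

variable {D} (hgen : D.Gen)
include hgen

lemma exists_generators : ∃ (J : Type u) (_ : Fintype J) (a : J → D.A),
    letI := D.σ.hom.toAlgebra
    Submodule.span D.A (Set.range fun j => D.τ (a j)) = ⊤ := by
  let := D.σ.hom.toAlgebra
  have : Module.Finite D.A D.B := D.σ_finite
  have htop : Submodule.span D.A (Set.range D.τ) = ⊤ := by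
    rw [eq_top_iff]
    rintro b -
    obtain ⟨z, rfl⟩ := hgen b
    induction z using TensorProduct.induction_on with
    | zero => simp
    | tmul x y =>
      rw [θ_tmul]
      exact Submodule.smul_mem _ x (Submodule.subset_span ⟨y, rfl⟩)
    | add u v hu hv => rw [map_add]; exact add_mem hu hv
  obtain ⟨s, hs, hspan⟩ := (Submodule.fg_span_iff_fg_span_finset_subset _).mp
    (htop ▸ Module.Finite.fg_top (R := D.A) (M := D.B))
  choose a ha using fun j : s => hs j.2
  refine ⟨s, inferInstance, a, ?_⟩
  rw [show (fun j : s => D.τ (a j)) = Subtype.val from funext ha, Subtype.range_coe, ← hspan, htop]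

omit hgen in
lemma bc_span {J : Type u} (a : J → D.A) (C' : Type u) [CommRing C'] [Algebra D.invariants C']
    (ha : letI := D.σ.hom.toAlgebra; Submodule.span D.A (Set.range fun j => D.τ (a j)) = ⊤) :
    letI := (D.bc C').σ.hom.toAlgebra
    Submodule.span (D.bc C').A
      (Set.range fun j => (D.bc C').τ (D.tincl C' D.A (a j))) = ⊤ := by
  let := (D.bc C').σ.hom.toAlgebra
  have hincl : ∀ b : D.B, (D.tincl C' D.B b : (D.bc C').B) ∈ Submodule.span (D.bc C').A
      (Set.range fun j => (D.bc C').τ (D.tincl C' D.A (a j))) := by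
    intro b
    let := D.σ.hom.toAlgebra
    have hb : b ∈ Submodule.span D.A (Set.range fun j => D.τ (a j)) := ha ▸ trivial
    induction hb using Submodule.span_induction with
    | mem x hx =>
      obtain ⟨j, rfl⟩ := hx
      exact Submodule.subset_span ⟨j,
        (congrArg (fun f => f.hom (a j)) (D.tincl_naturality C' D.τA)).symm⟩
    | zero => erw [map_zero]; exact Submodule.zero_mem _
    | add x y _ _ hx hy => erw [map_add]; exact add_mem hx hy
    | smul r x _ hx =>
      rw [Algebra.smul_def]
      erw [map_mul]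
      rw [show D.tincl C' D.B (algebraMap D.A D.B r) = (D.bc C').σ (D.tincl C' D.A r) from
        congrArg (fun f => f.hom r) (D.tincl_naturality C' D.σA)]
      exact Submodule.smul_mem _ (D.tincl C' D.A r : (D.bc C').A) hx
  rw [eq_top_iff]
  intro z _
  induction z using TensorProduct.induction_on with
  | zero => exact Submodule.zero_mem _
  | tmul b c =>
    have h1 : (b ⊗ₜ c : D.B ⊗[D.invariants] C') =
        (Algebra.TensorProduct.map D.σA (AlgHom.id _ C') (D.bcMap C' c)) * (b ⊗ₜ 1) := by
      simp [Algebra.TensorProduct.tmul_mul_tmul]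
    rw [h1]
    exact Submodule.smul_mem _ (D.bcMap C' c : (D.bc C').A) (hincl b)
  | add u v hu hv => exact add_mem (hu trivial) (hv trivial)

/-- The local structure at the generic point over a prime of the invariants. -/
lemma exists_local_structure {J : Type u} (a : J → D.A)
    (ha : letI := D.σ.hom.toAlgebra; Submodule.span D.A (Set.range fun j => D.τ (a j)) = ⊤)
    (p : Ideal D.invariants) [p.IsPrime] :
    ∃ n,
      Nonempty (letI := (D.bcMap (GenPt p)).toAlgebra;
        Module.Basis (Fin n) (GenPt p) (D.A ⊗[D.invariants] GenPt p)) ∧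
      Nonempty (letI := (D.bc (GenPt p)).σ.hom.toAlgebra;
        Module.Basis (Fin n) (D.bc (GenPt p)).A (D.bc (GenPt p)).B) ∧
      (letI := (D.bcMap (GenPt p)).toAlgebra;
        Submodule.span (GenPt p) (Set.range fun j => a j ⊗ₜ[D.invariants] (1 : GenPt p)) = ⊤) :=
  (D.bc (GenPt p)).exists_basis_of_local (D.bcMap (GenPt p))
    (fun z => ⟨fun hz => (D.injective_and_range_of_flat (GenPt p)).2 z hz,
      by rintro ⟨c, rfl⟩; exact D.bcMap_mem _ c⟩)
    (fun j => D.tincl (GenPt p) D.A (a j)) (bc_span a _ ha)
    (D.injective_and_range_of_flat (GenPt p)).1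

omit hgen in
lemma exists_smul_mem_span {J : Type*} (a : J → D.A) (p : Ideal D.invariants) [p.IsPrime]
    (h : letI := (D.bcMap (GenPt p)).toAlgebra;
      Submodule.span (GenPt p) (Set.range fun j => a j ⊗ₜ[D.invariants] (1 : GenPt p)) = ⊤)
    (z : D.A) : ∃ s, s ∉ p ∧ s • z ∈ Submodule.span D.invariants (Set.range a) := by
  let := (D.bcMap (GenPt p)).toAlgebra
  let M := Submodule.span D.invariants (Set.range a)
  have hz : ∀ w : D.A ⊗[D.invariants] GenPt p, M.mkQ.rTensor (GenPt p) w = 0 := by
    intro w
    have hw : w ∈ Submodule.span (GenPt p) (Set.range fun j => a j ⊗ₜ[D.invariants] (1 : GenPt p)) :=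
      h ▸ trivial
    suffices ∀ c : GenPt p, M.mkQ.rTensor (GenPt p) (D.bcMap (GenPt p) c * w) = 0 by
      have := this 1
      rwa [map_one, one_mul] at this
    induction hw using Submodule.span_induction with
    | mem x hx =>
      obtain ⟨j, rfl⟩ := hx
      intro c
      simp only [bcMap, AlgHom.toRingHom_eq_coe, RingHom.coe_coe,
        Algebra.TensorProduct.includeRight_apply, Algebra.TensorProduct.tmul_mul_tmul, one_mul,
        mul_one, LinearMap.rTensor_tmul, Submodule.mkQ_apply,
        (Submodule.Quotient.mk_eq_zero M).mpr (Submodule.subset_span ⟨j, rfl⟩), zero_tmul]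
    | zero => simp
    | add x y _ _ hx hy => intro c; rw [mul_add, map_add, hx, hy, add_zero]
    | smul r x _ hx =>
      intro c
      rw [Algebra.smul_def, RingHom.algebraMap_toAlgebra, ← mul_assoc, ← map_mul]
      exact hx _
  obtain ⟨s, hs, h0⟩ := exists_smul_eq_zero (p := p) (m := M.mkQ z)
    (by rw [← LinearMap.rTensor_tmul]; exact hz _)
  exact ⟨s, hs, (Submodule.Quotient.mk_eq_zero M).mp h0⟩

lemma span_eq_top {J : Type u} (a : J → D.A)
    (ha : letI := D.σ.hom.toAlgebra; Submodule.span D.A (Set.range fun j => D.τ (a j)) = ⊤) :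
    Submodule.span D.invariants (Set.range a) = ⊤ := by
  rw [eq_top_iff]
  intro z _
  by_contra hz
  let I : Ideal D.invariants := (Submodule.span D.invariants (Set.range a)).comap
    (LinearMap.toSpanSingleton D.invariants D.A z)
  obtain ⟨p, hp, hle⟩ := Ideal.exists_le_maximal I (fun h => hz (by
    simpa [I] using (h ▸ trivial : (1 : D.invariants) ∈ I)))
  obtain ⟨n, -, -, hsp⟩ := exists_local_structure hgen a ha p
  obtain ⟨s, hs, hm⟩ := exists_smul_mem_span a p hsp z
  exact hs (hle hm)

lemma finite_invariants : Module.Finite D.invariants D.A := by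
  obtain ⟨J, _, a, ha⟩ := exists_generators hgen
  exact ⟨Submodule.fg_def.mpr ⟨_, Set.finite_range a, span_eq_top hgen a ha⟩⟩

lemma flat_invariants : Module.Flat D.invariants D.A := by
  rw [Module.Flat.iff_rTensor_injective']
  intro I
  rw [injective_iff_map_eq_zero]
  intro z hz
  by_contra hne
  obtain ⟨p, hp, hle⟩ := Ideal.exists_le_maximal
    (LinearMap.ker (LinearMap.toSpanSingleton D.invariants _ z)) (fun h => hne (by
      simpa using LinearMap.mem_ker.mp (h ▸ trivial :
        (1 : D.invariants) ∈ LinearMap.ker (LinearMap.toSpanSingleton D.invariants _ z))))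
  obtain ⟨J, _, a, ha⟩ := exists_generators hgen
  obtain ⟨n, ⟨bA⟩, -, -⟩ := exists_local_structure hgen a ha p
  have hflat : Module.Flat D.invariants (D.A ⊗[D.invariants] GenPt p) := by
    let := (D.bcMap (GenPt p)).toAlgebra
    have : IsScalarTower D.invariants (GenPt p) (D.A ⊗[D.invariants] GenPt p) :=
      .of_algebraMap_eq fun c =>
        ((Algebra.TensorProduct.includeRight (R := D.invariants) (A := D.A)).commutes c).symm
    have : Module.Free (GenPt p) (D.A ⊗[D.invariants] GenPt p) := .of_basis bA
    exact Module.Flat.trans D.invariants (GenPt p) _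
  have h1 : z ⊗ₜ[D.invariants] (1 : GenPt p) = 0 := by
    let e := TensorProduct.assoc D.invariants I D.A (GenPt p)
    apply e.injective
    rw [map_zero]
    apply Module.Flat.rTensor_preserves_injective_linearMap (M := D.A ⊗[D.invariants] GenPt p)
      (Submodule.subtype I) Subtype.val_injective
    rw [map_zero]
    have : (Submodule.subtype I).rTensor (D.A ⊗[D.invariants] GenPt p) ∘ₗ e.toLinearMap =
        (TensorProduct.assoc D.invariants D.invariants D.A (GenPt p)).toLinearMap ∘ₗ
          ((Submodule.subtype I).rTensor D.A).rTensor (GenPt p) := by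
      ext; rfl
    refine (LinearMap.congr_fun this (z ⊗ₜ 1)).trans ?_
    simp [hz]
  obtain ⟨s, hs, h0⟩ := exists_smul_eq_zero h1
  exact hs (hle h0)

lemma faithfullyFlat_invariants : Module.FaithfullyFlat D.invariants D.A := by
  have := flat_invariants hgen
  have := D.isIntegral
  exact Module.FaithfullyFlat.of_comap_surjective fun p => by
    obtain ⟨P, -, hP, hPp⟩ := Ideal.exists_ideal_over_prime_of_isIntegral (S := D.A) p.asIdeal ⊥
      (by
        intro c hc
        have : c = 0 := Subtype.val_injective (by simpa using hc)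
        rw [this]; exact zero_mem _)
    exact ⟨⟨P, hP⟩, PrimeSpectrum.ext hPp⟩

lemma injective_θ : Function.Injective D.θ := by
  rw [injective_iff_map_eq_zero]
  intro z hz
  by_contra hne
  obtain ⟨p, hp, hle⟩ := Ideal.exists_le_maximal
    (LinearMap.ker (LinearMap.toSpanSingleton D.invariants _ z)) (fun h => hne (by
      simpa using LinearMap.mem_ker.mp (h ▸ trivial :
        (1 : D.invariants) ∈ LinearMap.ker (LinearMap.toSpanSingleton D.invariants _ z))))
  obtain ⟨J, _, a, ha⟩ := exists_generators hgen
  obtain ⟨n, ⟨bA⟩, ⟨bB⟩, hsp⟩ := exists_local_structure hgen a ha p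
  obtain ⟨x, hx⟩ : ∃ x : Fin n → D.A,
      (letI := (D.bcMap (GenPt p)).toAlgebra;
        Submodule.span (GenPt p) (Set.range fun i => x i ⊗ₜ[D.invariants] (1 : GenPt p)) = ⊤) := by
    let := (D.bcMap (GenPt p)).toAlgebra
    have := Module.Free.of_basis bA
    have := Module.Finite.of_basis bA
    have := Module.finitePresentation_of_projective (GenPt p) (D.A ⊗[D.invariants] GenPt p)
    obtain ⟨κ, f, b, hb⟩ := Module.exists_basis_of_span_of_flat _ hsp
    refine ⟨fun i => a (f ((bA.indexEquiv b) i)), ?_⟩
    have : (fun i => a (f ((bA.indexEquiv b) i)) ⊗ₜ[D.invariants] (1 : GenPt p)) =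
        b ∘ (bA.indexEquiv b) := funext fun i => (hb _).symm
    rw [this, Set.range_comp, Equiv.range_eq_univ, Set.image_univ, b.span_eq]
  let N : Submodule D.invariants (D.A ⊗[D.invariants] D.A) :=
    LinearMap.range (∑ i, (TensorProduct.mk D.invariants D.A D.A).flip (x i) ∘ₗ
      LinearMap.proj (φ := fun _ : Fin n => D.A) i)
  have hsat : ∀ w, ∃ s, s ∉ p ∧ s • w ∈ N := by
    intro w
    induction w using TensorProduct.induction_on with
    | zero => exact ⟨1, fun h => hp.ne_top ((Ideal.eq_top_iff_one p).mpr h), by simp⟩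
    | tmul u v =>
      obtain ⟨s, hs, hm⟩ := exists_smul_mem_span x p hx v
      refine ⟨s, hs, ?_⟩
      rw [← TensorProduct.tmul_smul]
      generalize s • v = y at hm ⊢
      induction hm using Submodule.span_induction with
      | mem y hy =>
        obtain ⟨i, rfl⟩ := hy
        refine ⟨Pi.single i u, ?_⟩
        simp only [LinearMap.sum_apply, LinearMap.comp_apply, LinearMap.proj_apply]
        rw [Finset.sum_eq_single i (fun j _ hj => by simp [hj]) (by simp)]
        simp
      | zero => simp
      | add y y' _ _ hy hy' => rw [TensorProduct.tmul_add]; exact add_mem hy hy'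
      | smul r y _ hy => rw [TensorProduct.tmul_smul]; exact N.smul_mem r hy
    | add w w' hw hw' =>
      obtain ⟨s, hs, hm⟩ := hw; obtain ⟨s', hs', hm'⟩ := hw'
      refine ⟨s * s', fun h => (hp.isPrime.mem_or_mem h).elim hs hs', ?_⟩
      rw [smul_add]
      exact add_mem (by rw [mul_comm, mul_smul]; exact N.smul_mem _ hm)
        (by rw [mul_smul]; exact N.smul_mem _ hm')
  obtain ⟨s, hs, w, hw⟩ := hsat z
  simp only [LinearMap.sum_apply, LinearMap.comp_apply, LinearMap.proj_apply,
    LinearMap.flip_apply, TensorProduct.mk_apply] at hw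
  have hθ : ∑ i, D.σ (w i) * D.τ (x i) = 0 := by
    have := congrArg D.θ hw
    rw [map_sum, map_smul, hz, smul_zero] at this
    simpa [θ_tmul] using this
  have h1 : ∀ i, w i ⊗ₜ[D.invariants] (1 : GenPt p) = 0 := by
    let := (D.bc (GenPt p)).σ.hom.toAlgebra
    have hspanB : Submodule.span (D.bc (GenPt p)).A
        (Set.range fun i => (D.bc (GenPt p)).τ (D.tincl (GenPt p) D.A (x i))) = ⊤ := by
      rw [eq_top_iff, ← bc_span a (GenPt p) ha, Submodule.span_le]
      rintro _ ⟨j, rfl⟩
      let := (D.bcMap (GenPt p)).toAlgebra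
      have hj : (a j ⊗ₜ 1 : D.A ⊗[D.invariants] GenPt p) ∈
          Submodule.span (GenPt p) (Set.range fun i => x i ⊗ₜ[D.invariants] (1 : GenPt p)) :=
        hx ▸ trivial
      obtain ⟨c, hc⟩ := (Submodule.mem_span_range_iff_exists_fun _).mp hj
      show (D.bc (GenPt p)).τ (D.tincl (GenPt p) D.A (a j)) ∈ _
      rw [show (D.tincl (GenPt p) D.A (a j) : (D.bc (GenPt p)).A) =
        ∑ i, (D.bcMap (GenPt p) (c i) : (D.bc (GenPt p)).A) *
          (D.tincl (GenPt p) D.A (x i) : (D.bc (GenPt p)).A) from hc.symm]
      erw [map_sum]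
      refine Submodule.sum_mem _ fun i _ => ?_
      erw [map_mul, ← D.bcMap_mem (GenPt p) (c i)]
      exact Submodule.smul_mem _ _ (Submodule.subset_span ⟨i, rfl⟩)
    have h0 := eq_zero_of_span_eq_top bB _ hspanB
      (fun i => (D.tincl (GenPt p) D.A (w i) : (D.bc (GenPt p)).A)) (by
        have := congrArg (D.tincl (GenPt p) D.B) hθ
        erw [map_sum, map_zero] at this
        refine Eq.trans (Finset.sum_congr rfl fun i _ => ?_) this
        erw [map_mul]
        rw [Algebra.smul_def]
        exact congrArg₂ (· * ·)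
          (congrArg (fun f => f.hom (w i)) (D.tincl_naturality (GenPt p) D.σA)).symm
          (congrArg (fun f => f.hom (x i)) (D.tincl_naturality (GenPt p) D.τA)).symm)
    exact fun i => congrFun h0 i
  choose t ht ht0 using fun i => exists_smul_eq_zero (h1 i)
  have hprod : (∏ i, t i) * s ∈ LinearMap.ker (LinearMap.toSpanSingleton D.invariants _ z) := by
    rw [LinearMap.mem_ker, LinearMap.toSpanSingleton_apply, mul_smul, ← hw, Finset.smul_sum]
    refine Finset.sum_eq_zero fun i _ => ?_
    rw [← Finset.prod_erase_mul _ _ (Finset.mem_univ i), mul_smul, TensorProduct.smul_tmul', ht0,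
      TensorProduct.zero_tmul, smul_zero]
  rcases hp.isPrime.mem_or_mem (hle hprod) with h | h
  · obtain ⟨i, -, hi⟩ := (Ideal.IsPrime.prod_mem_iff (hp := hp.isPrime)).mp h
    exact ht i hi
  · exact hs h

lemma bijective_θ : Function.Bijective D.θ := ⟨injective_θ hgen, hgen⟩

lemma projective_invariants : Module.Projective D.invariants D.A := by
  have := faithfullyFlat_invariants hgen
  let := D.σ.hom.toAlgebra
  let e : (D.A ⊗[D.invariants] D.A) ≃ₗ[D.A] D.B :=
    { Equiv.ofBijective D.θ (bijective_θ hgen) with
      map_add' := map_add D.θ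
      map_smul' := fun c w => by
        show D.θ (c • w) = c • D.θ w
        rw [Algebra.smul_def c w, map_mul, Algebra.TensorProduct.algebraMap_apply, θ_tmul, map_one,
          mul_one, Algebra.smul_def]
        rfl }
  have : Module.Projective D.A D.B := by
    refine Module.Projective.of_split
      (LinearMap.mk ⟨D.P.coord, fun a b => map_add _ a b⟩ fun a b => ?_)
      (Fintype.linearCombination D.A D.P.e) ?_
    · exact D.P.coord_smul a b
    · ext b
      simp [Fintype.linearCombination_apply, Algebra.smul_def, RingHom.algebraMap_toAlgebra,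
        D.P.sum_coord]
  have : Module.Projective D.A (D.A ⊗[D.invariants] D.A) := .of_equiv e.symm
  exact ProjDesc.projective_of_baseChange D.invariants D.A D.A

/-- `B = A ⊗_C A`. -/
lemma isPushout_invariants :
    IsPushout (CommRingCat.ofHom D.invariants.subtype) (CommRingCat.ofHom D.invariants.subtype)
      D.σ D.τ :=
  (CommRingCat.isPushout_tensorProduct D.invariants D.A D.A).of_iso (Iso.refl _) (Iso.refl _)
    (Iso.refl _) (RingEquiv.ofBijective D.θ.toRingHom (bijective_θ hgen)).toCommRingCatIso
    (by simp; rfl) (by simp; rfl)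
    (by ext a; exact (D.θ_tmul a 1).trans (by simp))
    (by ext a; exact (D.θ_tmul 1 a).trans (by simp))

end Groth.Agent.GrpdLib.RingGrpd
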