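import Groth.Agent.GrpdLib.RingGrpdChi
import Mathlib.FieldTheory.IsAlgClosed.AlgebraicClosure
import Mathlib.RingTheory.Flat.Stability
import Mathlib.RingTheory.IntegralClosure.IsIntegralClosure.Basic

/-!
# Base change of the ring data along the invariants
-/

universe u

open CategoryTheory Polynomial TensorProduct

namespace Groth.Agent.GrpdLib

lemma exists_ringHom_of_isIntegral_of_isDomain {R S Ω : Type u} [CommRing R] [IsDomain R]
    [CommRing S] [IsDomain S] [Algebra R S] [Algebra.IsIntegral R S]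
    (hi : Function.Injective (algebraMap R S)) [Field Ω] [IsAlgClosed Ω]
    (f : R →+* Ω) (hf : Function.Injective f) : ∃ ψ : S →+* Ω, ψ.comp (algebraMap R S) = f := by
  let := f.toAlgebra
  have : Module.IsTorsionFree R Ω := Module.isTorsionFree_iff_algebraMap_injective.mpr hf
  have : Module.IsTorsionFree R S := Module.isTorsionFree_iff_algebraMap_injective.mpr hi
  have : Algebra.IsAlgebraic R S := Algebra.IsIntegral.isAlgebraic
  exact ⟨(IsAlgClosed.lift : S →ₐ[R] Ω).toRingHom,
    RingHom.ext fun c => (IsAlgClosed.lift : S →ₐ[R] Ω).commutes c⟩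

lemma exists_ringHom_quotient {R S Ω : Type u} [CommRing R] [CommRing S] [Algebra R S]
    [Algebra.IsIntegral R S] [Field Ω] [IsAlgClosed Ω]
    (p : Ideal R) [p.IsPrime] (P : Ideal S) [P.IsPrime] [P.LiesOver p] (f : R ⧸ p →+* Ω) (hf : Function.Injective f) :
    ∃ ψ : S ⧸ P →+* Ω, ψ.comp (algebraMap (R ⧸ p) (S ⧸ P)) = f := by
  have : Algebra.IsIntegral (R ⧸ p) (S ⧸ P) := Algebra.IsIntegral.tower_top R
  refine exists_ringHom_of_isIntegral_of_isDomain (fun x y h => ?_) f hf
  obtain ⟨x, rfl⟩ := Ideal.Quotient.mk_surjective x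
  obtain ⟨y, rfl⟩ := Ideal.Quotient.mk_surjective y
  rw [Ideal.Quotient.algebraMap_mk_of_liesOver, Ideal.Quotient.algebraMap_mk_of_liesOver, Ideal.Quotient.eq, ← map_sub] at h
  rw [Ideal.Quotient.eq, P.over_def p]
  exact h

/-- Homomorphisms into algebraically closed fields extend along injective integral extensions. -/
lemma exists_ringHom_of_isIntegral {R S Ω : Type u} [CommRing R] [CommRing S] [Algebra R S]
    [Algebra.IsIntegral R S] [Field Ω] [IsAlgClosed Ω] (hinj : Function.Injective (algebraMap R S))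
    (φ : R →+* Ω) : ∃ ψ : S →+* Ω, ψ.comp (algebraMap R S) = φ := by
  have hp : (RingHom.ker φ).IsPrime := RingHom.ker_isPrime φ
  obtain ⟨P, -, hP, hPp⟩ := Ideal.exists_ideal_over_prime_of_isIntegral (S := S) (RingHom.ker φ) ⊥
    (by
      rw [← RingHom.ker_eq_comap_bot, (RingHom.injective_iff_ker_eq_bot _).mp hinj]
      exact bot_le)
  have : P.LiesOver (RingHom.ker φ) := ⟨hPp.symm⟩
  obtain ⟨ψ, hψ⟩ := exists_ringHom_quotient (RingHom.ker φ) P (RingHom.kerLift φ)
    (RingHom.kerLift_injective φ)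
  exact ⟨ψ.comp (Ideal.Quotient.mk P),
    RingHom.ext fun c => DFunLike.congr_fun hψ (Ideal.Quotient.mk _ c)⟩

namespace RingGrpd

variable (D : RingGrpd.{u})

/-- `B` as an algebra over the invariants. -/
@[reducible] noncomputable def algB : Algebra D.invariants D.B :=
  (D.σ.hom.comp D.invariants.subtype).toAlgebra

/-- `B₂` as an algebra over the invariants. -/
@[reducible] noncomputable def algB₂ : Algebra D.invariants D.B₂ :=
  (D.π₁.hom.comp (D.σ.hom.comp D.invariants.subtype)).toAlgebra

attribute [local instance] algB algB₂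

lemma σ_inv (c : D.invariants) : D.σ (c : D.A) = D.τ (c : D.A) := c.2

/-- `σ` over the invariants. -/
noncomputable def σA : D.A →ₐ[D.invariants] D.B := ⟨D.σ.hom, fun _ => rfl⟩

/-- `τ` over the invariants. -/
noncomputable def τA : D.A →ₐ[D.invariants] D.B := ⟨D.τ.hom, fun c => (D.σ_inv c).symm⟩

/-- `ε` over the invariants. -/
noncomputable def εA : D.B →ₐ[D.invariants] D.A := ⟨D.ε.hom, fun c => D.ε_σ _⟩

/-- `π₁` over the invariants. -/
noncomputable def π₁A : D.B →ₐ[D.invariants] D.B₂ := ⟨D.π₁.hom, fun _ => rfl⟩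

lemma π₂_inv (c : D.invariants) : D.π₂ (D.σ (c : D.A)) = D.π₁ (D.σ (c : D.A)) := by
  rw [show D.π₂ (D.σ (c : D.A)) = D.π₂ (D.τ (c : D.A)) by rw [D.σ_inv]]
  exact congrArg (fun f => f.hom (c : D.A)) D.hfst.w

/-- `π₂` over the invariants. -/
noncomputable def π₂A : D.B →ₐ[D.invariants] D.B₂ := ⟨D.π₂.hom, D.π₂_inv⟩

/-- `γ` over the invariants. -/
noncomputable def γA : D.B →ₐ[D.invariants] D.B₂ :=
  ⟨D.γ.hom, fun c => ((congrArg (fun f => f.hom (c : D.A)) D.hcomp.w).symm).trans (D.π₂_inv c)⟩

variable (C' : Type u) [CommRing C'] [Algebra D.invariants C']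

/-- `f ⊗ C'` as a morphism of rings. -/
noncomputable def tmap {A B : Type u} [CommRing A] [CommRing B] [Algebra D.invariants A]
    [Algebra D.invariants B] (f : A →ₐ[D.invariants] B) :
    CommRingCat.of (A ⊗[D.invariants] C') ⟶ CommRingCat.of (B ⊗[D.invariants] C') :=
  CommRingCat.ofHom (Algebra.TensorProduct.map f (AlgHom.id D.invariants C')).toRingHom

/-- `x ↦ x ⊗ 1`. -/
noncomputable def tincl (A : Type u) [CommRing A] [Algebra D.invariants A] :
    CommRingCat.of A ⟶ CommRingCat.of (A ⊗[D.invariants] C') :=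
  CommRingCat.ofHom Algebra.TensorProduct.includeLeftRingHom

lemma tmap_comp {A B E : Type u} [CommRing A] [CommRing B] [CommRing E] [Algebra D.invariants A]
    [Algebra D.invariants B] [Algebra D.invariants E] (f : A →ₐ[D.invariants] B)
    (g : B →ₐ[D.invariants] E) : D.tmap C' f ≫ D.tmap C' g = D.tmap C' (g.comp f) := by
  ext : 1
  exact congrArg AlgHom.toRingHom
    (Algebra.TensorProduct.map_comp g f (AlgHom.id _ _) (AlgHom.id _ _)).symm

lemma tmap_id (A : Type u) [CommRing A] [Algebra D.invariants A] :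
    D.tmap C' (AlgHom.id D.invariants A) = 𝟙 _ := by
  ext : 1
  simp [tmap]

lemma tincl_naturality {A B : Type u} [CommRing A] [CommRing B] [Algebra D.invariants A]
    [Algebra D.invariants B] (f : A →ₐ[D.invariants] B) :
    CommRingCat.ofHom f.toRingHom ≫ D.tincl C' B = D.tincl C' A ≫ D.tmap C' f := by
  ext x
  exact (Algebra.TensorProduct.map_tmul f (AlgHom.id D.invariants C') x 1).symm

lemma isPushout_tmap {A B : Type u} [CommRing A] [CommRing B] [Algebra D.invariants A]
    [Algebra D.invariants B] (f : A →ₐ[D.invariants] B) :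
    IsPushout (D.tincl C' A) (CommRingCat.ofHom f.toRingHom) (D.tmap C' f) (D.tincl C' B) := by
  have hA := CommRingCat.isPushout_tensorProduct D.invariants A C'
  have hB := CommRingCat.isPushout_tensorProduct D.invariants B C'
  have e1 : CommRingCat.ofHom (algebraMap D.invariants B) =
      CommRingCat.ofHom (algebraMap D.invariants A) ≫ CommRingCat.ofHom f.toRingHom := by
    ext c; exact (f.commutes c).symm
  have e2 : CommRingCat.ofHom (S := B ⊗[D.invariants] C')
      Algebra.TensorProduct.includeRight.toRingHom =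
      CommRingCat.ofHom (S := A ⊗[D.invariants] C') Algebra.TensorProduct.includeRight.toRingHom ≫
        D.tmap C' f := by
    ext c
    refine (Eq.trans ?_ (Algebra.TensorProduct.map_tmul f (AlgHom.id D.invariants C') 1 c).symm)
    simp
  rw [e1, e2] at hB
  exact (IsPushout.of_left hB (D.tincl_naturality C' f) hA).flip

/-- The base change of the ring data along the invariants. -/
noncomputable def bc : RingGrpd.{u} :=
  D.ofBaseChange (D.tincl C' D.A) (D.tincl C' D.B) (D.tincl C' D.B₂) (D.tmap C' D.σA)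
    (D.tmap C' D.τA) (D.tmap C' D.εA) (D.tmap C' D.π₁A) (D.tmap C' D.π₂A) (D.tmap C' D.γA)
    (D.isPushout_tmap C' D.σA) (D.isPushout_tmap C' D.π₂A) (D.tincl_naturality C' D.τA)
    (D.tincl_naturality C' D.π₁A) (D.tincl_naturality C' D.γA)
    (by rw [tmap_comp, tmap_comp]; congr 1; ext a; exact congrArg (fun f => f.hom a) D.hfst.w)
    (by rw [tmap_comp, tmap_comp]; congr 1; ext a; exact congrArg (fun f => f.hom a) D.hcomp.w)
    (by rw [tmap_comp, ← tmap_id]; congr 1; ext a; exact D.ε_σ a)
    (by rw [tmap_comp, ← tmap_id]; congr 1; ext a; exact D.ε_τ a)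
    (by rw [tmap_comp, tmap_comp]; congr 1; ext a; exact congrArg (fun f => f.hom a) D.τ_γ)

/-- The structure map of the base change. -/
noncomputable abbrev bcMap : C' →+* D.A ⊗[D.invariants] C' :=
  (Algebra.TensorProduct.includeRight : C' →ₐ[D.invariants] D.A ⊗[D.invariants] C').toRingHom

lemma bcMap_mem (c : C') : D.bcMap C' c ∈ (D.bc C').invariants := by
  show Algebra.TensorProduct.map D.σA (AlgHom.id _ C') (1 ⊗ₜ c) =
    Algebra.TensorProduct.map D.τA (AlgHom.id _ C') (1 ⊗ₜ c)
  simp

/-- (a) an invariant of the base change is, up to a purely inseparable relation, a scalar. -/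
lemma exists_pow_eq_map_of_mem (f : D.A ⊗[D.invariants] C') (hf : f ∈ (D.bc C').invariants) :
    ∃ (n : ℕ) (Q : C'[X]), 0 < n ∧ Q.map (D.bcMap C') = (X - C f) ^ n := by
  let φA : MvPolynomial C' D.A →+* D.A ⊗[D.invariants] C' :=
    MvPolynomial.eval₂Hom Algebra.TensorProduct.includeLeftRingHom (fun c => 1 ⊗ₜ c)
  let φB : MvPolynomial C' D.B →+* D.B ⊗[D.invariants] C' :=
    MvPolynomial.eval₂Hom Algebra.TensorProduct.includeLeftRingHom (fun c => 1 ⊗ₜ c)
  have hnat : ∀ g : D.A →ₐ[D.invariants] D.B,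
      φB.comp (MvPolynomial.map g.toRingHom) =
        (Algebra.TensorProduct.map g (AlgHom.id _ C')).toRingHom.comp φA := by
    intro g
    refine MvPolynomial.ringHom_ext (fun a => ?_) (fun c => ?_) <;> simp [φA, φB]
  obtain ⟨F, rfl⟩ : ∃ F, φA F = f := by
    clear hf
    induction f using TensorProduct.induction_on with
    | zero => exact ⟨0, map_zero _⟩
    | tmul a c => exact ⟨MvPolynomial.C a * MvPolynomial.X c, by simp [φA]⟩
    | add x y hx hy =>
      obtain ⟨X, rfl⟩ := hx; obtain ⟨Y, rfl⟩ := hy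
      exact ⟨X + Y, map_add _ _ _⟩
  have hmem : ∀ H ∈ (D.mv C').invariants, φA H ∈ Set.range (D.bcMap C') := by
    intro H hH
    have : φA H ∈ (D.bcMap C').range := by
      rw [H.as_sum, map_sum]
      refine sum_mem fun d _ => ?_
      rw [MvPolynomial.monomial_eq, map_mul]
      refine mul_mem ?_ ?_
      · refine ⟨algebraMap D.invariants C' (⟨H.coeff d, D.coeff_mem_of_mem_mv hH d⟩ : D.invariants), ?_⟩
        refine Eq.trans ?_ (MvPolynomial.eval₂Hom_C _ _ _).symm
        exact (Algebra.TensorProduct.includeRight (R := D.invariants) (A := D.A)).commutes _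
      · simp only [Finsupp.prod, map_prod, map_pow]
        refine prod_mem fun c _ => pow_mem ?_ _
        exact RingHom.mem_range.mpr ⟨c, (MvPolynomial.eval₂Hom_X' _ _ c).symm⟩
    exact RingHom.mem_range.mp this
  refine (D.bc C').exists_pow_eq_map (D.bcMap C') hf (fun r => ?_) (fun m => ?_)
  · obtain ⟨P', -, -, -, hP'⟩ := exists_pres_baseChange' (D.isPushout_tmap C' D.σA) D.P
    have : (D.bc C').rankIdem r = D.tincl C' D.A (D.rankIdem r) := by
      have h0 := hP' 0
      rw [map_zero] at h0
      have := congrArg (fun q => q.coeff r) ((Pres.chi_eq (D.bc C').P P' 0).trans h0)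
      exact this.trans (coeff_map _ _)
    refine ⟨algebraMap D.invariants C' ⟨_, D.rankIdem_mem r⟩, ?_⟩
    rw [this]
    exact (Algebra.TensorProduct.includeRight (R := D.invariants) (A := D.A)).commutes _
  · have hpush : IsPushout (CommRingCat.ofHom φA) (D.mv C').σ (D.bc C').σ (CommRingCat.ofHom φB) := by
      refine IsPushout.of_left (h₁₁ := mvC C' D.A) (h₂₁ := mvC C' D.B) ?_ ?_
        (isPushout_mvMap C' D.σ)
      · have eA : mvC C' D.A ≫ CommRingCat.ofHom φA = D.tincl C' D.A := by
          ext x; exact MvPolynomial.eval₂Hom_C _ _ x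
        have eB : mvC C' D.B ≫ CommRingCat.ofHom φB = D.tincl C' D.B := by
          ext x; exact MvPolynomial.eval₂Hom_C _ _ x
        exact eA ▸ eB ▸ D.isPushout_tmap C' D.σA
      · ext : 1; exact (hnat D.σA).symm
    obtain ⟨P', -, -, -, hP'⟩ := exists_pres_baseChange' hpush (D.mv C').P
    have hτ : (D.bc C').τ (φA F) = φB ((D.mv C').τ F) :=
      (DFunLike.congr_fun (hnat D.τA) F).symm
    have hchi : (D.bc C').chi (φA F) = ((D.mv C').chi F).map φA := by
      show (D.bc C').P.chi _ = _
      rw [hτ]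
      exact (Pres.chi_eq (D.bc C').P P' _).trans (hP' _)
    rw [hchi]
    refine (?_ : _ ∈ Set.range (D.bcMap C'))
    erw [coeff_map]
    exact hmem _ ((D.mv C').coeff_chi_mem F m)

/-- Points with values in algebraically closed fields lift. -/
lemma exists_lift_algClosed {Ω : Type u} [Field Ω] [IsAlgClosed Ω] (φ : D.invariants →+* Ω) :
    ∃ ψ : D.A →+* Ω, ψ.comp D.invariants.subtype = φ :=
  have := D.isIntegral
  exists_ringHom_of_isIntegral (S := D.A) Subtype.val_injective φ

/-- (b) the kernel of the structure map consists of nilpotents. -/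
lemma isNilpotent_of_bcMap_eq_zero (c : C') (hc : D.bcMap C' c = 0) : IsNilpotent c := by
  rw [nilpotent_iff_mem_prime]
  intro q hq
  let Ω := AlgebraicClosure (FractionRing (C' ⧸ q))
  let g : C' →+* Ω :=
    ((algebraMap (FractionRing (C' ⧸ q)) Ω).comp (algebraMap _ _)).comp (Ideal.Quotient.mk q)
  obtain ⟨ψ, hψ⟩ := D.exists_lift_algClosed (g.comp (algebraMap D.invariants C'))
  let := (g.comp (algebraMap D.invariants C')).toAlgebra
  let gA : C' →ₐ[D.invariants] Ω := ⟨g, fun _ => rfl⟩
  let ψA : D.A →ₐ[D.invariants] Ω := ⟨ψ, fun c => DFunLike.congr_fun hψ c⟩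
  have h := congrArg (Algebra.TensorProduct.productMap ψA gA) hc
  simp only [bcMap, AlgHom.toRingHom_eq_coe, RingHom.coe_coe, map_zero] at h
  rw [Algebra.TensorProduct.includeRight_apply, Algebra.TensorProduct.productMap_apply_tmul,
    map_one, one_mul] at h
  rw [← Ideal.Quotient.eq_zero_iff_mem]
  apply IsFractionRing.injective (C' ⧸ q) (FractionRing (C' ⧸ q))
  apply (algebraMap (FractionRing (C' ⧸ q)) Ω).injective
  simpa [g, gA] using h

/-- (c) for a flat base change the invariants are the scalars. -/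
lemma injective_and_range_of_flat [Module.Flat D.invariants C'] :
    Function.Injective (D.bcMap C') ∧
      ∀ f ∈ (D.bc C').invariants, f ∈ Set.range (D.bcMap C') := by
  let ι : D.invariants →ₗ[D.invariants] D.A := Algebra.linearMap _ _
  let δ : D.A →ₗ[D.invariants] D.B := D.σA.toLinearMap - D.τA.toLinearMap
  have hex : Function.Exact ι δ := fun a =>
    ⟨fun h => ⟨⟨a, sub_eq_zero.mp h⟩, rfl⟩, by rintro ⟨c, rfl⟩; exact sub_eq_zero.mpr c.2⟩
  have hcomp : ∀ c, D.bcMap C' c = ι.rTensor C' ((TensorProduct.lid _ C').symm c) := fun c => by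
    simp [ι]
  refine ⟨fun x y h => ?_, fun f hf => ?_⟩
  · rw [hcomp, hcomp] at h
    exact (TensorProduct.lid _ C').symm.injective
      (Module.Flat.rTensor_preserves_injective_linearMap ι Subtype.val_injective h)
  · have h0 : δ.rTensor C' f = 0 := by
      simp only [δ, LinearMap.rTensor_sub, LinearMap.sub_apply]
      exact sub_eq_zero.mpr hf
    obtain ⟨z, rfl⟩ := (Module.Flat.rTensor_exact C' hex f).mp h0
    exact ⟨TensorProduct.lid _ C' z, by rw [hcomp, LinearEquiv.symm_apply_apply]⟩

end RingGrpd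

end Groth.Agent.GrpdLib
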