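import Groth.Agent.GrpdLib.EffQuot
import Mathlib.AlgebraicGeometry.Sites.Etale

/-!
# Quotient sheaves for coarser topologies
-/

set_option autoImplicit false
set_option maxHeartbeats 400000
set_option backward.isDefEq.respectTransparency.types false

universe u

open CategoryTheory CategoryTheory.Limits AlgebraicGeometry Opposite

namespace Groth.Agent.GrpdLib

variable {K : Precoverage Scheme.{u}} {S : Scheme.{u}} {R U M : Over S}

/-- A sieve containing a singleton covering covers. -/
lemma mem_of_singleton {T V : Over S} (g : V ⟶ T) (hg : Presieve.singleton g.left ∈ K T.left)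
    {Sv : Sieve T} (hS : Sv g) : Sv ∈ QuotSh.J K S T := by
  change Sieve.overEquiv T Sv ∈ K.toGrothendieck T.left
  refine GrothendieckTopology.superset_covering _ ?_ (Precoverage.generate_mem_toGrothendieck hg)
  rw [Sieve.generate_le_iff]
  intro W k hk
  cases hk
  refine (Sieve.overEquiv_iff Sv g.left).2 ?_
  have : (Over.homMk g.left rfl : Over.mk (g.left ≫ T.hom) ⟶ T) =
      (Over.homMk (𝟙 V.left) (by simp) : Over.mk (g.left ≫ T.hom) ⟶ V) ≫ g :=
    Over.OverMorphism.ext (by simp)
  rw [this]
  exact Sv.downward_closed hS _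

/-- The map of representable presheaves. -/
abbrev pmOf {V W : Over S} (g : V ⟶ W) :
    yoneda.obj V ⋙ uliftFunctor.{u + 1, u} ⟶ yoneda.obj W ⋙ uliftFunctor.{u + 1, u} :=
  Functor.whiskerRight (yoneda.map g) uliftFunctor.{u + 1, u}

lemma epi_repMap_of_pm {V W : Over S} (q : V ⟶ W)
    (h : Presheaf.IsLocallySurjective (QuotSh.J K S) (pmOf q)) : Epi (QuotSh.repMap K q) := by
  have : Presheaf.IsLocallySurjective (QuotSh.J K S)
      (toSheafify (QuotSh.J K S) (yoneda.obj V ⋙ uliftFunctor.{u + 1, u}) ≫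
        (QuotSh.repMap K q).hom) := by
    rw [← show pmOf q ≫ toSheafify (QuotSh.J K S) _ = _ from toSheafify_naturality (QuotSh.J K S) (pmOf q)]
    exact Presheaf.isLocallySurjective_comp (QuotSh.J K S) _ _
  have : Sheaf.IsLocallySurjective (QuotSh.repMap K q) :=
    Presheaf.isLocallySurjective_of_isLocallySurjective (QuotSh.J K S)
      (toSheafify (QuotSh.J K S) (yoneda.obj V ⋙ uliftFunctor.{u + 1, u})) _
  exact (Sheaf.isLocallySurjective_iff_epi _).1 this

/-- An étale surjection gives an epimorphism of étale sheaves. -/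
lemma epi_repMap_of_etale (q : U ⟶ M) [Etale q.left] [Surjective q.left] :
    Epi (QuotSh.repMap Scheme.etalePrecoverage q) := by
  refine epi_repMap_of_pm q ⟨fun {T} y => ?_⟩
  let V : Over S := Over.mk (pullback.snd q.left y.down.left ≫ T.hom)
  let k : V ⟶ T := Over.homMk (pullback.snd q.left y.down.left) rfl
  let x : V ⟶ U := Over.homMk (pullback.fst q.left y.down.left) (by
    show pullback.fst q.left y.down.left ≫ U.hom = pullback.snd q.left y.down.left ≫ T.hom
    rw [← Over.w q, pullback.condition_assoc, Over.w y.down])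
  have : Etale k.left := inferInstanceAs (Etale (pullback.snd q.left y.down.left))
  have : Surjective k.left := inferInstanceAs (Surjective (pullback.snd q.left y.down.left))
  refine mem_of_singleton k ?_ ⟨⟨x⟩, congrArg ULift.up (Over.OverMorphism.ext pullback.condition)⟩
  rw [Scheme.etalePrecoverage, Scheme.singleton_mem_precoverage_iff]
  exact ⟨k.left.surjective, inferInstance⟩

variable (s t : R ⟶ U) {q : U ⟶ M}

/-- In a quotient sheaf points lift locally and points with one image are locally related. -/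
lemma locally_of_isQuotient (h : AlgSp.IsEqvRel s t) (hq : QuotSh.IsQuotient K s t q) :
    Presheaf.IsLocallySurjective (QuotSh.J K S) (pmOf q) ∧
      ∀ {T : Over S} (a b : T ⟶ U), a ≫ q = b ≫ q → ∃ Sv ∈ QuotSh.J K S T,
        ∀ ⦃T' : Over S⦄ (f : T' ⟶ T), Sv.arrows f →
          ∃ r : T' ⟶ R, r ≫ t = f ≫ a ∧ r ≫ s = f ≫ b := by
  obtain ⟨w, hiso⟩ := hq
  have hπ : QuotSh.quotπ K s t ≫ QuotSh.quotDesc K q w = QuotSh.repMap K q :=
    coequalizer.π_desc _ _
  refine ⟨?_, fun {T} a b hab => ?_⟩
  · have hepi : Epi (QuotSh.repMap K q) := by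
      rw [← hπ]
      have : Epi (QuotSh.quotπ K s t) := inferInstanceAs (Epi (coequalizer.π _ _))
      exact epi_comp _ _
    have hs : Presheaf.IsLocallySurjective (QuotSh.J K S) (QuotSh.repMap K q).hom :=
      (Sheaf.isLocallySurjective_iff_epi _).2 hepi
    have hn : pmOf q ≫ toSheafify (QuotSh.J K S) _ =
        toSheafify (QuotSh.J K S) _ ≫ (QuotSh.repMap K q).hom :=
      toSheafify_naturality (QuotSh.J K S) (pmOf q)
    have : Presheaf.IsLocallySurjective (QuotSh.J K S)
        (toSheafify (QuotSh.J K S) (yoneda.obj U ⋙ uliftFunctor.{u + 1, u}) ≫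
          (QuotSh.repMap K q).hom) :=
      Presheaf.isLocallySurjective_comp (QuotSh.J K S) _ _
    exact Presheaf.isLocallySurjective_of_isLocallySurjective_of_isLocallyInjective_fac
      (QuotSh.J K S) _ hn
  · let F := presheafToSheaf (QuotSh.J K S) (Type (u + 1))
    have e1 : F.map (pmOf a) ≫ QuotSh.quotπ K s t = F.map (pmOf b) ≫ QuotSh.quotπ K s t := by
      rw [← cancel_mono (QuotSh.quotDesc K q w), Category.assoc, Category.assoc, hπ]
      change F.map (pmOf a) ≫ F.map (pmOf q) = F.map (pmOf b) ≫ F.map (pmOf q)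
      rw [← F.map_comp, ← F.map_comp, pmOf, pmOf, pmOf, ← Functor.whiskerRight_comp,
        ← Functor.whiskerRight_comp, ← yoneda.map_comp, ← yoneda.map_comp, hab]
    let m : QuotSh.quot K s t ⟶ F.obj (AlgSp.quotPsh s t h) :=
      coequalizer.desc (F.map (AlgSp.quotPshπ s t h)) (by
        change F.map (pmOf s) ≫ F.map (AlgSp.quotPshπ s t h) =
          F.map (pmOf t) ≫ F.map (AlgSp.quotPshπ s t h)
        rw [← F.map_comp, ← F.map_comp, AlgSp.quotPsh_condition])
    have hm : QuotSh.quotπ K s t ≫ m = F.map (AlgSp.quotPshπ s t h) := coequalizer.π_desc _ _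
    have e2 : (pmOf a ≫ AlgSp.quotPshπ s t h) ≫ toSheafify (QuotSh.J K S) _ =
        (pmOf b ≫ AlgSp.quotPshπ s t h) ≫ toSheafify (QuotSh.J K S) _ := by
      rw [toSheafify_naturality, toSheafify_naturality]
      have h' := congrArg (fun k => k ≫ m) e1
      simp only [Category.assoc, hm, ← F.map_comp] at h'
      exact congrArg (fun k => toSheafify (QuotSh.J K S) _ ≫ k.hom) h'
    have e3 := ConcreteCategory.congr_hom (congr_app e2 (op T)) ⟨𝟙 T⟩
    let F₀ := AlgSp.quotPsh s t h
    let x₀ := (AlgSp.quotPshπ s t h).app (op T) ⟨a⟩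
    let y₀ := (AlgSp.quotPshπ s t h).app (op T) ⟨b⟩
    have e4 : (toSheafify (QuotSh.J K S) F₀).app (op T) x₀ =
        (toSheafify (QuotSh.J K S) F₀).app (op T) y₀ := by
      have ha : 𝟙 T ≫ a = a := Category.id_comp a
      have hb : 𝟙 T ≫ b = b := Category.id_comp b
      simp only [x₀, y₀]
      rw [← ha, ← hb]
      exact e3
    refine ⟨Presheaf.equalizerSieve (F := F₀) (X := op T) x₀ y₀,
      Presheaf.equalizerSieve_mem (QuotSh.J K S) (toSheafify (QuotSh.J K S) F₀) _ _ e4, ?_⟩
    intro T' f hf
    exact (AlgSp.quotPshπ_eq_iff s t h (T := op T') (f ≫ a) (f ≫ b)).1 hf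

lemma etale_J_le : QuotSh.J Scheme.etalePrecoverage S ≤ QuotSh.J Scheme.fppfPrecoverage S := by
  have hle : Scheme.etalePrecoverage.toGrothendieck ≤ Scheme.fppfPrecoverage.toGrothendieck :=
    Precoverage.toGrothendieck_mono (Scheme.precoverage_mono fun X Y f hf =>
      ⟨(have : Etale f := hf; inferInstance), (have : Etale f := hf; inferInstance)⟩)
  intro T Sv hSv
  exact hle _ hSv

/-- An étale quotient sheaf is an fppf quotient sheaf. -/
lemma isQuotient_fppf_of_etale (h : AlgSp.IsEqvRel s t)
    (hq : QuotSh.IsQuotient Scheme.etalePrecoverage s t q) :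
    QuotSh.IsQuotient Scheme.fppfPrecoverage s t q := by
  obtain ⟨h₁, h₂⟩ := locally_of_isQuotient s t h hq
  have w := hq.choose
  refine S7490.result _ s t q w (congrArg CommaMorphism.left w.symm)
    (epi_repMap_of_pm q (Presheaf.isLocallySurjective_of_le etale_J_le _ h₁)) (epi_repMap_of_pm _ ?_)
  refine Presheaf.isLocallySurjective_of_le etale_J_le _ ⟨fun {T} y => ?_⟩
  obtain ⟨y⟩ := y
  let a : T ⟶ U := Over.homMk (y.left ≫ pullback.fst q.left q.left) (by
    have := Over.w y; simpa using this)
  let b : T ⟶ U := Over.homMk (y.left ≫ pullback.snd q.left q.left) (by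
    have h1 := Over.w y
    have h2 : pullback.snd q.left q.left ≫ U.hom = pullback.fst q.left q.left ≫ U.hom := by
      rw [← Over.w q, ← Category.assoc, ← Category.assoc, ← pullback.condition]
    simp only [Category.assoc, h2]
    simpa using h1)
  obtain ⟨Sv, hSv, hrel⟩ := h₂ a b (by
    ext; simp only [Over.comp_left, a, b, Over.homMk_left, Category.assoc, pullback.condition])
  refine GrothendieckTopology.superset_covering _ ?_ hSv
  intro T' f hf
  obtain ⟨r, hr₁, hr₂⟩ := hrel f hf
  refine ⟨⟨r⟩, congrArg ULift.up ?_⟩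
  refine Over.OverMorphism.ext ?_
  apply pullback.hom_ext
  · simpa [a, pullback.lift_fst] using congr($(hr₁).left)
  · simpa [b, pullback.lift_snd] using congr($(hr₂).left)

end Groth.Agent.GrpdLib
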