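import Groth.Agent.GrpdLib.FieldSmooth
import Groth.Agent.GrpScheme.CartierAlg
import Groth.Agent.LimTop.ReducedLocus
import Mathlib.Algebra.TrivSqZeroExt.Basic
import Mathlib.AlgebraicGeometry.Stalk

/-!
# Cartier's theorem for groupoids over a field

In characteristic zero the arrows of a groupoid locally of finite type over a field form a reduced
scheme near the identity, so that source and target are smooth.
-/

set_option autoImplicit false
set_option linter.style.haveILetI false

universe u

open CategoryTheory AlgebraicGeometry Limits IsLocalRing TrivSqZeroExt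

namespace Groth.Agent.GrpdLib.FieldCartier

variable {S : Scheme.{u}} (G : Grpd.GroupoidScheme S)
variable (k : Type u) [Field k] (eU : G.U ≅ Spec (CommRingCat.of k))

/-- The identity arrow. -/
noncomputable abbrev unitPt : G.R := (eU.inv ≫ G.e) (closedPoint k)

/-- The local ring at the identity. -/
noncomputable abbrev stalkUnit : CommRingCat.{u} := G.R.presheaf.stalk (unitPt G k eU)

/-- The structure maps of the local ring at the identity. -/
noncomputable def str (f : G.R ⟶ G.U) : CommRingCat.of k ⟶ stalkUnit G k eU :=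
  Spec.preimage (G.R.fromSpecStalk (unitPt G k eU) ≫ f ≫ eU.hom)

lemma spec_str (f : G.R ⟶ G.U) :
    Spec.map (str G k eU f) = G.R.fromSpecStalk (unitPt G k eU) ≫ f ≫ eU.hom :=
  Spec.map_preimage _

noncomputable instance : Algebra k (stalkUnit G k eU) := (str G k eU G.t).hom.toAlgebra

/-- Evaluation at the identity. -/
noncomputable def augHom : stalkUnit G k eU ⟶ CommRingCat.of k :=
  Scheme.stalkClosedPointTo (R := CommRingCat.of k) (eU.inv ≫ G.e)

lemma spec_augHom : Spec.map (augHom G k eU) ≫ G.R.fromSpecStalk (unitPt G k eU) = eU.inv ≫ G.e :=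
  Scheme.Spec_stalkClosedPointTo_fromSpecStalk (R := CommRingCat.of k) (eU.inv ≫ G.e)

lemma str_augHom (f : G.R ⟶ G.U) (hf : G.e ≫ f = 𝟙 _) : str G k eU f ≫ augHom G k eU = 𝟙 _ := by
  apply Spec.map_injective
  rw [Spec.map_comp, spec_str, ← Category.assoc, spec_augHom, Spec.map_id, Category.assoc,
    reassoc_of% hf, Iso.inv_hom_id]

/-- Evaluation at the identity, as an algebra map. -/
noncomputable def aug : stalkUnit G k eU →ₐ[k] k :=
  { (augHom G k eU).hom with
    commutes' := fun r => congr($(str_augHom G k eU G.t G.e_t).hom r) }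

lemma aug_str_s (r : k) : aug G k eU ((str G k eU G.s).hom r) = r :=
  congr($(str_augHom G k eU G.s G.e_s).hom r)

lemma mem_maximalIdeal_iff (a : stalkUnit G k eU) : a ∈ maximalIdeal (stalkUnit G k eU) ↔ aug G k eU a = 0 := by
  have hl : IsLocalHom (augHom G k eU).hom :=
    Scheme.isLocalHom_stalkClosedPointTo' (R := k) (eU.inv ≫ G.e)
  rw [mem_maximalIdeal, mem_nonunits_iff, ← not_iff_not, not_not, ← ne_eq, ← isUnit_iff_ne_zero]
  exact ⟨fun h => h.map (aug G k eU), fun h => hl.map_nonunit a h⟩

lemma sub_aug_mem (a : stalkUnit G k eU) :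
    a - algebraMap k _ (aug G k eU a) ∈ maximalIdeal (stalkUnit G k eU) := by
  rw [mem_maximalIdeal_iff, map_sub, AlgHom.commutes]
  simp

section Derivation

variable (v : stalkUnit G k eU →ₗ[k] k)

/-- The ring map to the dual numbers over the local ring defined by a tangent vector. -/
noncomputable def tangentHom (h1 : v 1 = 0) (hv : ∀ a b, v (a * b) = aug G k eU a * v b + aug G k eU b * v a) :
    stalkUnit G k eU →+* TrivSqZeroExt (stalkUnit G k eU) (stalkUnit G k eU) where
  toFun a := inl ((str G k eU G.s).hom (aug G k eU a)) + inr ((str G k eU G.s).hom (v a))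
  map_one' := by simp [h1]
  map_zero' := by simp
  map_add' a b := by ext <;> simp
  map_mul' a b := by
    ext <;> simp [hv, map_mul]
    ring

/-- Reduction of dual numbers along the evaluation at the unit. -/
noncomputable def redHom :
    TrivSqZeroExt (stalkUnit G k eU) (stalkUnit G k eU) →+* TrivSqZeroExt k k where
  toFun x := inl (aug G k eU x.fst) + inr (aug G k eU x.snd)
  map_one' := by simp
  map_zero' := by simp
  map_add' a b := by ext <;> simp
  map_mul' a b := by
    ext <;> simp [map_mul]

instance isLocalRing_dualNumber {R : Type u} [CommRing R] [IsLocalRing R] :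
    IsLocalRing (TrivSqZeroExt R R) :=
  IsLocalRing.of_isUnit_or_isUnit_one_sub_self fun a => by
    simp only [TrivSqZeroExt.isUnit_iff_isUnit_fst, fst_sub, fst_one]
    exact IsLocalRing.isUnit_or_isUnit_one_sub_self a.fst

set_option maxHeartbeats 400000 in
/-- A tangent vector at the identity, along a fibre of the target, extends to a derivation. -/
theorem exists_derivation (h1 : v 1 = 0)
    (hv : ∀ a b, v (a * b) = aug G k eU a * v b + aug G k eU b * v a) :
    ∃ D : Derivation k (stalkUnit G k eU) (stalkUnit G k eU), ∀ a, aug G k eU (D a) = v a := by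
  let A := stalkUnit G k eU
  let fs := G.R.fromSpecStalk (unitPt G k eU)
  let σ := str G k eU G.s
  let τ := str G k eU G.t
  let B : CommRingCat.{u} := CommRingCat.of (TrivSqZeroExt A A)
  let ι₁ : A ⟶ B := CommRingCat.ofHom (inlHom A A)
  let ι₂ : A ⟶ B := CommRingCat.ofHom (tangentHom G k eU v h1 hv)
  let fstB : B ⟶ A := CommRingCat.ofHom (fstHom A A A).toRingHom
  let red : B ⟶ CommRingCat.of (TrivSqZeroExt k k) := CommRingCat.ofHom (redHom G k eU)
  have hk₂ : τ ≫ ι₂ = σ ≫ ι₁ := by
    ext r
    · change (tangentHom G k eU v h1 hv (algebraMap k A r)).fst = (inl (σ.hom r) : TrivSqZeroExt A A).fst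
      simp [tangentHom, σ, A]
    · change (tangentHom G k eU v h1 hv (algebraMap k A r)).snd = (inl (σ.hom r) : TrivSqZeroExt A A).snd
      have : v (algebraMap k A r) = 0 := by
        rw [Algebra.algebraMap_eq_smul_one, map_smul, h1, smul_zero]
      simp [tangentHom, this]
  let p : Spec B ⟶ G.R := Spec.map ι₁ ≫ fs
  let q : Spec B ⟶ G.R := Spec.map ι₂ ≫ fs
  have hpq : p ≫ G.s = q ≫ G.t := by
    rw [← cancel_mono eU.hom]
    simp only [p, q, Category.assoc, fs, ← spec_str, ← Spec.map_comp]
    rw [hk₂]
  let r : Spec B ⟶ G.R := comp G p q hpq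
  have hfst : ι₁ ≫ fstB = 𝟙 A := by ext a; rfl
  -- restriction to the reduced point `Spec A`
  have hr₀ : Spec.map fstB ≫ r = fs := by
    refine (naturality_of G (Spec.map fstB) (α' := fs) (β' := (Spec.map σ ≫ eU.inv) ≫ G.e) ?_ ?_ ?_).trans
      (comp_e G _ _ _)
    · simp [σ, fs, spec_str]
    · simp only [p]
      rw [← Spec.map_comp_assoc, hfst, Spec.map_id, Category.id_comp]
    · have e : ι₂ ≫ fstB = augHom G k eU ≫ σ := by
        ext a
        change (tangentHom G k eU v h1 hv a).fst = σ.hom (aug G k eU a)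
        simp [tangentHom, σ]
      simp only [q]
      rw [← Spec.map_comp_assoc, e, Spec.map_comp_assoc, spec_augHom, Category.assoc]
  -- restriction to `Spec k[ε]`
  have hr₁ : Spec.map red ≫ r = Spec.map (ι₂ ≫ red) ≫ fs := by
    refine (naturality_of G (Spec.map red)
      (α' := (Spec.map (σ ≫ ι₁ ≫ red) ≫ eU.inv) ≫ G.e) (β' := Spec.map (ι₂ ≫ red) ≫ fs) ?_ ?_ ?_).trans
      (e_comp G _ _ _)
    · have : Spec.map (σ ≫ ι₁ ≫ red) = Spec.map (τ ≫ ι₂ ≫ red) := by rw [reassoc_of% hk₂]
      rw [this, Spec.map_comp, spec_str]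
      simp [fs]
    · have e : ι₁ ≫ red = augHom G k eU ≫ σ ≫ ι₁ ≫ red := by
        ext a
        · change (redHom G k eU (inl a)).fst = (redHom G k eU (inl (σ.hom (aug G k eU a)))).fst
          simp [redHom, σ]
          exact (aug_str_s G k eU _).symm
        · change (redHom G k eU (inl a)).snd = (redHom G k eU (inl (σ.hom (aug G k eU a)))).snd
          simp [redHom]
      simp only [p]
      rw [← Spec.map_comp_assoc]
      conv_lhs => rw [e]
      rw [Spec.map_comp_assoc, spec_augHom, Category.assoc]
    · simp only [q]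
      rw [← Spec.map_comp_assoc]
  -- the comorphism
  have : IsLocalHom fstB.hom := ⟨fun a ha => TrivSqZeroExt.isUnit_iff_isUnit_fst.mpr ha⟩
  have hpt : r (closedPoint B) = unitPt G k eU :=
    ((congrArg r (Spec_closedPoint (f := fstB)).symm).trans
      ((Scheme.Hom.comp_apply _ _ _).symm.trans (congrArg (fun φ => φ (closedPoint A)) hr₀))).trans
      Scheme.fromSpecStalk_closedPoint
  let φ : A ⟶ B := G.R.presheaf.stalkSpecializes (specializes_of_eq hpt) ≫
    Scheme.stalkClosedPointTo r
  have hφ : Spec.map φ ≫ fs = r := by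
    rw [Spec.map_comp_assoc, Scheme.SpecMap_stalkSpecializes_fromSpecStalk,
      Scheme.Spec_stalkClosedPointTo_fromSpecStalk]
  have hφ₀ : φ ≫ fstB = 𝟙 A := by
    apply Spec.map_injective
    rw [← cancel_mono fs, Spec.map_comp_assoc, hφ, hr₀, Spec.map_id, Category.id_comp]
  have hφ₁ : φ ≫ red = ι₂ ≫ red := by
    apply Spec.map_injective
    rw [← cancel_mono fs, Spec.map_comp_assoc, hφ, hr₁]
  have hφk : τ ≫ φ = τ ≫ ι₁ := by
    apply Spec.map_injective
    rw [Spec.map_comp τ φ, Spec.map_comp τ ι₁, spec_str, ← Category.assoc, ← Category.assoc, hφ]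
    simp only [r, comp_t, p, fs, ← Category.assoc]
  let φ' : A →+* TrivSqZeroExt A A := φ.hom
  have hfst' : ∀ a, (φ' a).fst = a := fun a => congr($(hφ₀).hom a)
  refine ⟨Derivation.mk'
    { toFun := fun a => (φ' a).snd
      map_add' := fun a b => by rw [map_add, snd_add]
      map_smul' := fun c a => ?_ } fun a b => ?_, fun a => ?_⟩
  · have hc' : φ' (algebraMap k A c) = inl (algebraMap k A c) :=
      congr($(hφk).hom c)
    rw [Algebra.smul_def, map_mul, hc', snd_mul]
    simp [Algebra.smul_def, A]
  · change (φ' (a * b)).snd = a • (φ' b).snd + b • (φ' a).snd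
    rw [map_mul, snd_mul, hfst', hfst']
    simp
    ring
  · have h : (redHom G k eU (φ' a)).snd = (redHom G k eU (tangentHom G k eU v h1 hv a)).snd :=
      congr(($(hφ₁).hom a).snd)
    simp only [redHom, tangentHom, RingHom.coe_mk, MonoidHom.coe_mk, OneHom.coe_mk, snd_add, snd_inl, snd_inr, zero_add] at h
    exact h.trans (aug_str_s G k eU _)

end Derivation

set_option maxHeartbeats 400000 in
/-- **Cartier**: in characteristic zero the local ring at the unit is reduced. -/
theorem isReduced_stalkUnit [CharZero k] [LocallyOfFiniteType G.t] :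
    _root_.IsReduced (stalkUnit G k eU) := by
  have : IsLocallyNoetherian G.R := LocallyOfFiniteType.isLocallyNoetherian (G.t ≫ eU.hom)
  let m := maximalIdeal (stalkUnit G k eU)
  have hfg : m.FG := Ideal.fg_of_isNoetherianRing m
  let ψ : (stalkUnit G k eU) →ₗ[k] m :=
    (LinearMap.id - (Algebra.linearMap k (stalkUnit G k eU)).comp (aug G k eU).toLinearMap).codRestrict
      (m.restrictScalars k) (sub_aug_mem G k eU)
  have hψ : ∀ a, (ψ a : (stalkUnit G k eU)) = a - algebraMap k (stalkUnit G k eU) (aug G k eU a) := fun a => rfl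
  have : Module.Finite (stalkUnit G k eU) m := Module.Finite.iff_fg.mpr hfg
  have : Module.Finite (stalkUnit G k eU) m.Cotangent := Module.Finite.of_surjective _ m.toCotangent_surjective
  have hsc : ∀ (a : (stalkUnit G k eU)) (c : m.Cotangent), a • c = aug G k eU a • c := by
    intro a c
    obtain ⟨y, rfl⟩ := m.toCotangent_surjective c
    rw [← IsScalarTower.algebraMap_smul (stalkUnit G k eU) (aug G k eU a) (m.toCotangent y), ← sub_eq_zero, ← sub_smul,
      ← map_smul, Ideal.toCotangent_eq_zero, pow_two]
    exact Ideal.mul_mem_mul (sub_aug_mem G k eU a) y.2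
  have : Module.Finite k m.Cotangent := by
    obtain ⟨s, hs⟩ := ‹Module.Finite (stalkUnit G k eU) m.Cotangent›.fg_top
    refine ⟨⟨s, eq_top_iff.mpr fun c _ => ?_⟩⟩
    have hc : c ∈ Submodule.span (stalkUnit G k eU) (s : Set m.Cotangent) := hs ▸ trivial
    induction hc using Submodule.span_induction with
    | mem x hx => exact Submodule.subset_span hx
    | zero => simp
    | add x y _ _ hx hy => exact add_mem (hx trivial) (hy trivial)
    | smul a x _ hx => rw [hsc]; exact Submodule.smul_mem _ _ (hx trivial)
  let b := Module.finBasis k m.Cotangent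
  choose x hx using fun i => m.toCotangent_surjective (b i)
  have hgen : Ideal.span (Set.range fun i => (x i : (stalkUnit G k eU))) = m := by
    refine le_antisymm (Ideal.span_le.mpr (by rintro _ ⟨i, rfl⟩; exact (x i).2)) ?_
    refine Submodule.le_of_le_smul_of_le_jacobson_bot hfg (IsLocalRing.maximalIdeal_le_jacobson _) ?_
    intro a ha
    rw [Submodule.mem_sup, smul_eq_mul]
    refine ⟨∑ i, algebraMap k (stalkUnit G k eU) (b.repr (m.toCotangent ⟨a, ha⟩) i) * (x i : (stalkUnit G k eU)),
      Ideal.sum_mem _ fun i _ => Ideal.mul_mem_left _ _ (Ideal.subset_span ⟨i, rfl⟩),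
      a - ∑ i, algebraMap k (stalkUnit G k eU) (b.repr (m.toCotangent ⟨a, ha⟩) i) * (x i : (stalkUnit G k eU)), ?_, by ring⟩
    rw [← pow_two]
    have h := (Ideal.toCotangent_eq_zero m
      (⟨a, ha⟩ - ∑ i, algebraMap k (stalkUnit G k eU) (b.repr (m.toCotangent ⟨a, ha⟩) i) • x i)).mp ?_
    · simpa [Algebra.smul_def, m] using h
    · simp [hx, b.sum_repr]
  let v : Fin (Module.finrank k m.Cotangent) → (stalkUnit G k eU) →ₗ[k] k := fun i =>
    (b.coord i).comp ((m.toCotangent.restrictScalars k).comp ψ)
  have hv1 : ∀ i, v i 1 = 0 := by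
    intro i
    have : ψ 1 = 0 := Subtype.ext (by rw [hψ]; simp)
    simp [v, this]
  have hv : ∀ i a c, v i (a * c) = aug G k eU a * v i c + aug G k eU c * v i a := by
    intro i a c
    have e : ψ (a * c) = algebraMap k (stalkUnit G k eU) (aug G k eU a) • ψ c + algebraMap k (stalkUnit G k eU) (aug G k eU c) • ψ a +
        (a - algebraMap k (stalkUnit G k eU) (aug G k eU a)) • ψ c := Subtype.ext (by simp [hψ, map_mul, Algebra.smul_def]; ring)
    have e0 : m.toCotangent ((a - algebraMap k (stalkUnit G k eU) (aug G k eU a)) • ψ c) = 0 := by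
      rw [Ideal.toCotangent_eq_zero, pow_two]
      exact Ideal.mul_mem_mul (sub_aug_mem G k eU a) (ψ c).2
    simp [v, e, e0, map_add]
  choose D hD using fun i => exists_derivation G k eU (v i) (hv1 i) (hv i)
  refine GrpScheme.CartierAlg.isReduced_of_derivations (fun i => (x i : (stalkUnit G k eU))) (fun i => (x i).2) D (fun i j => ?_)
    (fun a => ⟨aug G k eU a, sub_aug_mem G k eU a⟩) hgen
  rw [mem_maximalIdeal_iff, map_sub, hD]
  have hxj : ψ (x j) = x j := Subtype.ext (by
    rw [hψ, (mem_maximalIdeal_iff G k eU _).mp (x j).2]; simp)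
  have : v i (x j : stalkUnit G k eU) = if i = j then 1 else 0 := by
    simp only [v, LinearMap.coe_comp, LinearMap.coe_restrictScalars, Function.comp_apply, hxj, hx,
      Module.Basis.coord_apply, Module.Basis.repr_self, Finsupp.single_apply]
    rcases eq_or_ne i j with h | h
    · rw [if_pos h, if_pos h.symm]
    · rw [if_neg h, if_neg h.symm]
  rw [this]
  rcases eq_or_ne i j with h | h
  · rw [if_pos h, if_pos h, map_one, sub_self]
  · rw [if_neg h, if_neg h, map_zero, sub_self]

include eU in
/-- In characteristic zero, source and target are smooth. -/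
theorem smooth_st [CharZero k] [LocallyOfFiniteType G.s] [LocallyOfFiniteType G.t] :
    AlgebraicGeometry.Smooth G.s ∧ AlgebraicGeometry.Smooth G.t := by
  have : IsLocallyNoetherian G.R := LocallyOfFiniteType.isLocallyNoetherian (G.t ≫ eU.hom)
  have hN : ∀ U : G.R.affineOpens, (nilradical Γ(G.R, U)).FG := fun U => by
    have := IsLocallyNoetherian.component_noetherian (X := G.R) U
    exact Ideal.fg_of_isNoetherianRing _
  let U : G.R.Opens := ⟨_, LimTop.isOpen_setOf_isReduced_stalk hN⟩
  have hU : unitPt G k eU ∈ U := isReduced_stalkUnit G k eU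
  have : ∀ x : (U : Scheme.{u}), _root_.IsReduced ((U : Scheme.{u}).presheaf.stalk x) := fun x =>
    have : _root_.IsReduced (G.R.presheaf.stalk (U.ι x)) := x.2
    isReduced_of_injective _ (asIso (U.ι.stalkMap x)).commRingCatIsoToRingEquiv.symm.injective
  have : IsReduced (U : Scheme.{u}) := isReduced_of_isReduced_stalk _
  exact FieldSmooth.smooth_st_of_reduced G k eU U _ hU

end Groth.Agent.GrpdLib.FieldCartier
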