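import Groth.Agent.GrpdLib.OnFieldTranslate
import Groth.Agent.GrpScheme.Component

/-!
# Irreducible components of groupoids over a field

Through every arrow of a groupoid scheme on the spectrum of a field passes a unique irreducible
component, and the component of the identity is geometrically irreducible over the field through
either of source and target.
-/

set_option autoImplicit false
set_option linter.style.haveILetI false

universe u

open CategoryTheory CategoryTheory.Limits AlgebraicGeometry

namespace Groth.Agent.GrpdLib.FieldIrreducible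

open GrpScheme.Component

lemma uniqueComp_of_flat {X Y : Scheme.{u}} (g : X ⟶ Y) [Flat g] {x : X} (h : UniqueComp x) :
    UniqueComp (g x) := by
  have lift : ∀ a : Y, IsMaxGen a → a ⤳ g x → ∃ a', IsMaxGen a' ∧ a' ⤳ x ∧ g a' = a := by
    intro a ha hax
    obtain ⟨a₁, h₁, e₁⟩ := Flat.generalizingMap g hax
    obtain ⟨a₀, h₀, h₀₁⟩ := exists_isMaxGen a₁
    exact ⟨a₀, h₀, h₀₁.trans h₁, ha _ (e₁ ▸ h₀₁.map g.continuous)⟩
  intro a b ha hb hax hbx
  obtain ⟨a', ha', hax', rfl⟩ := lift a ha hax
  obtain ⟨b', hb', hbx', rfl⟩ := lift b hb hbx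
  rw [h a' b' ha' hb' hax' hbx']

variable {S : Scheme.{u}} (G : Grpd.GroupoidScheme S)
variable (k : Type u) [Field k] (eU : G.U ≅ Spec (CommRingCat.of k))

include eU in
lemma flat_to_U {X : Scheme.{u}} (f : X ⟶ G.U) : Flat f := by
  have : Flat (f ≫ eU.hom) := inferInstance
  rw [show f = (f ≫ eU.hom) ≫ eU.inv by simp]
  infer_instance

section AlgClosed

variable {L : Type u} [Field L] [IsAlgClosed L] (f : Spec (CommRingCat.of L) ⟶ G.U)

/-- Over an algebraically closed field `L` mapping to the objects, the identity lies on a unique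
component of `L ×_U R ×_U L`. -/
lemma uniqueComp_restrict :
    UniqueComp ((pullback.lift (f := pullback.snd f G.t ≫ G.s) (g := f)
      (pullback.lift (f := f) (g := G.t) (𝟙 _) (f ≫ G.e) (by simp)) (𝟙 _) (by simp [pullback.lift_snd_assoc]))
        (IsLocalRing.closedPoint L)) := by
  let l : pullback (pullback.snd f G.t ≫ G.s) f ⟶ Spec (CommRingCat.of L) :=
    pullback.fst _ _ ≫ pullback.fst f G.t
  let r : pullback (pullback.snd f G.t ≫ G.s) f ⟶ Spec (CommRingCat.of L) := pullback.snd _ _
  let π : pullback (pullback.snd f G.t ≫ G.s) f ⟶ G.R := pullback.fst _ _ ≫ pullback.snd f G.t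
  let e₀ : Spec (CommRingCat.of L) ⟶ pullback (pullback.snd f G.t ≫ G.s) f :=
    pullback.lift (pullback.lift (f := f) (g := G.t) (𝟙 _) (f ≫ G.e) (by simp)) (𝟙 _) (by simp [pullback.lift_snd_assoc])
  have hel : e₀ ≫ l = 𝟙 _ := by simp only [e₀, l, pullback.lift_fst_assoc, pullback.lift_fst]
  have her : e₀ ≫ r = 𝟙 _ := pullback.lift_snd _ _ _
  have heπ : e₀ ≫ π = f ≫ G.e := by simp only [e₀, π, pullback.lift_fst_assoc, pullback.lift_snd]
  have hlt : π ≫ G.t = l ≫ f := by
    simp only [π, l, Category.assoc, ← pullback.condition]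
  have hrs : π ≫ G.s = r ≫ f := by
    simp only [π, r, Category.assoc]; exact pullback.condition
  intro a b ha hb hae hbe
  let red (c : ↥(pullback (pullback.snd f G.t ≫ G.s) f)) :=
    Scheme.IdealSheafData.vanishingIdeal ⟨closure {c}, isClosed_closure⟩
  have hran : ∀ c, Set.range (red c).subschemeι = closure {c} := fun c =>
    (Scheme.IdealSheafData.range_subschemeι _).trans
      (Scheme.IdealSheafData.coe_support_vanishingIdeal _)
  have hirr : ∀ c, IrreducibleSpace (red c).subscheme := fun c => by
    rw [(red c).subschemeι.isClosedEmbedding.isEmbedding.toHomeomorph.irreducibleSpace_iff,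
      ← isIrreducible_iff_irreducibleSpace, hran c]
    exact isIrreducible_singleton.closure
  have hsec : ∀ c, c ⤳ e₀ (IsLocalRing.closedPoint L) →
      ∃ σ : Spec (CommRingCat.of L) ⟶ (red c).subscheme, σ ≫ (red c).subschemeι = e₀ := fun c hc => by
    obtain ⟨y, hy⟩ : e₀ (IsLocalRing.closedPoint L) ∈ Set.range (red c).subschemeι :=
      (hran c).symm ▸ specializes_iff_mem_closure.mp hc
    obtain ⟨q, -, -⟩ := Scheme.Pullback.exists_preimage_pullback
      (f := e₀) (g := (red c).subschemeι) (IsLocalRing.closedPoint L) y hy.symm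
    have : Surjective (pullback.fst e₀ (red c).subschemeι) :=
      ⟨fun z => ⟨q, Subsingleton.elim (α := PrimeSpectrum L) _ _⟩⟩
    have : IsIso (pullback.fst e₀ (red c).subschemeι) :=
      isIso_of_isClosedImmersion_of_surjective _
    exact ⟨inv (pullback.fst e₀ (red c).subschemeι) ≫ pullback.snd _ _, by simp [← pullback.condition]⟩
  obtain ⟨σa, hσa⟩ := hsec a hae
  obtain ⟨σb, hσb⟩ := hsec b hbe
  let ia := (red a).subschemeι
  let ib := (red b).subschemeι
  have := hirr a
  have := hirr b
  have : GeometricallyIrreducible (ia ≫ r) := FBase.BC.geometricallyIrreducible_of_isSepClosed _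
  have : GeometricallyIrreducible (ib ≫ l) := FBase.BC.geometricallyIrreducible_of_isSepClosed _
  have : IrreducibleSpace ↥(pullback (ia ≫ r) (ib ≫ l)) := inferInstance
  have hc : ((pullback.fst (ia ≫ r) (ib ≫ l) ≫ ia) ≫ π) ≫ G.s =
      ((pullback.snd (ia ≫ r) (ib ≫ l) ≫ ib) ≫ π) ≫ G.t := by
    simp only [Category.assoc, hrs, hlt]
    simpa only [Category.assoc] using
      congrArg (· ≫ f) (pullback.condition (f := ia ≫ r) (g := ib ≫ l))
  let M : pullback (ia ≫ r) (ib ≫ l) ⟶ pullback (pullback.snd f G.t ≫ G.s) f :=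
    pullback.lift (pullback.lift ((pullback.fst _ _ ≫ ia) ≫ l) (comp G _ _ hc)
      (by simp only [comp_t, Category.assoc, hlt])) ((pullback.snd _ _ ≫ ib) ≫ r)
      (by simp only [pullback.lift_snd_assoc, comp_s, Category.assoc, hrs])
  have hM : ∀ {T : Scheme.{u}} (w : T ⟶ pullback (ia ≫ r) (ib ≫ l))
      (x : T ⟶ pullback (pullback.snd f G.t ≫ G.s) f),
      w ≫ (pullback.fst _ _ ≫ ia) ≫ l = x ≫ l → w ≫ comp G _ _ hc = x ≫ π →
      w ≫ (pullback.snd _ _ ≫ ib) ≫ r = x ≫ r → w ≫ M = x := by
    intro T w x h₁ h₂ h₃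
    refine pullback.hom_ext (pullback.hom_ext ?_ ?_) ?_
    · simpa only [M, Category.assoc, pullback.lift_fst, pullback.lift_fst_assoc, l] using h₁
    · simpa only [M, Category.assoc, pullback.lift_fst_assoc, pullback.lift_snd, π] using h₂
    · simpa only [M, Category.assoc, pullback.lift_snd, r] using h₃
  have hirrM : IsIrreducible (Set.range M) := by
    rw [← Set.image_univ]
    exact (IrreducibleSpace.isIrreducible_univ _).image _ M.continuous.continuousOn
  have h₁ : closure {a} ⊆ closure (Set.range M) := by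
    let w : (red a).subscheme ⟶ pullback (ia ≫ r) (ib ≫ l) :=
      pullback.lift (𝟙 _) ((ia ≫ r) ≫ σb) (by
        simp only [Category.id_comp, Category.assoc, ib, reassoc_of% hσb, hel, Category.comp_id])
    have hw : w ≫ M = ia := by
      refine hM w ia (by simp [w, pullback.lift_fst, pullback.lift_snd, pullback.lift_fst_assoc, pullback.lift_snd_assoc]) ?_ ?_
      · refine (naturality_of G w (α' := ia ≫ π) (β' := ((ia ≫ r) ≫ f) ≫ G.e) ?_ ?_ ?_).trans
          (comp_e G _ _ _)
        · simp [hrs]
        · simp [w, pullback.lift_fst, pullback.lift_snd, pullback.lift_fst_assoc, pullback.lift_snd_assoc]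
        · simp only [w, pullback.lift_snd_assoc, Category.assoc, ib, reassoc_of% hσb, heπ]
      · simp only [w, pullback.lift_snd_assoc, Category.assoc, ib, reassoc_of% hσb, her,
          Category.comp_id]
    intro z hz
    obtain ⟨x, rfl⟩ : z ∈ Set.range ia := (hran a).symm ▸ hz
    exact subset_closure ⟨w x, (Scheme.Hom.comp_apply _ _ _).symm.trans (congrArg (fun φ => φ x) hw)⟩
  have h₂ : closure {b} ⊆ closure (Set.range M) := by
    let w : (red b).subscheme ⟶ pullback (ia ≫ r) (ib ≫ l) :=
      pullback.lift ((ib ≫ l) ≫ σa) (𝟙 _) (by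
        simp only [Category.id_comp, Category.assoc, ia, reassoc_of% hσa, her, Category.comp_id])
    have hw : w ≫ M = ib := by
      refine hM w ib ?_ ?_ (by simp [w, pullback.lift_fst, pullback.lift_snd, pullback.lift_fst_assoc, pullback.lift_snd_assoc])
      · simp only [w, pullback.lift_fst_assoc, Category.assoc, ia, reassoc_of% hσa, hel,
          Category.comp_id]
      · refine (naturality_of G w (α' := ((ib ≫ l) ≫ f) ≫ G.e) (β' := ib ≫ π) ?_ ?_ ?_).trans
          (e_comp G _ _ _)
        · simp [hlt]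
        · simp only [w, pullback.lift_fst_assoc, Category.assoc, ia, reassoc_of% hσa, heπ]
        · simp [w, pullback.lift_fst, pullback.lift_snd, pullback.lift_fst_assoc, pullback.lift_snd_assoc]
    intro z hz
    obtain ⟨x, rfl⟩ : z ∈ Set.range ib := (hran b).symm ▸ hz
    exact subset_closure ⟨w x, (Scheme.Hom.comp_apply _ _ _).symm.trans (congrArg (fun φ => φ x) hw)⟩
  have e₁ := (isMaxGen_iff.mp ha).2 hirrM.closure h₁
  have e₂ := (isMaxGen_iff.mp hb).2 hirrM.closure h₂
  exact (inseparable_iff_closure_eq.mpr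
    ((Set.Subset.antisymm h₁ e₁).trans (Set.Subset.antisymm e₂ h₂))).eq

include eU in
/-- Over an algebraically closed field `L` mapping to the objects, the identity lies on a unique
component of the arrows with target in `L`. -/
lemma uniqueComp_pullback :
    UniqueComp ((pullback.lift (f := f) (g := G.t) (𝟙 _) (f ≫ G.e) (by simp))
      (IsLocalRing.closedPoint L)) := by
  have := flat_to_U G k eU f
  have h := uniqueComp_of_flat (pullback.fst (pullback.snd f G.t ≫ G.s) f) (uniqueComp_restrict G f)
  rwa [← Scheme.Hom.comp_apply, pullback.lift_fst] at h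

end AlgClosed

include eU in
/-- Through every arrow passes at most one irreducible component. -/
theorem uniqueComp (ρ : G.R) : UniqueComp ρ := by
  let L := AlgebraicClosure (G.R.residueField ρ)
  let a : Spec (CommRingCat.of L) ⟶ G.R :=
    Spec.map (CommRingCat.ofHom (algebraMap (G.R.residueField ρ) L)) ≫ G.R.fromSpecResidueField ρ
  have hz : a (IsLocalRing.closedPoint L) = ρ :=
    (Scheme.Hom.comp_apply _ _ _).trans (Scheme.fromSpecResidueField_apply ρ _)
  let x : Spec (CommRingCat.of L) ⟶ pullback (a ≫ G.s) G.t :=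
    pullback.lift (𝟙 _) ((a ≫ G.s) ≫ G.e) (by simp)
  have e : x ≫ (translateIso G a).hom ≫ pullback.snd (a ≫ G.t) G.t = a := by
    simp only [translateIso, pullback.lift_snd]
    refine (naturality_of G x (by simp) ?_ (pullback.lift_snd _ _ _)).trans
      (comp_e G a (a ≫ G.s) (by simp))
    rw [← Category.assoc, pullback.lift_fst, Category.id_comp]
  have := flat_to_U G k eU (a ≫ G.t)
  have h := uniqueComp_of_flat ((translateIso G a).hom ≫ pullback.snd (a ≫ G.t) G.t)
    (uniqueComp_pullback G k eU (a ≫ G.s))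
  rw [← Scheme.Hom.comp_apply, e, hz] at h
  exact h

include eU in
/-- The local rings of the arrows have at most one minimal prime. -/
theorem minimalPrimes_stalk_subsingleton (x : G.R) :
    (minimalPrimes (G.R.presheaf.stalk x)).Subsingleton := by
  intro p hp q hq
  have hpp : p.IsPrime := hp.1.1
  have hqp : q.IsPrime := hq.1.1
  have hmax : ∀ (r : Spec (G.R.presheaf.stalk x)),
      r.asIdeal ∈ minimalPrimes (G.R.presheaf.stalk x) →
        IsMaxGen (G.R.fromSpecStalk x r) := by
    intro r hr w hw
    obtain ⟨z, rfl⟩ := SchPoints.exists_fromSpecStalk_eq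
      (hw.trans (SchPoints.fromSpecStalk_specializes x r))
    have hzr := (G.R.fromSpecStalk x).isEmbedding.isInducing.specializes_iff.1 hw
    have hle : z.asIdeal ≤ r.asIdeal := (PrimeSpectrum.le_iff_specializes _ _).mpr hzr
    exact congrArg _ (PrimeSpectrum.ext (le_antisymm hle (hr.2 ⟨z.isPrime, bot_le⟩ hle)))
  have := uniqueComp G k eU x _ _ (hmax ⟨p, hpp⟩ hp) (hmax ⟨q, hqp⟩ hq)
    (SchPoints.fromSpecStalk_specializes x _) (SchPoints.fromSpecStalk_specializes x _)
  exact congrArg PrimeSpectrum.asIdeal ((G.R.fromSpecStalk x).isEmbedding.injective this)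

include eU in
/-- Exactly one irreducible component passes through each arrow. -/
theorem existsUnique_component (x : G.R) :
    ∃! Z : Set G.R, Z ∈ irreducibleComponents (G.R : Type u) ∧ x ∈ Z := by
  refine ⟨irreducibleComponent x,
    ⟨irreducibleComponent_mem_irreducibleComponents x, mem_irreducibleComponent⟩, ?_⟩
  rintro Z ⟨hZ, hxZ⟩
  obtain ⟨a, ha⟩ := QuasiSober.sober hZ.1 (isClosed_of_mem_irreducibleComponents Z hZ)
  obtain ⟨b, hb⟩ := QuasiSober.sober (isIrreducible_irreducibleComponent (x := x))
    isClosed_irreducibleComponent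
  have := uniqueComp G k eU x a b (isMaxGen_iff.mpr (ha.def.symm ▸ hZ))
    (isMaxGen_iff.mpr (hb.def.symm ▸ irreducibleComponent_mem_irreducibleComponents x))
    (ha.specializes hxZ) (hb.specializes mem_irreducibleComponent)
  rw [← ha.def, ← hb.def, this]

include eU in
/-- A closed subscheme supported on a component of the identity is geometrically irreducible over
the field through the target. -/
theorem geometricallyIrreducible_t {Z : Scheme.{u}} (ι : Z ⟶ G.R) [IsClosedImmersion ι]
    (hZ : Set.range ι ∈ irreducibleComponents (G.R : Type u))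
    (he : G.e (eU.inv (IsLocalRing.closedPoint k)) ∈ Set.range ι) :
    GeometricallyIrreducible (ι ≫ G.t ≫ eU.hom) := by
  let L := AlgebraicClosure k
  let fL := FBase.BC.specMap k L
  let h := G.t ≫ eU.hom
  let proj := pullback.fst h fL
  let ε : Spec (CommRingCat.of k) ⟶ G.R := eU.inv ≫ G.e
  have hε : ε ≫ h = 𝟙 _ := by simp [ε, h]
  let εL : Spec (CommRingCat.of L) ⟶ pullback h fL :=
    pullback.lift (fL ≫ ε) (𝟙 _) (by simp [hε])
  let e₀ := G.e (eU.inv (IsLocalRing.closedPoint k))
  let e' := εL (IsLocalRing.closedPoint L)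
  have hε₀ : ∀ z, ε z = e₀ := fun z => by
    rw [Subsingleton.elim (α := PrimeSpectrum k) z (IsLocalRing.closedPoint k)]
    exact Scheme.Hom.comp_apply eU.inv G.e _
  have he' : proj e' = e₀ := by
    refine (Scheme.Hom.comp_apply εL proj _).symm.trans ?_
    simp only [εL, proj, pullback.lift_fst]
    exact (Scheme.Hom.comp_apply fL ε _).trans (hε₀ _)
  -- the identity has only one point above it
  have hsq : IsPullback εL fL proj ε := by
    refine IsPullback.of_right (h₁₂ := pullback.snd h fL) (h₂₂ := h) (v₁₃ := fL) ?_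
      (pullback.lift_fst _ _ _) (IsPullback.of_hasPullback h fL).flip
    simp only [εL, pullback.lift_snd, hε]
    exact IsPullback.of_horiz_isIso ⟨by simp⟩
  have hone : ∀ z, proj z = e₀ → z = e' := fun z hz => by
    obtain ⟨p, hp, -⟩ := Scheme.exists_preimage_of_isPullback hsq z (IsLocalRing.closedPoint k)
      (hz.trans (hε₀ _).symm)
    rw [← hp, Subsingleton.elim (α := PrimeSpectrum L) p (IsLocalRing.closedPoint L)]
  -- it lies on one component
  have huniq : UniqueComp e' := by
    let φ : pullback (fL ≫ eU.inv) G.t ⟶ pullback h fL :=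
      pullback.lift (pullback.snd _ _) (pullback.fst _ _) (by simp [h, ← pullback.condition_assoc])
    have : IsIso φ := ⟨pullback.lift (pullback.snd _ _) (pullback.fst _ _)
      (by simp [h, ← pullback.condition_assoc]),
      by apply pullback.hom_ext <;> simp [φ, pullback.lift_fst, pullback.lift_snd, pullback.lift_fst_assoc, pullback.lift_snd_assoc], by apply pullback.hom_ext <;> simp [φ, pullback.lift_fst, pullback.lift_snd, pullback.lift_fst_assoc, pullback.lift_snd_assoc]⟩
    have h1 := uniqueComp_of_flat φ (uniqueComp_pullback G k eU (fL ≫ eU.inv))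
    rw [← Scheme.Hom.comp_apply] at h1
    have he1 : εL = pullback.lift (f := fL ≫ eU.inv) (g := G.t) (𝟙 _) ((fL ≫ eU.inv) ≫ G.e)
        (by simp) ≫ φ := by
      apply pullback.hom_ext <;> simp [φ, εL, ε, pullback.lift_fst, pullback.lift_snd, pullback.lift_fst_assoc, pullback.lift_snd_assoc]
    rw [← he1] at h1
    exact h1
  obtain ⟨η₀, hη₀⟩ := QuasiSober.sober hZ.1 ι.isClosedEmbedding.isClosed_range
  have hη₀max : IsMaxGen η₀ := isMaxGen_iff.mpr (hη₀.def.symm ▸ hZ)
  have : IsIntegralHom proj := inferInstanceAs (IsIntegralHom (pullback.fst h fL))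
  have : Flat proj := inferInstanceAs (Flat (pullback.fst h fL))
  obtain ⟨a₀, ha₀, ha₀e⟩ := exists_isMaxGen e'
  have key : ∀ w, proj w ∈ Set.range ι → a₀ ⤳ w ∧ proj a₀ = η₀ := by
    intro w hw
    obtain ⟨w₂, hw₂, hpw₂⟩ := Flat.generalizingMap proj (hη₀.specializes hw)
    obtain ⟨w₁, hw₁max, hw₁₂⟩ := exists_isMaxGen w₂
    have hpw₁ : proj w₁ = η₀ := hη₀max _ (hpw₂ ▸ hw₁₂.map proj.continuous)
    have hcl : IsClosed (proj '' closure {w₁}) := proj.isClosedMap _ isClosed_closure
    have : e₀ ∈ proj '' closure {w₁} := by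
      have h : closure {η₀} ⊆ proj '' closure {w₁} :=
        hcl.closure_subset_iff.mpr (Set.singleton_subset_iff.mpr ⟨w₁, subset_closure rfl, hpw₁⟩)
      exact h (specializes_iff_mem_closure.mp (hη₀.specializes he))
    obtain ⟨z, hz, hze⟩ := this
    obtain rfl := hone z hze
    obtain rfl := huniq a₀ w₁ ha₀ hw₁max ha₀e (specializes_iff_mem_closure.mpr hz)
    exact ⟨hw₁₂.trans hw₂, hpw₁⟩
  let i : pullback (ι ≫ h) fL ⟶ pullback h fL :=
    pullback.map (ι ≫ h) fL h fL ι (𝟙 _) (𝟙 _) (by simp) (by simp)
  have hi : IsPullback i (pullback.fst (ι ≫ h) fL) proj ι := by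
    refine IsPullback.of_right (h₁₂ := pullback.snd h fL) (h₂₂ := h) (v₁₃ := fL) ?_
      (pullback.lift_fst _ _ _) (IsPullback.of_hasPullback h fL).flip
    rw [show i ≫ pullback.snd h fL = pullback.snd (ι ≫ h) fL from
      (pullback.lift_snd _ _ _).trans (Category.comp_id _)]
    exact (IsPullback.of_hasPullback _ fL).flip
  have : IsClosedImmersion i := MorphismProperty.of_isPullback hi.flip ‹_›
  have hrange : Set.range i = closure {a₀} := by
    have hr : Set.range i = proj ⁻¹' Set.range ι := by
      refine Set.Subset.antisymm ?_ fun w ⟨z, hz⟩ => ?_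
      · rintro _ ⟨q, rfl⟩
        exact ⟨_, ((Scheme.Hom.comp_apply _ _ _).symm.trans (congr(($hi.w) q))).trans
          (Scheme.Hom.comp_apply _ _ _) |>.symm⟩
      · obtain ⟨q, hq, -⟩ := Scheme.exists_preimage_of_isPullback hi w z hz.symm
        exact ⟨q, hq⟩
    rw [hr]
    refine Set.Subset.antisymm (fun w hw => specializes_iff_mem_closure.mp (key w hw).1) ?_
    refine (ι.isClosedEmbedding.isClosed_range.preimage
      proj.continuous).closure_subset_iff.mpr (Set.singleton_subset_iff.mpr ?_)
    show proj a₀ ∈ Set.range ι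
    rw [(key e' (he'.symm ▸ he)).2]
    exact hη₀.mem
  have : IrreducibleSpace ↥(pullback (ι ≫ h) fL) := by
    rw [i.isClosedEmbedding.isEmbedding.toHomeomorph.irreducibleSpace_iff,
      ← isIrreducible_iff_irreducibleSpace, hrange]
    exact isIrreducible_singleton.closure
  exact (FBase.BC.geometricallyIrreducible_iff (K := L) _).mpr
    (FBase.BC.geometricallyIrreducible_of_isSepClosed (pullback.snd (ι ≫ h) fL))

include eU in
/-- A closed subscheme supported on a component of the identity is geometrically irreducible over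
the field through the source. -/
theorem geometricallyIrreducible_s {Z : Scheme.{u}} (ι : Z ⟶ G.R) [IsClosedImmersion ι]
    (hZ : Set.range ι ∈ irreducibleComponents (G.R : Type u))
    (he : G.e (eU.inv (IsLocalRing.closedPoint k)) ∈ Set.range ι) :
    GeometricallyIrreducible (ι ≫ G.s ≫ eU.hom) := by
  have hii : G.i ≫ G.i = 𝟙 G.R := i_i G
  have : IsIso G.i := ⟨G.i, hii, hii⟩
  have hie : G.e ≫ G.i = G.e := by
    have h1 := i_comp G G.e (by simp)
    have h2 := comp_e G (G.e ≫ G.i) (𝟙 _) (by simp)
    simp only [Category.id_comp, e_comp_s] at h1 h2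
    exact h2.symm.trans h1
  have hr : Set.range (ι ≫ G.i) = G.i '' Set.range ι := by
    rw [← Set.range_comp]; rfl
  have := geometricallyIrreducible_t G k eU (ι ≫ G.i) (by
      rw [hr]
      have hpre := preimage_mem_irreducibleComponents hZ G.i.isOpenEmbedding
        ⟨_, he, G.i.surjective _⟩
      have hpim : G.i '' Set.range ι = G.i ⁻¹' Set.range ι := by
        refine Set.image_eq_preimage_of_inverse ?_ ?_ ▸ rfl <;>
        exact fun x => (Scheme.Hom.comp_apply _ _ _).symm.trans (congrArg (fun φ : G.R ⟶ G.R => φ x) hii)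
      rw [hpim]; exact hpre) (by
      rw [hr]
      exact ⟨_, he, (Scheme.Hom.comp_apply G.e G.i _).symm.trans
        (congrArg (fun φ : G.U ⟶ G.R => φ _) hie)⟩)
  simpa using this

end Groth.Agent.GrpdLib.FieldIrreducible
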