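import Groth.Agent.GrpdLib.FieldDim
import Groth.Agent.EtStruct.BaseChangeDescentScheme

/-!
# Smoothness of groupoids over a field spreads from one point
-/

set_option autoImplicit false
set_option linter.style.haveILetI false

universe u

open CategoryTheory CategoryTheory.Limits AlgebraicGeometry

namespace Groth.Agent.GrpdLib.FieldSmooth

/-- A morphism is smooth near a point. -/
def SmAt {X Y : Scheme.{u}} (f : X ⟶ Y) (x : X) : Prop :=
  ∃ W : X.Opens, x ∈ W ∧ Smooth (W.ι ≫ f)

lemma smAt_iff {X Y : Scheme.{u}} (f : X ⟶ Y) [LocallyOfFinitePresentation f] (x : X) :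
    SmAt f x ↔ x ∈ f.smoothLocus :=
  (EtStruct.smooth_nhd_iff f x).trans Scheme.Hom.mem_smoothLocus.symm

lemma smAt_iff_of_isPullback {X Y X' Y' : Scheme.{u}} {p : X' ⟶ X} {q : X' ⟶ Y'} {f : X ⟶ Y}
    {g : Y' ⟶ Y} [LocallyOfFinitePresentation f] [Flat g] (sq : IsPullback p q f g) (x : X') :
    SmAt q x ↔ SmAt f (p x) := by
  refine ⟨EtStruct.smooth_nhd_of_baseChange sq x (Flat.stalkMap g _), ?_⟩
  rintro ⟨W, hW, h⟩
  exact ⟨p ⁻¹ᵁ W, hW, MorphismProperty.of_isPullback
    ((isPullback_morphismRestrict p W).paste_vert sq) h⟩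

variable {S : Scheme.{u}} (G : Grpd.GroupoidScheme S)
variable (k : Type u) [Field k] (eU : G.U ≅ Spec (CommRingCat.of k))

include eU in
lemma lfp_t [LocallyOfFiniteType G.t] : LocallyOfFinitePresentation G.t := by
  have : IsLocallyNoetherian G.U := isLocallyNoetherian_of_isOpenImmersion eU.hom
  infer_instance

include eU in
/-- The target is smooth at a closed arrow iff it is smooth at the identity. -/
theorem smAt_t_iff [LocallyOfFiniteType G.s] [LocallyOfFiniteType G.t]
    (r : G.R) (hr : IsClosed ({r} : Set G.R)) (u : G.U) : SmAt G.t r ↔ SmAt G.t (G.e u) := by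
  have := FieldDim.subsingleton_U G k eU
  have := lfp_t G k eU
  obtain ⟨Z, z, a, rfl, hs, ht, hs', ht'⟩ := FieldDim.integral_flat_of_isClosed G k eU r hr
  let x : Z ⟶ pullback (a ≫ G.s) G.t := pullback.lift (𝟙 Z) ((a ≫ G.s) ≫ G.e) (by simp)
  let p := pullback.snd (a ≫ G.s) G.t
  let p' := (translateIso G a).hom ≫ pullback.snd (a ≫ G.t) G.t
  have h₁ : p (x z) = G.e (G.s (a z)) := by
    rw [← Scheme.Hom.comp_apply]
    simp only [x, p, pullback.lift_snd]
    rfl
  have e : x ≫ (translateIso G a).hom ≫ pullback.snd (a ≫ G.t) G.t = a := by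
    simp only [translateIso, pullback.lift_snd]
    refine (naturality_of G x (by simp) ?_ (pullback.lift_snd _ _ _)).trans
      (comp_e G a (a ≫ G.s) (by simp))
    rw [← Category.assoc, pullback.lift_fst, Category.id_comp]
  have h₂ : p' (x z) = a z :=
    (Scheme.Hom.comp_apply x p' z).symm.trans (congrArg (fun φ : Z ⟶ G.R => φ z) e)
  have sq : IsPullback p (pullback.fst (a ≫ G.s) G.t) G.t (a ≫ G.s) :=
    (IsPullback.of_hasPullback _ _).flip
  have sq' : IsPullback p' (pullback.fst (a ≫ G.s) G.t) G.t (a ≫ G.t) :=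
    IsPullback.of_iso (IsPullback.of_hasPullback (a ≫ G.t) G.t).flip (translateIso G a).symm
      (Iso.refl _) (Iso.refl _) (Iso.refl _) (by simp [p'])
      (by simp [translateIso, pullback.lift_fst]) (by simp) (by simp)
  rw [Subsingleton.elim u (G.s (a z)), ← h₁, ← h₂, ← smAt_iff_of_isPullback sq (x z),
    ← smAt_iff_of_isPullback sq' (x z)]

include eU in
/-- The target is smooth if it is smooth somewhere. -/
theorem smooth_t [LocallyOfFiniteType G.s] [LocallyOfFiniteType G.t]
    (r₀ : G.R) (h : SmAt G.t r₀) : Smooth G.t := by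
  have := FieldDim.jacobsonSpace_R G k eU
  have := lfp_t G k eU
  rw [← Scheme.Hom.smoothLocus_eq_top_iff, ← TopologicalSpace.Opens.coe_eq_univ,
    ← not_ne_iff, ← Set.nonempty_compl]
  intro H
  obtain ⟨x, hx, hxc⟩ :=
    nonempty_inter_closedPoints H G.t.smoothLocus.2.isClosed_compl.isLocallyClosed
  obtain ⟨y, hy, hyc⟩ := nonempty_inter_closedPoints (Z := (G.t.smoothLocus : Set G.R))
    ⟨r₀, (smAt_iff G.t r₀).1 h⟩ G.t.smoothLocus.2.isLocallyClosed
  exact hx ((smAt_iff G.t x).1 ((smAt_t_iff G k eU x hxc (G.s x)).2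
    ((smAt_t_iff G k eU y hyc (G.s x)).1 ((smAt_iff G.t y).2 hy))))

include eU in
/-- Source and target are smooth if the target is smooth somewhere. -/
theorem smooth_st [LocallyOfFiniteType G.s] [LocallyOfFiniteType G.t]
    (r₀ : G.R) (h : SmAt G.t r₀) : Smooth G.s ∧ Smooth G.t := by
  have ht := smooth_t G k eU r₀ h
  have : IsIso G.i := ⟨G.i, i_i G, i_i G⟩
  refine ⟨?_, ht⟩
  rw [← G.i_t]
  infer_instance

include eU in
/-- Over a perfect field, a reduced nonempty open of arrows suffices. -/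
theorem smooth_st_of_reduced [PerfectField k] [LocallyOfFiniteType G.s] [LocallyOfFiniteType G.t]
    (U : G.R.Opens) (r : G.R) (hr : r ∈ U) [IsReduced (U : Scheme.{u})] :
    Smooth G.s ∧ Smooth G.t := by
  have := lfp_t G k eU
  let f := U.ι ≫ G.t ≫ eU.hom
  have : LocallyOfFinitePresentation f := inferInstance
  have : Nonempty (U : Scheme.{u}) := ⟨⟨r, hr⟩⟩
  obtain ⟨x, hx⟩ := f.dense_smoothLocus_of_perfectField.nonempty
  refine smooth_st G k eU (U.ι x) ((smAt_iff G.t _).2 ?_)
  have h1 : U.ι x ∈ (G.t ≫ eU.hom).smoothLocus := by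
    rw [← Scheme.Hom.mem_preimage, Scheme.Hom.preimage_smoothLocus_eq]; exact hx
  obtain ⟨W, hW, hs⟩ := (smAt_iff (G.t ≫ eU.hom) _).2 h1
  refine (smAt_iff G.t _).1 ⟨W, hW, ?_⟩
  have : Smooth (((W.ι ≫ G.t ≫ eU.hom)) ≫ eU.inv) := inferInstance
  simpa using this

end Groth.Agent.GrpdLib.FieldSmooth
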