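import Mathlib.LinearAlgebra.Matrix.Charpoly.Basic
import Mathlib.LinearAlgebra.Matrix.SchurComplement
import Mathlib.LinearAlgebra.Matrix.NonsingularInverse
import Mathlib.RingTheory.Finiteness.Projective
import Mathlib.RingTheory.Norm.Basic
import Mathlib.RingTheory.Localization.FractionRing
import Mathlib.RingTheory.Ideal.Operations
import Mathlib.Algebra.Category.Ring.Constructions
import Mathlib.RingTheory.IsTensorProduct

/-!
# Norm and characteristic polynomial for finite projective algebras

An algebra `σ : A →+* B` which is finite projective as a module is presented by a generating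
family `e : Fin n → B` and a linear section `coord`. Multiplication by `x` becomes a matrix `mat x`
supported on the image of the idempotent `mat 1`; the norm is `det (1 + mat x - mat 1)`.
-/

universe u v

open Matrix Polynomial

namespace Groth.Agent.GrpdLib

variable {A : Type u} {B : Type v} [CommRing A] [CommRing B]

/-- A presentation of `B` as a direct summand of `A ^ n`. -/
structure Pres (σ : A →+* B) where
  n : ℕ
  e : Fin n → B
  coord : B →+ (Fin n → A)
  coord_smul : ∀ a b, coord (σ a * b) = a • coord b
  sum_coord : ∀ b, ∑ j, σ (coord b j) * e j = b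

namespace Pres

variable {σ : A →+* B} (P Q R : Pres σ)

/-- The matrix of multiplication by `x` between two presentations. -/
def cross (x : B) : Matrix (Fin P.n) (Fin Q.n) A := Matrix.of fun j k => P.coord (x * Q.e k) j

/-- The matrix of multiplication by `x`. -/
def mat (x : B) : Matrix (Fin P.n) (Fin P.n) A := P.cross P x

lemma cross_mul (x y : B) : P.cross Q x * Q.cross R y = P.cross R (x * y) := by
  ext j k
  have h : x * y * R.e k = ∑ l, σ (Q.coord (y * R.e k) l) * (x * Q.e l) := by
    conv_lhs => rw [mul_assoc, ← Q.sum_coord (y * R.e k), Finset.mul_sum]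
    exact Finset.sum_congr rfl fun l _ => by ring
  simp only [cross, Matrix.mul_apply, Matrix.of_apply, h, map_sum, P.coord_smul, Finset.sum_apply,
    Pi.smul_apply, smul_eq_mul]
  exact Finset.sum_congr rfl fun l _ => mul_comm _ _

lemma cross_add (x y : B) : P.cross Q (x + y) = P.cross Q x + P.cross Q y := by
  ext j k; simp [cross, add_mul]

lemma cross_sub (x y : B) : P.cross Q (x - y) = P.cross Q x - P.cross Q y := by
  ext j k; simp [cross, sub_mul]

lemma mat_mul (x y : B) : P.mat x * P.mat y = P.mat (x * y) := cross_mul P P P x y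

lemma mat_smul (a : A) (x : B) : P.mat (σ a * x) = a • P.mat x := by
  ext j k; simp [mat, cross, mul_assoc, P.coord_smul]

/-- The norm. -/
def norm (x : B) : A := (1 + (P.mat x - P.mat 1)).det

/-- The characteristic polynomial of `mat x` (depends on `n` up to a power of `X`). -/
noncomputable def charpoly (x : B) : A[X] := (P.mat x).charpoly

lemma norm_one : P.norm 1 = 1 := by simp [norm]

lemma norm_mul (x y : B) : P.norm x * P.norm y = P.norm (x * y) := by
  simp only [norm, ← det_mul]
  congr 1
  simp only [mul_add, add_mul, mul_sub, sub_mul, mat_mul, mul_one, one_mul]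
  abel

lemma norm_eq (x : B) : P.norm x = Q.norm x := by
  simp only [norm]
  have h1 : P.mat x - P.mat 1 = P.cross Q 1 * Q.cross P (x - 1) := by
    rw [cross_mul, one_mul, cross_sub]; rfl
  have h2 : Q.mat x - Q.mat 1 = Q.cross P (x - 1) * P.cross Q 1 := by
    rw [cross_mul, mul_one, cross_sub]; rfl
  rw [h1, h2, det_one_add_mul_comm]

lemma charpoly_eq (h : P.n = Q.n) (x : B) : P.charpoly x = Q.charpoly x := by
  have h1 : P.mat x = P.cross Q 1 * Q.cross P x := by rw [cross_mul, one_mul]; rfl
  have h2 : Q.mat x = Q.cross P x * P.cross Q 1 := by rw [cross_mul, mul_one]; rfl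
  have := charpoly_mul_comm' (P.cross Q 1) (Q.cross P x)
  rw [← h1, ← h2, Fintype.card_fin, Fintype.card_fin] at this
  rw [show (X : A[X]) ^ P.n = X ^ Q.n by rw [h]] at this
  exact (isRegular_X_pow _).left.eq_iff.mp this

lemma sum_mat_mul (x : B) (k) : ∑ j, σ (P.mat x j k) * P.e j = x * P.e k := P.sum_coord _

lemma sum_normMat_mul (x : B) (k) :
    ∑ j, σ ((1 + (P.mat x - P.mat 1)) j k) * P.e j = x * P.e k := by
  simp only [Matrix.add_apply, Matrix.sub_apply, map_add, map_sub, add_mul, sub_mul,
    Finset.sum_add_distrib, Finset.sum_sub_distrib, sum_mat_mul, one_mul]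
  simp [Matrix.one_apply, apply_ite σ]

lemma sum_normMat_mulVec (x : B) (w : Fin P.n → A) :
    ∑ j, σ (((1 + (P.mat x - P.mat 1)) *ᵥ w) j) * P.e j = x * ∑ k, σ (w k) * P.e k := by
  simp only [mulVec, dotProduct, map_sum, map_mul, Finset.sum_mul, Finset.mul_sum]
  rw [Finset.sum_comm]
  refine Finset.sum_congr rfl fun k _ => ?_
  rw [show x * (σ (w k) * P.e k) = σ (w k) * (x * P.e k) by ring, ← P.sum_normMat_mul x k,
    Finset.mul_sum]
  exact Finset.sum_congr rfl fun j _ => by ring

lemma dvd_norm (x : B) : x ∣ σ (P.norm x) := by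
  refine ⟨∑ k, σ (((1 + (P.mat x - P.mat 1)).adjugate *ᵥ P.coord 1) k) * P.e k, ?_⟩
  rw [← sum_normMat_mulVec, mulVec_mulVec, mul_adjugate, smul_mulVec, one_mulVec]
  simp only [Pi.smul_apply, smul_eq_mul, map_mul, mul_assoc, ← Finset.mul_sum, P.sum_coord,
    mul_one]
  rfl

lemma isUnit_norm_iff (x : B) : IsUnit (P.norm x) ↔ IsUnit x := by
  refine ⟨fun h => isUnit_of_dvd_unit (P.dvd_norm x) (h.map σ), fun h => ?_⟩
  obtain ⟨y, hy⟩ := h.exists_right_inv
  exact IsUnit.of_mul_eq_one (P.norm y) (by rw [norm_mul, hy, norm_one])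

lemma exists_prime_iff_norm_mem (q : Ideal A) [q.IsPrime] (x : B) :
    (∃ Q : Ideal B, Q.IsPrime ∧ Q.comap σ = q ∧ x ∈ Q) ↔ P.norm x ∈ q := by
  constructor
  · rintro ⟨Q, hQ, rfl, hx⟩
    exact Q.mem_of_dvd (P.dvd_norm x) hx
  · intro hN
    by_contra hne
    push Not at hne
    by_cases hd : Disjoint ((q.map σ ⊔ Ideal.span {x} : Ideal B) : Set B)
        ((q.primeCompl.map σ : Submonoid B) : Set B)
    · obtain ⟨Q, hQ, hle, hdis⟩ := Ideal.exists_le_prime_disjoint _ _ hd
      refine hne Q hQ (le_antisymm (fun a ha => ?_) ?_)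
        (hle (Ideal.mem_sup_right (Ideal.mem_span_singleton_self x)))
      · by_contra hc
        exact Set.disjoint_left.mp hdis ha ⟨a, hc, rfl⟩
      · exact Ideal.map_le_iff_le_comap.mp (le_sup_left.trans hle)
    · obtain ⟨_, hI, a, ha, rfl⟩ := Set.not_disjoint_iff.mp hd
      obtain ⟨y, hy, z, hz, hyz⟩ := Submodule.mem_sup.mp hI
      obtain ⟨b, rfl⟩ := Ideal.mem_span_singleton'.mp hz
      let π : A →+* FractionRing (A ⧸ q) := (algebraMap _ _).comp (Ideal.Quotient.mk q)
      have hπ : ∀ c, π c = 0 ↔ c ∈ q := fun c => by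
        simp [π, Ideal.Quotient.eq_zero_iff_mem]
      have hcoord : ∀ j, ∀ w ∈ q.map σ, P.coord w j ∈ q := by
        intro j w hw
        induction hw using Submodule.span_induction generalizing j with
        | mem w hw =>
          obtain ⟨c, hc, rfl⟩ := hw
          rw [← mul_one (σ c), P.coord_smul]
          exact q.mul_mem_right _ hc
        | zero => simp
        | add u v _ _ hu hv => simpa using q.add_mem (hu j) (hv j)
        | smul r u _ hu =>
          rw [← P.sum_coord u, Finset.smul_sum]
          simp only [smul_eq_mul, map_sum, Finset.sum_apply]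
          refine sum_mem fun l _ => ?_
          rw [show r * (σ (P.coord u l) * P.e l) = σ (P.coord u l) * (r * P.e l) by ring,
            P.coord_smul]
          exact q.mul_mem_right _ (hu l)
      have hy0 : (P.mat y).map π = 0 := by
        ext j k
        simpa [mat, cross, hπ] using hcoord j _ ((q.map σ).mul_mem_right (P.e k) hy)
      have hxb : (P.mat (x * b)).map π = π a • (P.mat 1).map π := by
        have : x * b = σ a * 1 - y := by rw [← hyz]; ring
        rw [this]
        ext j k
        have h0 : π (P.coord (y * P.e k) j) = 0 := congrFun (congrFun hy0 j) k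
        simp [mat, cross, sub_mul, P.coord_smul, h0]
      have hE : (P.mat 1).map π * (P.mat 1).map π = (P.mat 1).map π := by
        rw [← Matrix.map_mul, mat_mul, one_mul]
      have key : π (P.norm (x * b)) = 0 := by
        rw [hπ, ← norm_mul]; exact q.mul_mem_right _ hN
      simp only [norm, RingHom.map_det, RingHom.mapMatrix_apply, Matrix.map_add π (map_add π),
        Matrix.map_sub π (map_sub π), Matrix.map_one π (map_zero π) (map_one π), hxb] at key
      have ha' : π a ≠ 0 := fun h => ha ((hπ a).mp h)
      set E := (P.mat 1).map π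
      have hinv : (1 + (π a • E - E)) * (1 + ((π a)⁻¹ • E - E)) = 1 := by
        simp only [mul_add, add_mul, mul_sub, sub_mul, one_mul, mul_one, Matrix.mul_smul,
          Matrix.smul_mul, hE, smul_smul, inv_mul_cancel₀ ha', one_smul]
        abel
      have := congrArg Matrix.det hinv
      rw [det_mul, key, zero_mul, det_one] at this
      exact zero_ne_one this

lemma aeval_mat_mul (x : B) (q : A[X]) (k) :
    ∑ j, σ (aeval (P.mat x) q j k) * P.e j = q.eval₂ σ x * P.e k := by
  induction q using Polynomial.induction_on' generalizing k with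
  | add p r hp hr =>
    simp only [map_add, Matrix.add_apply, eval₂_add, add_mul, Finset.sum_add_distrib, hp, hr]
  | monomial m a =>
    have hpow : ∀ m k, ∑ j, σ ((P.mat x ^ m) j k) * P.e j = x ^ m * P.e k := by
      intro m
      induction m with
      | zero => intro k; simp [Matrix.one_apply, apply_ite σ]
      | succ m ih =>
        intro k
        simp only [pow_succ, Matrix.mul_apply, map_sum, map_mul, Finset.sum_mul]
        rw [Finset.sum_comm, mul_assoc, ← P.sum_mat_mul x k, Finset.mul_sum]
        refine Finset.sum_congr rfl fun l _ => ?_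
        rw [show x ^ m * (σ (P.mat x l k) * P.e l) = σ (P.mat x l k) * (x ^ m * P.e l) by ring,
          ← ih l, Finset.mul_sum]
        exact Finset.sum_congr rfl fun j _ => by ring
    rw [aeval_monomial, ← Algebra.smul_def, eval₂_monomial, mul_assoc, ← hpow m k, Finset.mul_sum]
    simp [Matrix.smul_apply, mul_assoc]

lemma eval₂_charpoly (x : B) : (P.charpoly x).eval₂ σ x = 0 := by
  have h := P.aeval_mat_mul x (P.charpoly x)
  simp only [charpoly, Matrix.aeval_self_charpoly, Matrix.zero_apply, map_zero, zero_mul,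
    Finset.sum_const_zero] at h
  calc (P.charpoly x).eval₂ σ x
      = (P.charpoly x).eval₂ σ x * ∑ j, σ (P.coord 1 j) * P.e j := by rw [P.sum_coord, mul_one]
    _ = 0 := by
      rw [Finset.mul_sum]
      refine Finset.sum_eq_zero fun j _ => ?_
      rw [mul_left_comm, charpoly, ← h j, mul_zero]

lemma charpoly_monic (x : B) : (P.charpoly x).Monic := Matrix.charpoly_monic _

lemma dvd_norm_of_retraction (ε : B →+* A) (hε : ∀ a, ε (σ a) = a) (x : B) :
    ε x ∣ P.norm x := by
  have := map_dvd ε (P.dvd_norm x)
  rwa [hε] at this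

/-- A presentation of a finite projective algebra. -/
lemma nonempty {σ : A →+* B} (h₁ : letI := σ.toAlgebra; Module.Finite A B)
    (h₂ : letI := σ.toAlgebra; Module.Projective A B) : Nonempty (Pres σ) := by
  let := σ.toAlgebra
  obtain ⟨n, f, g, -, -, hfg⟩ := Module.Finite.exists_comp_eq_id_of_projective A B
  refine ⟨⟨n, fun j => f (Pi.single j 1), g.toAddMonoidHom, fun a b => g.map_smul a b, fun b => ?_⟩⟩
  have hb : f (g b) = b := DFunLike.congr_fun hfg b
  conv_rhs => rw [← hb, pi_eq_sum_univ' (g b), map_sum]
  simp only [map_smul]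
  rfl

/-- The presentation attached to a basis. -/
noncomputable def ofBasis [Algebra A B] {n : ℕ} (b : Module.Basis (Fin n) A B) :
    Pres (algebraMap A B) where
  n := n
  e := b
  coord := b.equivFun.toLinearMap.toAddMonoidHom
  coord_smul a x := by
    show b.equivFun (algebraMap A B a * x) = _
    rw [← Algebra.smul_def, map_smul]; rfl
  sum_coord x := by
    simp [← Algebra.smul_def]

lemma norm_ofBasis [Algebra A B] {n : ℕ} (b : Module.Basis (Fin n) A B) (x : B) :
    (ofBasis b).norm x = Algebra.norm A x := by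
  have hmat : ∀ y, (ofBasis b).mat y = Algebra.leftMulMatrix b y := fun y => by
    ext j k; exact (Algebra.leftMulMatrix_eq_repr_mul b y j k).symm
  rw [Algebra.norm_eq_matrix_det b, norm, hmat, hmat, map_one]
  exact congrArg Matrix.det (add_sub_cancel _ _)

end Pres

namespace Pres

variable {σ : A →+* B} (P Q : Pres σ)

/-- The rank-corrected characteristic polynomial, the norm of `X - x`. -/
noncomputable def chi (x : B) : A[X] :=
  (1 + ((X : A[X]) • (P.mat 1).map C - (P.mat x).map C - (P.mat 1).map C)).det

lemma chi_eq (x : B) : P.chi x = Q.chi x := by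
  let u : Matrix (Fin P.n) (Fin Q.n) A[X] := (P.cross Q 1).map C
  let v : Matrix (Fin Q.n) (Fin P.n) A[X] :=
    (X : A[X]) • (Q.cross P 1).map C - (Q.cross P x).map C - (Q.cross P 1).map C
  have h1 : (X : A[X]) • (P.mat 1).map C - (P.mat x).map C - (P.mat 1).map C = u * v := by
    simp only [u, v, Matrix.mul_sub, Matrix.mul_smul, ← Matrix.map_mul, cross_mul, one_mul]
    rfl
  have h2 : (X : A[X]) • (Q.mat 1).map C - (Q.mat x).map C - (Q.mat 1).map C = v * u := by
    simp only [u, v, Matrix.sub_mul, Matrix.smul_mul, ← Matrix.map_mul, cross_mul, mul_one]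
    rfl
  rw [chi, chi, h1, h2, det_one_add_mul_comm]

lemma eval_chi (x : B) (a : A) : (P.chi x).eval a = P.norm (σ a - x) := by
  have h : P.mat (σ a - x) = a • P.mat 1 - P.mat x := by
    rw [← P.mat_smul, mul_one]; exact cross_sub P P _ _
  rw [chi, ← coe_evalRingHom, RingHom.map_det, norm, h]
  congr 1
  ext j k
  rcases eq_or_ne j k with rfl | hjk <;> simp [RingHom.mapMatrix_apply, *] <;> ring

end Pres

open CategoryTheory in
/-- Base change of presentations along a pushout square. -/
lemma exists_pres_baseChange' {A A' B B' : CommRingCat.{u}} {φ : A ⟶ A'} {σ : A ⟶ B}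
    {σ' : A' ⟶ B'} {ψ : B ⟶ B'} (h : IsPushout φ σ σ' ψ) (P : Pres σ.hom) :
    ∃ P' : Pres σ'.hom, P'.n = P.n ∧ (∀ x, P'.norm (ψ x) = φ (P.norm x)) ∧
      (∀ x, P'.charpoly (ψ x) = (P.charpoly x).map φ.hom) ∧
      ∀ x, P'.chi (ψ x) = (P.chi x).map φ.hom := by
  algebraize [φ.hom, σ.hom, σ'.hom, ψ.hom, σ'.hom.comp φ.hom]
  have : IsScalarTower A B B' := .of_algebraMap_eq' (congrArg CommRingCat.Hom.hom h.w)
  have hp : Algebra.IsPushout A A' B B' := CommRingCat.isPushout_iff_isPushout.mp h
  have hb : IsBaseChange A' (IsScalarTower.toAlgHom A B B').toLinearMap := hp.out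
  let g : B →ₗ[A] (Fin P.n → A') :=
    { toFun := fun b j => φ (P.coord b j)
      map_add' := fun a b => by ext j; simp
      map_smul' := fun a b => by
        ext j
        simp only [Algebra.smul_def, RingHom.algebraMap_toAlgebra, P.coord_smul, Pi.smul_apply,
          RingHom.id_apply]
        simp }
  have hsum : ∀ b : B', ∑ j, σ' (hb.lift g b j) * ψ (P.e j) = b := by
    intro b
    induction b using hb.inductionOn with
    | zero => simp
    | tmul m =>
      rw [hb.lift_eq]
      calc ∑ j, σ' (g m j) * ψ (P.e j) = ψ (∑ j, σ (P.coord m j) * P.e j) := by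
            simp only [map_sum, map_mul]
            refine Finset.sum_congr rfl fun j _ => ?_
            congr 1
            exact congrArg (fun f => f.hom (P.coord m j)) h.w
        _ = _ := by rw [P.sum_coord]; rfl
    | smul r b hr =>
      conv_rhs => rw [← hr]
      rw [map_smul, Finset.smul_sum]
      simp [Algebra.smul_def, RingHom.algebraMap_toAlgebra, mul_assoc]
    | add a b ha hb' =>
      simp only [map_add, Pi.add_apply, add_mul, Finset.sum_add_distrib, ha, hb']
  let P' : Pres σ'.hom :=
    { n := P.n
      e := fun j => ψ (P.e j)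
      coord := (hb.lift g).toAddMonoidHom
      coord_smul := fun a b => (hb.lift g).map_smul a b
      sum_coord := hsum }
  have hmat : ∀ x, P'.mat (ψ x) = (P.mat x).map φ.hom := fun x => by
    ext j k
    show hb.lift g (ψ x * ψ (P.e k)) j = φ (P.coord (x * P.e k) j)
    rw [← map_mul]
    exact congrFun (hb.lift_eq g (x * P.e k)) j
  refine ⟨P', rfl, fun x => ?_, fun x => ?_, fun x => ?_⟩
  · simp only [Pres.norm]
    erw [RingHom.map_det]
    have h1 := hmat 1
    rw [map_one] at h1
    rw [hmat, h1]
    simp [Matrix.map_add, Matrix.map_sub, RingHom.mapMatrix_apply]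
  · simp only [Pres.charpoly]
    rw [hmat, Matrix.charpoly_map]
  · simp only [Pres.chi]
    rw [← Polynomial.coe_mapRingHom, RingHom.map_det]
    have h1 := hmat 1
    rw [map_one] at h1
    rw [hmat, h1]
    congr 1
    refine Matrix.ext fun j k => ?_
    rcases eq_or_ne j k with rfl | hjk <;> simp [RingHom.mapMatrix_apply, *]

open CategoryTheory in
/-- Base change of presentations along a pushout square. -/
lemma exists_pres_baseChange {A A' B B' : CommRingCat.{u}} {φ : A ⟶ A'} {σ : A ⟶ B}
    {σ' : A' ⟶ B'} {ψ : B ⟶ B'} (h : IsPushout φ σ σ' ψ) (P : Pres σ.hom) :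
    ∃ P' : Pres σ'.hom, P'.n = P.n ∧ (∀ x, P'.norm (ψ x) = φ (P.norm x)) ∧
      ∀ x, P'.charpoly (ψ x) = (P.charpoly x).map φ.hom :=
  let ⟨P', hn, hN, hc, _⟩ := exists_pres_baseChange' h P
  ⟨P', hn, hN, hc⟩

end Groth.Agent.GrpdLib
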