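import Mathlib.AlgebraicGeometry.Morphisms.FlatRank
import Mathlib.AlgebraicGeometry.Morphisms.Affine
import Mathlib.RingTheory.Flat.EquationalCriterion
import Groth.Agent.GrpdLib.Basic
import Groth.Agent.GrpdLib.Norm
import Groth.Agent.S7457

/-!
# Finite locally free groupoids on affine schemes: norms and invariants
-/

universe u

open CategoryTheory CategoryTheory.Limits AlgebraicGeometry

namespace Groth.Agent.GrpdLib

/-- A finite locally free morphism of affine schemes has a presentation. -/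
lemma nonempty_pres {X Y : Scheme.{u}} (f : X ⟶ Y) [IsAffine X] [IsAffine Y] [IsFinite f] [Flat f]
    [LocallyOfFinitePresentation f] : Nonempty (Pres f.appTop.hom) := by
  have h₁ : f.appTop.hom.Finite := f.finite_appTop
  have h₂ : f.appTop.hom.Flat := f.flat_appTop
  have h₃ : f.appTop.hom.FinitePresentation :=
    (HasRingHomProperty.iff_of_isAffine (P := @LocallyOfFinitePresentation)).mp inferInstance
  algebraize [f.appTop.hom]
  have := Module.FinitePresentation.of_finite_of_finitePresentation Γ(Y, ⊤) Γ(X, ⊤)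
  exact Pres.nonempty h₁ Module.Flat.projective_of_finitePresentation

lemma mem_basicOpen_top_iff {X : Scheme.{u}} [IsAffine X] (x : X) (a : Γ(X, ⊤)) :
    x ∈ X.basicOpen a ↔ a ∉ (X.isoSpec.hom x).asIdeal := by
  rw [← Scheme.toSpecΓ_preimage_basicOpen]
  rfl

lemma mem_basicOpen_norm_iff {X Y : Scheme.{u}} (f : X ⟶ Y) [IsAffine X] [IsAffine Y]
    (P : Pres f.appTop.hom) (a : Γ(X, ⊤)) (y : Y) :
    y ∈ Y.basicOpen (P.norm a) ↔ ∀ x : X, f x = y → x ∈ X.basicOpen a := by
  rw [mem_basicOpen_top_iff, ← P.exists_prime_iff_norm_mem]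
  push Not
  have key : ∀ x : X, Y.isoSpec.hom (f x) = Spec.map f.appTop (X.isoSpec.hom x) := fun x => by
    rw [← Scheme.Hom.comp_apply, ← Scheme.Hom.comp_apply, Scheme.isoSpec_hom_naturality]
  constructor
  · intro h x hx
    rw [mem_basicOpen_top_iff]
    refine h _ (X.isoSpec.hom x).isPrime ?_
    rw [← hx, key]; rfl
  · intro h Q hQ hQy
    let x : X := X.isoSpec.inv ⟨Q, hQ⟩
    have hx : X.isoSpec.hom x = ⟨Q, hQ⟩ := by
      simp [x, ← Scheme.Hom.comp_apply]
    have := h x ?_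
    · rw [mem_basicOpen_top_iff, hx] at this; exact this
    · apply Y.isoSpec.hom.homeomorph.injective
      show Y.isoSpec.hom (f x) = Y.isoSpec.hom y
      rw [key, hx]
      exact PrimeSpectrum.ext hQy

variable {S : Scheme.{u}} (G : Grpd.GroupoidScheme S) [IsAffine G.U] [IsAffine G.R] [IsFinite G.s]
  [Flat G.s] [LocallyOfFinitePresentation G.s]

omit [IsFinite G.s] [Flat G.s] [LocallyOfFinitePresentation G.s] in
lemma exists_pres_square (P : Pres G.s.appTop.hom) :
    ∃ P₁ P₂ : Pres (pullback.snd G.s G.t).appTop.hom, P₁.n = P₂.n ∧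
      ∀ a : Γ(G.U, ⊤), ∃ y : Γ(pullback G.s G.t, ⊤),
        P₁.norm y = G.t.appTop.hom (P.norm (G.t.appTop.hom a)) ∧
        P₂.norm y = G.s.appTop.hom (P.norm (G.t.appTop.hom a)) ∧
        P₁.charpoly y = (P.charpoly (G.t.appTop.hom a)).map G.t.appTop.hom ∧
        P₂.charpoly y = (P.charpoly (G.t.appTop.hom a)).map G.s.appTop.hom := by
  obtain ⟨P₁, hn₁, hN₁, hc₁⟩ :=
    exists_pres_baseChange (isPushout_appTop_of_isPullback (IsPullback.of_hasPullback G.s G.t).flip) P
  obtain ⟨P₂, hn₂, hN₂, hc₂⟩ :=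
    exists_pres_baseChange (isPushout_appTop_of_isPullback (S7457.result S G).2.flip) P
  refine ⟨P₁, P₂, hn₁.trans hn₂.symm, fun a => ⟨(pullback.fst G.s G.t).appTop (G.t.appTop.hom a),
    hN₁ _, ?_, hc₁ _, ?_⟩⟩
  all_goals
    have e : (pullback.fst G.s G.t).appTop (G.t.appTop.hom a) = G.c.appTop (G.t.appTop.hom a) := by
      have := congrArg (fun f => (Scheme.Hom.appTop f).hom a) (c_t G)
      simpa using this.symm
    rw [e]
  · exact hN₂ _
  · exact hc₂ _

omit [IsFinite G.s] [Flat G.s] [LocallyOfFinitePresentation G.s] in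
/-- The norm along `s` of `t^* a` is invariant. -/
lemma norm_mem_invariants (P : Pres G.s.appTop.hom) (a : Γ(G.U, ⊤)) :
    P.norm (G.t.appTop.hom a) ∈ G.invariants := by
  obtain ⟨P₁, P₂, -, h⟩ := exists_pres_square G P
  obtain ⟨y, h₁, h₂, -, -⟩ := h a
  exact (h₂.symm.trans (Pres.norm_eq _ _ _)).trans h₁

omit [IsFinite G.s] [Flat G.s] [LocallyOfFinitePresentation G.s] in
lemma coeff_charpoly_mem_invariants (P : Pres G.s.appTop.hom) (a : Γ(G.U, ⊤)) (m : ℕ) :
    (P.charpoly (G.t.appTop.hom a)).coeff m ∈ G.invariants := by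
  obtain ⟨P₁, P₂, hn, h⟩ := exists_pres_square G P
  obtain ⟨y, -, -, h₁, h₂⟩ := h a
  have := congrArg (fun q => Polynomial.coeff q m)
    (h₂.symm.trans ((Pres.charpoly_eq _ _ hn.symm _).trans h₁))
  show G.s.appTop.hom _ = G.t.appTop.hom _
  simpa using this

omit [IsAffine G.U] [IsAffine G.R] [IsFinite G.s] [Flat G.s] [LocallyOfFinitePresentation G.s] in
lemma e_app_s (a : Γ(G.U, ⊤)) : G.e.appTop.hom (G.s.appTop.hom a) = a := by
  rw [← RingHom.comp_apply, ← CommRingCat.hom_comp, ← Scheme.Hom.comp_appTop, G.e_s,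
    Scheme.Hom.id_appTop]
  rfl

omit [IsAffine G.U] [IsAffine G.R] [IsFinite G.s] [Flat G.s] [LocallyOfFinitePresentation G.s] in
lemma e_app_t (a : Γ(G.U, ⊤)) : G.e.appTop.hom (G.t.appTop.hom a) = a := by
  rw [← RingHom.comp_apply, ← CommRingCat.hom_comp, ← Scheme.Hom.comp_appTop, G.e_t,
    Scheme.Hom.id_appTop]
  rfl

include G in
lemma isIntegral_invariants : Algebra.IsIntegral G.invariants Γ(G.U, ⊤) := by
  obtain ⟨P⟩ := nonempty_pres G.s
  refine ⟨fun a => ?_⟩
  have hlift : P.charpoly (G.t.appTop.hom a) ∈ Polynomial.lifts (algebraMap G.invariants Γ(G.U, ⊤)) := by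
    rw [Polynomial.lifts_iff_coeff_lifts]
    exact fun m => ⟨⟨_, coeff_charpoly_mem_invariants G P a m⟩, rfl⟩
  obtain ⟨q, hq, -, hmon⟩ :=
    Polynomial.lifts_and_natDegree_eq_and_monic hlift (P.charpoly_monic _)
  refine ⟨q, hmon, ?_⟩
  have h := congrArg G.e.appTop.hom (P.eval₂_charpoly (G.t.appTop.hom a))
  rw [Polynomial.hom_eval₂, map_zero, e_app_t, ← hq, Polynomial.eval₂_map] at h
  rw [← h]
  congr 1
  ext c
  exact (e_app_s G _).symm

omit [IsAffine G.U] [IsAffine G.R] [IsFinite G.s] [Flat G.s] [LocallyOfFinitePresentation G.s] in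
/-- `Norm(t^* a)` lies in `a Γ(U)`. -/
lemma dvd_norm (P : Pres G.s.appTop.hom) (a : Γ(G.U, ⊤)) : a ∣ P.norm (G.t.appTop.hom a) := by
  simpa [e_app_t] using P.dvd_norm_of_retraction G.e.appTop.hom (e_app_s G) (G.t.appTop.hom a)

end Groth.Agent.GrpdLib
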