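import Mathlib.RingTheory.Etale.Basic
import Mathlib.RingTheory.FinitePresentation
import Mathlib.RingTheory.Flat.EquationalCriterion
import Mathlib.RingTheory.Flat.Stability
import Mathlib.RingTheory.Idempotents
import Mathlib.RingTheory.Ideal.IdempotentFG
import Mathlib.RingTheory.LocalRing.ResidueField.Ideal
import Mathlib.LinearAlgebra.Matrix.ToLin
import Mathlib.LinearAlgebra.Matrix.Charpoly.LinearMap
import Mathlib.LinearAlgebra.TensorProduct.RightExactness

/-!
# Finite open parts of a finitely presented algebra with a chosen basis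

For an `A`-algebra `B` and a family `b` in `B`, a part over an `A`-algebra `T` is an idempotent of
`T ⊗ B` cutting out a quotient with basis `b`.  These are parametrised by an open subscheme of the affine
scheme of multiplication tables; if `B` is flat this open is étale over `A`.
-/

set_option autoImplicit false
set_option linter.style.haveILetI false
set_option maxHeartbeats 400000
set_option backward.isDefEq.respectTransparency false
set_option backward.isDefEq.respectTransparency.types false

universe u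

open TensorProduct

namespace Groth.Agent.GrpdLib.FinOpen

variable {A : Type u} [CommRing A] {B : Type u} [CommRing B] [Algebra A B]
variable {n : ℕ} (b : Fin n → B)

/-- An idempotent of `T ⊗ B` cutting out a quotient with basis `b`. -/
def IsPart (T : Type u) [CommRing T] [Algebra A T] (e : T ⊗[A] B) : Prop :=
  IsIdempotentElem e ∧ ∃ l : T ⊗[A] B →ₗ[T] (Fin n → T),
    (∀ x, l x = 0 ↔ e * x = 0) ∧ ∀ i, l (1 ⊗ₜ b i) = Pi.single i 1

/-- Pushing elements of `T ⊗ B` along a map of `A`-algebras. -/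
noncomputable def push {T T' : Type u} [CommRing T] [Algebra A T] [CommRing T'] [Algebra A T']
    (φ : T →ₐ[A] T') : T ⊗[A] B →ₐ[A] T' ⊗[A] B :=
  Algebra.TensorProduct.map φ (AlgHom.id A B)

section Part

variable {T T' : Type u} [CommRing T] [Algebra A T] [CommRing T'] [Algebra A T']

@[simp] lemma push_tmul (φ : T →ₐ[A] T') (t : T) (y : B) : push φ (t ⊗ₜ[A] y) = φ t ⊗ₜ[A] y := rfl

lemma push_comp {T'' : Type u} [CommRing T''] [Algebra A T''] (φ : T →ₐ[A] T') (φ' : T' →ₐ[A] T'')
    (x : T ⊗[A] B) : push (φ'.comp φ) x = push φ' (push φ x) := by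
  induction x using TensorProduct.induction_on with
  | zero => simp
  | tmul t y => simp
  | add x y hx hy => rw [map_add, map_add, map_add, hx, hy]

/-- Linear combinations of the basis. -/
noncomputable def comb (c : Fin n → T) : T ⊗[A] B := ∑ i, c i • ((1 : T) ⊗ₜ[A] b i)

lemma push_comb (φ : T →ₐ[A] T') (c : Fin n → T) : push φ (comb b c) = comb b (φ ∘ c) := by
  simp [comb, push, map_sum, TensorProduct.smul_tmul', Algebra.TensorProduct.map_tmul]

lemma apply_comb {l : T ⊗[A] B →ₗ[T] (Fin n → T)} (hl : ∀ i, l (1 ⊗ₜ b i) = Pi.single i 1)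
    (c : Fin n → T) : l (comb b c) = c := by
  funext j
  simp [comb, map_sum, map_smul, hl, Pi.single_apply]

lemma mul_sub_comb {e : T ⊗[A] B} {l : T ⊗[A] B →ₗ[T] (Fin n → T)}
    (hker : ∀ x, l x = 0 ↔ e * x = 0) (hl : ∀ i, l (1 ⊗ₜ b i) = Pi.single i 1) (x : T ⊗[A] B) :
    e * (x - comb b (l x)) = 0 := by
  rw [← hker, map_sub, apply_comb b hl, sub_self]

lemma IsPart.map {e : T ⊗[A] B} (h : IsPart b T e) (φ : T →ₐ[A] T') : IsPart b T' (push φ e) := by
  obtain ⟨he, l, hker, hl⟩ := h
  refine ⟨he.map (push φ), ?_⟩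
  let l₀ : B →ₗ[A] (Fin n → T') :=
    { toFun := fun y i => φ (l (1 ⊗ₜ y) i)
      map_add' := fun y y' => by funext i; simp [TensorProduct.tmul_add]
      map_smul' := fun a y => by
        funext i
        simp [TensorProduct.tmul_smul] }
  let l' := l₀.liftBaseChange T'
  have hl' : ∀ x, l' (push φ x) = φ ∘ l x := by
    intro x
    induction x using TensorProduct.induction_on with
    | zero => funext i; simp
    | tmul t y =>
      have : t ⊗ₜ[A] y = t • ((1 : T) ⊗ₜ[A] y) := by rw [TensorProduct.smul_tmul', smul_eq_mul, mul_one]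
      funext i
      rw [push_tmul, this, map_smul]
      simp [l', l₀]
    | add x y hx hy => funext i; simp [map_add, hx, hy]
  have hb : ∀ i, l' (1 ⊗ₜ b i) = Pi.single i 1 := fun i => by
    rw [show (1 : T') ⊗ₜ[A] b i = push φ (1 ⊗ₜ[A] b i) by simp, hl', hl]
    funext j
    by_cases h : j = i
    · subst h; simp
    · simp [h]
  have key : ∀ x, push φ e * (x - comb b (l' x)) = 0 := by
    intro x
    induction x using TensorProduct.induction_on with
    | zero => simp [comb]
    | tmul t y =>
      have h1 : (t ⊗ₜ[A] y - comb b (l' (t ⊗ₜ y))) =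
          t • push φ ((1 : T) ⊗ₜ[A] y - comb b (l (1 ⊗ₜ y))) := by
        rw [map_sub, push_comb, push_tmul, map_one, smul_sub, TensorProduct.smul_tmul', smul_eq_mul, mul_one]
        congr 1
        rw [comb, comb, Finset.smul_sum]
        exact Finset.sum_congr rfl fun i _ => by simp [l', l₀, smul_smul]
      rw [h1, mul_smul_comm, ← map_mul, mul_sub_comb b hker hl, map_zero, smul_zero]
    | add x y hx hy =>
      rw [map_add, show x + y - comb b (l' x + l' y) = (x - comb b (l' x)) + (y - comb b (l' y)) by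
        simp [comb, add_smul, Finset.sum_add_distrib]; ring, mul_add, hx, hy, add_zero]
  refine ⟨l', fun x => ⟨fun hx => ?_, fun hx => ?_⟩, hb⟩
  · have := key x
    simpa [hx, comb] using this
  · have h1 : ∀ z, l' ((1 - push φ e) * z) = 0 := by
      intro z
      induction z using TensorProduct.induction_on with
      | zero => simp
      | tmul t y =>
        have : (1 - push φ e) * (t ⊗ₜ[A] y) = t • push φ ((1 - e) * (1 ⊗ₜ[A] y)) := by
          rw [map_mul, map_sub, map_one, push_tmul, map_one, ← mul_smul_comm, TensorProduct.smul_tmul',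
            smul_eq_mul, mul_one]
        rw [this, map_smul, hl', (hker _).2 (by rw [← mul_assoc, mul_sub, mul_one, he.eq, sub_self, zero_mul])]
        funext i; simp
      | add z z' hz hz' => rw [mul_add, map_add, hz, hz', add_zero]
    rw [show x = (1 - push φ e) * x by rw [sub_mul, one_mul, hx, sub_zero], h1]

/-- Two parts with the same coordinate map are equal. -/
lemma idem_ext {e e' : T ⊗[A] B} (he : IsIdempotentElem e) (he' : IsIdempotentElem e')
    (h : ∀ x, e * x = 0 ↔ e' * x = 0) : e = e' := by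
  have h1 : e' * (1 - e) = 0 := (h _).1 (by rw [mul_sub, mul_one, he.eq, sub_self])
  have h2 : e * (1 - e') = 0 := (h _).2 (by rw [mul_sub, mul_one, he'.eq, sub_self])
  rw [mul_sub, mul_one, sub_eq_zero] at h1 h2
  rw [h2, mul_comm, ← h1]

/-- The coordinate map of a part is unique. -/
lemma coord_unique {e : T ⊗[A] B} {l l' : T ⊗[A] B →ₗ[T] (Fin n → T)}
    (hker : ∀ x, l x = 0 ↔ e * x = 0) (hl : ∀ i, l (1 ⊗ₜ b i) = Pi.single i 1)
    (hker' : ∀ x, l' x = 0 → e * x = 0) (hl' : ∀ i, l' (1 ⊗ₜ b i) = Pi.single i 1) : l' = l := by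
  refine LinearMap.ext fun x => ?_
  have h2 : e * (x - comb b (l' x)) = 0 := hker' _ (by rw [map_sub, apply_comb b hl', sub_self])
  rw [← hker, map_sub, apply_comb b hl, sub_eq_zero] at h2
  exact h2.symm

variable [Module.Flat A B]

/-- Parts lift along square-zero thickenings. -/
theorem exists_lift (N : Ideal T) (hN : N ^ 2 = ⊥) {e₀ : (T ⧸ N) ⊗[A] B} (h₀ : IsPart b (T ⧸ N) e₀) :
    ∃! e : T ⊗[A] B, IsPart b T e ∧ push (Ideal.Quotient.mkₐ A N) e = e₀ := by
  obtain ⟨he₀, l₀, hker₀, hl₀⟩ := h₀
  let π := push (B := B) (Ideal.Quotient.mkₐ A N)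
  have hπs : Function.Surjective π := by
    intro y
    induction y using TensorProduct.induction_on with
    | zero => exact ⟨0, map_zero _⟩
    | tmul t y => obtain ⟨t, rfl⟩ := Ideal.Quotient.mk_surjective t; exact ⟨t ⊗ₜ y, rfl⟩
    | add x y hx hy =>
      obtain ⟨x, rfl⟩ := hx; obtain ⟨y, rfl⟩ := hy; exact ⟨x + y, map_add _ _ _⟩
  have hkerπ : ∀ x, π x = 0 → x ∈ N.map (algebraMap T (T ⊗[A] B)) := fun x hx => by
    have h := Algebra.TensorProduct.rTensor_ker (R := A) (C := B) (f := Ideal.Quotient.mkₐ A N)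
      Ideal.Quotient.mk_surjective
    have hx' : x ∈ RingHom.ker (Algebra.TensorProduct.map (Ideal.Quotient.mkₐ A N) (AlgHom.id A B)) := hx
    rw [h, show RingHom.ker (Ideal.Quotient.mkₐ A N) = N from Ideal.mk_ker] at hx'
    exact hx'
  have hN2 : ∀ a ∈ N, ∀ a' ∈ N, a * a' = 0 := fun a ha a' ha' => by
    have := Ideal.mul_mem_mul ha ha'
    rwa [← pow_two, hN, Ideal.mem_bot] at this
  have hmap2 : ∀ x ∈ N.map (algebraMap T (T ⊗[A] B)), ∀ y ∈ N.map (algebraMap T (T ⊗[A] B)), x * y = 0 := by
    intro x hx y hy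
    have := Ideal.mul_mem_mul hx hy
    rwa [← Ideal.map_mul, ← pow_two, hN, Ideal.map_bot, Ideal.mem_bot] at this
  have hnil : ∀ x ∈ RingHom.ker π.toRingHom, IsNilpotent x := fun x hx =>
    ⟨2, by rw [pow_two]; exact hmap2 x (hkerπ x hx) x (hkerπ x hx)⟩
  obtain ⟨e, he, hπe⟩ := exists_isIdempotentElem_eq_of_ker_isNilpotent π.toRingHom hnil e₀
    (hπs e₀) he₀
  have hπe' : π e = e₀ := hπe
  -- the quotient as a flat module
  let mulE : T ⊗[A] B →ₗ[T] T ⊗[A] B := LinearMap.mulLeft T e
  let Q := LinearMap.range mulE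
  have : Module.Flat T Q := Module.Flat.of_retract (i := Q.subtype) (r := mulE.rangeRestrict) (by
    refine LinearMap.ext fun x => Subtype.ext ?_
    obtain ⟨_, y, rfl⟩ := x
    show e * (e * y) = e * y
    rw [← mul_assoc, he.eq])
  let q : Fin n → Q := fun i => ⟨e * (1 ⊗ₜ b i), _, rfl⟩
  let lam : (Fin n → T) →ₗ[T] Q := Fintype.linearCombination T q
  have hlam : ∀ c, (lam c).1 = e * comb b c := fun c => by
    simp [lam, Fintype.linearCombination_apply, q, comb, Finset.mul_sum]
  have hred : ∀ c : Fin n → T, (lam c).1 ∈ N.map (algebraMap T (T ⊗[A] B)) → ∀ i, c i ∈ N := by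
    intro c hc i
    have h1 : π (lam c).1 = 0 := by
      suffices h : ∀ y ∈ N.map (algebraMap T (T ⊗[A] B)), π y = 0 from h _ hc
      intro y hy
      induction hy using Submodule.span_induction with
      | mem x hx =>
        obtain ⟨a, ha, rfl⟩ := hx
        show push _ (a ⊗ₜ[A] (1 : B)) = 0
        rw [push_tmul, show Ideal.Quotient.mkₐ A N a = 0 from Ideal.Quotient.eq_zero_iff_mem.2 ha,
          TensorProduct.zero_tmul]
      | zero => exact map_zero _
      | add x y _ _ hx hy => rw [map_add, hx, hy, add_zero]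
      | smul r x _ hx => rw [smul_eq_mul, map_mul, hx, mul_zero]
    rw [hlam, map_mul, hπe', push_comb, ← hker₀, apply_comb b hl₀] at h1
    exact Ideal.Quotient.eq_zero_iff_mem.1 (congrFun h1 i)
  have hsurj₁ : ∀ x : T ⊗[A] B, ∃ c, e * x - (lam c).1 ∈ N.map (algebraMap T (T ⊗[A] B)) := fun x => by
    choose c hc using fun i => Ideal.Quotient.mk_surjective (l₀ (π x) i)
    refine ⟨c, hkerπ _ ?_⟩
    rw [hlam, ← mul_sub, map_mul, hπe', map_sub, push_comb,
      show (Ideal.Quotient.mkₐ A N : T → T ⧸ N) ∘ c = l₀ (π x) from funext hc]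
    exact mul_sub_comb b hker₀ hl₀ _
  have hN' : ∀ y ∈ N.map (algebraMap T (T ⊗[A] B)), ∀ r, ∃ c, e * (r * y) = (lam c).1 := by
    intro y hy
    induction hy using Submodule.span_induction with
    | mem y hy =>
      obtain ⟨a, ha, rfl⟩ := hy
      intro r
      obtain ⟨c, hc⟩ := hsurj₁ r
      refine ⟨a • c, ?_⟩
      rw [map_smul, Submodule.coe_smul, Algebra.smul_def]
      have := hmap2 _ (Ideal.mem_map_of_mem (algebraMap T (T ⊗[A] B)) ha) _ hc
      rw [mul_sub, sub_eq_zero] at this
      rw [← this]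
      ring
    | zero => exact fun r => ⟨0, by simp⟩
    | add x y _ _ hx hy =>
      intro r
      obtain ⟨c, hc⟩ := hx r; obtain ⟨c', hc'⟩ := hy r
      exact ⟨c + c', by rw [mul_add, mul_add, hc, hc', map_add, Submodule.coe_add]⟩
    | smul r₀ x _ ih =>
      intro r
      obtain ⟨c, hc⟩ := ih (r * r₀)
      exact ⟨c, by rw [smul_eq_mul, ← mul_assoc r, hc]⟩
  have hsurj : Function.Surjective lam := fun y => by
    obtain ⟨_, x, rfl⟩ := y
    obtain ⟨c, hc⟩ := hsurj₁ x
    obtain ⟨c', hc'⟩ := hN' _ hc 1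
    refine ⟨c + c', Subtype.ext ?_⟩
    show _ = e * x
    rw [map_add, Submodule.coe_add, ← hc', one_mul, mul_sub, ← mul_assoc, he.eq, hlam, ← mul_assoc, he.eq]
    ring
  have hinj : Function.Injective lam := by
    rw [← LinearMap.ker_eq_bot, LinearMap.ker_eq_bot']
    intro a ha
    have ha0 : ∀ i, a i ∈ N := hred a (by rw [ha]; exact zero_mem _)
    obtain ⟨k, m, y, hy, hm⟩ := Module.Flat.isTrivialRelation_of_sum_smul_eq_zero (f := a) (x := q)
      (by rw [← Fintype.linearCombination_apply]; exact ha)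
    choose d hd using fun j => hsurj (y j)
    have hN1 : ∀ i i', (Pi.single i (1 : T) : Fin n → T) i' - ∑ j, m i j * d j i' ∈ N := fun i => by
      refine hred (Pi.single i (1 : T) - ∑ j, m i j • d j) ?_ |> fun h i' => by simpa using h i'
      rw [map_sub, map_sum]
      simp only [map_smul, hd, ← hy i]
      simp [lam, Fintype.linearCombination_apply]
    funext i'
    have h1 : ∀ i, a i * ((Pi.single i (1 : T) : Fin n → T) i' - ∑ j, m i j * d j i') = 0 := fun i =>
      hN2 _ (ha0 i) _ (hN1 i i')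
    have h2 : ∑ i, a i * ∑ j, m i j * d j i' = 0 := by
      simp only [Finset.mul_sum]
      rw [Finset.sum_comm]
      refine Finset.sum_eq_zero fun j _ => ?_
      simp only [← mul_assoc]
      rw [← Finset.sum_mul, hm j, zero_mul]
    have h3 := Finset.sum_congr rfl fun i (_ : i ∈ Finset.univ) => h1 i
    simp only [mul_sub, Finset.sum_sub_distrib, h2, sub_zero, Finset.sum_const_zero] at h3
    simpa [Pi.single_apply] using h3
  let eqv := LinearEquiv.ofBijective lam ⟨hinj, hsurj⟩
  let l : T ⊗[A] B →ₗ[T] (Fin n → T) := eqv.symm.toLinearMap ∘ₗ mulE.rangeRestrict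
  have hl : ∀ i, l (1 ⊗ₜ b i) = Pi.single i 1 := fun i => by
    show eqv.symm _ = _
    rw [LinearEquiv.symm_apply_eq]
    apply Subtype.ext
    show _ = (lam _).1
    simp [lam, Fintype.linearCombination_apply, q, mulE]
    rfl
  refine ⟨e, ⟨⟨he, l, fun x => ?_, hl⟩, hπe'⟩, ?_⟩
  · show eqv.symm _ = 0 ↔ _
    rw [LinearEquiv.map_eq_zero_iff, Subtype.ext_iff]
    rfl
  · rintro e' ⟨⟨he', -⟩, hπe''⟩
    refine eq_of_isNilpotent_sub_of_isIdempotentElem he' he (hnil _ ?_)
    show π (e' - e) = 0
    rw [map_sub, hπe', show π e' = e₀ from hπe'', sub_self]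

end Part

end Groth.Agent.GrpdLib.FinOpen
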