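import Groth.Agent.GrpdLib.FinOpenRep
import Mathlib.RingTheory.Etale.Basic
import Mathlib.RingTheory.Ideal.IdempotentFG
import Mathlib.RingTheory.Finiteness.ModuleFinitePresentation
import Mathlib.RingTheory.RingHom.FinitePresentation
import Mathlib.LinearAlgebra.Matrix.Charpoly.LinearMap

/-!
# The étale chart of finite open parts

Around a part over a residue field, parts are parametrised by an affine scheme étale over the base.
-/

set_option autoImplicit false
set_option linter.style.haveILetI false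
set_option maxHeartbeats 800000
set_option backward.isDefEq.respectTransparency false
set_option backward.isDefEq.respectTransparency.types false

universe u

open TensorProduct

namespace Groth.Agent.GrpdLib.FinOpen

variable {A : Type u} [CommRing A] {B : Type u} [CommRing B] [Algebra A B]
variable {n : ℕ} {b : Fin n → B}

lemma push_smul {T T' : Type u} [CommRing T] [Algebra A T] [CommRing T'] [Algebra A T'] (φ : T →ₐ[A] T')
    (t : T) (x : T ⊗[A] B) : push φ (t • x) = φ t • push φ x := by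
  induction x using TensorProduct.induction_on with
  | zero => simp
  | tmul s y => rw [TensorProduct.smul_tmul', push_tmul, push_tmul, TensorProduct.smul_tmul', smul_eq_mul,
      smul_eq_mul, map_mul]
  | add x y hx hy => rw [smul_add, map_add, map_add, hx, hy, smul_add]

namespace Dat

variable {T : Type u} [CommRing T] [Algebra A T] (D : Dat A b T)

lemma ker_fg [Algebra.FinitePresentation A B] : D.ker.FG := by
  let g : (Fin n → T) →ₗ[T] (T ⊗[A] B) ⧸ D.ker :=
    { toFun := fun c => Ideal.Quotient.mk D.ker (comb b c)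
      map_add' := fun c c' => by rw [← map_add]; simp [comb, add_smul, Finset.sum_add_distrib]
      map_smul' := fun t c => by
        rw [RingHom.id_apply, show comb b (t • c) = t • comb b c by simp [comb, Finset.smul_sum, smul_smul]]
        rfl }
  have hg : Function.Bijective g := by
    refine ⟨(injective_iff_map_eq_zero g).2 fun c hc => ?_, fun y => ?_⟩
    · have := Ideal.Quotient.eq_zero_iff_mem.1 hc
      rwa [mem_ker, q_comb] at this
    · obtain ⟨x, rfl⟩ := Ideal.Quotient.mk_surjective y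
      exact ⟨D.q x, (Ideal.Quotient.eq.2 (D.sub_comb_mem x)).symm⟩
  have : Module.FinitePresentation T (Fin n → T) := Module.finitePresentation_of_projective T _
  have : Module.FinitePresentation T ((T ⊗[A] B) ⧸ D.ker) :=
    Module.FinitePresentation.of_equiv (LinearEquiv.ofBijective g hg)
  have h := Algebra.FinitePresentation.ker_fG_of_surjective (R := T) (Ideal.Quotient.mkₐ T D.ker)
    Ideal.Quotient.mk_surjective
  rwa [show RingHom.ker (Ideal.Quotient.mkₐ T D.ker).toRingHom = D.ker from Ideal.mk_ker] at h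

/-- The kernel is finite modulo its square. -/
lemma exists_fin_mod_sq [Algebra.FinitePresentation A B] : ∃ G : Finset (T ⊗[A] B), (↑G : Set (T ⊗[A] B)) ⊆ (D.ker : Set (T ⊗[A] B)) ∧
    ∀ x ∈ D.ker, ∃ y ∈ Submodule.span T (G : Set (T ⊗[A] B)), x - y ∈ D.ker * D.ker := by
  classical
  obtain ⟨gen, hgen⟩ := D.ker_fg
  let G : Finset (T ⊗[A] B) := (gen ×ˢ (Finset.univ : Finset (Fin n))).image fun z => (1 ⊗ₜ[A] b z.2) * z.1
  have hG : (↑G : Set (T ⊗[A] B)) ⊆ D.ker := by
    intro w hw
    obtain ⟨z, hz, rfl⟩ := Finset.mem_image.1 (Finset.mem_coe.1 hw)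
    exact Ideal.mul_mem_left _ _ (hgen ▸ Ideal.subset_span (Finset.mem_product.1 hz).1)
  refine ⟨G, hG, fun x hx => ?_⟩
  have hx' : x ∈ Ideal.span (gen : Set (T ⊗[A] B)) := hgen.symm ▸ hx
  suffices ∀ r, ∃ y ∈ Submodule.span T (G : Set (T ⊗[A] B)), r * x - y ∈ D.ker * D.ker by
    simpa using this 1
  clear hx
  induction hx' using Submodule.span_induction with
  | mem g hg =>
    intro r
    refine ⟨comb b (D.q r) * g, ?_, ?_⟩
    · rw [comb, Finset.sum_mul]
      refine Submodule.sum_mem _ fun i _ => ?_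
      rw [smul_mul_assoc]
      exact Submodule.smul_mem _ _ (Submodule.subset_span
        (Finset.mem_image.2 ⟨(g, i), Finset.mem_product.2 ⟨hg, Finset.mem_univ _⟩, rfl⟩))
    · rw [← sub_mul]
      exact Ideal.mul_mem_mul (D.sub_comb_mem r) (hgen ▸ Ideal.subset_span hg)
  | zero => exact fun r => ⟨0, zero_mem _, by simp⟩
  | add x y _ _ hx hy =>
    intro r
    obtain ⟨u, hu, hu'⟩ := hx r
    obtain ⟨v, hv, hv'⟩ := hy r
    exact ⟨u + v, add_mem hu hv, by convert add_mem hu' hv' using 1; ring⟩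
  | smul r₀ x _ ih =>
    intro r
    obtain ⟨u, hu, hu'⟩ := ih (r * r₀)
    exact ⟨u, hu, by rwa [smul_eq_mul, ← mul_assoc]⟩

/-- A Nakayama lemma: if a prime sees `ker` as idempotent then so does a neighbourhood. -/
lemma exists_sq_of_prime [Algebra.FinitePresentation A B] (P : Ideal T) [P.IsPrime] (s : T) (hs : s ∉ P)
    (h : ∀ x ∈ D.ker, ∃ y ∈ P • (D.ker.restrictScalars T), s • x - y ∈ D.ker * D.ker) :
    ∃ h : T, h ∉ P ∧ ∀ x ∈ D.ker, h • x ∈ D.ker * D.ker := by
  obtain ⟨G, hG, hGspan⟩ := D.exists_fin_mod_sq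
  let J : Submodule T (T ⊗[A] B) := (D.ker * D.ker).restrictScalars T
  let N : Submodule T ((T ⊗[A] B) ⧸ J) := (D.ker.restrictScalars T).map J.mkQ
  have hN : N.FG := by
    have : N = (Submodule.span T (G : Set (T ⊗[A] B))).map J.mkQ := by
      refine le_antisymm ?_ (Submodule.map_mono (Submodule.span_le.2 hG))
      rintro _ ⟨x, hx, rfl⟩
      obtain ⟨y, hy, hxy⟩ := hGspan x hx
      exact ⟨y, hy, ((Submodule.Quotient.eq J).2 hxy).symm⟩
    rw [this]
    exact (Submodule.fg_span G.finite_toSet).map _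
  have : Module.Finite T N := Module.Finite.iff_fg.2 hN
  have hrange : LinearMap.range (s • (LinearMap.id : N →ₗ[T] N)) ≤ P • (⊤ : Submodule T N) := by
    rintro _ ⟨⟨_, x, hx, rfl⟩, rfl⟩
    obtain ⟨y, hy, hxy⟩ := h x hx
    have hy' : J.mkQ y ∈ P • N := by
      have := Submodule.mem_map_of_mem (f := J.mkQ) hy
      rwa [Submodule.map_smul''] at this
    refine (Submodule.mem_smul_top_iff P N _).2 ?_
    show s • J.mkQ x ∈ P • N
    rwa [← map_smul, show J.mkQ (s • x) = J.mkQ y from (Submodule.Quotient.eq J).2 hxy]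
  obtain ⟨p, hp, -, hcoeff, hzero⟩ :=
    LinearMap.exists_monic_and_natDegree_eq_and_coeff_mem_pow_and_aeval_eq_zero T
      (s • (LinearMap.id : N →ₗ[T] N)) P hrange
  refine ⟨p.eval s, fun hmem => ?_, fun x hx => ?_⟩
  · rw [Polynomial.eval_eq_sum_range, Finset.sum_range_succ, hp.coeff_natDegree, one_mul] at hmem
    refine hs (‹P.IsPrime›.mem_of_pow_mem p.natDegree ((Ideal.add_mem_iff_right _ ?_).1 hmem))
    refine Ideal.sum_mem _ fun k hk => Ideal.mul_mem_right _ _ ?_
    exact Ideal.pow_le_self (by have := Finset.mem_range.1 hk; omega) (hcoeff k)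
  · rw [show s • (LinearMap.id : N →ₗ[T] N) = algebraMap T (Module.End T N) s from rfl,
      Polynomial.aeval_algebraMap_apply, Polynomial.coe_aeval_eq_eval] at hzero
    have h1 : p.eval s • J.mkQ x = 0 :=
      congrArg Subtype.val (LinearMap.congr_fun hzero ⟨J.mkQ x, x, hx, rfl⟩)
    rw [← map_smul] at h1
    exact (Submodule.Quotient.mk_eq_zero J).1 h1

end Dat

lemma mem_span_one_sub {R : Type u} [CommRing R] {e : R} (he : IsIdempotentElem e) (x : R) :
    x ∈ Ideal.span {1 - e} ↔ e * x = 0 := by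
  rw [Ideal.mem_span_singleton']
  constructor
  · rintro ⟨z, rfl⟩
    rw [mul_left_comm, mul_sub, mul_one, he.eq, sub_self, mul_zero]
  · exact fun hx => ⟨x, by rw [mul_sub, mul_one, mul_comm, hx, sub_zero]⟩

/-- The étale chart of parts around a part over a residue field. -/
structure Chart (b : Fin n → B) (p : Ideal A) [p.IsPrime] (e₀ : p.ResidueField ⊗[A] B) where
  C : Type u
  [inst : CommRing C]
  [alg : Algebra A C]
  [et : Algebra.Etale A C]
  e : C ⊗[A] B
  part : IsPart b C e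
  hom_ext : ∀ (T : Type u) [CommRing T] [Algebra A T] (φ φ' : C →ₐ[A] T), push φ e = push φ' e → φ = φ'
  pt : C →ₐ[A] p.ResidueField
  pt_e : push pt e = e₀
  classify : ∀ (T : Type u) [CommRing T] [Algebra A T] (e' : T ⊗[A] B), IsPart b T e' →
    ∃ g : T, (∃ φ : C →ₐ[A] Localization.Away g,
        push φ e = push (IsScalarTower.toAlgHom A T (Localization.Away g)) e') ∧
      ∀ (k : Type u) [Field k] [Algebra A k] (θ : T →ₐ[A] k) (ψ : p.ResidueField →ₐ[A] k),
        push θ e' = push ψ e₀ → θ g ≠ 0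

attribute [instance] Chart.inst Chart.alg Chart.et

theorem exists_chart [Algebra.FinitePresentation A B] [Module.Flat A B] (b : Fin n → B) (p : Ideal A)
    [p.IsPrime] {e₀ : p.ResidueField ⊗[A] B} (h₀ : IsPart b p.ResidueField e₀) :
    Nonempty (Chart b p e₀) := by
  obtain ⟨C₂, _, _, hfp₂, D₀, hrep⟩ := exists_rep (A := A) b
  obtain ⟨E₀, hE₀⟩ := Dat.exists_of_isPart h₀
  obtain ⟨φ₂, hφ₂, -⟩ := hrep _ E₀
  let P : Ideal C₂ := RingHom.ker φ₂
  have : P.IsPrime := RingHom.ker_isPrime φ₂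
  -- elements of the residue algebra up to units
  have hden : ∀ w : p.ResidueField ⊗[A] B, ∃ s : C₂, s ∉ P ∧ ∃ z : C₂ ⊗[A] B, push φ₂ z = φ₂ s • w := by
    intro w
    induction w using TensorProduct.induction_on with
    | zero => exact ⟨1, fun h => one_ne_zero ((map_one φ₂).symm.trans h), 0, by simp⟩
    | tmul k y =>
      obtain ⟨a, a', ha', rfl⟩ := IsFractionRing.div_surjective (A ⧸ p) (K := p.ResidueField) k
      obtain ⟨a, rfl⟩ := Ideal.Quotient.mk_surjective a
      obtain ⟨a', rfl⟩ := Ideal.Quotient.mk_surjective a'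
      have hne : algebraMap (A ⧸ p) p.ResidueField (Ideal.Quotient.mk p a') ≠ 0 :=
        IsFractionRing.to_map_ne_zero_of_mem_nonZeroDivisors ha'
      refine ⟨algebraMap A C₂ a', fun h => hne ?_, algebraMap A C₂ a ⊗ₜ y, ?_⟩
      · have h' : φ₂ (algebraMap A C₂ a') = 0 := h
        rwa [AlgHom.commutes] at h'
      · rw [push_tmul, AlgHom.commutes, AlgHom.commutes, TensorProduct.smul_tmul', smul_eq_mul]
        congr 1
        show algebraMap (A ⧸ p) p.ResidueField (Ideal.Quotient.mk p a) = _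
        rw [show algebraMap A p.ResidueField a' = algebraMap (A ⧸ p) p.ResidueField (Ideal.Quotient.mk p a')
          from rfl, mul_div_cancel₀ _ hne]
    | add w w' hw hw' =>
      obtain ⟨s, hs, z, hz⟩ := hw
      obtain ⟨s', hs', z', hz'⟩ := hw'
      refine ⟨s * s', fun h => (‹P.IsPrime›.mem_or_mem h).elim hs hs', s' • z + s • z', ?_⟩
      rw [map_add, push_smul, push_smul, hz, hz', smul_add, map_mul, smul_smul, smul_smul, mul_comm (φ₂ s') (φ₂ s)]
  obtain ⟨s, hs, z, hz⟩ := hden (1 - e₀)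
  let z' := z - comb b (D₀.q z)
  have hz' : push φ₂ z' = φ₂ s • (1 - e₀) := by
    have h1 : φ₂ ∘ D₀.q z = 0 := by
      rw [← Dat.q_push, hφ₂, hz, map_smul, show E₀.q (1 - e₀) = 0 from
        (hE₀ _).2 (by rw [mul_sub, mul_one, h₀.1.eq, sub_self]), smul_zero]
    rw [map_sub, push_comb, h1, hz, show comb b (0 : Fin n → p.ResidueField) = 0 by simp [comb], sub_zero]
  -- the kernel of `push φ₂`
  have hker : ∀ w ∈ D₀.ker, push φ₂ w = 0 → w ∈ P • (D₀.ker.restrictScalars C₂) := by
    intro w hw hw0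
    let incl : (P.restrictScalars A) →ₗ[A] C₂ := (P.restrictScalars A).subtype
    have hex : Function.Exact incl φ₂.toLinearMap := fun x =>
      ⟨fun hx => ⟨⟨x, hx⟩, rfl⟩, by rintro ⟨y, rfl⟩; exact y.2⟩
    obtain ⟨v, hv⟩ := (Module.Flat.rTensor_exact B hex w).1 hw0
    have key : ∀ v, incl.rTensor B v - comb b (D₀.q (incl.rTensor B v)) ∈ P • (D₀.ker.restrictScalars C₂) := by
      intro v
      induction v using TensorProduct.induction_on with
      | zero => simp [comb]
      | tmul c y =>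
        have h1 : (c.1 : C₂) • ((1 : C₂) ⊗ₜ[A] y - comb b (D₀.q (1 ⊗ₜ y))) =
            incl.rTensor B (c ⊗ₜ y) - comb b (D₀.q (incl.rTensor B (c ⊗ₜ y))) := by
          rw [LinearMap.rTensor_tmul, smul_sub, TensorProduct.smul_tmul', smul_eq_mul, mul_one,
            show comb b (D₀.q (incl c ⊗ₜ[A] y)) = (c.1 : C₂) • comb b (D₀.q (1 ⊗ₜ[A] y)) by
              rw [show incl c ⊗ₜ[A] y = (c.1 : C₂) • ((1 : C₂) ⊗ₜ[A] y) by
                rw [TensorProduct.smul_tmul', smul_eq_mul, mul_one]; rfl, map_smul]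
              simp [comb, Finset.smul_sum, smul_smul]]
          rfl
        rw [← h1]
        exact Submodule.smul_mem_smul c.2 (D₀.sub_comb_mem _)
      | add v v' hv hv' =>
        convert add_mem hv hv' using 1
        simp [comb, add_smul, Finset.sum_add_distrib, map_add]
        ring
    have := key v
    rwa [hv, Dat.mem_ker.1 hw, show comb b (0 : Fin n → C₂) = 0 by simp [comb], sub_zero] at this
  have hmain : ∀ x ∈ D₀.ker, ∃ y ∈ P • (D₀.ker.restrictScalars C₂), s • x - y ∈ D₀.ker * D₀.ker := by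
    intro x hx
    refine ⟨s • x - z' * x, hker _ (sub_mem ?_ (Ideal.mul_mem_left _ _ hx)) ?_, ?_⟩
    · rw [Algebra.smul_def]; exact Ideal.mul_mem_left _ _ hx
    · have h1 : e₀ * push φ₂ x = 0 := by
        rw [← hE₀, ← hφ₂, Dat.ker_map]
        exact Ideal.mem_map_of_mem _ hx
      rw [map_sub, push_smul, map_mul, hz', smul_mul_assoc, sub_mul, one_mul, h1, sub_zero, sub_self]
    · rw [sub_sub_cancel]
      exact Ideal.mul_mem_mul (D₀.sub_comb_mem z) hx
  obtain ⟨h, hh, hsq⟩ := D₀.exists_sq_of_prime P s hs hmain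
  let C := Localization.Away h
  let ι₂ : C₂ →ₐ[A] C := IsScalarTower.toAlgHom A C₂ C
  let D := D₀.map ι₂
  let pushR : C₂ ⊗[A] B →+* C ⊗[A] B := (push ι₂).toRingHom
  have hK : D.ker = D₀.ker.map pushR := Dat.ker_map _ _
  have hidem : IsIdempotentElem D.ker := by
    refine le_antisymm Ideal.mul_le_left ?_
    rw [hK, ← Ideal.map_mul, Ideal.map_le_iff_le_comap]
    intro x hx
    have hu : IsUnit (pushR (algebraMap C₂ (C₂ ⊗[A] B) h)) := by
      show IsUnit (push ι₂ (h ⊗ₜ[A] (1 : B)))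
      rw [push_tmul]
      exact ((IsLocalization.Away.algebraMap_isUnit (S := C) h).map
        (Algebra.TensorProduct.includeLeft : C →ₐ[A] C ⊗[A] B))
    have h1 := Ideal.mem_map_of_mem pushR (hsq x hx)
    rw [Algebra.smul_def, map_mul] at h1
    exact (Ideal.unit_mul_mem_iff_mem _ hu).1 h1
  obtain ⟨f, hf, hfspan⟩ := (Ideal.isIdempotentElem_iff_of_fg D.ker (hK ▸ (D₀.ker_fg).map _)).1 hidem
  have hmem : ∀ x, x ∈ D.ker ↔ (1 - f) * x = 0 := fun x => by
    rw [← mem_span_one_sub hf.one_sub, sub_sub_cancel, hfspan]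
  have hpart : IsPart b C (1 - f) := D.isPart hf.one_sub hmem
  have hmapD : ∀ {T : Type u} [CommRing T] [Algebra A T] (φ : C →ₐ[A] T) (E : Dat A b T) {e' : T ⊗[A] B},
      (∀ x, x ∈ E.ker ↔ e' * x = 0) → IsIdempotentElem e' →
      (D.map φ = E ↔ push φ (1 - f) = e') := by
    intro T _ _ φ E e' hE' he'
    constructor
    · rintro rfl
      refine idem_ext (hf.one_sub.map _) he' fun x => ?_
      rw [← D.map_ker_iff hf.one_sub hmem φ, hE']
    · rintro rfl
      exact Dat.ext_ker (Ideal.ext fun x => by rw [D.map_ker_iff hf.one_sub hmem φ, hE'])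
  have hom_ext : ∀ (T : Type u) [CommRing T] [Algebra A T] (φ φ' : C →ₐ[A] T),
      push φ (1 - f) = push φ' (1 - f) → φ = φ' := by
    intro T _ _ φ φ' hφ
    have h1 : D.map φ = D.map φ' := Dat.ext_ker (Ideal.ext fun x => by
      rw [D.map_ker_iff hf.one_sub hmem, D.map_ker_iff hf.one_sub hmem, hφ])
    have h2 : φ.comp ι₂ = φ'.comp ι₂ := (hrep T (D.map φ)).unique rfl h1.symm
    exact IsLocalization.algHom_ext (Submonoid.powers h) h2
  have hlift : ∀ {T : Type u} [CommRing T] [Algebra A T] (e' : T ⊗[A] B), IsPart b T e' →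
      ∃ φT : C₂ →ₐ[A] T, (∀ x, x ∈ (D₀.map φT).ker ↔ e' * x = 0) ∧
        (IsUnit (φT h) → ∃ φ : C →ₐ[A] T, push φ (1 - f) = e') := by
    intro T _ _ e' he'
    obtain ⟨E, hE'⟩ := Dat.exists_of_isPart he'
    obtain ⟨φT, hφT, -⟩ := hrep T E
    refine ⟨φT, hφT ▸ hE', fun hu => ⟨IsLocalization.Away.liftAlgHom (S := C) h hu, ?_⟩⟩
    refine (hmapD _ E hE' he'.1).1 ?_
    rw [← Dat.map_comp]
    convert hφT
    exact AlgHom.ext fun x => IsLocalization.Away.lift_eq h hu x
  have hfp : Algebra.FinitePresentation A C := by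
    have : Algebra.FinitePresentation C₂ C := IsLocalization.Away.finitePresentation h
    exact Algebra.FinitePresentation.trans A C₂ C
  have hfe : Algebra.FormallyEtale A C := by
    rw [Algebra.FormallyEtale.iff_comp_bijective]
    intro T _ _ N hN
    refine ⟨fun φ φ' hφ => hom_ext _ _ _ ?_, fun ψ => ?_⟩
    · have h1 : IsPart b (T ⧸ N) (push ((Ideal.Quotient.mkₐ A N).comp φ) (1 - f)) := hpart.map b _
      refine (exists_lift b N hN h1).unique ⟨hpart.map b φ, (push_comp _ _ _).symm⟩ ⟨hpart.map b φ', ?_⟩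
      rw [← push_comp]
      exact (congrArg (fun g => push g (1 - f)) hφ).symm
    · obtain ⟨e', ⟨he', he'ψ⟩, -⟩ := exists_lift b N hN (hpart.map b ψ)
      obtain ⟨φT, hφT, hext⟩ := hlift e' he'
      have hcomp : (Ideal.Quotient.mkₐ A N).comp φT = ψ.comp ι₂ := by
        refine (hrep (T ⧸ N) (D.map ψ)).unique ?_ rfl
        refine Dat.ext_ker (Ideal.ext fun x => ?_)
        rw [D.map_ker_iff hf.one_sub hmem, Dat.map_comp, (D₀.map φT).map_ker_iff he'.1 hφT, he'ψ]
      have hu : IsUnit (φT h) := by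
        have h1 : IsUnit (Ideal.Quotient.mk N (φT h)) := by
          rw [show Ideal.Quotient.mk N (φT h) = ψ (ι₂ h) from AlgHom.congr_fun hcomp h]
          exact (IsLocalization.Away.algebraMap_isUnit (S := C) h).map ψ
        obtain ⟨y, hy⟩ := Ideal.Quotient.mk_surjective (h1.unit⁻¹ : (T ⧸ N)ˣ).1
        have h2 : φT h * y - 1 ∈ N := Ideal.Quotient.eq.1 (by rw [map_mul, hy, map_one]; exact h1.mul_val_inv)
        have h3 : IsNilpotent (φT h * y - 1) := ⟨2, by
          have := Ideal.pow_mem_pow h2 2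
          rwa [hN, Ideal.mem_bot] at this⟩
        have h4 : IsUnit (φT h * y) := by simpa using h3.isUnit_add_one
        exact isUnit_of_mul_isUnit_left h4
      obtain ⟨φ, hφ⟩ := hext hu
      exact ⟨φ, hom_ext _ _ _ (by rw [push_comp, hφ, he'ψ])⟩
  have : Algebra.Etale A C := ⟨hfe, hfp⟩
  obtain ⟨φ₂', hφ₂', hext⟩ := hlift e₀ h₀
  have heq₂ : φ₂' = φ₂ := (hrep _ E₀).unique (Dat.ext_ker (Ideal.ext fun x => by rw [hφ₂', hE₀])) hφ₂
  subst heq₂
  obtain ⟨pt, hpt⟩ := hext (isUnit_iff_ne_zero.2 hh)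
  refine ⟨{ C := C, e := 1 - f, part := hpart, hom_ext := hom_ext, pt := pt, pt_e := hpt, classify := ?_ }⟩
  intro T _ _ e' he'
  obtain ⟨φT, hφT, -⟩ := hlift e' he'
  refine ⟨φT h, ?_, fun k _ _ θ ψ hθ => ?_⟩
  · let α := IsScalarTower.toAlgHom A T (Localization.Away (φT h))
    obtain ⟨φA, hφA, hext'⟩ := hlift (push α e') (he'.map b α)
    refine hext' ?_
    rw [show φA = α.comp φT from (hrep _ ((D₀.map φT).map α)).unique
      (Dat.ext_ker (Ideal.ext fun x => by rw [hφA, (D₀.map φT).map_ker_iff he'.1 hφT])) rfl]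
    exact IsLocalization.Away.algebraMap_isUnit (φT h)
  · have h1 : θ.comp φT = ψ.comp φ₂' := (hrep k ((D₀.map φT).map θ)).unique rfl
      (Dat.ext_ker (Ideal.ext fun x => by
        rw [Dat.map_comp, (D₀.map φ₂').map_ker_iff h₀.1 hφ₂', (D₀.map φT).map_ker_iff he'.1 hφT, hθ]))
    intro h0
    exact hh ((map_eq_zero_iff ψ ψ.toRingHom.injective).1 ((AlgHom.congr_fun h1 h).symm.trans h0))

end Groth.Agent.GrpdLib.FinOpen
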