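import Groth.Agent.GrpdLib.FinOpenAlg
import Mathlib.RingTheory.Finiteness.ModuleFinitePresentation
import Mathlib.RingTheory.Localization.Away.Basic
import Mathlib.RingTheory.Flat.EquationalCriterion
import Mathlib.LinearAlgebra.Matrix.Adjugate
import Mathlib.LinearAlgebra.Matrix.Charpoly.LinearMap

/-!
# Spreading out parts from finitely many points
-/

set_option autoImplicit false
set_option linter.style.haveILetI false
set_option maxHeartbeats 800000
set_option backward.isDefEq.respectTransparency false
set_option backward.isDefEq.respectTransparency.types false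

universe u

open TensorProduct

namespace Groth.Agent.GrpdLib.FinOpen

variable {A : Type u} [CommRing A] {B : Type u} [CommRing B] [Algebra A B]
variable {n : ℕ} (b : Fin n → B) {T : Type u} [CommRing T] [Algebra A T]

/-- A finite open part which has basis `b` at finitely many points has it on a basic neighbourhood. -/
theorem exists_isPart_away [Algebra.FinitePresentation A B] [Module.Flat A B] {e : T ⊗[A] B}
    (he : IsIdempotentElem e) [Module.Finite T ((T ⊗[A] B) ⧸ Ideal.span {1 - e})]
    (F : Finset (PrimeSpectrum T))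
    (hF : ∀ P ∈ F, IsPart b P.asIdeal.ResidueField (push (IsScalarTower.toAlgHom A T P.asIdeal.ResidueField) e)) :
    ∃ g : T, (∀ P ∈ F, g ∉ P.asIdeal) ∧
      IsPart b (Localization.Away g) (push (IsScalarTower.toAlgHom A T (Localization.Away g)) e) := by
  classical
  let J := Ideal.span {1 - e}
  let M := (T ⊗[A] B) ⧸ J
  let q : T ⊗[A] B →ₐ[T] M := Ideal.Quotient.mkₐ T J
  have hq : ∀ x, q x = 0 ↔ e * x = 0 := fun x => by
    show Ideal.Quotient.mk J x = 0 ↔ _
    rw [Ideal.Quotient.eq_zero_iff_mem, Ideal.mem_span_singleton']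
    constructor
    · rintro ⟨z, rfl⟩
      rw [mul_left_comm, mul_sub, mul_one, he.eq, sub_self, mul_zero]
    · exact fun hx => ⟨x, by rw [mul_sub, mul_one, mul_comm, hx, sub_zero]⟩
  have : Algebra.FinitePresentation T M :=
    Algebra.FinitePresentation.quotient ⟨{1 - e}, by simp [J]⟩
  have : Module.FinitePresentation T M := Module.FinitePresentation.of_finite_of_finitePresentation T M
  have : Module.Flat T M := by
    let mulE : T ⊗[A] B →ₗ[T] T ⊗[A] B := LinearMap.mulLeft T e
    let s : M →ₗ[T] T ⊗[A] B := Submodule.liftQ (J.restrictScalars T) mulE (fun x hx => (hq x).1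
      (show Ideal.Quotient.mk J x = 0 from Ideal.Quotient.eq_zero_iff_mem.2 hx)) ∘ₗ
        (Submodule.Quotient.restrictScalarsEquiv T J).symm.toLinearMap
    refine Module.Flat.of_retract (i := s) (r := q.toLinearMap) (LinearMap.ext fun x => ?_)
    obtain ⟨x, rfl⟩ := Ideal.Quotient.mk_surjective x
    show q (s (q x)) = q x
    rw [show s (q x) = e * x from rfl, ← sub_eq_zero, ← map_sub, hq, mul_sub, ← mul_assoc, he.eq, sub_self]
  have : Module.Projective T M := Module.Flat.projective_of_finitePresentation
  let f : (Fin n → T) →ₗ[T] M := Fintype.linearCombination T fun i => q (1 ⊗ₜ b i)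
  have hf : ∀ c, f c = q (comb b c) := fun c => by
    simp [f, Fintype.linearCombination_apply, comb, map_sum, map_smul]
  let I : Ideal T := Module.annihilator T (M ⧸ LinearMap.range f) ⊓ Module.annihilator T (LinearMap.ker f)
  -- the obstruction vanishes at the given points
  have hI : ∀ P ∈ F, ¬ I ≤ P.asIdeal := by
    intro P hP hle
    obtain ⟨-, lk, hkerk, hlk⟩ := hF P hP
    let θ := IsScalarTower.toAlgHom A T P.asIdeal.ResidueField
    have hθ : ∀ x, θ x = 0 ↔ x ∈ P.asIdeal := fun x => Ideal.algebraMap_residueField_eq_zero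
    have hkerθ : ∀ w : T ⊗[A] B, push θ w = 0 → w ∈ P.asIdeal • (⊤ : Submodule T (T ⊗[A] B)) := by
      intro w hw
      let incl : (P.asIdeal.restrictScalars A) →ₗ[A] T := (P.asIdeal.restrictScalars A).subtype
      have hex : Function.Exact incl θ.toLinearMap := fun x =>
        ⟨fun hx => ⟨⟨x, (hθ x).1 hx⟩, rfl⟩, by rintro ⟨y, rfl⟩; exact (hθ _).2 y.2⟩
      obtain ⟨v, rfl⟩ := (Module.Flat.rTensor_exact B hex w).1 hw
      clear hw
      induction v using TensorProduct.induction_on with
      | zero => simp
      | tmul c y =>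
        rw [LinearMap.rTensor_tmul, show incl c ⊗ₜ[A] y = c.1 • ((1 : T) ⊗ₜ[A] y) by
          rw [TensorProduct.smul_tmul', smul_eq_mul, mul_one]; rfl]
        exact Submodule.smul_mem_smul c.2 trivial
      | add v v' hv hv' => rw [map_add]; exact add_mem hv hv'
    -- the cokernel
    let N := M ⧸ LinearMap.range f
    have hstep : ∀ x : M, ∃ s ∉ P.asIdeal, s • (Submodule.Quotient.mk x : N) ∈ P.asIdeal • (⊤ : Submodule T N) := by
      intro x
      obtain ⟨x, rfl⟩ := Ideal.Quotient.mk_surjective x
      obtain ⟨⟨s, hs⟩, hc⟩ := IsLocalization.exist_integer_multiples_of_finite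
        (nonZeroDivisors (T ⧸ P.asIdeal)) (lk (push θ x))
      choose c hc using hc
      obtain ⟨s, rfl⟩ := Ideal.Quotient.mk_surjective s
      choose c' hc' using fun i => Ideal.Quotient.mk_surjective (c i)
      have hsP : s ∉ P.asIdeal := fun h => by
        have := nonZeroDivisors.ne_zero hs
        exact this (Ideal.Quotient.eq_zero_iff_mem.2 h)
      refine ⟨s, hsP, ?_⟩
      have hzero : push θ (e * (s • x - comb b c')) = 0 := by
        rw [map_mul, map_sub, push_comb, show push θ (s • x) = θ s • push θ x by
          rw [Algebra.smul_def, map_mul, Algebra.TensorProduct.algebraMap_apply, push_tmul,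
            Algebra.algebraMap_self, RingHom.id_apply, Algebra.smul_def,
            Algebra.TensorProduct.algebraMap_apply]; rfl]
        have h2 : θ ∘ c' = θ s • lk (push θ x) := funext fun i => by
          have h3 := hc i
          rw [← hc' i] at h3
          show algebraMap T _ (c' i) = algebraMap T _ s * lk (push θ x) i
          exact h3.trans (Algebra.smul_def _ _)
        rw [h2, show comb b (θ s • lk (push θ x)) = θ s • comb b (lk (push θ x)) by
          simp [comb, Finset.smul_sum, smul_smul], ← smul_sub, mul_smul_comm,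
          mul_sub_comb b hkerk hlk, smul_zero]
      let ν : T ⊗[A] B →ₗ[T] N := (LinearMap.range f).mkQ ∘ₗ q.toLinearMap
      have h1 : ν (e * (s • x - comb b c')) = s • (Submodule.Quotient.mk (Ideal.Quotient.mk J x) : N) := by
        have h4 : q (e * (s • x - comb b c')) = s • q x - f c' := by
          have : q e = 1 := by
            rw [← sub_eq_zero, show (1 : M) = q 1 from (map_one q).symm, ← map_sub, hq, mul_sub, he.eq, mul_one,
              sub_self]
          rw [map_mul, this, one_mul, map_sub, map_smul, hf]
        show (LinearMap.range f).mkQ (q _) = _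
        rw [h4, map_sub, map_smul, show (LinearMap.range f).mkQ (f c') = 0 from
          (Submodule.Quotient.mk_eq_zero _).2 ⟨c', rfl⟩, sub_zero]
        rfl
      rw [← h1]
      have := Submodule.mem_map_of_mem (f := ν) (hkerθ _ hzero)
      rw [Submodule.map_smul''] at this
      exact Submodule.smul_mono le_rfl le_top this
    obtain ⟨G, hG⟩ := (Module.Finite.fg_top : (⊤ : Submodule T N).FG)
    choose s hs hsG using fun y : N => (Submodule.Quotient.mk_surjective _ y).elim fun x hx => hx ▸ hstep x
    let S₀ := ∏ y ∈ G, s y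
    have hS₀ : S₀ ∉ P.asIdeal := fun h => by
      obtain ⟨y, -, hy⟩ := P.isPrime.prod_mem_iff.1 h
      exact hs y hy
    have hrange : LinearMap.range (S₀ • (LinearMap.id : N →ₗ[T] N)) ≤ P.asIdeal • (⊤ : Submodule T N) := by
      rintro _ ⟨y, rfl⟩
      have hy : y ∈ Submodule.span T (G : Set N) := hG ▸ trivial
      induction hy using Submodule.span_induction with
      | mem y hy =>
        show S₀ • y ∈ _
        rw [show S₀ = _ from (Finset.prod_erase_mul G s hy).symm, mul_smul]
        exact Submodule.smul_mem _ _ (hsG y)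
      | zero => simp
      | add y y' _ _ h h' => rw [map_add]; exact add_mem h h'
      | smul r y _ h => rw [map_smul]; exact Submodule.smul_mem _ _ h
    obtain ⟨p, hp, -, hcoeff, hzero⟩ :=
      LinearMap.exists_monic_and_natDegree_eq_and_coeff_mem_pow_and_aeval_eq_zero T
        (S₀ • (LinearMap.id : N →ₗ[T] N)) P.asIdeal hrange
    let h := p.eval S₀
    have hh : h ∉ P.asIdeal := fun hmem => by
      rw [show h = _ from Polynomial.eval_eq_sum_range _, Finset.sum_range_succ, hp.coeff_natDegree, one_mul] at hmem
      refine hS₀ (P.isPrime.mem_of_pow_mem p.natDegree ((Ideal.add_mem_iff_right _ ?_).1 hmem))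
      refine Ideal.sum_mem _ fun k hk => Ideal.mul_mem_right _ _ ?_
      exact Ideal.pow_le_self (by have := Finset.mem_range.1 hk; omega) (hcoeff k)
    have hhN : ∀ y : N, h • y = 0 := fun y => by
      rw [show S₀ • (LinearMap.id : N →ₗ[T] N) = algebraMap T (Module.End T N) S₀ from rfl,
        Polynomial.aeval_algebraMap_apply, Polynomial.coe_aeval_eq_eval] at hzero
      exact LinearMap.congr_fun hzero y
    -- the kernel
    let hM : M →ₗ[T] LinearMap.range f := LinearMap.codRestrict _ (h • LinearMap.id) fun x => by
      rw [← Submodule.Quotient.mk_eq_zero]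
      exact hhN (Submodule.Quotient.mk x)
    obtain ⟨σ, hσ⟩ := Module.projective_lifting_property f.rangeRestrict hM f.surjective_rangeRestrict
    let E : Matrix (Fin n) (Fin n) T := LinearMap.toMatrix' (h • LinearMap.id - σ ∘ₗ f)
    have hEP : ∀ i j, E i j ∈ P.asIdeal := by
      intro i j
      rw [← hθ]
      let c := (h • (LinearMap.id : (Fin n → T) →ₗ[T] (Fin n → T)) - σ ∘ₗ f) (Pi.single j 1)
      have hc0 : f c = 0 := by
        have h1 : f (σ (f (Pi.single j 1))) = h • f (Pi.single j 1) :=
          congrArg Subtype.val (LinearMap.congr_fun hσ _)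
        simp only [c, LinearMap.sub_apply, LinearMap.smul_apply, LinearMap.id_apply, LinearMap.comp_apply,
          map_sub, map_smul, h1, sub_self]
      rw [hf, hq] at hc0
      have h2 : push θ e * comb b (θ ∘ c) = 0 := by rw [← push_comb, ← map_mul, hc0, map_zero]
      rw [← hkerk, apply_comb b hlk] at h2
      have h3 : E i j = c i := by simp [E, c, LinearMap.toMatrix'_apply, Matrix.one_apply, Pi.single_apply]
      rw [h3]
      exact congrFun h2 i
    let δ := ((h • (1 : Matrix (Fin n) (Fin n) T)) - E).det
    have hδ : δ ∉ P.asIdeal := by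
      rw [← hθ]
      intro h0
      have : θ δ = θ h ^ n := by
        rw [show θ δ = (θ.mapMatrix ((h • (1 : Matrix (Fin n) (Fin n) T)) - E)).det from θ.map_det _,
          map_sub, show θ.mapMatrix E = 0 from Matrix.ext fun i j => (hθ _).2 (hEP i j), sub_zero,
          show θ.mapMatrix (h • (1 : Matrix (Fin n) (Fin n) T)) = θ h • 1 by
            ext i j; by_cases hij : i = j <;> simp [hij]]
        simp
      rw [this] at h0
      exact hh ((hθ h).1 (eq_zero_of_pow_eq_zero h0))
    refine (P.isPrime.mul_mem_iff_mem_or_mem.not.2 (not_or.2 ⟨hh, hδ⟩)) (hle ⟨?_, ?_⟩)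
    · rw [SetLike.mem_coe, Module.mem_annihilator]
      exact fun y => by rw [mul_comm, mul_smul, hhN, smul_zero]
    · rw [SetLike.mem_coe, Module.mem_annihilator]
      rintro ⟨c, hc⟩
      refine Subtype.ext ?_
      show (h * δ) • c = 0
      have h1 : E.mulVec c = h • c := by
        rw [← Matrix.toLin'_apply, show Matrix.toLin' E = h • LinearMap.id - σ ∘ₗ f from
          Matrix.toLin'_toMatrix' _]
        simp [show f c = 0 from hc]
      have h2 : ((h • (1 : Matrix (Fin n) (Fin n) T)) - E).mulVec c = 0 := by
        rw [Matrix.sub_mulVec, h1, Matrix.smul_mulVec, Matrix.one_mulVec, sub_self]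
      have h3 := congrArg (((h • (1 : Matrix (Fin n) (Fin n) T)) - E).adjugate.mulVec) h2
      rw [Matrix.mulVec_mulVec, Matrix.adjugate_mul, Matrix.smul_mulVec, Matrix.one_mulVec,
        Matrix.mulVec_zero] at h3
      rw [mul_smul, h3, smul_zero]
  obtain ⟨g, hg, hgF⟩ : ∃ g ∈ I, ∀ P ∈ F, g ∉ P.asIdeal := by
    by_contra hcon
    push Not at hcon
    obtain ⟨Q, hQ, hle⟩ := (Ideal.subset_union_prime (s := F.image fun P => P.asIdeal) (f := id) (I := I) ⊥ ⊥
      fun Q hQ _ _ => by
        obtain ⟨P, -, rfl⟩ := Finset.mem_image.1 hQ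
        exact P.isPrime).mp (fun x hx => by
        obtain ⟨P, hP, hxP⟩ := hcon x hx
        exact Set.mem_biUnion (Finset.mem_image.2 ⟨P, hP, rfl⟩) hxP)
    obtain ⟨P, hP, rfl⟩ := Finset.mem_image.1 hQ
    exact hI P hP hle
  refine ⟨g, hgF, he.map _, ?_⟩
  let gM : M →ₗ[T] LinearMap.range f := LinearMap.codRestrict _ (g • LinearMap.id) fun x => by
    rw [← Submodule.Quotient.mk_eq_zero]
    exact Module.mem_annihilator.1 hg.1 (Submodule.Quotient.mk x)
  obtain ⟨σ, hσ⟩ := Module.projective_lifting_property f.rangeRestrict gM f.surjective_rangeRestrict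
  let T' := Localization.Away g
  let α := IsScalarTower.toAlgHom A T T'
  let gi : T' := IsLocalization.Away.invSelf g
  have hgi : α g * gi = 1 := IsLocalization.Away.mul_invSelf g
  have hpsmul : ∀ (t : T) (x : T ⊗[A] B), push α (t • x) = α t • push α x := fun t x => by
    induction x using TensorProduct.induction_on with
    | zero => simp
    | tmul r y => rw [TensorProduct.smul_tmul', push_tmul, push_tmul, TensorProduct.smul_tmul', smul_eq_mul,
        smul_eq_mul, map_mul]
    | add x y hx hy => rw [smul_add, map_add, map_add, hx, hy, smul_add]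
  let l₀ : B →ₗ[A] (Fin n → T') :=
    { toFun := fun y i => gi * α (σ (q (1 ⊗ₜ y)) i)
      map_add' := fun y y' => by funext i; simp [TensorProduct.tmul_add, mul_add]
      map_smul' := fun a y => by
        funext i
        rw [TensorProduct.tmul_smul, ← algebraMap_smul T a, map_smul, map_smul]
        simp [Algebra.smul_def, mul_left_comm] }
  let l' := l₀.liftBaseChange T'
  have hl' : ∀ x, l' (push α x) = gi • (α ∘ σ (q x)) := by
    intro x
    induction x using TensorProduct.induction_on with
    | zero => funext i; simp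
    | tmul t y =>
      have : t ⊗ₜ[A] y = t • ((1 : T) ⊗ₜ[A] y) := by rw [TensorProduct.smul_tmul', smul_eq_mul, mul_one]
      funext i
      rw [push_tmul, this, map_smul, map_smul]
      simp [l', l₀, mul_left_comm]
    | add x y hx hy => funext i; simp [map_add, hx, hy, mul_add]
  have hb : ∀ i, l' (1 ⊗ₜ b i) = Pi.single i 1 := fun i => by
    rw [show (1 : T') ⊗ₜ[A] b i = push α (1 ⊗ₜ[A] b i) by simp, hl',
      show q (1 ⊗ₜ b i) = f (Pi.single i 1) by simp [f, Fintype.linearCombination_apply, Pi.single_apply]]
    have hk : σ (f (Pi.single i 1)) - g • Pi.single i (1 : T) ∈ LinearMap.ker f := by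
      rw [LinearMap.mem_ker, map_sub, map_smul,
        show f (σ (f (Pi.single i 1))) = g • f (Pi.single i 1) from congrArg Subtype.val (LinearMap.congr_fun hσ _),
        sub_self]
    have h1 := congrArg Subtype.val (Module.mem_annihilator.1 hg.2 ⟨_, hk⟩)
    funext j
    have h2 := congrArg α (congrFun h1 j)
    simp only [SetLike.val_smul, Pi.smul_apply, Pi.sub_apply, smul_eq_mul, ZeroMemClass.coe_zero,
      Pi.zero_apply, map_mul, map_sub, map_zero] at h2
    show gi * α (σ (f (Pi.single i 1)) j) = _
    have h3 : α (σ (f (Pi.single i 1)) j) = α g * α ((Pi.single i (1 : T) : Fin n → T) j) := by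
      have := congrArg (gi * ·) h2
      rw [← mul_assoc, mul_comm gi, hgi, one_mul, mul_zero, sub_eq_zero] at this
      exact this
    rw [h3, ← mul_assoc, mul_comm gi, hgi, one_mul]
    by_cases hij : j = i
    · subst hij; simp
    · simp [hij]
  have key : ∀ x, push α e * (x - comb b (l' x)) = 0 := by
    intro x
    induction x using TensorProduct.induction_on with
    | zero => simp [comb]
    | tmul t y =>
      have h1 : e * (g • ((1 : T) ⊗ₜ[A] y) - comb b (σ (q (1 ⊗ₜ y)))) = 0 := by
        rw [← hq, map_sub, map_smul, ← hf, sub_eq_zero]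
        exact (congrArg Subtype.val (LinearMap.congr_fun hσ (q (1 ⊗ₜ y)))).symm
      have h2 := congrArg (push α) h1
      rw [map_mul, map_sub, hpsmul, push_comb, map_zero, push_tmul, map_one] at h2
      have h3 : t ⊗ₜ[A] y - comb b (l' (t ⊗ₜ y)) =
          (t * gi) • (α g • ((1 : T') ⊗ₜ[A] y) - comb b (α ∘ σ (q (1 ⊗ₜ y)))) := by
        rw [smul_sub, smul_smul, mul_assoc, mul_comm gi, hgi, mul_one, TensorProduct.smul_tmul', smul_eq_mul,
          mul_one]
        congr 1
        rw [comb, comb, Finset.smul_sum]
        exact Finset.sum_congr rfl fun i _ => by simp [l', l₀, smul_smul, mul_assoc]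
      rw [h3, mul_smul_comm, h2, smul_zero]
    | add x y hx hy =>
      rw [map_add, show x + y - comb b (l' x + l' y) = (x - comb b (l' x)) + (y - comb b (l' y)) by
        simp [comb, add_smul, Finset.sum_add_distrib]; ring, mul_add, hx, hy, add_zero]
  refine ⟨l', fun x => ⟨fun hx => ?_, fun hx => ?_⟩, hb⟩
  · have := key x
    rwa [hx, show comb b (0 : Fin n → T') = 0 by simp [comb], sub_zero] at this
  · have h1 : ∀ z, l' ((1 - push α e) * z) = 0 := by
      intro z
      induction z using TensorProduct.induction_on with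
      | zero => simp
      | tmul t y =>
        have : (1 - push α e) * (t ⊗ₜ[A] y) = t • push α ((1 - e) * (1 ⊗ₜ[A] y)) := by
          rw [map_mul, map_sub, map_one, push_tmul, map_one, ← mul_smul_comm, TensorProduct.smul_tmul',
            smul_eq_mul, mul_one]
        rw [this, map_smul, hl', (hq _).2 (by rw [← mul_assoc, mul_sub, mul_one, he.eq, sub_self, zero_mul]),
          map_zero]
        funext i; simp
      | add z z' hz hz' => rw [mul_add, map_add, hz, hz', add_zero]
    rw [show x = (1 - push α e) * x by rw [sub_mul, one_mul, hx, sub_zero], h1]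

end Groth.Agent.GrpdLib.FinOpen
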