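import Groth.Agent.GrpdLib.FinOpenChart
import Groth.Agent.GrpdLib.FinOpenSpread

/-!
# Classifying a part near finitely many points
-/

set_option autoImplicit false
set_option linter.style.haveILetI false
set_option maxHeartbeats 800000
set_option backward.isDefEq.respectTransparency false
set_option backward.isDefEq.respectTransparency.types false

universe u

open TensorProduct

namespace Groth.Agent.GrpdLib.FinOpen

variable {A : Type u} [CommRing A] {B : Type u} [CommRing B] [Algebra A B]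
  [Algebra.FinitePresentation A B] [Module.Flat A B]
variable {n : ℕ} {b : Fin n → B} {p : Ideal A} [p.IsPrime] {e₀ : p.ResidueField ⊗[A] B}

lemma liftAway_comp {A R P : Type u} [CommRing A] [CommRing R] [CommRing P] [Algebra A R] [Algebra A P]
    (g : R) (f : R →ₐ[A] P) (hu : IsUnit (f g)) :
    ((IsLocalization.Away.liftAlgHom (A := A) (S := Localization.Away g) g hu) : _ →ₐ[A] P).comp
      (IsScalarTower.toAlgHom A R (Localization.Away g)) = f :=
  AlgHom.ext fun x => IsLocalization.Away.lift_eq (g := f.toRingHom) g hu x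

/-- A part which at finitely many points is a base change of `e₀` is classified near them by the chart,
the points going to the marked point. -/
theorem Chart.exists_classify (Cd : Chart b p e₀) (h₀ : IsPart b p.ResidueField e₀) (T : Type u) [CommRing T]
    [Algebra A T] {e' : T ⊗[A] B} (he' : IsIdempotentElem e')
    [Module.Finite T ((T ⊗[A] B) ⧸ Ideal.span {1 - e'})] (F : Set (PrimeSpectrum T)) (hF : F.Finite)
    (hdata : ∀ P ∈ F, ∃ ψ : p.ResidueField →ₐ[A] P.asIdeal.ResidueField,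
      push (IsScalarTower.toAlgHom A T P.asIdeal.ResidueField) e' = push ψ e₀) :
    ∃ (g₁ : T) (g₂ : Localization.Away g₁) (φ : Cd.C →ₐ[A] Localization.Away g₂),
      ∀ P ∈ F, ∃ d : PrimeSpectrum (Localization.Away g₂),
        (∀ c : T, algebraMap (Localization.Away g₁) (Localization.Away g₂) (algebraMap T _ c) ∈ d.asIdeal ↔
          c ∈ P.asIdeal) ∧
        ∀ c : Cd.C, φ c ∈ d.asIdeal ↔ Cd.pt c = 0 := by
  classical
  obtain ⟨g₁, hg₁, hpart⟩ := exists_isPart_away b he' hF.toFinset (fun P hP => by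
    obtain ⟨ψ, hψ⟩ := hdata P (hF.mem_toFinset.1 hP)
    rw [hψ]; exact h₀.map b ψ)
  let α₁ := IsScalarTower.toAlgHom A T (Localization.Away g₁)
  obtain ⟨g₂, ⟨φ, hφe⟩, hg₂⟩ := Cd.classify (Localization.Away g₁) (push α₁ e') hpart
  refine ⟨g₁, g₂, φ, fun P hP => ?_⟩
  obtain ⟨ψ, hψ⟩ := hdata P hP
  let θ := IsScalarTower.toAlgHom A T P.asIdeal.ResidueField
  have hu₁ : IsUnit (θ g₁) := isUnit_iff_ne_zero.2
    (mt Ideal.algebraMap_residueField_eq_zero.1 (hg₁ P (hF.mem_toFinset.2 hP)))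
  let θ₁ : Localization.Away g₁ →ₐ[A] P.asIdeal.ResidueField :=
    IsLocalization.Away.liftAlgHom (S := Localization.Away g₁) g₁ hu₁
  have hθ₁ : θ₁.comp α₁ = θ := liftAway_comp g₁ θ hu₁
  have hθ₁e : push θ₁ (push α₁ e') = push ψ e₀ := by rw [← push_comp, hθ₁, hψ]
  have hu₂ : IsUnit (θ₁ g₂) := isUnit_iff_ne_zero.2 (hg₂ _ θ₁ ψ hθ₁e)
  let α₂ := IsScalarTower.toAlgHom A (Localization.Away g₁) (Localization.Away g₂)
  let θ₂ : Localization.Away g₂ →ₐ[A] P.asIdeal.ResidueField :=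
    IsLocalization.Away.liftAlgHom (S := Localization.Away g₂) g₂ hu₂
  have hθ₂ : θ₂.comp α₂ = θ₁ := liftAway_comp g₂ θ₁ hu₂
  refine ⟨⟨RingHom.ker θ₂, RingHom.ker_isPrime _⟩, fun c => ?_, fun c => ?_⟩
  · show θ₂ (α₂ (α₁ c)) = 0 ↔ _
    rw [show θ₂ (α₂ (α₁ c)) = θ₁ (α₁ c) from AlgHom.congr_fun hθ₂ _,
      show θ₁ (α₁ c) = θ c from AlgHom.congr_fun hθ₁ c]
    exact Ideal.algebraMap_residueField_eq_zero
  · have hcomp : θ₂.comp φ = ψ.comp Cd.pt := Cd.hom_ext _ _ _ (by
      rw [push_comp, push_comp, hφe, Cd.pt_e, ← push_comp, hθ₂, hθ₁e])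
    show θ₂ (φ c) = 0 ↔ _
    rw [show θ₂ (φ c) = ψ (Cd.pt c) from AlgHom.congr_fun hcomp c]
    exact map_eq_zero_iff ψ ψ.toRingHom.injective

end Groth.Agent.GrpdLib.FinOpen
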