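import Groth.Agent.GrpdLib.FinOpenAlg
import Mathlib.LinearAlgebra.Matrix.ToLin

/-!
# Algebra quotients with a chosen basis

A datum over `T` is a representation of `B` on `T^n` with a vector `v` such that `b i` sends `v` to the
`i`-th basis vector.  These are the surjections of `T ⊗ B` onto a free module with basis `b` whose kernel is
an ideal.
-/

set_option autoImplicit false
set_option linter.style.haveILetI false
set_option maxHeartbeats 400000
set_option backward.isDefEq.respectTransparency false
set_option backward.isDefEq.respectTransparency.types false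

universe u

open TensorProduct Matrix

namespace Groth.Agent.GrpdLib.FinOpen

variable {A : Type u} [CommRing A] {B : Type u} [CommRing B] [Algebra A B]
variable {n : ℕ} (b : Fin n → B)

variable (A) in
/-- An algebra quotient of `T ⊗ B` with basis `b`. -/
structure Dat (T : Type u) [CommRing T] [Algebra A T] where
  rep : B →ₐ[A] Matrix (Fin n) (Fin n) T
  vec : Fin n → T
  basis : ∀ i, rep (b i) *ᵥ vec = Pi.single i 1

variable {b} {T T' : Type u} [CommRing T] [Algebra A T] [CommRing T'] [Algebra A T']

namespace Dat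

/-- The representation of `T ⊗ B`. -/
noncomputable def repT (D : Dat A b T) : T ⊗[A] B →ₐ[T] Matrix (Fin n) (Fin n) T :=
  Algebra.TensorProduct.lift (Algebra.ofId T _) D.rep (fun t _ => Algebra.commutes t _)

/-- The quotient map. -/
noncomputable def q (D : Dat A b T) : T ⊗[A] B →ₗ[T] (Fin n → T) where
  toFun x := D.repT x *ᵥ D.vec
  map_add' x y := by rw [map_add, Matrix.add_mulVec]
  map_smul' t x := by rw [map_smul, Matrix.smul_mulVec, RingHom.id_apply]

lemma q_one_tmul (D : Dat A b T) (y : B) : D.q (1 ⊗ₜ y) = D.rep y *ᵥ D.vec := by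
  simp [q, repT]

lemma q_basis (D : Dat A b T) (i : Fin n) : D.q (1 ⊗ₜ b i) = Pi.single i 1 := by
  rw [q_one_tmul, D.basis]

lemma q_comb (D : Dat A b T) (c : Fin n → T) : D.q (comb b c) = c := apply_comb b D.q_basis c

/-- The kernel of the quotient map. -/
noncomputable def ker (D : Dat A b T) : Ideal (T ⊗[A] B) where
  carrier := {x | D.q x = 0}
  add_mem' {x y} (hx : D.q x = 0) (hy : D.q y = 0) := by
    show D.q (x + y) = 0
    rw [map_add, hx, hy, add_zero]
  zero_mem' := map_zero D.q
  smul_mem' y x (hx : D.q x = 0) := by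
    show D.repT (y * x) *ᵥ D.vec = 0
    rw [map_mul, ← Matrix.mulVec_mulVec, show D.repT x *ᵥ D.vec = 0 from hx, Matrix.mulVec_zero]

lemma mem_ker {D : Dat A b T} {x : T ⊗[A] B} : x ∈ D.ker ↔ D.q x = 0 := Iff.rfl

lemma sub_comb_mem (D : Dat A b T) (x : T ⊗[A] B) : x - comb b (D.q x) ∈ D.ker := by
  rw [mem_ker, map_sub, q_comb, sub_self]

/-- A datum is determined by its quotient map. -/
lemma ext_q {D E : Dat A b T} (h : D.q = E.q) : D = E := by
  have hv : D.vec = E.vec := by
    have h1 := LinearMap.congr_fun h ((1 : T) ⊗ₜ[A] (1 : B))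
    rwa [q_one_tmul, q_one_tmul, map_one, map_one, Matrix.one_mulVec, Matrix.one_mulVec] at h1
  have hrep : D.rep = E.rep := by
    refine AlgHom.ext fun y => Matrix.ext_of_mulVec_single fun j => ?_
    conv_lhs => rw [← D.basis j]
    conv_rhs => rw [← E.basis j]
    rw [Matrix.mulVec_mulVec, Matrix.mulVec_mulVec, ← map_mul, ← map_mul, ← q_one_tmul, ← q_one_tmul, h]
  cases D; cases E; cases hv; cases hrep; rfl

/-- Change of the coefficient ring. -/
noncomputable def map (D : Dat A b T) (φ : T →ₐ[A] T') : Dat A b T' where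
  rep := φ.mapMatrix.comp D.rep
  vec := φ ∘ D.vec
  basis i := by
    funext j
    have h := congrArg φ (congrFun (D.basis i) j)
    simp only [Matrix.mulVec, dotProduct, map_sum, map_mul] at h
    simp only [Matrix.mulVec, dotProduct, AlgHom.comp_apply, AlgHom.mapMatrix_apply, Matrix.map_apply,
      Function.comp_apply, h]
    by_cases hij : j = i
    · subst hij; simp
    · simp [hij]

lemma map_comp {T'' : Type u} [CommRing T''] [Algebra A T''] (D : Dat A b T) (φ : T →ₐ[A] T')
    (φ' : T' →ₐ[A] T'') : D.map (φ'.comp φ) = (D.map φ).map φ' := rfl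

lemma q_push (D : Dat A b T) (φ : T →ₐ[A] T') (x : T ⊗[A] B) :
    (D.map φ).q (push φ x) = φ ∘ D.q x := by
  induction x using TensorProduct.induction_on with
  | zero => simp [Function.comp_def, funext_iff]
  | tmul t y =>
    rw [push_tmul, show t ⊗ₜ[A] y = t • ((1 : T) ⊗ₜ[A] y) by rw [TensorProduct.smul_tmul', smul_eq_mul, mul_one],
      show φ t ⊗ₜ[A] y = φ t • ((1 : T') ⊗ₜ[A] y) by rw [TensorProduct.smul_tmul', smul_eq_mul, mul_one],
      map_smul, map_smul, q_one_tmul, q_one_tmul]
    funext j
    simp [map, Matrix.mulVec, dotProduct, map_sum]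
  | add x y hx hy => simp [map_add, hx, hy, funext_iff]

/-- The kernel commutes with change of the coefficient ring. -/
lemma ker_map (D : Dat A b T) (φ : T →ₐ[A] T') : (D.map φ).ker = D.ker.map (push (B := B) φ) := by
  refine le_antisymm (fun x hx => ?_) (Ideal.map_le_iff_le_comap.2 fun x hx => ?_)
  · have key : ∀ z, z - comb b ((D.map φ).q z) ∈ D.ker.map (push (B := B) φ) := by
      intro z
      induction z using TensorProduct.induction_on with
      | zero => simp [comb]
      | tmul t y =>
        have h1 : t ⊗ₜ[A] y - comb b ((D.map φ).q (t ⊗ₜ y)) =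
            (t ⊗ₜ[A] (1 : B)) * push φ ((1 : T) ⊗ₜ[A] y - comb b (D.q (1 ⊗ₜ y))) := by
          rw [map_sub, push_comb, ← q_push, push_tmul, map_one, mul_sub,
            Algebra.TensorProduct.tmul_mul_tmul, mul_one, one_mul]
          congr 1
          rw [show t ⊗ₜ[A] y = t • ((1 : T') ⊗ₜ[A] y) by rw [TensorProduct.smul_tmul', smul_eq_mul, mul_one],
            map_smul, comb, comb, Finset.mul_sum]
          refine Finset.sum_congr rfl fun i _ => ?_
          simp [TensorProduct.smul_tmul', Algebra.TensorProduct.tmul_mul_tmul]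
        rw [h1]
        exact Ideal.mul_mem_left _ _ (Ideal.mem_map_of_mem _ (D.sub_comb_mem _))
      | add x y hx hy =>
        convert add_mem hx hy using 1
        simp [comb, add_smul, Finset.sum_add_distrib]
        ring
    have := key x
    rwa [mem_ker.1 hx, show comb b (0 : Fin n → T') = 0 by simp [comb], sub_zero] at this
  · rw [Ideal.mem_comap, mem_ker, q_push, mem_ker.1 hx]
    funext j; simp

/-- The datum of a part. -/
lemma exists_ofPart {e : T ⊗[A] B} {l : T ⊗[A] B →ₗ[T] (Fin n → T)}
    (hker : ∀ x, l x = 0 ↔ e * x = 0) (hl : ∀ i, l (1 ⊗ₜ b i) = Pi.single i 1) :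
    ∃ D : Dat A b T, D.q = l := by
  have habs : ∀ z x, l (z * comb b (l x)) = l (z * x) := fun z x => by
    rw [eq_comm, ← sub_eq_zero, ← map_sub, ← mul_sub, hker, mul_left_comm, mul_sub_comb b hker hl, mul_zero]
  let act : B →ₐ[A] Module.End T (Fin n → T) :=
    { toFun := fun y =>
        { toFun := fun c => l (((1 : T) ⊗ₜ[A] y) * comb b c)
          map_add' := fun c c' => by
            rw [show comb b (c + c') = comb b c + comb b c' by
              simp [comb, add_smul, Finset.sum_add_distrib], mul_add, map_add]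
          map_smul' := fun t c => by
            rw [show comb b (t • c) = t • comb b c by simp [comb, Finset.smul_sum, smul_smul],
              mul_smul_comm, map_smul, RingHom.id_apply] }
      map_one' := LinearMap.ext fun c => by
        show l (((1 : T) ⊗ₜ[A] (1 : B)) * comb b c) = c
        rw [← Algebra.TensorProduct.one_def, one_mul, apply_comb b hl]
      map_mul' := fun y z => LinearMap.ext fun c => by
        show l (((1 : T) ⊗ₜ[A] (y * z)) * comb b c) =
          l (((1 : T) ⊗ₜ[A] y) * comb b (l (((1 : T) ⊗ₜ[A] z) * comb b c)))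
        rw [habs, ← mul_assoc, Algebra.TensorProduct.tmul_mul_tmul, one_mul]
      map_zero' := LinearMap.ext fun c => by simp
      map_add' := fun y z => LinearMap.ext fun c => by
        simp [TensorProduct.tmul_add, add_mul]
      commutes' := fun a => LinearMap.ext fun c => by
        show l (((1 : T) ⊗ₜ[A] algebraMap A B a) * comb b c) = a • c
        rw [← Algebra.TensorProduct.algebraMap_apply', Algebra.TensorProduct.algebraMap_apply,
          ← algebraMap_smul T a c]
        rw [show ((algebraMap A T a) ⊗ₜ[A] (1 : B)) * comb b c = algebraMap A T a • comb b c by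
          rw [Algebra.smul_def]; rfl, map_smul, apply_comb b hl] }
  let rep : B →ₐ[A] Matrix (Fin n) (Fin n) T :=
    ((LinearMap.toMatrixAlgEquiv' : Module.End T (Fin n → T) ≃ₐ[T] _).toAlgHom.restrictScalars A).comp act
  have hrep : ∀ y, rep y *ᵥ l 1 = l (1 ⊗ₜ y) := fun y => by
    show LinearMap.toMatrixAlgEquiv' (act y) *ᵥ l 1 = _
    rw [← Matrix.toLinAlgEquiv'_apply, Matrix.toLinAlgEquiv'_toMatrixAlgEquiv']
    show l (((1 : T) ⊗ₜ[A] y) * comb b (l 1)) = _
    rw [habs, mul_one]
  refine ⟨⟨rep, l 1, fun i => by rw [hrep, hl]⟩, LinearMap.ext fun x => ?_⟩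
  induction x using TensorProduct.induction_on with
  | zero => simp
  | tmul t y =>
    rw [show t ⊗ₜ[A] y = t • ((1 : T) ⊗ₜ[A] y) by rw [TensorProduct.smul_tmul', smul_eq_mul, mul_one],
      map_smul, map_smul, q_one_tmul, hrep]
  | add x y hx hy => rw [map_add, map_add, hx, hy]

/-- A part with kernel the kernel of a datum. -/
lemma isPart (D : Dat A b T) {e : T ⊗[A] B} (he : IsIdempotentElem e)
    (h : ∀ x, x ∈ D.ker ↔ e * x = 0) : IsPart b T e := ⟨he, D.q, h, D.q_basis⟩

/-- The datum attached to a part. -/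
lemma exists_of_isPart {e : T ⊗[A] B} (h : IsPart b T e) :
    ∃ D : Dat A b T, ∀ x, x ∈ D.ker ↔ e * x = 0 := by
  obtain ⟨-, l, hker, hl⟩ := h
  obtain ⟨D, rfl⟩ := exists_ofPart hker hl
  exact ⟨D, hker⟩

/-- Data with the same kernel agree. -/
lemma ext_ker {D E : Dat A b T} (h : D.ker = E.ker) : D = E := by
  refine ext_q (LinearMap.ext fun x => ?_)
  have h1 : x - comb b (E.q x) ∈ D.ker := h ▸ E.sub_comb_mem x
  rw [mem_ker, map_sub, q_comb, sub_eq_zero] at h1
  exact h1

/-- The part of a datum pushes forward. -/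
lemma map_ker_iff (D : Dat A b T) {e : T ⊗[A] B} (he : IsIdempotentElem e)
    (h : ∀ x, x ∈ D.ker ↔ e * x = 0) (φ : T →ₐ[A] T') :
    ∀ x, x ∈ (D.map φ).ker ↔ push φ e * x = 0 := by
  intro x
  have hspan : D.ker = Ideal.span {1 - e} := by
    refine le_antisymm (fun z hz => ?_) (Ideal.span_le.2 (Set.singleton_subset_iff.2 ?_))
    · exact Ideal.mem_span_singleton'.2 ⟨z, by rw [mul_sub, mul_one, mul_comm, (h z).1 hz, sub_zero]⟩
    · exact (h _).2 (by rw [mul_sub, mul_one, he.eq, sub_self])
  rw [ker_map, hspan, Ideal.map_span, Set.image_singleton, Ideal.mem_span_singleton']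
  constructor
  · rintro ⟨z, rfl⟩
    rw [map_sub, map_one, mul_left_comm, mul_sub, mul_one, (he.map (push φ)).eq, sub_self, mul_zero]
  · intro hx
    exact ⟨x, by rw [map_sub, map_one, mul_sub, mul_one, mul_comm, hx, sub_zero]⟩

end Dat

end Groth.Agent.GrpdLib.FinOpen
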