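import Groth.Agent.GrpdLib.FinOpenAlg
import Mathlib.RingTheory.Spectrum.Prime.Topology
import Mathlib.RingTheory.Spectrum.Prime.Jacobson
import Mathlib.RingTheory.LocalRing.ResidueField.Fiber
import Mathlib.RingTheory.Jacobson.Artinian
import Mathlib.Topology.JacobsonSpace
import Mathlib.LinearAlgebra.LinearIndependent.Lemmas

/-!
# Parts over a field from finite open sets of isolated points
-/

set_option autoImplicit false
set_option linter.style.haveILetI false
set_option maxHeartbeats 400000
set_option backward.isDefEq.respectTransparency false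
set_option backward.isDefEq.respectTransparency.types false

universe u

open TensorProduct

namespace Groth.Agent.GrpdLib.FinOpen

variable {A : Type u} [CommRing A] {B : Type u} [CommRing B] [Algebra A B]

/-- A finite type algebra over a field with finite spectrum is finite. -/
lemma module_finite_of_finite_spectrum {K Q : Type u} [Field K] [CommRing Q] [Algebra K Q]
    [Algebra.FiniteType K Q] [Finite (PrimeSpectrum Q)] : Module.Finite K Q := by
  have : IsJacobsonRing Q := isJacobsonRing_of_finiteType (A := K)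
  rw [Module.finite_iff_krullDimLE_zero, Ring.krullDimLE_zero_iff]
  intro P hP
  have : DiscreteTopology (PrimeSpectrum Q) := inferInstance
  exact (PrimeSpectrum.isClosed_singleton_iff_isMaximal ⟨P, hP⟩).1 (isClosed_discrete _)

/-- An idempotent with finite corner gives a part, for some family in `B`. -/
lemma exists_isPart {K : Type u} [Field K] [Algebra A K] {e : K ⊗[A] B} (he : IsIdempotentElem e)
    [Module.Finite K ((K ⊗[A] B) ⧸ Ideal.span {1 - e})] :
    ∃ (n : ℕ) (b : Fin n → B), IsPart b K e := by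
  let J := Ideal.span {1 - e}
  let q : K ⊗[A] B →ₗ[K] (K ⊗[A] B) ⧸ J := (Ideal.Quotient.mkₐ K J).toLinearMap
  have hspan : Submodule.span K (Set.range fun y : B => q (1 ⊗ₜ y)) = ⊤ := by
    rw [eq_top_iff]
    intro x hx'
    clear hx'
    obtain ⟨x, rfl⟩ := Ideal.Quotient.mk_surjective x
    show q x ∈ _
    induction x using TensorProduct.induction_on with
    | zero => simp
    | tmul t y =>
      rw [show t ⊗ₜ[A] y = t • ((1 : K) ⊗ₜ[A] y) by rw [TensorProduct.smul_tmul', smul_eq_mul, mul_one], map_smul]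
      exact Submodule.smul_mem _ _ (Submodule.subset_span ⟨y, rfl⟩)
    | add x y hx hy => rw [map_add]; exact add_mem hx hy
  obtain ⟨s, hs, hspan', hli⟩ := exists_linearIndependent K (Set.range fun y : B => q (1 ⊗ₜ y))
  have : Finite s := hli.finite
  have : Fintype s := Fintype.ofFinite s
  let bas : Module.Basis s K ((K ⊗[A] B) ⧸ J) := Module.Basis.mk hli (by simp [hspan', hspan])
  let bas' := bas.reindex (Fintype.equivFin s)
  choose pre hpre using fun x : s => hs x.2
  refine ⟨Fintype.card s, fun i => pre ((Fintype.equivFin s).symm i), he,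
    bas'.equivFun.toLinearMap ∘ₗ q, fun x => ?_, fun i => ?_⟩
  · rw [LinearMap.comp_apply, LinearEquiv.coe_coe, LinearEquiv.map_eq_zero_iff]
    show Ideal.Quotient.mk J x = 0 ↔ _
    rw [Ideal.Quotient.eq_zero_iff_mem, Ideal.mem_span_singleton']
    constructor
    · rintro ⟨z, rfl⟩
      rw [mul_left_comm, mul_sub, mul_one, he.eq, sub_self, mul_zero]
    · exact fun hx => ⟨x, by rw [mul_sub, mul_one, mul_comm, hx, sub_zero]⟩
  · rw [LinearMap.comp_apply, LinearEquiv.coe_coe]
    dsimp only at hpre ⊢
    rw [hpre]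
    have : ((Fintype.equivFin s).symm i : (K ⊗[A] B) ⧸ J) = bas' i := by
      simp [bas', bas]
    rw [this]
    funext j
    rw [Module.Basis.equivFun_self]
    simp [Pi.single_apply, eq_comm]

/-- A finite set of isolated points of a fibre is cut out by a part. -/
theorem exists_part_of_isolated [Algebra.FiniteType A B] (p : PrimeSpectrum A) (Z : Set (PrimeSpectrum B))
    (hZ : Z.Finite) (hp : ∀ z ∈ Z, PrimeSpectrum.comap (algebraMap A B) z = p)
    (hiso : ∀ z ∈ Z, ∃ O : Set (PrimeSpectrum B), IsOpen O ∧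
      O ∩ PrimeSpectrum.comap (algebraMap A B) ⁻¹' {p} = {z}) :
    ∃ (n : ℕ) (b : Fin n → B) (e₀ : p.asIdeal.ResidueField ⊗[A] B), IsPart b p.asIdeal.ResidueField e₀ ∧
      ∀ x : PrimeSpectrum (p.asIdeal.ResidueField ⊗[A] B), e₀ ∉ x.asIdeal ↔
        PrimeSpectrum.comap (Algebra.TensorProduct.includeRight (R := A) (A := p.asIdeal.ResidueField) :
          B →ₐ[A] p.asIdeal.ResidueField ⊗[A] B).toRingHom x ∈ Z := by
  let K := p.asIdeal.ResidueField
  have : IsJacobsonRing (K ⊗[A] B) := isJacobsonRing_of_finiteType (A := K)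
  let ψ := PrimeSpectrum.preimageHomeomorphFiber A B p
  have hψ : ∀ x, (ψ.symm x).1 = PrimeSpectrum.comap
      (Algebra.TensorProduct.includeRight (R := A) (A := K) : B →ₐ[A] K ⊗[A] B).toRingHom x := fun x => rfl
  let Z' : Set (PrimeSpectrum (K ⊗[A] B)) := (fun x => (ψ.symm x).1) ⁻¹' Z
  have hZ' : Z'.Finite := hZ.preimage (Subtype.val_injective.comp ψ.symm.injective).injOn
  have hopen : ∀ x ∈ Z', IsOpen ({x} : Set (PrimeSpectrum (K ⊗[A] B))) := by
    intro x hx
    obtain ⟨O, hO, hO'⟩ := hiso _ hx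
    have : ({x} : Set (PrimeSpectrum (K ⊗[A] B))) = (fun y => (ψ.symm y).1) ⁻¹' O := by
      ext y
      constructor
      · rintro rfl; exact (Set.ext_iff.1 hO' _).2 rfl |>.1
      · intro hy
        exact ψ.symm.injective (Subtype.ext ((Set.ext_iff.1 hO' _).1 ⟨hy, (ψ.symm y).2⟩))
    rw [this]
    exact hO.preimage (continuous_subtype_val.comp ψ.symm.continuous)
  have hclopen : IsClopen Z' := by
    refine ⟨Set.biUnion_of_singleton Z' ▸ hZ'.isClosed_biUnion fun x hx => ?_,
      Set.biUnion_of_singleton Z' ▸ isOpen_biUnion hopen⟩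
    exact isClosed_singleton_of_isLocallyClosed_singleton (hopen x hx).isLocallyClosed
  obtain ⟨e₀, he₀, he₀Z⟩ := PrimeSpectrum.exists_idempotent_basicOpen_eq_of_isClopen hclopen
  have : Finite (PrimeSpectrum ((K ⊗[A] B) ⧸ Ideal.span {1 - e₀})) := by
    have := hZ'.to_subtype
    refine Finite.of_injective (fun y => (⟨PrimeSpectrum.comap (Ideal.Quotient.mk _) y, ?_⟩ : Z'))
      fun y y' h => PrimeSpectrum.comap_injective_of_surjective _ Ideal.Quotient.mk_surjective
        (congrArg Subtype.val h)
    rw [he₀Z]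
    intro hy
    have h1 : Ideal.Quotient.mk (Ideal.span {1 - e₀}) (1 - e₀) = 0 :=
      Ideal.Quotient.eq_zero_iff_mem.2 (Ideal.mem_span_singleton_self _)
    refine y.isPrime.ne_top ((Ideal.eq_top_iff_one _).2 ?_)
    rw [map_sub, map_one, sub_eq_zero] at h1
    rw [h1]; exact hy
  have : Module.Finite K ((K ⊗[A] B) ⧸ Ideal.span {1 - e₀}) := module_finite_of_finite_spectrum
  obtain ⟨n, b, hb⟩ := exists_isPart he₀
  exact ⟨n, b, e₀, hb, fun x => (Set.ext_iff.1 he₀Z x).symm.trans (by rw [← hψ]; rfl)⟩

end Groth.Agent.GrpdLib.FinOpen
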