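import Groth.Agent.GrpdLib.Basic
import Groth.Agent.Wt.EtNbhd

/-!
# Loops at a point: the identity and the points of the stabilizer
-/

universe u

set_option maxHeartbeats 400000

open CategoryTheory CategoryTheory.Limits AlgebraicGeometry

namespace Groth.Agent.GrpdLib

variable {S : Scheme.{u}} (G : Grpd.GroupoidScheme S)

lemma e_comp_i : G.e ≫ G.i = G.e := by
  have h := comp_i G G.e (by simp)
  rw [show (G.e ≫ G.t) ≫ G.e = G.e by simp] at h
  exact ((e_comp G (G.e ≫ G.i) (𝟙 _) (by simp)).symm.trans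
    (comp_congr G _ _ (Category.id_comp _) rfl)).trans h

lemma i_e_apply (u : G.U) : G.i (G.e u) = G.e u :=
  congrArg (fun f : G.U ⟶ G.R => f u) (e_comp_i G)

/-- A field valued point of a scheme, at a given point. -/
lemma exists_field_point {X : Scheme.{u}} (x : X) :
    ∃ (k : Type u) (_ : Field k) (a : Spec (CommRingCat.of k) ⟶ X), ∀ z, a z = x :=
  ⟨X.residueField x, inferInstance, X.fromSpecResidueField x, fun z => X.fromSpecResidueField_apply x z⟩

/-- A composable pair of identities composes to an identity. -/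
lemma c_mem_e (u : G.U) (w : ↥(pullback G.s G.t)) (h₁ : pullback.fst G.s G.t w = G.e u)
    (h₂ : pullback.snd G.s G.t w = G.e u) : G.c w = G.e u := by
  obtain ⟨k, _, ξ, hξ⟩ := exists_field_point w
  let a := ξ ≫ pullback.fst G.s G.t
  let b := ξ ≫ pullback.snd G.s G.t
  have hab : a ≫ G.s = b ≫ G.t := by simp [a, b, pullback.condition]
  have hsurj : Function.Surjective (G.s.residueFieldMap (G.e u)) := by
    have : IsIso (G.e ≫ G.s) := by rw [G.e_s]; infer_instance
    have h := ConcreteCategory.bijective_of_isIso (Scheme.Hom.residueFieldMap (G.e ≫ G.s) u)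
    rw [Scheme.residueFieldMap_comp] at h
    exact Function.Surjective.of_comp_left h.2 (RingHom.injective (G.e.residueFieldMap u).hom)
  have ha : a = (a ≫ G.s) ≫ G.e := by
    have key : ∀ z, a z = G.e u := fun z => by rw [Scheme.Hom.comp_apply, hξ, h₁]
    refine Wt.EtNbhd.eq_of_comp_eq G.s (G.e u) hsurj (key _) ?_ (by simp)
    have key' : ∀ z, ((a ≫ G.s) ≫ G.e) z = G.e u := fun z => by
      rw [Scheme.Hom.comp_apply, Scheme.Hom.comp_apply, key, s_e_apply]
    exact key' _
  obtain ⟨z⟩ : Nonempty ↥(Spec (CommRingCat.of k)) := ⟨(⟨⊥, Ideal.isPrime_bot⟩ : PrimeSpectrum k)⟩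
  have hc : ξ ≫ G.c = b := by
    rw [show ξ = pullback.lift a b hab from
      pullback.hom_ext (pullback.lift_fst a b hab).symm (pullback.lift_snd a b hab).symm]
    exact (comp_congr G _ _ ha rfl).trans (e_comp G b (a ≫ G.s) (by simp [hab]))
  rw [← hξ z, ← Scheme.Hom.comp_apply, hc, Scheme.Hom.comp_apply, hξ, h₂]

/-- The arrows underlying the stabilizer at a point. -/
def stabLoops (u : G.U) : Set G.R :=
  (pullback.fst G.j G.diag : G.stabilizer ⟶ G.R) '' {g : ↥G.stabilizer | G.stabilizerToU g = u}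

lemma mem_stabLoops {T : Scheme.{u}} (a : T ⟶ G.R) (h : a ≫ G.t = a ≫ G.s) (x : T) {u : G.U}
    (hu : G.s (a x) = u) : a x ∈ stabLoops G u := by
  let l : T ⟶ G.stabilizer := pullback.lift a (a ≫ G.s) (by apply pullback.hom_ext <;> simp [h])
  refine ⟨l x, ?_, ?_⟩
  · rw [← hu, ← Scheme.Hom.comp_apply a G.s x]
    exact congrArg (fun f : T ⟶ G.U => f x) (pullback.lift_snd a (a ≫ G.s) _)
  · exact congrArg (fun f : T ⟶ G.R => f x) (pullback.lift_fst a (a ≫ G.s) _)

lemma stabLoops_s {u : G.U} {z : G.R} (hz : z ∈ stabLoops G u) : G.s z = u := by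
  obtain ⟨g, hg, rfl⟩ := hz
  exact (congrArg (fun f : G.stabilizer ⟶ G.U => f g) (stabilizer_fst_s G)).trans hg

lemma stabLoops_t {u : G.U} {z : G.R} (hz : z ∈ stabLoops G u) : G.t z = u := by
  obtain ⟨g, hg, rfl⟩ := hz
  exact (congrArg (fun f : G.stabilizer ⟶ G.U => f g) (stabilizer_fst_t G)).trans hg

lemma e_mem_stabLoops (u : G.U) : G.e u ∈ stabLoops G u :=
  mem_stabLoops G G.e (by simp) u (s_e_apply G u)

lemma i_mem_stabLoops {u : G.U} {z : G.R} (hz : z ∈ stabLoops G u) : G.i z ∈ stabLoops G u := by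
  have ht := stabLoops_t G hz
  obtain ⟨g, hg, rfl⟩ := hz
  rw [show G.i (pullback.fst G.j G.diag g) = (pullback.fst G.j G.diag ≫ G.i) g from rfl]
  refine mem_stabLoops G _ ?_ g ?_
  · rw [Category.assoc, Category.assoc, i_comp_s, i_comp_t, stabilizer_fst_s, stabilizer_fst_t]
  · exact (s_i_apply G _).trans ht

/-- A field valued point at a stabilizer point is a loop. -/
lemma loop_of_mem_stabLoops [IsAffine G.U] {k : Type u} [Field k] (a : Spec (CommRingCat.of k) ⟶ G.R)
    (x : Spec (CommRingCat.of k)) {u : G.U} (h : a x ∈ stabLoops G u) : a ≫ G.t = a ≫ G.s := by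
  obtain ⟨g, -, hg⟩ := h
  obtain ⟨φ, hφ⟩ : ∃ φ : G.R.residueField (a x) ⟶ CommRingCat.of k,
      a = Spec.map φ ≫ G.R.fromSpecResidueField (a x) := by
    obtain rfl : x = IsLocalRing.closedPoint k := Subsingleton.elim _ _
    exact ⟨_, ((G.R.SpecToEquivOfField k).symm_apply_apply a).symm⟩
  suffices h : G.R.fromSpecResidueField (a x) ≫ G.t = G.R.fromSpecResidueField (a x) ≫ G.s by
    rw [hφ, Category.assoc, Category.assoc, h]
  have key : ∀ z : G.R, pullback.fst G.j G.diag g = z →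
      G.R.fromSpecResidueField z ≫ G.t = G.R.fromSpecResidueField z ≫ G.s := by
    rintro z rfl
    let ψ := (pullback.fst G.j G.diag).residueFieldMap g
    have h0 : Spec.map ψ ≫ (G.R.fromSpecResidueField _ ≫ G.t) =
        Spec.map ψ ≫ (G.R.fromSpecResidueField _ ≫ G.s) := by
      rw [← Category.assoc, ← Category.assoc, Scheme.Hom.SpecMap_residueFieldMap_fromSpecResidueField,
        Category.assoc, Category.assoc, stabilizer_fst_s, stabilizer_fst_t]
    rw [← cancel_mono G.U.isoSpec.hom]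
    obtain ⟨p, hp⟩ := Spec.map_surjective ((G.R.fromSpecResidueField _ ≫ G.t) ≫ G.U.isoSpec.hom)
    obtain ⟨q, hq⟩ := Spec.map_surjective ((G.R.fromSpecResidueField _ ≫ G.s) ≫ G.U.isoSpec.hom)
    rw [← hp, ← hq]
    congr 1
    have h1 := congrArg (· ≫ G.U.isoSpec.hom) h0
    simp only [Category.assoc] at hp hq h1
    rw [← hp, ← hq, ← Spec.map_comp, ← Spec.map_comp, Spec.map_inj] at h1
    ext y
    exact ψ.hom.injective congr($(h1).hom y)
  exact key _ hg

lemma c_mem_stabLoops [IsAffine G.U] {u : G.U} (w : ↥(pullback G.s G.t))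
    (h₁ : pullback.fst G.s G.t w ∈ stabLoops G u) (h₂ : pullback.snd G.s G.t w ∈ stabLoops G u) :
    G.c w ∈ stabLoops G u := by
  obtain ⟨k, _, ξ, hξ⟩ := exists_field_point w
  obtain ⟨z⟩ : Nonempty ↥(Spec (CommRingCat.of k)) := ⟨(⟨⊥, Ideal.isPrime_bot⟩ : PrimeSpectrum k)⟩
  have ha := loop_of_mem_stabLoops G (ξ ≫ pullback.fst G.s G.t) z
    (by rw [Scheme.Hom.comp_apply, hξ]; exact h₁)
  have hb := loop_of_mem_stabLoops G (ξ ≫ pullback.snd G.s G.t) z
    (by rw [Scheme.Hom.comp_apply, hξ]; exact h₂)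
  have := mem_stabLoops G (ξ ≫ G.c) (u := u) (by
    simp only [Category.assoc, c_s, c_t] at ha hb ⊢
    rw [ha, pullback.condition]; exact hb) z (by
      rw [Scheme.Hom.comp_apply, hξ, ← Scheme.Hom.comp_apply, c_s, Scheme.Hom.comp_apply]
      exact stabLoops_s G h₂)
  rwa [Scheme.Hom.comp_apply, hξ] at this

end Groth.Agent.GrpdLib
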