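import Groth.Agent.GrpdLib.FinOpenDat
import Mathlib.RingTheory.FinitePresentation

/-!
# The affine scheme of algebra quotients with a chosen basis

If `B` is finitely presented over `A`, data are represented by a finitely presented `A`-algebra.
-/

set_option autoImplicit false
set_option linter.style.haveILetI false
set_option maxHeartbeats 400000
set_option backward.isDefEq.respectTransparency false
set_option backward.isDefEq.respectTransparency.types false

universe u

open TensorProduct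
open scoped Matrix

namespace Groth.Agent.GrpdLib.FinOpen

variable {A : Type u} [CommRing A] {B : Type u} [CommRing B] [Algebra A B]
variable {n m : ℕ}

section Poly

variable {T : Type u} [CommRing T] [Algebra A T]

/-- The subalgebra generated by pairwise commuting matrices is commutative. -/
lemma exists_eval {M : Fin m → Matrix (Fin n) (Fin n) T} (hM : ∀ k k', M k * M k' = M k' * M k) :
    ∃ F : MvPolynomial (Fin m) A →ₐ[A] Matrix (Fin n) (Fin n) T, ∀ k, F (MvPolynomial.X k) = M k := by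
  have hc : ∀ x ∈ Set.range M, ∀ y ∈ Set.range M, x * y = y * x := by
    rintro _ ⟨k, rfl⟩ _ ⟨k', rfl⟩; exact hM k k'
  let : CommRing (Algebra.adjoin A (Set.range M)) := Algebra.adjoinCommRingOfComm A hc
  exact ⟨(Algebra.adjoin A (Set.range M)).val.comp
    (MvPolynomial.aeval fun k => ⟨M k, Algebra.subset_adjoin ⟨k, rfl⟩⟩), fun k => by simp⟩

end Poly

/-- Representability of the functor of data. -/
theorem exists_rep [Algebra.FinitePresentation A B] (b : Fin n → B) :
    ∃ (C : Type u) (_ : CommRing C) (_ : Algebra A C), Algebra.FinitePresentation A C ∧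
      ∃ D₀ : Dat A b C, ∀ (T : Type u) [CommRing T] [Algebra A T] (D : Dat A b T),
        ∃! φ : C →ₐ[A] T, D₀.map φ = D := by
  obtain ⟨m, π, hπ, hker⟩ := Algebra.FinitePresentation.out (R := A) (A := B)
  obtain ⟨gen, hgen⟩ := hker
  choose p hp using fun i => hπ (b i)
  let ι := (Fin m × Fin n × Fin n) ⊕ Fin n
  let C₀ := MvPolynomial ι A
  let M₀ : Fin m → Matrix (Fin n) (Fin n) C₀ := fun k => Matrix.of fun i j => MvPolynomial.X (.inl (k, i, j))
  let v₀ : Fin n → C₀ := fun i => MvPolynomial.X (.inr i)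
  let I₁ : Ideal C₀ := Ideal.span (Set.range fun x : (Fin m × Fin m) × (Fin n × Fin n) =>
    (M₀ x.1.1 * M₀ x.1.2 - M₀ x.1.2 * M₀ x.1.1) x.2.1 x.2.2)
  let C₁ := C₀ ⧸ I₁
  have hfp₁ : Algebra.FinitePresentation A C₁ :=
    Algebra.FinitePresentation.quotient (Submodule.fg_span (Set.finite_range _))
  let q₁ : C₀ →ₐ[A] C₁ := Ideal.Quotient.mkₐ A I₁
  let M₁ : Fin m → Matrix (Fin n) (Fin n) C₁ := fun k => q₁.mapMatrix (M₀ k)
  have hM₁ : ∀ k k', M₁ k * M₁ k' = M₁ k' * M₁ k := fun k k' => by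
    show q₁.mapMatrix (M₀ k) * q₁.mapMatrix (M₀ k') = q₁.mapMatrix (M₀ k') * q₁.mapMatrix (M₀ k)
    rw [← sub_eq_zero, ← map_mul q₁.mapMatrix, ← map_mul q₁.mapMatrix, ← map_sub q₁.mapMatrix]
    refine Matrix.ext fun i j => ?_
    exact Ideal.Quotient.eq_zero_iff_mem.2 (Ideal.subset_span ⟨((k, k'), (i, j)), rfl⟩)
  obtain ⟨F₁, hF₁⟩ := exists_eval (A := A) hM₁
  let I₂ : Ideal C₁ := Ideal.span
    ((Set.range fun x : gen × (Fin n × Fin n) => F₁ x.1 x.2.1 x.2.2) ∪
      (Set.range fun x : Fin n × Fin n => (F₁ (p x.1) *ᵥ (q₁ ∘ v₀)) x.2 - (Pi.single x.1 (1 : C₁) : Fin n → C₁) x.2))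
  let C₂ := C₁ ⧸ I₂
  have hfp₂ : Algebra.FinitePresentation A C₂ := Algebra.FinitePresentation.quotient
    (Submodule.fg_span ((Set.finite_range _).union (Set.finite_range _)))
  let q₂ : C₁ →ₐ[A] C₂ := Ideal.Quotient.mkₐ A I₂
  let F₂ : MvPolynomial (Fin m) A →ₐ[A] Matrix (Fin n) (Fin n) C₂ := q₂.mapMatrix.comp F₁
  have hF₂ : ∀ f, π f = 0 → F₂ f = 0 := by
    intro f hf
    have hf' : f ∈ Ideal.span (gen : Set (MvPolynomial (Fin m) A)) := hgen ▸ (RingHom.mem_ker).2 hf
    induction hf' using Submodule.span_induction with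
    | mem g hg =>
      refine Matrix.ext fun i j => ?_
      exact Ideal.Quotient.eq_zero_iff_mem.2 (Ideal.subset_span (.inl ⟨(⟨g, hg⟩, (i, j)), rfl⟩))
    | zero => exact map_zero F₂
    | add x y hx hy ihx ihy =>
      rw [map_add, ihx (RingHom.mem_ker.1 (hgen ▸ hx)), ihy (RingHom.mem_ker.1 (hgen ▸ hy)), add_zero]
    | smul r x hx ih => rw [smul_eq_mul, map_mul, ih (RingHom.mem_ker.1 (hgen ▸ hx))]; exact Matrix.mul_zero (F₂ r)
  choose sec hsec using hπ
  have hrel : ∀ f g, π f = π g → F₂ f = F₂ g := fun f g h => by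
    rw [← sub_eq_zero, ← map_sub]; exact hF₂ _ (by rw [map_sub, h, sub_self])
  let rep : B →ₐ[A] Matrix (Fin n) (Fin n) C₂ :=
    { toFun := fun y => F₂ (sec y)
      map_one' := (hrel _ 1 ((hsec 1).trans (map_one π).symm)).trans F₂.toRingHom.map_one
      map_mul' := fun y z => by rw [hrel _ (sec y * sec z) (by simp [hsec]), map_mul]
      map_zero' := (hrel _ 0 ((hsec 0).trans (map_zero π).symm)).trans F₂.toRingHom.map_zero
      map_add' := fun y z => by rw [hrel _ (sec y + sec z) (by simp [hsec]), map_add]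
      commutes' := fun a => by rw [hrel _ (algebraMap A _ a) (by rw [hsec, AlgHom.commutes]), AlgHom.commutes] }
  have hrepπ : ∀ f, rep (π f) = F₂ f := fun f => hrel _ _ (hsec _)
  have hbasis : ∀ i, rep (b i) *ᵥ (q₂ ∘ q₁ ∘ v₀) = Pi.single i 1 := fun i => by
    funext j
    rw [← hp i, hrepπ]
    have h : q₂ ((F₁ (p i) *ᵥ (q₁ ∘ v₀)) j - (Pi.single i (1 : C₁) : Fin n → C₁) j) = 0 :=
      Ideal.Quotient.eq_zero_iff_mem.2 (Ideal.subset_span (.inr ⟨(i, j), rfl⟩))
    rw [map_sub, sub_eq_zero] at h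
    simp only [Matrix.mulVec, dotProduct, map_sum, map_mul] at h
    simp only [F₂, Matrix.mulVec, dotProduct, AlgHom.comp_apply, AlgHom.mapMatrix_apply, Matrix.map_apply,
      Function.comp_apply]
    refine h.trans ?_
    by_cases hij : j = i
    · subst hij; simp
    · simp [hij]
  refine ⟨C₂, inferInstance, inferInstance, hfp₂, ⟨rep, q₂ ∘ q₁ ∘ v₀, hbasis⟩, fun T _ _ D => ?_⟩
  let φ₀ : C₀ →ₐ[A] T := MvPolynomial.aeval
    (Sum.elim (fun x : Fin m × Fin n × Fin n => D.rep (π (MvPolynomial.X x.1)) x.2.1 x.2.2) D.vec)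
  have hX : ∀ x : ι, φ₀ (MvPolynomial.X x) =
      Sum.elim (fun x : Fin m × Fin n × Fin n => D.rep (π (MvPolynomial.X x.1)) x.2.1 x.2.2) D.vec x :=
    fun x => MvPolynomial.aeval_X _ x
  have hM₀ : ∀ k, φ₀.mapMatrix (M₀ k) = D.rep (π (MvPolynomial.X k)) := fun k =>
    Matrix.ext fun i j => hX (.inl (k, i, j))
  have h₁ : ∀ x ∈ I₁, φ₀ x = 0 := by
    suffices I₁ ≤ RingHom.ker φ₀ from this
    rw [Ideal.span_le]
    rintro _ ⟨⟨⟨k, k'⟩, i, j⟩, rfl⟩
    show φ₀ _ = 0
    have := congrFun (congrFun (congrArg (fun N : Matrix (Fin n) (Fin n) T => (N : Fin n → Fin n → T))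
      (show φ₀.mapMatrix (M₀ k * M₀ k' - M₀ k' * M₀ k) = 0 by
        rw [map_sub, map_mul, map_mul, hM₀, hM₀, ← map_mul, ← map_mul D.rep, ← map_mul, ← map_mul π,
          mul_comm, sub_self])) i) j
    exact this
  let φ₁ : C₁ →ₐ[A] T := Ideal.Quotient.liftₐ I₁ φ₀ h₁
  have hM₁' : ∀ k, φ₁.mapMatrix (M₁ k) = D.rep (π (MvPolynomial.X k)) := fun k =>
    Matrix.ext fun i j => congrFun (congrFun (congrArg
      (fun N : Matrix (Fin n) (Fin n) T => (N : Fin n → Fin n → T)) (hM₀ k)) i) j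
  have hF : ∀ f, φ₁.mapMatrix (F₁ f) = D.rep (π f) := by
    intro f
    induction f using MvPolynomial.induction_on with
    | C a =>
      rw [← MvPolynomial.algebraMap_eq, AlgHom.commutes, AlgHom.commutes, AlgHom.commutes, AlgHom.commutes]
    | add f g hf hg => simp only [map_add, hf, hg]
    | mul_X f k hf =>
      rw [map_mul, map_mul, hf, hF₁, map_mul, map_mul]
      rw [hM₁']
  have hv : φ₁ ∘ q₁ ∘ v₀ = D.vec := funext fun i => by
    show φ₀ (v₀ i) = _
    exact hX (.inr i)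
  have h₂ : ∀ x ∈ I₂, φ₁ x = 0 := by
    suffices I₂ ≤ RingHom.ker φ₁ from this
    rw [Ideal.span_le]
    rintro _ (⟨⟨⟨g, hg⟩, i, j⟩, rfl⟩ | ⟨⟨i, j⟩, rfl⟩)
    · show φ₁.mapMatrix (F₁ g) i j = 0
      rw [hF, show π g = 0 from RingHom.mem_ker.1 (hgen ▸ Ideal.subset_span hg), map_zero]
      rfl
    · show φ₁ _ = 0
      rw [map_sub, sub_eq_zero]
      have hb := congrFun (D.basis i) j
      rw [← hp i, ← hF, ← hv] at hb
      simp only [Matrix.mulVec, dotProduct, AlgHom.mapMatrix_apply, Matrix.map_apply,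
        Function.comp_apply] at hb
      simp only [Matrix.mulVec, dotProduct, map_sum, map_mul, Function.comp_apply, hb]
      by_cases hij : j = i
      · subst hij; simp
      · simp [hij]
  refine ⟨Ideal.Quotient.liftₐ I₂ φ₁ h₂, ?_, fun ψ hψ => ?_⟩
  · obtain ⟨Drep, Dvec, Dbasis⟩ := D
    simp only [Dat.map, Dat.mk.injEq]
    refine ⟨AlgHom.ext fun y => ?_, hv⟩
    show φ₁.mapMatrix (F₁ (sec y)) = Drep y
    exact (hF _).trans (congrArg Drep (hsec y))
  · refine Ideal.Quotient.algHom_ext _ (Ideal.Quotient.algHom_ext _ (MvPolynomial.algHom_ext ?_))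
    rintro (⟨k, i, j⟩ | i)
    · have h := congrFun (congrFun (congrArg
        (fun E : Dat A b T => ((E.rep (π (MvPolynomial.X k))) : Fin n → Fin n → T)) hψ) i) j
      have h' : ψ (F₂ (MvPolynomial.X k) i j) = D.rep (π (MvPolynomial.X k)) i j := by
        rw [← hrepπ]; exact h
      simp only [F₂, AlgHom.comp_apply, hF₁] at h'
      refine h'.trans ?_
      show _ = φ₀ _
      exact (hX (.inl (k, i, j))).symm
    · refine (congrFun (congrArg Dat.vec hψ) i).trans ?_
      show _ = φ₀ _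
      exact (hX (.inr i)).symm

end Groth.Agent.GrpdLib.FinOpen
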