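import Groth.Agent.GrpdLib.RestrictMono

/-!
# Restriction of a groupoid scheme along an arbitrary morphism
-/

universe u

set_option maxHeartbeats 400000

open CategoryTheory CategoryTheory.Limits AlgebraicGeometry

namespace Groth.Agent.GrpdLib

variable {S : Scheme.{u}} (G : Grpd.GroupoidScheme S) {U' : Scheme.{u}} (u : U' ⟶ G.U)

lemma rm_ext₃ {T : Scheme.{u}} {f g : T ⟶ rmR G u} (hι : f ≫ rmι G u = g ≫ rmι G u)
    (hT : f ≫ rmT G u = g ≫ rmT G u) (hS : f ≫ rmS G u = g ≫ rmS G u) : f = g := by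
  refine pullback.hom_ext (pullback.hom_ext ?_ ?_) hS
  · simpa only [Category.assoc, rmι] using hι
  · simpa only [Category.assoc, rmT] using hT

lemma rm_ι_comp {T : Scheme.{u}} {α β : T ⟶ rmR G u} (h : α ≫ rmS G u = β ≫ rmT G u) :
    (α ≫ rmι G u) ≫ G.s = (β ≫ rmι G u) ≫ G.t := by
  rw [Category.assoc, Category.assoc, rmι_s, rmι_t, reassoc_of% h]

/-- Composition. -/
noncomputable def mpC : pullback (rmS G u) (rmT G u) ⟶ rmR G u :=
  rmLift G u (comp G (pullback.fst _ _ ≫ rmι G u) (pullback.snd _ _ ≫ rmι G u)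
      (rm_ι_comp G u pullback.condition))
    (pullback.fst _ _ ≫ rmT G u) (pullback.snd _ _ ≫ rmS G u)
    (by rw [comp_t, Category.assoc, rmι_t, Category.assoc])
    (by rw [comp_s, Category.assoc, rmι_s, Category.assoc])

lemma lift_mpC_ι {T : Scheme.{u}} (α β : T ⟶ rmR G u) (h : α ≫ rmS G u = β ≫ rmT G u) :
    (pullback.lift α β h ≫ mpC G u) ≫ rmι G u =
      comp G (α ≫ rmι G u) (β ≫ rmι G u) (rm_ι_comp G u h) := by
  rw [Category.assoc, mpC, rmLift_ι, naturality]
  exact comp_congr G _ _ (pullback.lift_fst_assoc _ _ _ _) (pullback.lift_snd_assoc _ _ _ _)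

lemma lift_mpC_T {T : Scheme.{u}} (α β : T ⟶ rmR G u) (h : α ≫ rmS G u = β ≫ rmT G u) :
    (pullback.lift α β h ≫ mpC G u) ≫ rmT G u = α ≫ rmT G u := by
  rw [Category.assoc, mpC, rmLift_T, pullback.lift_fst_assoc]

lemma lift_mpC_S {T : Scheme.{u}} (α β : T ⟶ rmR G u) (h : α ≫ rmS G u = β ≫ rmT G u) :
    (pullback.lift α β h ≫ mpC G u) ≫ rmS G u = β ≫ rmS G u := by
  rw [Category.assoc, mpC, rmLift_S, pullback.lift_snd_assoc]

/-- The restriction along `u`. -/
noncomputable def restrictMap : Grpd.GroupoidScheme S where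
  U := U'
  R := rmR G u
  pU := u ≫ G.pU
  pR := rmι G u ≫ G.pR
  s := rmS G u
  t := rmT G u
  e := rmLift G u (u ≫ G.e) (𝟙 _) (𝟙 _) (by simp) (by simp)
  i := rmLift G u (rmι G u ≫ G.i) (rmS G u) (rmT G u) (by simp [rmι_s]) (by simp [rmι_t])
  c := mpC G u
  s_over := by rw [← Category.assoc, ← rmι_s, Category.assoc, G.s_over]
  t_over := by rw [← Category.assoc, ← rmι_t, Category.assoc, G.t_over]
  comp_s := fun α β h => lift_mpC_S G u α β h
  comp_t := fun α β h => lift_mpC_T G u α β h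
  assoc := fun α β γ h₁ h₂ => by
    refine rm_ext₃ G u ((lift_mpC_ι G u _ _ _).trans (Eq.trans ?_ (lift_mpC_ι G u _ _ _).symm))
      ((lift_mpC_T G u _ _ _).trans ((lift_mpC_T G u α β h₁).trans (lift_mpC_T G u _ _ _).symm))
      ((lift_mpC_S G u _ _ _).trans ((lift_mpC_S G u β γ h₂).symm.trans (lift_mpC_S G u _ _ _).symm))
    exact (comp_congr G _ ((comp_s G _ _ _).trans (rm_ι_comp G u h₂)) (lift_mpC_ι G u α β h₁) rfl).trans
      ((comp_assoc G _ _ _ (rm_ι_comp G u h₁) (rm_ι_comp G u h₂)).trans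
        (comp_congr G _ _ rfl (lift_mpC_ι G u β γ h₂).symm))
  e_s := rmLift_S G u _ _ _ _ _
  e_t := rmLift_T G u _ _ _ _ _
  comp_e := fun α => by
    refine rm_ext₃ G u ((lift_mpC_ι G u _ _ _).trans ?_) (lift_mpC_T G u _ _ _)
      ((lift_mpC_S G u _ _ _).trans (by simp))
    exact (comp_congr G _ (by simp [rmι_s]) rfl (by simp)).trans
      (comp_e G (α ≫ rmι G u) (α ≫ rmS G u ≫ u) (by simp [rmι_s]))
  e_comp := fun α => by
    refine rm_ext₃ G u ((lift_mpC_ι G u _ _ _).trans ?_) ((lift_mpC_T G u _ _ _).trans (by simp))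
      (lift_mpC_S G u _ _ _)
    exact (comp_congr G _ (by simp [rmι_t]) (by simp) rfl).trans
      (e_comp G (α ≫ rmι G u) (α ≫ rmT G u ≫ u) (by simp [rmι_t]))
  i_s := rmLift_S G u _ _ _ _ _
  i_t := rmLift_T G u _ _ _ _ _
  comp_i := fun α => by
    refine rm_ext₃ G u ((lift_mpC_ι G u _ _ _).trans ?_) ((lift_mpC_T G u _ _ _).trans (by simp))
      ((lift_mpC_S G u _ _ _).trans (by simp))
    refine (comp_congr G _ (by simp) rfl (by simp)).trans
      ((comp_i G (α ≫ rmι G u) (by simp)).trans ?_)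
    rw [Category.assoc α, rmι_t]; simp
  i_comp := fun α => by
    refine rm_ext₃ G u ((lift_mpC_ι G u _ _ _).trans ?_) ((lift_mpC_T G u _ _ _).trans (by simp))
      ((lift_mpC_S G u _ _ _).trans (by simp))
    refine (comp_congr G _ (by simp) (by simp) rfl).trans
      ((i_comp G (α ≫ rmι G u) (by simp)).trans ?_)
    rw [Category.assoc α, rmι_s]; simp

/-- The morphism from the restriction. -/
noncomputable def restrictMapHom : Grpd.GroupoidScheme.Hom (restrictMap G u) G where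
  fU := u
  fR := rmι G u
  fU_over := rfl
  comm_s := rmι_s G u
  comm_t := rmι_t G u
  comm_c := fun α β h => lift_mpC_ι G u α β h

lemma isPullback_restrictMap : IsPullback (restrictMapHom G u).fR (restrictMap G u).j G.j
    (pullback.map (restrictMap G u).pU (restrictMap G u).pU G.pU G.pU (restrictMapHom G u).fU
      (restrictMapHom G u).fU (𝟙 S)
      ((Category.comp_id _).trans (restrictMapHom G u).fU_over.symm)
      ((Category.comp_id _).trans (restrictMapHom G u).fU_over.symm)) := by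
  let H := restrictMap G u
  let φ := restrictMapHom G u
  let m := pullback.map H.pU H.pU G.pU G.pU φ.fU φ.fU (𝟙 S)
      ((Category.comp_id _).trans φ.fU_over.symm) ((Category.comp_id _).trans φ.fU_over.symm)
  have hm₁ : m ≫ pullback.fst G.pU G.pU = pullback.fst H.pU H.pU ≫ φ.fU := pullback.lift_fst _ _ _
  have hm₂ : m ≫ pullback.snd G.pU G.pU = pullback.snd H.pU H.pU ≫ φ.fU := pullback.lift_snd _ _ _
  have w : φ.fR ≫ G.j = H.j ≫ m := by
    apply pullback.hom_ext
    · rw [Category.assoc, Category.assoc, hm₁, j_fst, j_fst_assoc]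
      exact φ.comm_t
    · rw [Category.assoc, Category.assoc, hm₂, j_snd, j_snd_assoc]
      exact φ.comm_s
  have h₁ : ∀ c : PullbackCone G.j m, c.fst ≫ G.t = (c.snd ≫ pullback.fst H.pU H.pU) ≫ φ.fU := fun c => by
    rw [Category.assoc, ← hm₁, ← Category.assoc, ← c.condition, Category.assoc, j_fst]
  have h₂ : ∀ c : PullbackCone G.j m, c.fst ≫ G.s = (c.snd ≫ pullback.snd H.pU H.pU) ≫ φ.fU := fun c => by
    rw [Category.assoc, ← hm₂, ← Category.assoc, ← c.condition, Category.assoc, j_snd]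
  refine ⟨⟨w⟩, ⟨PullbackCone.IsLimit.mk w (fun c => rmLift G u c.fst _ _ (h₁ c) (h₂ c)) ?_ ?_ ?_⟩⟩
  · exact fun c => rmLift_ι G u _ _ _ (h₁ c) (h₂ c)
  · intro c
    apply pullback.hom_ext
    · refine (Category.assoc _ _ _).trans ((congrArg (_ ≫ ·) (j_fst H)).trans ?_)
      exact rmLift_T G u _ _ _ (h₁ c) (h₂ c)
    · refine (Category.assoc _ _ _).trans ((congrArg (_ ≫ ·) (j_snd H)).trans ?_)
      exact rmLift_S G u _ _ _ (h₁ c) (h₂ c)
  · intro c f e₁ e₂
    refine rm_ext₃ G u (e₁.trans (rmLift_ι G u _ _ _ (h₁ c) (h₂ c)).symm) ?_ ?_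
    · refine Eq.trans ?_ (rmLift_T G u _ _ _ (h₁ c) (h₂ c)).symm
      refine Eq.trans ?_ (congrArg (· ≫ pullback.fst H.pU H.pU) e₂)
      exact (congrArg (f ≫ ·) (j_fst H).symm).trans (Category.assoc _ _ _).symm
    · refine Eq.trans ?_ (rmLift_S G u _ _ _ (h₁ c) (h₂ c)).symm
      refine Eq.trans ?_ (congrArg (· ≫ pullback.snd H.pU H.pU) e₂)
      exact (congrArg (f ≫ ·) (j_snd H).symm).trans (Category.assoc _ _ _).symm

end Groth.Agent.GrpdLib
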