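import Groth.Agent.GrpdLib.SubGrpd
import Groth.Agent.GrpdLib.InvAffine
import Groth.Agent.GrpdLib.RestrictMap

/-!
# Trimming a finite open part of a groupoid to a subgroupoid over an affine neighbourhood
-/

universe u

set_option maxHeartbeats 800000
set_option backward.isDefEq.respectTransparency false
set_option backward.isDefEq.respectTransparency.types false

open CategoryTheory CategoryTheory.Limits AlgebraicGeometry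

namespace Groth.Agent.GrpdLib

/-- Removing the image of a closed set under a closed map to an open subscheme leaves an open set. -/
lemma isOpen_diff_image {X Y : Scheme.{u}} {W : Y.Opens} (f : X ⟶ W) (hf : IsClosedMap f) {E : Set X}
    (hE : IsClosed E) : IsOpen ((W : Set Y) \ (f ≫ W.ι) '' E) := by
  have : (W : Set Y) \ (f ≫ W.ι) '' E = W.ι '' (f '' E)ᶜ := by
    ext y
    constructor
    · rintro ⟨hy, hy'⟩
      exact ⟨⟨y, hy⟩, fun ⟨x, hx, hxy⟩ => hy' ⟨x, hx, by rw [Scheme.Hom.comp_apply, hxy]; rfl⟩, rfl⟩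
    · rintro ⟨w, hw, rfl⟩
      refine ⟨w.2, fun ⟨x, hx, hxy⟩ => hw ⟨x, hx, Subtype.ext ?_⟩⟩
      rwa [Scheme.Hom.comp_apply] at hxy
  rw [this]
  exact W.ι.isOpenEmbedding.isOpenMap _ (hf _ hE).isOpen_compl

/-- Restricting a finite map from an open to a smaller open of the target. -/
lemma finite_resLE_inf {X Y : Scheme.{u}} (f : X ⟶ Y) {P : X.Opens} {W₀ W : Y.Opens} (hP : P ≤ f ⁻¹ᵁ W₀)
    (hW : W ≤ W₀) [IsFinite (f.resLE W₀ P hP)] : IsFinite (f.resLE W (P ⊓ f ⁻¹ᵁ W) inf_le_right) := by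
  refine MorphismProperty.of_isPullback (f := Y.homOfLE hW)
    (f' := X.homOfLE (inf_le_left : P ⊓ f ⁻¹ᵁ W ≤ P)) ?_ ‹IsFinite (f.resLE W₀ P hP)›
  refine (IsOpenImmersion.isPullback _ _ _ _ (by simp) ?_).flip
  rw [Scheme.opensRange_homOfLE, Scheme.opensRange_homOfLE]
  ext x
  have hx : W₀.ι ((f.resLE W₀ P hP) x) = f (P.ι x) := by
    rw [← Scheme.Hom.comp_apply, Scheme.Hom.resLE_comp_ι, Scheme.Hom.comp_apply]
  show W₀.ι ((f.resLE W₀ P hP) x) ∈ W ↔ P.ι x ∈ P ∧ f (P.ι x) ∈ W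
  rw [hx]
  exact ⟨fun h => ⟨x.2, h⟩, fun h => h.2⟩

/-- Points of an open of arrows closed under the structure maps give an open subgroupoid. -/
theorem exists_sub_of_points {S : Scheme.{u}} (H : Grpd.GroupoidScheme S) (W : H.U.Opens) (Q : H.R.Opens)
    (hQ : Q ≤ H.s ⁻¹ᵁ W) (htW : ∀ r ∈ Q, H.t r ∈ W) (heW : ∀ x ∈ W, H.e x ∈ Q) (hiQ : ∀ r ∈ Q, H.i r ∈ Q)
    (hcQ : ∀ w : ↥(pullback H.s H.t), pullback.fst H.s H.t w ∈ Q → pullback.snd H.s H.t w ∈ Q → H.c w ∈ Q) :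
    ∃ ιP : (Q : Scheme.{u}) ⟶ (restrictMap H W.ι).R, IsOpenImmersion ιP ∧ ιP ≫ rmι H W.ι = Q.ι ∧
      ιP ≫ (restrictMap H W.ι).s = H.s.resLE W Q hQ ∧ ιP ≫ (restrictMap H W.ι).t = H.t.resLE W Q htW ∧
      (∃ eP : (restrictMap H W.ι).U ⟶ (Q : Scheme.{u}), eP ≫ ιP = (restrictMap H W.ι).e) ∧
      (∃ iP : (Q : Scheme.{u}) ⟶ Q, iP ≫ ιP = ιP ≫ (restrictMap H W.ι).i) ∧
      ∃ cP : pullback (ιP ≫ (restrictMap H W.ι).s) (ιP ≫ (restrictMap H W.ι).t) ⟶ (Q : Scheme.{u}),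
        cP ≫ ιP = pullback.map (ιP ≫ (restrictMap H W.ι).s) (ιP ≫ (restrictMap H W.ι).t)
          (restrictMap H W.ι).s (restrictMap H W.ι).t ιP ιP (𝟙 (restrictMap H W.ι).U)
          (Category.comp_id _) (Category.comp_id _) ≫ (restrictMap H W.ι).c := by
  have heQ : ∀ x : (W : Scheme.{u}), H.e x.1 ∈ Q := fun x => heW _ x.2
  let K := restrictMap H W.ι
  let ιP : (Q : Scheme.{u}) ⟶ K.R := rmLift H W.ι Q.ι
    (H.t.resLE W Q htW) (H.s.resLE W Q hQ) (by simp) (by simp)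
  have hιP : ιP ≫ rmι H W.ι = Q.ι := rmLift_ι _ _ _ _ _ _ _
  have : Mono ιP := mono_of_mono_fac hιP
  have hιs : ιP ≫ K.s = H.s.resLE W Q hQ := rmLift_S _ _ _ _ _ _ _
  have hιt : ιP ≫ K.t = H.t.resLE W Q htW := rmLift_T _ _ _ _ _ _ _
  let eP : (W : Scheme.{u}) ⟶ Q := IsOpenImmersion.lift Q.ι (W.ι ≫ H.e) (by
    rintro _ ⟨x, rfl⟩; rw [Scheme.Opens.range_ι, Scheme.Hom.comp_apply]; exact heQ x)
  let iP : (Q : Scheme.{u}) ⟶ Q := IsOpenImmersion.lift Q.ι (Q.ι ≫ H.i) (by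
    rintro _ ⟨x, rfl⟩; rw [Scheme.Opens.range_ι, Scheme.Hom.comp_apply]; exact hiQ _ x.2)
  let α : pullback (ιP ≫ K.s) (ιP ≫ K.t) ⟶ Q := pullback.fst _ _
  let β : pullback (ιP ≫ K.s) (ιP ≫ K.t) ⟶ Q := pullback.snd _ _
  have hαβ : (α ≫ Q.ι) ≫ H.s = (β ≫ Q.ι) ≫ H.t := by
    have hs' : (ιP ≫ K.s) ≫ W.ι = Q.ι ≫ H.s :=
      (congrArg (· ≫ W.ι) hιs).trans (Scheme.Hom.resLE_comp_ι _ _)
    have ht' : (ιP ≫ K.t) ≫ W.ι = Q.ι ≫ H.t :=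
      (congrArg (· ≫ W.ι) hιt).trans (Scheme.Hom.resLE_comp_ι _ _)
    refine (Category.assoc _ _ _).trans ((congrArg (α ≫ ·) hs'.symm).trans ?_)
    refine Eq.trans ?_ ((congrArg (β ≫ ·) ht').trans (Category.assoc _ _ _).symm)
    exact (Category.assoc _ _ _).symm.trans
      ((congrArg (· ≫ W.ι) pullback.condition).trans (Category.assoc _ _ _))
  let cP : pullback (ιP ≫ K.s) (ιP ≫ K.t) ⟶ Q :=
    IsOpenImmersion.lift Q.ι (comp H (α ≫ Q.ι) (β ≫ Q.ι) hαβ) (by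
      rintro _ ⟨x, rfl⟩
      rw [Scheme.Opens.range_ι, comp, Scheme.Hom.comp_apply]
      refine hcQ _ ?_ ?_
      · rw [← Scheme.Hom.comp_apply, pullback.lift_fst, Scheme.Hom.comp_apply]; exact (α x).2
      · rw [← Scheme.Hom.comp_apply, pullback.lift_snd, Scheme.Hom.comp_apply]; exact (β x).2)
  have he : eP ≫ ιP = K.e := by
    refine rm_ext₃ H W.ι ?_ ?_ ?_
    · rw [Category.assoc, hιP, IsOpenImmersion.lift_fac]; exact (rmLift_ι H W.ι (W.ι ≫ H.e) (𝟙 _) (𝟙 _) (by simp) (by simp)).symm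
    · refine (cancel_mono W.ι).1 ?_
      rw [Category.assoc eP, show ιP ≫ rmT H W.ι = _ from hιt]
      refine Eq.trans ?_ (congrArg (· ≫ W.ι) (rmLift_T H W.ι (W.ι ≫ H.e) (𝟙 _) (𝟙 _) (by simp) (by simp)).symm)
      simp [eP]
    · refine (cancel_mono W.ι).1 ?_
      rw [Category.assoc eP, show ιP ≫ rmS H W.ι = _ from hιs]
      refine Eq.trans ?_ (congrArg (· ≫ W.ι) (rmLift_S H W.ι (W.ι ≫ H.e) (𝟙 _) (𝟙 _) (by simp) (by simp)).symm)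
      simp [eP]
  have hi : iP ≫ ιP = ιP ≫ K.i := by
    refine rm_ext₃ H W.ι ?_ ?_ ?_
    · rw [Category.assoc, hιP, IsOpenImmersion.lift_fac, Category.assoc]
      refine Eq.trans ?_ (congrArg (ιP ≫ ·) (rmLift_ι H W.ι (rmι H W.ι ≫ H.i) (rmS H W.ι) (rmT H W.ι) (by simp [rmι_s]) (by simp [rmι_t])).symm)
      rw [← Category.assoc, hιP]
    · refine (cancel_mono W.ι).1 ?_
      rw [Category.assoc iP, show ιP ≫ rmT H W.ι = _ from hιt, Category.assoc ιP]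
      refine Eq.trans ?_ (congrArg (fun z => (ιP ≫ z) ≫ W.ι) (rmLift_T H W.ι (rmι H W.ι ≫ H.i) (rmS H W.ι) (rmT H W.ι) (by simp [rmι_s]) (by simp [rmι_t])).symm)
      rw [show ιP ≫ rmS H W.ι = _ from hιs]
      simp [iP]
    · refine (cancel_mono W.ι).1 ?_
      rw [Category.assoc iP, show ιP ≫ rmS H W.ι = _ from hιs, Category.assoc ιP]
      refine Eq.trans ?_ (congrArg (fun z => (ιP ≫ z) ≫ W.ι) (rmLift_S H W.ι (rmι H W.ι ≫ H.i) (rmS H W.ι) (rmT H W.ι) (by simp [rmι_s]) (by simp [rmι_t])).symm)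
      rw [show ιP ≫ rmT H W.ι = _ from hιt]
      simp [iP]
  have hc : cP ≫ ιP = pullback.map (ιP ≫ K.s) (ιP ≫ K.t) K.s K.t ιP ιP (𝟙 K.U) (Category.comp_id _)
      (Category.comp_id _) ≫ K.c := by
    rw [show pullback.map (ιP ≫ K.s) (ιP ≫ K.t) K.s K.t ιP ιP (𝟙 K.U) (Category.comp_id _)
      (Category.comp_id _) = pullback.lift (α ≫ ιP) (β ≫ ιP) (by
        simpa only [Category.assoc] using pullback.condition (f := ιP ≫ K.s) (g := ιP ≫ K.t)) from rfl]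
    refine rm_ext₃ H W.ι ?_ ?_ ?_
    · refine Eq.trans ?_ (lift_mpC_ι H W.ι _ _ _).symm
      rw [Category.assoc, hιP, IsOpenImmersion.lift_fac]
      exact comp_congr H _ _ (by rw [Category.assoc, hιP]) (by rw [Category.assoc, hιP])
    · refine Eq.trans ?_ (lift_mpC_T H W.ι _ _ _).symm
      refine (cancel_mono W.ι).1 ?_
      rw [Category.assoc cP, Category.assoc α, show ιP ≫ rmT H W.ι = _ from hιt]
      simp [cP]
    · refine Eq.trans ?_ (lift_mpC_S H W.ι _ _ _).symm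
      refine (cancel_mono W.ι).1 ?_
      rw [Category.assoc cP, Category.assoc β, show ιP ≫ rmS H W.ι = _ from hιs]
      simp [cP]
  have : IsOpenImmersion (rmι H W.ι) := by unfold rmι; infer_instance
  have : IsOpenImmersion (ιP ≫ rmι H W.ι) := by rw [hιP]; infer_instance
  exact ⟨ιP, IsOpenImmersion.of_comp ιP (rmι H W.ι), hιP, hιs, hιt, ⟨eP, he⟩, ⟨iP, hi⟩, cP, hc⟩

section Trim

variable {S : Scheme.{u}} (H : Grpd.GroupoidScheme S) [IsSeparated H.s] [Flat H.s]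
  [LocallyOfFinitePresentation H.s]

/-- An open part, finite over a neighbourhood of `v`, whose fibre over `v` is a subgroupoid of loops at `v`,
contains an open subgroupoid, finite over an affine neighbourhood of `v`, with the same fibre. -/
theorem exists_trim [IsAffine H.U] (v : H.U) (W₀ : H.U.Opens) (hv : v ∈ W₀) (P : H.R.Opens)
    (hP : P ≤ H.s ⁻¹ᵁ W₀) [IsFinite (H.s.resLE W₀ P hP)]
    (hloop : ∀ r ∈ P, H.s r = v → H.t r = v) (hev : H.e v ∈ P) (hiv : ∀ r ∈ P, H.s r = v → H.i r ∈ P)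
    (hcv : ∀ w : ↥(pullback H.s H.t), pullback.fst H.s H.t w ∈ P → pullback.snd H.s H.t w ∈ P →
      H.s (pullback.snd H.s H.t w) = v → H.c w ∈ P) :
    ∃ (W : H.U.Opens) (Q : H.R.Opens) (hQ : Q ≤ H.s ⁻¹ᵁ W), IsAffineOpen W ∧ v ∈ W ∧
      (∀ r ∈ P, H.s r = v → r ∈ Q) ∧ (∀ r ∈ Q, H.t r ∈ W) ∧ IsFinite (H.s.resLE W Q hQ) ∧
      (∀ x ∈ W, H.e x ∈ Q) ∧ (∀ r ∈ Q, H.i r ∈ Q) ∧
      ∀ w : ↥(pullback H.s H.t), pullback.fst H.s H.t w ∈ Q → pullback.snd H.s H.t w ∈ Q → H.c w ∈ Q := by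
  let sP := H.s.resLE W₀ P hP
  have hsP : ∀ x : P, W₀.ι (sP x) = H.s x.1 := fun x => by
    rw [← Scheme.Hom.comp_apply, Scheme.Hom.resLE_comp_ι, Scheme.Hom.comp_apply]; rfl
  have hclosed : IsClosed (SetLike.coe (H.R.homOfLE hP).opensRange) := by
    have : IsFinite (H.R.homOfLE hP ≫ H.s ∣_ W₀) := by
      rw [show H.R.homOfLE hP ≫ H.s ∣_ W₀ = sP by rw [← cancel_mono W₀.ι]; simp [sP]]
      infer_instance
    have : IsSeparated (H.s ∣_ W₀) :=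
      MorphismProperty.of_isPullback (isPullback_morphismRestrict H.s W₀).flip inferInstance
    have : IsFinite (H.R.homOfLE hP) := IsFinite.of_comp _ (H.s ∣_ W₀)
    exact (H.R.homOfLE hP).isClosedMap.isClosed_range
  rw [Scheme.opensRange_homOfLE] at hclosed
  -- the points leaving `W₀`
  have ho₁ : IsOpen ((W₀ : Set H.U) \ (sP ≫ W₀.ι) '' ((P.ι ≫ H.t) ⁻¹' (W₀ : Set H.U)ᶜ)) :=
    isOpen_diff_image _ sP.isClosedMap (W₀.isOpen.isClosed_compl.preimage (P.ι ≫ H.t).continuous)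
  let W₁ : H.U.Opens := ⟨_, ho₁⟩
  have hW₁ : W₁ ≤ W₀ := fun x hx => hx.1
  have hmem₁ : ∀ {x}, x ∈ W₁ ↔ x ∈ W₀ ∧ ∀ r ∈ P, H.s r = x → H.t r ∈ W₀ := fun {x} =>
    ⟨fun h => ⟨h.1, fun r hr hsr => by_contra fun hn => h.2 ⟨⟨r, hr⟩, hn, by
      rw [Scheme.Hom.comp_apply, hsP]; exact hsr⟩⟩,
     fun h => ⟨h.1, fun ⟨r, hn, hsr⟩ => hn (h.2 r.1 r.2 (by rwa [Scheme.Hom.comp_apply, hsP] at hsr))⟩⟩
  let P₁ := P ⊓ H.s ⁻¹ᵁ W₁
  let sP₁ := H.s.resLE W₁ P₁ inf_le_right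
  have : IsFinite sP₁ := finite_resLE_inf H.s hP hW₁
  have hsP₁ : ∀ x : P₁, W₁.ι (sP₁ x) = H.s x.1 := fun x => by
    rw [← Scheme.Hom.comp_apply, Scheme.Hom.resLE_comp_ι, Scheme.Hom.comp_apply]; rfl
  have ht₁ : P₁ ≤ H.t ⁻¹ᵁ W₀ := fun r hr => (hmem₁.1 hr.2).2 r hr.1 rfl
  -- composable pairs
  let tP₁ := H.t.resLE W₀ P₁ ht₁
  let m : pullback sP tP₁ ⟶ pullback H.s H.t :=
    pullback.map sP tP₁ H.s H.t P.ι P₁.ι W₀.ι (by simp [sP]) (by simp [tP₁])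
  let π : pullback sP tP₁ ⟶ W₁ := pullback.snd sP tP₁ ≫ sP₁
  have hm₁ : ∀ x, pullback.fst H.s H.t (m x) = (pullback.fst sP tP₁ x).1 := fun x => by
    rw [← Scheme.Hom.comp_apply, pullback.lift_fst, Scheme.Hom.comp_apply]; rfl
  have hm₂ : ∀ x, pullback.snd H.s H.t (m x) = (pullback.snd sP tP₁ x).1 := fun x => by
    rw [← Scheme.Hom.comp_apply, pullback.lift_snd, Scheme.Hom.comp_apply]; rfl
  have hm : ∀ w, pullback.fst H.s H.t w ∈ P → pullback.snd H.s H.t w ∈ P₁ → ∃ x, m x = w := by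
    intro w h₁ h₂
    have h : w ∈ Set.range m := by
      rw [Scheme.Pullback.range_map]
      exact ⟨by simpa using h₁, by simpa using h₂⟩
    exact h
  have hcs : ∀ x, H.s (H.c (m x)) ∈ W₁ := fun x => by
    rw [← Scheme.Hom.comp_apply, c_s, Scheme.Hom.comp_apply, hm₂]
    exact (pullback.snd sP tP₁ x).2.2
  have hE₁ : IsClosed {x | H.c (m x) ∉ P} := by
    let c' : pullback sP tP₁ ⟶ (H.s ⁻¹ᵁ W₀ : H.R.Opens) := IsOpenImmersion.lift (H.s ⁻¹ᵁ W₀).ι (m ≫ H.c) (by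
      rintro _ ⟨x, rfl⟩; rw [Scheme.Opens.range_ι, Scheme.Hom.comp_apply]; exact hW₁ (hcs x))
    have hc' : ∀ x, (H.s ⁻¹ᵁ W₀).ι (c' x) = H.c (m x) := fun x => by
      rw [← Scheme.Hom.comp_apply, IsOpenImmersion.lift_fac, Scheme.Hom.comp_apply]
    have : {x | H.c (m x) ∉ P} = c' ⁻¹' (((H.s ⁻¹ᵁ W₀).ι ⁻¹ᵁ P : Set _))ᶜ := by
      ext x; exact not_congr (by rw [← hc']; rfl)
    rw [this]
    exact ((H.s ⁻¹ᵁ W₀).ι ⁻¹ᵁ P).isOpen.isClosed_compl.preimage c'.continuous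
  have hE₂ : IsClosed {x : P₁ | H.i x.1 ∉ P} :=
    P.isOpen.isClosed_compl.preimage (H.i.continuous.comp P₁.ι.continuous)
  have ho₂ : IsOpen (((W₁ : Set H.U) \ (π ≫ W₁.ι) '' {x | H.c (m x) ∉ P}) ∩
      (((W₁ : Set H.U) \ (sP₁ ≫ W₁.ι) '' {x | H.i x.1 ∉ P}) ∩ H.e ⁻¹' (P : Set H.R))) :=
    (isOpen_diff_image π π.isClosedMap hE₁).inter
      ((isOpen_diff_image sP₁ sP₁.isClosedMap hE₂).inter (P.isOpen.preimage H.e.continuous))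
  let W₂ : H.U.Opens := ⟨_, ho₂⟩
  have hW₂ : W₂ ≤ W₁ := fun x hx => hx.1.1
  have hi₂ : ∀ r ∈ P, H.s r ∈ W₂ → H.i r ∈ P := fun r hr hs => by_contra fun hn =>
    hs.2.1.2 ⟨⟨r, hr, hW₂ hs⟩, hn, by rw [Scheme.Hom.comp_apply, hsP₁]⟩
  have hc₂ : ∀ w, pullback.fst H.s H.t w ∈ P → pullback.snd H.s H.t w ∈ P →
      H.s (pullback.snd H.s H.t w) ∈ W₂ → H.c w ∈ P := fun w h₁ h₂ hs => by_contra fun hn => by
    obtain ⟨x, rfl⟩ := hm w h₁ ⟨h₂, hW₂ hs⟩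
    refine hs.1.2 ⟨x, hn, ?_⟩
    rw [Scheme.Hom.comp_apply, Scheme.Hom.comp_apply, hsP₁, hm₂]
  -- the points leaving `W₂`
  let P₂ := P ⊓ H.s ⁻¹ᵁ W₂
  let sP₂ := H.s.resLE W₂ P₂ inf_le_right
  have : IsFinite sP₂ := finite_resLE_inf H.s hP (hW₂.trans hW₁)
  have hsP₂ : ∀ x : P₂, W₂.ι (sP₂ x) = H.s x.1 := fun x => by
    rw [← Scheme.Hom.comp_apply, Scheme.Hom.resLE_comp_ι, Scheme.Hom.comp_apply]; rfl
  have ho₃ : IsOpen ((W₂ : Set H.U) \ (sP₂ ≫ W₂.ι) '' ((P₂.ι ≫ H.t) ⁻¹' (W₂ : Set H.U)ᶜ)) :=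
    isOpen_diff_image _ sP₂.isClosedMap (W₂.isOpen.isClosed_compl.preimage (P₂.ι ≫ H.t).continuous)
  let W₃ : H.U.Opens := ⟨_, ho₃⟩
  have hW₃ : W₃ ≤ W₂ := fun x hx => hx.1
  have ht₃ : ∀ r ∈ P, H.s r ∈ W₃ → H.t r ∈ W₂ := fun r hr hs => by_contra fun hn =>
    hs.2 ⟨⟨r, hr, hW₃ hs⟩, hn, by rw [Scheme.Hom.comp_apply, hsP₂]⟩
  let Q₃ := P ⊓ H.s ⁻¹ᵁ W₃
  have htW : ∀ r ∈ Q₃, H.t r ∈ W₃ := by
    rintro r ⟨hr, hs⟩
    refine ⟨ht₃ r hr hs, fun ⟨r', hn, hr'⟩ => hn ?_⟩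
    rw [Scheme.Hom.comp_apply, hsP₂] at hr'
    obtain ⟨w, h₁, h₂⟩ := Scheme.Pullback.exists_preimage_pullback (f := H.s) (g := H.t) r'.1 r hr'
    have hcP : H.c w ∈ P := hc₂ w (h₁ ▸ r'.2.1) (h₂ ▸ hr) (h₂ ▸ hW₃ hs)
    have := ht₃ _ hcP (by rw [← Scheme.Hom.comp_apply, c_s, Scheme.Hom.comp_apply, h₂]; exact hs)
    rw [← Scheme.Hom.comp_apply, c_t, Scheme.Hom.comp_apply, h₁] at this
    exact this
  -- the subgroupoid
  have hvW₃ : v ∈ W₃ := by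
    have hv₁ : v ∈ W₁ := hmem₁.2 ⟨hv, fun r hr hs => by rw [hloop r hr hs]; exact hv⟩
    have hv₂ : v ∈ W₂ := by
      refine ⟨⟨hv₁, ?_⟩, ⟨hv₁, ?_⟩, hev⟩
      · rintro ⟨x, hn, hx⟩
        rw [Scheme.Hom.comp_apply, Scheme.Hom.comp_apply, hsP₁] at hx
        refine hn (hcv (m x) ?_ ?_ (by rw [hm₂]; exact hx))
        · rw [hm₁]; exact (pullback.fst sP tP₁ x).2
        · rw [hm₂]; exact (pullback.snd sP tP₁ x).2.1
      · rintro ⟨x, hn, hx⟩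
        rw [Scheme.Hom.comp_apply, hsP₁] at hx
        exact hn (hiv _ x.2.1 hx)
    refine ⟨hv₂, ?_⟩
    rintro ⟨x, hn, hx⟩
    rw [Scheme.Hom.comp_apply, hsP₂] at hx
    exact hn (show H.t x.1 ∈ W₂ by rw [hloop _ x.2.1 hx]; exact hv₂)
  let K := restrictMap H W₃.ι
  have heQ : ∀ x : (W₃ : Scheme.{u}), H.e x.1 ∈ Q₃ := fun x =>
    ⟨(hW₃ x.2).2.2, show H.s (H.e x.1) ∈ W₃ by rw [s_e_apply]; exact x.2⟩
  have hiQ : ∀ r ∈ Q₃, H.i r ∈ Q₃ := fun r hr =>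
    ⟨hi₂ r hr.1 (hW₃ hr.2), show H.s (H.i r) ∈ W₃ by rw [s_i_apply]; exact htW r hr⟩
  have hcQ : ∀ w, pullback.fst H.s H.t w ∈ Q₃ → pullback.snd H.s H.t w ∈ Q₃ → H.c w ∈ Q₃ := fun w h₁ h₂ =>
    ⟨hc₂ w h₁.1 h₂.1 (hW₃ h₂.2), show H.s (H.c w) ∈ W₃ by
      rw [← Scheme.Hom.comp_apply, c_s, Scheme.Hom.comp_apply]; exact h₂.2⟩
  obtain ⟨ιP, hιoi, hιP, hιs, hιt, ⟨eP, he⟩, ⟨iP, hi⟩, cP, hc⟩ :=
    exists_sub_of_points H W₃ Q₃ inf_le_right htW (fun x hx => heQ ⟨x, hx⟩) hiQ hcQ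
  let G₃ := subGrpd K ιP eP iP cP he hi hc
  have : IsFinite (H.s.resLE W₃ Q₃ inf_le_right) := finite_resLE_inf H.s hP (hW₃.trans (hW₂.trans hW₁))
  have : IsFinite G₃.s := by show IsFinite (ιP ≫ K.s); rw [hιs]; infer_instance
  have : Flat G₃.s := by
    show Flat (ιP ≫ K.s); rw [hιs]
    infer_instance
  have : LocallyOfFinitePresentation G₃.s := by
    show LocallyOfFinitePresentation (ιP ≫ K.s); rw [hιs]
    infer_instance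
  obtain ⟨f, hfW, hfv⟩ := exists_basicOpen_le_of_finite (isAffineOpen_top H.U) (U := W₃)
    (Set.finite_singleton v) (Set.singleton_subset_iff.2 hvW₃) (fun _ _ => trivial)
  let V : (W₃ : Scheme.{u}).Opens := W₃.ι ⁻¹ᵁ H.U.basicOpen f
  have hV : IsAffineOpen V := ((isAffineOpen_top H.U).basicOpen f).preimage_of_isOpenImmersion _ (by
    rw [Scheme.Opens.opensRange_ι]; exact hfW)
  have hGs : ∀ r : (Q₃ : Scheme.{u}), (G₃.s r).1 = H.s r.1 := fun r => by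
    show W₃.ι ((ιP ≫ K.s) r) = _
    rw [hιs]
    exact congrArg (fun f : (Q₃ : Scheme.{u}) ⟶ H.U => f r) (Scheme.Hom.resLE_comp_ι H.s _)
  have hGt : ∀ r : (Q₃ : Scheme.{u}), (G₃.t r).1 = H.t r.1 := fun r => by
    show W₃.ι ((ιP ≫ K.t) r) = _
    rw [hιt]
    exact congrArg (fun f : (Q₃ : Scheme.{u}) ⟶ H.U => f r) (Scheme.Hom.resLE_comp_ι H.t _)
  obtain ⟨W', hW', hvW', -, hinv⟩ := exists_invariant_affine G₃ (u := ⟨v, hvW₃⟩) hV (fun r hr => by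
    show (G₃.t r).1 ∈ H.U.basicOpen f
    rw [hGt, hloop r.1 r.2.1 ((hGs r).symm.trans (congrArg Subtype.val hr))]
    exact hfv rfl)
  let W := W₃.ι ''ᵁ W'
  have hmemW : ∀ x : (W₃ : Scheme.{u}), x.1 ∈ W ↔ x ∈ W' := fun x =>
    ⟨fun ⟨y, hy, hyx⟩ => (Subtype.ext hyx : y = x) ▸ hy, fun h => ⟨x, h, rfl⟩⟩
  have hWW₃ : W ≤ W₃ := by rintro _ ⟨y, -, rfl⟩; exact y.2
  let Q := Q₃ ⊓ H.s ⁻¹ᵁ W
  have hinv' : ∀ r ∈ Q₃, (H.s r ∈ W ↔ H.t r ∈ W) := fun r hr => by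
    rw [← hGs ⟨r, hr⟩, ← hGt ⟨r, hr⟩, hmemW, hmemW]
    exact SetLike.ext_iff.1 hinv ⟨r, hr⟩
  refine ⟨W, Q, inf_le_right, hW'.image_of_isOpenImmersion W₃.ι, ⟨_, hvW', rfl⟩,
    fun r hr hs => ⟨⟨hr, show H.s r ∈ W₃ by rw [hs]; exact hvW₃⟩, show H.s r ∈ W by rw [hs]; exact ⟨_, hvW', rfl⟩⟩,
    fun r hr => (hinv' r hr.1).1 hr.2, ?_, fun x hx => ⟨heQ ⟨x, hWW₃ hx⟩, ?_⟩,
    fun r hr => ⟨hiQ r hr.1, ?_⟩, fun w h₁ h₂ => ⟨hcQ w h₁.1 h₂.1, ?_⟩⟩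
  · exact finite_resLE_inf H.s (inf_le_right : Q₃ ≤ H.s ⁻¹ᵁ W₃) hWW₃
  · show H.s (H.e x) ∈ W; rw [s_e_apply]; exact hx
  · show H.s (H.i r) ∈ W; rw [s_i_apply]; exact (hinv' r hr.1).1 hr.2
  · show H.s (H.c w) ∈ W
    rw [← Scheme.Hom.comp_apply, c_s, Scheme.Hom.comp_apply]; exact h₂.2

end Trim

end Groth.Agent.GrpdLib
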