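import Groth.Agent.GrpdLib.FinOpenTau
import Groth.Agent.GrpdLib.FinPartTrim
import Groth.Agent.GrpdLib.FiniteInAffine
import Groth.Prelude.Def_Dual3

/-!
# Splitting a groupoid scheme over an étale neighbourhood

A finite set of loops at `u`, isolated in their source fibres and closed under the groupoid operations, is the
fibre of an open finite subgroupoid of the restriction to an affine étale neighbourhood of `u`.
-/

universe u

set_option maxHeartbeats 800000
set_option backward.isDefEq.respectTransparency false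
set_option backward.isDefEq.respectTransparency.types false

open CategoryTheory CategoryTheory.Limits AlgebraicGeometry

namespace Groth.Agent.GrpdLib

variable {S : Scheme.{u}} (G : Grpd.GroupoidScheme S)

/-- Composition of morphisms of groupoid schemes given by restrictions. -/
lemma isPullback_restrict_comp {H K : Grpd.GroupoidScheme S} (φ : Grpd.GroupoidScheme.Hom H G)
    (ψ : Grpd.GroupoidScheme.Hom K H)
    (hφ : IsPullback φ.fR H.j G.j (pullback.map H.pU H.pU G.pU G.pU φ.fU φ.fU (𝟙 S)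
      ((Category.comp_id _).trans φ.fU_over.symm) ((Category.comp_id _).trans φ.fU_over.symm)))
    (hψ : IsPullback ψ.fR K.j H.j (pullback.map K.pU K.pU H.pU H.pU ψ.fU ψ.fU (𝟙 S)
      ((Category.comp_id _).trans ψ.fU_over.symm) ((Category.comp_id _).trans ψ.fU_over.symm))) :
    ∃ χ : Grpd.GroupoidScheme.Hom K G, χ.fU = ψ.fU ≫ φ.fU ∧ χ.fR = ψ.fR ≫ φ.fR ∧
      IsPullback χ.fR K.j G.j (pullback.map K.pU K.pU G.pU G.pU χ.fU χ.fU (𝟙 S)
        ((Category.comp_id _).trans χ.fU_over.symm) ((Category.comp_id _).trans χ.fU_over.symm)) := by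
  let χ : Grpd.GroupoidScheme.Hom K G :=
    { fU := ψ.fU ≫ φ.fU
      fR := ψ.fR ≫ φ.fR
      fU_over := by rw [Category.assoc, φ.fU_over, ψ.fU_over]
      comm_s := by rw [Category.assoc, φ.comm_s, ← Category.assoc, ψ.comm_s, Category.assoc]
      comm_t := by rw [Category.assoc, φ.comm_t, ← Category.assoc, ψ.comm_t, Category.assoc]
      comm_c := fun α β h => by
        rw [← Category.assoc, ψ.comm_c α β h, φ.comm_c]
        simp only [Category.assoc] }
  refine ⟨χ, rfl, rfl, ?_⟩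
  rw [show pullback.map K.pU K.pU G.pU G.pU χ.fU χ.fU (𝟙 S) ((Category.comp_id _).trans χ.fU_over.symm)
      ((Category.comp_id _).trans χ.fU_over.symm) =
    pullback.map K.pU K.pU H.pU H.pU ψ.fU ψ.fU (𝟙 S) ((Category.comp_id _).trans ψ.fU_over.symm)
      ((Category.comp_id _).trans ψ.fU_over.symm) ≫
    pullback.map H.pU H.pU G.pU G.pU φ.fU φ.fU (𝟙 S) ((Category.comp_id _).trans φ.fU_over.symm)
      ((Category.comp_id _).trans φ.fU_over.symm) by
    apply pullback.hom_ext <;> simp [χ]]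
  exact hψ.paste_horiz hφ

theorem exists_split [IsAffine G.U] [IsSeparated G.s] [Flat G.s] [LocallyOfFinitePresentation G.s]
    (u₀ : G.U) (Z : Set G.R) (hZ : Z.Finite) (hZs : ∀ z ∈ Z, G.s z = u₀) (hZt : ∀ z ∈ Z, G.t z = u₀)
    (hqf : ∀ z ∈ Z, Dual3.QuasiFiniteAt G.s z) (he : G.e u₀ ∈ Z) (hiZ : ∀ z ∈ Z, G.i z ∈ Z)
    (hcZ : ∀ w : ↥(pullback G.s G.t), pullback.fst G.s G.t w ∈ Z → pullback.snd G.s G.t w ∈ Z → G.c w ∈ Z) :
    ∃ (G' : Grpd.GroupoidScheme S) (φ : Grpd.GroupoidScheme.Hom G' G) (u' : ↥G'.U),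
      IsAffine G'.U ∧ Etale φ.fU ∧ φ.fU u' = u₀ ∧ IsIso (φ.fU.residueFieldMap u') ∧
      IsPullback φ.fR G'.j G.j
        (pullback.map G'.pU G'.pU G.pU G.pU φ.fU φ.fU (𝟙 S)
          ((Category.comp_id _).trans φ.fU_over.symm) ((Category.comp_id _).trans φ.fU_over.symm)) ∧
      ∃ (P : Scheme.{u}) (ιP : P ⟶ G'.R), IsOpenImmersion ιP ∧
        (∃ eP : G'.U ⟶ P, eP ≫ ιP = G'.e) ∧ (∃ iP : P ⟶ P, iP ≫ ιP = ιP ≫ G'.i) ∧
        (∃ cP : pullback (ιP ≫ G'.s) (ιP ≫ G'.t) ⟶ P,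
          cP ≫ ιP = pullback.map (ιP ≫ G'.s) (ιP ≫ G'.t) G'.s G'.t ιP ιP (𝟙 G'.U)
            (Category.comp_id _) (Category.comp_id _) ≫ G'.c) ∧
        IsFinite (ιP ≫ G'.s) ∧ IsFinite (ιP ≫ G'.t) ∧
        ∀ r' : ↥G'.R, G'.s r' = u' → G'.t r' = u' → φ.fR r' ∈ Z → ∃ p : ↥P, ιP p = r' := by
  -- an affine chart containing the loops
  let X := G.s.quasiFiniteLocus
  have hZX : Z ⊆ X := fun z hz =>
    (Scheme.Hom.quasiFiniteAt_iff_isOpen_singleton_asFiber (f := G.s) (x := z)).2 (hqf z hz)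
  obtain ⟨W₁, hW₁, hZW₁⟩ := exists_affine_of_finite_of_lqf (X.ι ≫ G.s)
    (hZ.preimage X.ι.isOpenEmbedding.injective.injOn)
  let R₁ := X.ι ''ᵁ W₁
  have hR₁ : IsAffineOpen R₁ := hW₁.image_of_isOpenImmersion X.ι
  have hZR : Z ⊆ R₁ := fun z hz => ⟨⟨z, hZX hz⟩, hZW₁ hz, rfl⟩
  let iU : Spec Γ(G.U, ⊤) ⟶ G.U := G.U.isoSpec.inv
  let jR : Spec Γ(G.R, R₁) ⟶ G.R := hR₁.fromSpec
  let φ : Γ(G.U, ⊤) ⟶ Γ(G.R, R₁) := Spec.preimage (jR ≫ G.s ≫ inv iU)
  let _ : Algebra Γ(G.U, ⊤) Γ(G.R, R₁) := φ.hom.toAlgebra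
  have hφ : jR ≫ G.s = Spec.map (CommRingCat.ofHom (algebraMap Γ(G.U, ⊤) Γ(G.R, R₁))) ≫ iU := by
    show _ = Spec.map φ ≫ iU
    rw [Spec.map_preimage]; simp
  have hflat : Module.Flat Γ(G.U, ⊤) Γ(G.R, R₁) := by
    have : Flat (Spec.map φ) := by rw [Spec.map_preimage]; infer_instance
    exact RingHom.flat_algebraMap_iff.1 ((HasRingHomProperty.Spec_iff (P := @Flat)).1 this)
  have hfp : Algebra.FinitePresentation Γ(G.U, ⊤) Γ(G.R, R₁) := by
    have : LocallyOfFinitePresentation (Spec.map φ) := by rw [Spec.map_preimage]; infer_instance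
    exact RingHom.finitePresentation_algebraMap.1
      ((HasRingHomProperty.Spec_iff (P := @LocallyOfFinitePresentation)).1 this)
  have hiso : ∀ z ∈ Z, ∃ O : Set G.R, IsOpen O ∧ O ∩ G.s ⁻¹' {u₀} = {z} := by
    intro z hz
    have h := (G.s.fiberHomeo (G.s z)).isOpenMap _ (hqf z hz)
    rw [Set.image_singleton] at h
    obtain ⟨O, hO, hO'⟩ := isOpen_induced_iff.1 h
    refine ⟨O, hO, ?_⟩
    have hval : ((G.s.fiberHomeo (G.s z)) (G.s.asFiber z)).1 = z := by
      simp [Scheme.Hom.asFiber]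
    rw [← hZs z hz]
    ext r
    constructor
    · rintro ⟨hr, hr'⟩
      have := (Set.ext_iff.1 hO' ⟨r, hr'⟩).1 hr
      exact (congrArg Subtype.val this).trans hval
    · rintro rfl
      refine ⟨?_, rfl⟩
      have := (Set.ext_iff.1 hO' (G.s.fiberHomeo (G.s r) (G.s.asFiber r))).2 rfl
      rwa [Set.mem_preimage, hval] at this
  obtain ⟨V, g, v₀, hV, hg, hgv, hres, W₀, P, hP, hv₀, hfin, hfib⟩ :=
    exists_finPart_restrict G (A := Γ(G.U, ⊤)) (B := Γ(G.R, R₁)) iU jR hφ u₀ Z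
      (fun z hz => hR₁.range_fromSpec ▸ hZR hz) hZ hZs hZt hiso hiZ hcZ
  let H := restrictMap G g
  have : IsAffine H.U := hV
  have : IsAffineHom g := inferInstance
  have : IsSeparated g := inferInstance
  have : Etale (pullback.fst G.t g) := MorphismProperty.pullback_fst _ _ hg
  have : IsSeparated H.s := by show IsSeparated (pullback.snd (pullback.fst G.t g ≫ G.s) g); infer_instance
  have : Flat H.s := by show Flat (pullback.snd (pullback.fst G.t g ≫ G.s) g); infer_instance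
  have : LocallyOfFinitePresentation H.s := by
    show LocallyOfFinitePresentation (pullback.snd (pullback.fst G.t g ≫ G.s) g); infer_instance
  have hloop : ∀ r ∈ P, H.s r = v₀ → H.t r = v₀ := fun r hr hs => ((hfib r).1 ⟨hr, hs⟩).2.1
  have hev : H.e v₀ ∈ P := by
    refine ((hfib _).2 ⟨s_e_apply H v₀, t_e_apply H v₀, ?_⟩).1
    rw [show rmι G g (H.e v₀) = G.e (g v₀) from
      congrArg (fun f : V ⟶ G.R => f v₀) (rmLift_ι G g (g ≫ G.e) (𝟙 _) (𝟙 _) (by simp) (by simp)), hgv]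
    exact he
  have hiv : ∀ r ∈ P, H.s r = v₀ → H.i r ∈ P := by
    intro r hr hs
    obtain ⟨-, ht, hz⟩ := (hfib r).1 ⟨hr, hs⟩
    refine ((hfib _).2 ⟨(s_i_apply H r).trans ht, (t_i_apply H r).trans hs, ?_⟩).1
    rw [show rmι G g (H.i r) = G.i (rmι G g r) from congrArg (fun f : rmR G g ⟶ G.R => f r)
      (rmLift_ι G g (rmι G g ≫ G.i) (rmS G g) (rmT G g) (by simp [rmι_s]) (by simp [rmι_t]))]
    exact hiZ _ hz
  have hcv : ∀ w : ↥(pullback H.s H.t), pullback.fst H.s H.t w ∈ P → pullback.snd H.s H.t w ∈ P →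
      H.s (pullback.snd H.s H.t w) = v₀ → H.c w ∈ P := by
    intro w h₁ h₂ hs
    obtain ⟨-, ht₂, hz₂⟩ := (hfib _).1 ⟨h₂, hs⟩
    have hs₁ : H.s (pullback.fst H.s H.t w) = v₀ := by
      rw [← Scheme.Hom.comp_apply, pullback.condition, Scheme.Hom.comp_apply]; exact ht₂
    obtain ⟨-, ht₁, hz₁⟩ := (hfib _).1 ⟨h₁, hs₁⟩
    refine ((hfib _).2 ⟨?_, ?_, ?_⟩).1
    · rw [← Scheme.Hom.comp_apply, c_s, Scheme.Hom.comp_apply]; exact hs
    · rw [← Scheme.Hom.comp_apply, c_t, Scheme.Hom.comp_apply]; exact ht₁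
    · let a := pullback.fst (rmS G g) (rmT G g) ≫ rmι G g
      let b := pullback.snd (rmS G g) (rmT G g) ≫ rmι G g
      have hab : a ≫ G.s = b ≫ G.t := rm_ι_comp G g pullback.condition
      have hc : mpC G g ≫ rmι G g = pullback.lift a b hab ≫ G.c := by
        rw [mpC, rmLift_ι]; rfl
      rw [show rmι G g (H.c w) = G.c (pullback.lift a b hab w) from
        congrArg (fun f : pullback (rmS G g) (rmT G g) ⟶ G.R => f w) hc]
      refine hcZ _ ?_ ?_
      · rw [show pullback.fst G.s G.t (pullback.lift a b hab w) = rmι G g (pullback.fst H.s H.t w) from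
          congrArg (fun f : pullback (rmS G g) (rmT G g) ⟶ G.R => f w) (pullback.lift_fst a b hab)]
        exact hz₁
      · rw [show pullback.snd G.s G.t (pullback.lift a b hab w) = rmι G g (pullback.snd H.s H.t w) from
          congrArg (fun f : pullback (rmS G g) (rmT G g) ⟶ G.R => f w) (pullback.lift_snd a b hab)]
        exact hz₂
  obtain ⟨W, Q, hQ, hW, hvW, hPQ, htW, hQfin, heW, hiQ, hcQ⟩ :=
    exists_trim H v₀ W₀ hv₀ P hP hloop hev hiv hcv
  obtain ⟨ιP, hιoi, hιP, hιs, hιt, heP, ⟨iP, hiP⟩, hcP⟩ := exists_sub_of_points H W Q hQ htW heW hiQ hcQ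
  let K := restrictMap H W.ι
  obtain ⟨χ, hχU, hχR, hχ⟩ := isPullback_restrict_comp G (restrictMapHom G g) (restrictMapHom H W.ι)
    (isPullback_restrictMap G g) (isPullback_restrictMap H W.ι)
  have hfinS : IsFinite (ιP ≫ K.s) := by rw [hιs]; exact hQfin
  have hfinT : IsFinite (ιP ≫ K.t) := by
    have hii : iP ≫ iP = 𝟙 _ := by
      rw [← cancel_mono ιP, Category.assoc, hiP, reassoc_of% hiP, i_i, Category.comp_id, Category.id_comp]
    have : IsIso iP := ⟨iP, hii, hii⟩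
    rw [← i_comp_s K, ← Category.assoc, ← hiP, Category.assoc]
    infer_instance
  refine ⟨K, χ, (⟨v₀, hvW⟩ : W), hW, ?_, ?_, ?_, hχ, Q, ιP, hιoi, heP, ⟨iP, hiP⟩, hcP, hfinS, hfinT, ?_⟩
  · rw [hχU]
    show Etale (W.ι ≫ g)
    infer_instance
  · rw [hχU]
    exact (Scheme.Hom.comp_apply _ _ _).trans hgv
  · rw [hχU, ConcreteCategory.isIso_iff_bijective]
    exact Wt.EtNbhd.residueFieldMap_bijective_comp W.ι g _ (ConcreteCategory.bijective_of_isIso _)
      ((ConcreteCategory.isIso_iff_bijective _).1 hres)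
  · intro r' hs ht hz
    let r := rmι H W.ι r'
    have hrs : H.s r = v₀ := by
      rw [show H.s r = W.ι (K.s r') from congrArg (fun f : rmR H W.ι ⟶ H.U => f r') (rmι_s H W.ι), hs]; rfl
    have hrt : H.t r = v₀ := by
      rw [show H.t r = W.ι (K.t r') from congrArg (fun f : rmR H W.ι ⟶ H.U => f r') (rmι_t H W.ι), ht]; rfl
    have hrz : rmι G g r ∈ Z := by
      rw [hχR] at hz
      exact hz
    have hrQ : r ∈ Q := hPQ r ((hfib r).2 ⟨hrs, hrt, hrz⟩).1 hrs
    refine ⟨⟨r, hrQ⟩, ?_⟩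
    have : IsOpenImmersion (rmι H W.ι) := by unfold rmι; infer_instance
    exact (rmι H W.ι).isOpenEmbedding.injective
      (congrArg (fun f : (Q : Scheme.{u}) ⟶ H.R => f ⟨r, hrQ⟩) hιP)

end Groth.Agent.GrpdLib
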