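import Groth.Agent.GrpdLib.FinOpenTranslate
import Groth.Agent.GrpdLib.FinOpenField
import Groth.Agent.GrpdLib.FinOpenChart
import Groth.Agent.GrpdLib.FinOpenClassify
import Groth.Agent.GrpdLib.RestrictMap
import Groth.Agent.GrpdLib.InvAffine
import Groth.Agent.Wt.EtNbhd
import Mathlib.AlgebraicGeometry.Morphisms.Etale
import Mathlib.AlgebraicGeometry.Morphisms.FlatMono
import Mathlib.RingTheory.Localization.Away.Lemmas

/-!
# A finite open part of the restriction to an étale neighbourhood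

Given finitely many loops at a point, isolated in their source fibre and closed under the groupoid
operations, an affine étale neighbourhood carries an open of arrows, finite over an open of the
neighbourhood, whose fibre over the marked point consists of the lifts of these loops.
-/

universe u

set_option maxHeartbeats 1600000
set_option linter.style.haveILetI false
set_option backward.isDefEq.respectTransparency false
set_option backward.isDefEq.respectTransparency.types false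

open CategoryTheory CategoryTheory.Limits AlgebraicGeometry TensorProduct

namespace Groth.Agent.GrpdLib

section Tensor

variable {A B C : Type u} [CommRing A] [CommRing B] [CommRing C] [Algebra A B] [Algebra A C]
variable {X Y U : Scheme.{u}} (s : X ⟶ U) (f : Y ⟶ U) (iU : Spec (CommRingCat.of A) ⟶ U) [IsIso iU]
  (jX : Spec (CommRingCat.of B) ⟶ X) [IsOpenImmersion jX] (jY : Spec (CommRingCat.of C) ⟶ Y) [IsOpenImmersion jY]

/-- The chart of a fibre product given by affine charts. -/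
lemma exists_tensor_chart (hX : jX ≫ s = Spec.map (CommRingCat.ofHom (algebraMap A B)) ≫ iU)
    (hY : jY ≫ f = Spec.map (CommRingCat.ofHom (algebraMap A C)) ≫ iU) :
    ∃ σ : Spec (CommRingCat.of (C ⊗[A] B)) ⟶ pullback s f, IsOpenImmersion σ ∧
      σ ≫ pullback.fst s f = Spec.map (CommRingCat.ofHom
        (Algebra.TensorProduct.includeRight (R := A) (A := C) : B →ₐ[A] C ⊗[A] B).toRingHom) ≫ jX ∧
      σ ≫ pullback.snd s f = Spec.map (CommRingCat.ofHom (algebraMap C (C ⊗[A] B))) ≫ jY ∧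
      Set.range σ = pullback.fst s f ⁻¹' Set.range jX ∩ pullback.snd s f ⁻¹' Set.range jY := by
  let fB := Spec.map (CommRingCat.ofHom (algebraMap A B))
  let fC := Spec.map (CommRingCat.ofHom (algebraMap A C))
  let m : pullback fB fC ⟶ pullback s f := pullback.map fB fC s f jX jY iU hX.symm hY.symm
  let σ := (pullbackSpecIso A C B).inv ≫ (pullbackSymmetry fC fB).hom ≫ m
  refine ⟨σ, inferInstance, ?_, ?_, ?_⟩
  · simp only [σ, m, Category.assoc, pullback.lift_fst, pullbackSymmetry_hom_comp_fst_assoc]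
    rw [← Category.assoc, pullbackSpecIso_inv_snd]
    rfl
  · simp only [σ, m, Category.assoc, pullback.lift_snd, pullbackSymmetry_hom_comp_snd_assoc]
    rw [← Category.assoc, pullbackSpecIso_inv_fst']
  · rw [show σ = ((pullbackSpecIso A C B).inv ≫ (pullbackSymmetry fC fB).hom) ≫ m from (Category.assoc _ _ _).symm]
    rw [Scheme.Hom.comp_base, TopCat.coe_comp, Set.range_comp, Set.range_eq_univ.2
      ((pullbackSpecIso A C B).inv ≫ (pullbackSymmetry fC fB).hom).surjective, Set.image_univ]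
    exact Scheme.Pullback.range_map (f := fB) (g := fC) s f jX jY iU hX.symm hY.symm

end Tensor

variable {S : Scheme.{u}} (G : Grpd.GroupoidScheme S)
variable {A B : Type u} [CommRing A] [CommRing B] [Algebra A B] [Algebra.FinitePresentation A B] [Module.Flat A B]
  (iU : Spec (CommRingCat.of A) ⟶ G.U) [IsIso iU] (jR : Spec (CommRingCat.of B) ⟶ G.R) [IsOpenImmersion jR]

/-- The finite open part of the restriction to an étale neighbourhood. -/
theorem exists_finPart_restrict [IsSeparated G.s] (hφ : jR ≫ G.s = Spec.map (CommRingCat.ofHom (algebraMap A B)) ≫ iU)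
    (u₀ : G.U) (Z : Set G.R) (hZR : Z ⊆ Set.range jR) (hZ : Z.Finite) (hZs : ∀ z ∈ Z, G.s z = u₀)
    (hZt : ∀ z ∈ Z, G.t z = u₀) (hiso : ∀ z ∈ Z, ∃ O : Set G.R, IsOpen O ∧ O ∩ G.s ⁻¹' {u₀} = {z})
    (hiZ : ∀ z ∈ Z, G.i z ∈ Z)
    (hcZ : ∀ w : ↥(pullback G.s G.t), pullback.fst G.s G.t w ∈ Z → pullback.snd G.s G.t w ∈ Z → G.c w ∈ Z) :
    ∃ (V : Scheme.{u}) (g : V ⟶ G.U) (v₀ : V), IsAffine V ∧ Etale g ∧ g v₀ = u₀ ∧ IsIso (g.residueFieldMap v₀) ∧
      ∃ (W₀ : V.Opens) (P : (restrictMap G g).R.Opens) (hP : P ≤ (restrictMap G g).s ⁻¹ᵁ W₀), v₀ ∈ W₀ ∧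
        IsFinite ((restrictMap G g).s.resLE W₀ P hP) ∧
        ∀ r : (restrictMap G g).R, (r ∈ P ∧ (restrictMap G g).s r = v₀) ↔
          ((restrictMap G g).s r = v₀ ∧ (restrictMap G g).t r = v₀ ∧ rmι G g r ∈ Z) := by
  classical
  let fB := Spec.map (CommRingCat.ofHom (algebraMap A B))
  have hiUinj : Function.Injective iU := iU.isOpenEmbedding.injective
  have hjR : Function.Injective jR := jR.isOpenEmbedding.injective
  obtain ⟨p, hp⟩ := iU.surjective u₀
  -- the part over the residue field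
  have hfBp : ∀ y, jR y ∈ Z → fB y = p := fun y hy => hiUinj (by
    rw [hp, ← Scheme.Hom.comp_apply, ← hφ, Scheme.Hom.comp_apply]; exact hZs _ hy)
  obtain ⟨n, b, e₀, h₀, he₀⟩ := FinOpen.exists_part_of_isolated (A := A) (B := B) p (jR ⁻¹' Z)
    (hZ.preimage hjR.injOn) hfBp (fun y hy => by
      obtain ⟨O, hO, hO'⟩ := hiso _ hy
      refine ⟨jR ⁻¹' O, hO.preimage jR.continuous, ?_⟩
      ext y'
      constructor
      · rintro ⟨h₁, h₂⟩
        refine hjR ((Set.ext_iff.1 hO' _).1 ⟨h₁, ?_⟩)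
        show G.s (jR y') = u₀
        rw [← Scheme.Hom.comp_apply, hφ, Scheme.Hom.comp_apply, ← hp]
        exact congrArg iU h₂
      · rintro rfl
        exact ⟨((Set.ext_iff.1 hO' _).2 rfl).1, hfBp _ hy⟩)
  obtain ⟨Cd⟩ := FinOpen.exists_chart b p.asIdeal h₀
  let C := Cd.C
  let κp := p.asIdeal.ResidueField
  let V := Spec (CommRingCat.of C)
  let fC := Spec.map (CommRingCat.ofHom (algebraMap A C))
  let g : V ⟶ G.U := fC ≫ iU
  let v₀ : V := (⟨RingHom.ker Cd.pt, RingHom.ker_isPrime _⟩ : PrimeSpectrum C)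
  have hkerA : ∀ {K : Type u} [Field K] [Algebra A K] (θ : C →ₐ[A] K) (a : A),
      θ (algebraMap A C a) = algebraMap A K a := fun θ a => θ.commutes a
  have hfCv₀ : fC v₀ = p := PrimeSpectrum.ext (Ideal.ext fun a => by
    show Cd.pt (algebraMap A C a) = 0 ↔ a ∈ p.asIdeal
    rw [AlgHom.commutes, Ideal.algebraMap_residueField_eq_zero])
  have hgv₀ : g v₀ = u₀ := by rw [Scheme.Hom.comp_apply, hfCv₀, hp]
  have : Etale fC := (HasRingHomProperty.Spec_iff (P := @Etale)).2 (RingHom.etale_algebraMap.2 Cd.et)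
  have hres : IsIso (g.residueFieldMap v₀) := by
    rw [ConcreteCategory.isIso_iff_bijective]
    refine Wt.EtNbhd.residueFieldMap_bijective_comp fC iU v₀ ⟨RingHom.injective _, ?_⟩
      (ConcreteCategory.bijective_of_isIso _)
    have h1 := Wt.EtNbhd.residueFieldMap_SpecMap (CommRingCat.ofHom (algebraMap A C)) v₀
    let q₁ := (Spec.map (CommRingCat.ofHom (algebraMap A C)) v₀).asIdeal
    have : v₀.asIdeal.IsPrime := RingHom.ker_isPrime _
    let M : q₁.ResidueField →+* v₀.asIdeal.ResidueField := Ideal.ResidueField.map q₁ v₀.asIdeal (algebraMap A C) rfl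
    have hM : Function.Surjective M := by
      let d : v₀.asIdeal.ResidueField →+* κp := Ideal.ResidueField.lift v₀.asIdeal Cd.pt.toRingHom (fun x hx => hx)
        (fun x hx => isUnit_iff_ne_zero.2 hx)
      intro x
      obtain ⟨a, a', ha', hx⟩ := IsFractionRing.div_surjective (A ⧸ p.asIdeal) (K := κp) (d x)
      obtain ⟨a, rfl⟩ := Ideal.Quotient.mk_surjective a
      obtain ⟨a', rfl⟩ := Ideal.Quotient.mk_surjective a'
      refine ⟨algebraMap A q₁.ResidueField a / algebraMap A q₁.ResidueField a', d.injective ?_⟩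
      rw [← hx, map_div₀, map_div₀]
      have hd : ∀ c : A, d (M (algebraMap A q₁.ResidueField c)) = algebraMap A κp c := fun c => by
        rw [show M (algebraMap A q₁.ResidueField c) = algebraMap C v₀.asIdeal.ResidueField (algebraMap A C c) by
          simp [M], Ideal.ResidueField.lift_algebraMap]
        exact Cd.pt.commutes c
      rw [hd, hd]; rfl
    intro y
    obtain ⟨x, hx⟩ := hM ((Scheme.Spec.residueFieldIso (CommRingCat.of C) v₀).hom.hom y)
    refine ⟨(Scheme.Spec.residueFieldIso (CommRingCat.of A) (Spec.map (CommRingCat.ofHom (algebraMap A C)) v₀)).inv.hom x,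
      (ConcreteCategory.bijective_of_isIso (Scheme.Spec.residueFieldIso (CommRingCat.of C) v₀).hom).1 ?_⟩
    exact (congrArg (fun f => f.hom x) h1).trans hx
  refine ⟨V, g, v₀, inferInstance, inferInstance, hgv₀, hres, ?_⟩
  -- the universal part
  let J₀ : Ideal (C ⊗[A] B) := Ideal.span {1 - Cd.e}
  let T₀ := (C ⊗[A] B) ⧸ J₀
  let Q := Spec (CommRingCat.of T₀)
  let mk₀ : Q ⟶ Spec (CommRingCat.of (C ⊗[A] B)) := Spec.map (CommRingCat.ofHom (Ideal.Quotient.mk J₀))
  have : IsLocalization.Away Cd.e T₀ := IsLocalization.Away.quotient_of_isIdempotentElem Cd.part.1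
  have : IsOpenImmersion mk₀ := IsOpenImmersion.of_isLocalization Cd.e
  have hmk₀ : ∀ y, y ∈ Set.range mk₀ ↔ Cd.e ∉ y.asIdeal := fun y => by
    show y ∈ Set.range (PrimeSpectrum.comap (algebraMap (C ⊗[A] B) T₀)) ↔ _
    rw [PrimeSpectrum.localization_away_comap_range T₀ Cd.e]
    rfl
  obtain ⟨σC, hσC, hσC₁, hσC₂, -⟩ := exists_tensor_chart G.s g iU jR (𝟙 V) hφ (Category.id_comp _)
  rw [Category.comp_id] at hσC₂
  let κ : Q ⟶ pullback G.s g := mk₀ ≫ σC
  let ρ : Q ⟶ G.R := κ ≫ pullback.fst G.s g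
  let πQ : Q ⟶ V := κ ≫ pullback.snd G.s g
  have hρ : ρ ≫ G.s = πQ ≫ g := by simp [ρ, πQ, pullback.condition]
  have : IsFinite πQ := by
    have hfin : Module.Finite C T₀ := by
      obtain ⟨-, l, hker, hl⟩ := Cd.part
      let f : (Fin n → C) →ₗ[C] T₀ := Fintype.linearCombination C fun i => Ideal.Quotient.mk J₀ (1 ⊗ₜ b i)
      refine Module.Finite.of_surjective f fun x => ?_
      obtain ⟨x, rfl⟩ := Ideal.Quotient.mk_surjective x
      refine ⟨l x, ?_⟩
      rw [show f (l x) = Ideal.Quotient.mk J₀ (FinOpen.comb b (l x)) by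
        simp [f, Fintype.linearCombination_apply, FinOpen.comb, map_sum]
        exact Finset.sum_congr rfl fun i _ => rfl]
      refine Ideal.Quotient.eq.2 (Ideal.mem_span_singleton'.2 ⟨FinOpen.comb b (l x) - x, ?_⟩)
      have := FinOpen.mul_sub_comb b hker hl x
      rw [mul_sub, sub_eq_zero] at this
      rw [mul_sub, mul_one, sub_mul, mul_comm _ Cd.e, mul_comm _ Cd.e, this]; ring
    rw [show πQ = Spec.map (CommRingCat.ofHom (algebraMap C T₀)) by
      simp only [πQ, κ, mk₀, Category.assoc, hσC₂, ← Spec.map_comp]; rfl]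
    exact (IsFinite.SpecMap_iff _).2 (RingHom.finite_algebraMap.2 hfin)
  have hgres : Function.Bijective (g.residueFieldMap v₀) := (ConcreteCategory.isIso_iff_bijective _).1 hres
  have huniq : ∀ w w' : ↥(pullback G.s g), pullback.snd G.s g w = v₀ → pullback.snd G.s g w' = v₀ →
      pullback.fst G.s g w = pullback.fst G.s g w' → w = w' := by
    intro w w' h₁ h₂ h₃
    have hw : G.s (pullback.fst G.s g w) = g v₀ := by
      rw [← h₁, ← Scheme.Hom.comp_apply, pullback.condition, Scheme.Hom.comp_apply]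
    obtain ⟨z, -, hz⟩ := Wt.EtNbhd.existsUnique_lift G.s g _ v₀ hw hgres
    exact (hz w rfl h₁).trans (hz w' h₃.symm h₂).symm
  -- the fibre of the universal part
  let incR : B →+* p.asIdeal.ResidueField ⊗[A] B :=
    (Algebra.TensorProduct.includeRight (R := A) (A := p.asIdeal.ResidueField) : B →ₐ[A] _).toRingHom
  let yx : PrimeSpectrum (p.asIdeal.ResidueField ⊗[A] B) → Spec (CommRingCat.of (C ⊗[A] B)) :=
    PrimeSpectrum.comap (FinOpen.push (B := B) Cd.pt).toRingHom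
  have hyx₂ : ∀ x, pullback.snd G.s g (σC (yx x)) = v₀ := fun x => by
    rw [← Scheme.Hom.comp_apply, hσC₂]
    refine PrimeSpectrum.ext (Ideal.ext fun c => ?_)
    show FinOpen.push Cd.pt (c ⊗ₜ[A] (1 : B)) ∈ x.asIdeal ↔ Cd.pt c = 0
    rw [FinOpen.push_tmul]
    refine ⟨fun h => by_contra fun h0 => x.isPrime.ne_top (Ideal.eq_top_of_isUnit_mem _ h ?_), fun h => ?_⟩
    · exact (isUnit_iff_ne_zero.2 h0).map
        (Algebra.TensorProduct.includeLeft : p.asIdeal.ResidueField →ₐ[A] p.asIdeal.ResidueField ⊗[A] B)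
    · rw [h, TensorProduct.zero_tmul]; exact zero_mem _
  have hyx₁ : ∀ x, pullback.fst G.s g (σC (yx x)) = jR (PrimeSpectrum.comap incR x) := fun x => by
    rw [← Scheme.Hom.comp_apply, hσC₁, Scheme.Hom.comp_apply]
    refine congrArg jR (PrimeSpectrum.ext (Ideal.ext fun c => ?_))
    show FinOpen.push Cd.pt ((1 : C) ⊗ₜ[A] c) ∈ x.asIdeal ↔ _
    rw [FinOpen.push_tmul, map_one]; rfl
  have hyxe : ∀ x, yx x ∈ Set.range mk₀ ↔ jR (PrimeSpectrum.comap incR x) ∈ Z := fun x => by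
    rw [hmk₀]
    show FinOpen.push Cd.pt Cd.e ∉ x.asIdeal ↔ _
    rw [Cd.pt_e]
    exact he₀ x
  have hlift : ∀ zB : PrimeSpectrum B, fB zB = p → ∃ x, PrimeSpectrum.comap incR x = zB := fun zB hzB => by
    refine ⟨PrimeSpectrum.preimageHomeomorphFiber A B p ⟨zB, hzB⟩, ?_⟩
    exact congrArg Subtype.val ((PrimeSpectrum.preimageHomeomorphFiber A B p).symm_apply_apply ⟨zB, hzB⟩)
  have hκ : ∀ w : ↥(pullback G.s g), pullback.snd G.s g w = v₀ →
      (w ∈ κ.opensRange ↔ pullback.fst G.s g w ∈ Z) := by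
    intro w hw
    have hs : G.s (pullback.fst G.s g w) = u₀ := by
      rw [← hgv₀, ← hw, ← Scheme.Hom.comp_apply, pullback.condition, Scheme.Hom.comp_apply]
    constructor
    · rintro ⟨q, rfl⟩
      let y := mk₀ q
      have h1 : pullback.fst G.s g (κ q) = jR (PrimeSpectrum.comap
          (Algebra.TensorProduct.includeRight (R := A) (A := C) : B →ₐ[A] C ⊗[A] B).toRingHom y) := by
        rw [show κ q = σC (mk₀ q) from Scheme.Hom.comp_apply _ _ _, ← Scheme.Hom.comp_apply, hσC₁,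
          Scheme.Hom.comp_apply]
        rfl
      rw [h1] at hs ⊢
      rw [← hp, ← Scheme.Hom.comp_apply, hφ, Scheme.Hom.comp_apply] at hs
      obtain ⟨x, hx⟩ := hlift _ (hiUinj hs)
      rw [← hx]
      refine (hyxe x).1 ⟨q, σC.isOpenEmbedding.injective (huniq _ _ ?_ (hyx₂ x) ?_)⟩
      · rw [show κ q = σC (mk₀ q) from Scheme.Hom.comp_apply _ _ _] at hw; exact hw
      · rw [hyx₁, hx, ← h1]; rfl
    · intro hz
      obtain ⟨zB, hzB⟩ := hZR hz
      obtain ⟨x, hx⟩ := hlift zB (hfBp _ (hzB ▸ hz))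
      obtain ⟨q, hq⟩ := (hyxe x).2 (by rw [hx, hzB]; exact hz)
      refine ⟨q, (Scheme.Hom.comp_apply _ _ _).trans (huniq _ _ ?_ hw ?_)⟩
      · rw [hq]; exact hyx₂ x
      · rw [hq, hyx₁, hx, hzB]
  have hρπ : ∀ q : Q, πQ q = v₀ → ρ q ∈ Z := fun q hq => by
    rw [Scheme.Hom.comp_apply] at hq ⊢
    exact (hκ _ hq).1 ⟨q, rfl⟩
  -- translation along the universal arrow
  let σY := pullback.snd G.s (ρ ≫ G.t)
  let τY := transl G g ρ πQ hρ
  let O := τY ⁻¹ᵁ κ.opensRange
  have : IsFinite (κ ≫ pullback.snd G.s g) := ‹IsFinite πQ›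
  have hOfin : IsFinite (O.ι ≫ σY) := isFinite_transl G g ρ πQ hρ κ
  have hOclosed : IsClosed (O : Set ↥(pullback G.s (ρ ≫ G.t))) := by
    have : IsSeparated σY := inferInstance
    have : IsFinite O.ι := IsFinite.of_comp _ σY
    simpa using O.ι.isClosedMap.isClosed_range
  have hbad : IsClosed ((O.ι ≫ σY) '' ((O.ι ≫ pullback.fst G.s (ρ ≫ G.t)) ⁻¹' (jR.opensRange : Set G.R)ᶜ)) :=
    (O.ι ≫ σY).isClosedMap _ (jR.opensRange.isOpen.isClosed_compl.preimage (Scheme.Hom.continuous _))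
  let Q₁ : Q.Opens := ⟨_, hbad.isOpen_compl⟩
  have hmemO : ∀ y, πQ (σY y) = v₀ → (y ∈ O ↔ pullback.fst G.s (ρ ≫ G.t) y ∈ Z) := fun y hy =>
    mem_transl_iff G g ρ πQ hρ κ Z hiZ hcZ v₀ hκ y hy (hρπ _ hy)
  have hFfin : (πQ ⁻¹' {v₀}).Finite := πQ.finite_preimage_singleton v₀
  have hFQ₁ : πQ ⁻¹' {v₀} ⊆ Q₁ := by
    rintro q hq ⟨o, ho, hoq⟩
    rw [Scheme.Hom.comp_apply] at hoq
    refine ho ?_
    show (O.ι ≫ pullback.fst G.s (ρ ≫ G.t)) o ∈ jR.opensRange
    rw [Scheme.Hom.comp_apply]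
    exact hZR ((hmemO (O.ι o) (by rw [hoq]; exact hq)).1 o.2)
  obtain ⟨a, haQ, haF⟩ := exists_basicOpen_le_of_finite (isAffineOpen_top Q) hFfin hFQ₁ (fun _ _ => trivial)
  have haff := (isAffineOpen_top Q).basicOpen a
  let T := Γ(Q, Q.basicOpen a)
  let ι : Spec (CommRingCat.of T) ⟶ Q := haff.fromSpec
  have hιr : Set.range ι = (Q.basicOpen a : Set Q) := haff.range_fromSpec
  let rT := ι ≫ ρ
  let χ : CommRingCat.of A ⟶ CommRingCat.of T := Spec.preimage (rT ≫ G.t ≫ inv iU)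
  let _ : Algebra A T := χ.hom.toAlgebra
  have hχ : Spec.map (CommRingCat.ofHom (algebraMap A T)) ≫ iU = rT ≫ G.t := by
    show Spec.map χ ≫ iU = _
    rw [Spec.map_preimage]; simp
  obtain ⟨σT, hσT, hσT₁, hσT₂, hσTr⟩ := exists_tensor_chart G.s (ρ ≫ G.t) iU jR ι hφ
    (hχ.trans (Category.assoc _ _ _)).symm
  obtain ⟨e', he', he'O⟩ := PrimeSpectrum.exists_idempotent_basicOpen_eq_of_isClopen
    (R := T ⊗[A] B) (s := σT ⁻¹' (O : Set ↥(pullback G.s (ρ ≫ G.t))))
    ⟨hOclosed.preimage σT.continuous, O.isOpen.preimage σT.continuous⟩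
  have hfinT : Module.Finite T ((T ⊗[A] B) ⧸ Ideal.span {1 - e'}) := by
    let M := (T ⊗[A] B) ⧸ Ideal.span {1 - e'}
    let mkT : Spec (CommRingCat.of M) ⟶ Spec (CommRingCat.of (T ⊗[A] B)) :=
      Spec.map (CommRingCat.ofHom (Ideal.Quotient.mk (Ideal.span {1 - e'})))
    have : IsLocalization.Away e' M := IsLocalization.Away.quotient_of_isIdempotentElem he'
    have : IsOpenImmersion mkT := IsOpenImmersion.of_isLocalization e'
    have hmkT : Set.range mkT = σT ⁻¹' (O : Set ↥(pullback G.s (ρ ≫ G.t))) := by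
      rw [he'O]
      exact PrimeSpectrum.localization_away_comap_range M e'
    let pF := pullback.fst (O.ι ≫ σY) ι ≫ O.ι
    have hrange : Set.range pF = Set.range (mkT ≫ σT) := by
      have hR : Set.range (pullback.fst (O.ι ≫ σY) ι) = (O.ι ≫ σY) ⁻¹' Set.range ι :=
        Scheme.Pullback.range_fst _ _
      simp only [pF, Scheme.Hom.comp_base, TopCat.coe_comp, Set.range_comp, hR, hmkT]
      rw [Set.image_preimage_eq_inter_range, hσTr]
      ext y
      simp only [Set.mem_image, Set.mem_preimage, Set.mem_inter_iff, Function.comp_apply, hιr]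
      constructor
      · rintro ⟨o, ho, rfl⟩
        refine ⟨o.2, ?_, ho⟩
        by_contra hn
        exact haQ ho ⟨o, hn, rfl⟩
      · rintro ⟨ho, -, hy⟩
        exact ⟨⟨y, ho⟩, hy, rfl⟩
    let iso := IsOpenImmersion.isoOfRangeEq pF (mkT ≫ σT) hrange
    have hiso : iso.inv ≫ pullback.snd (O.ι ≫ σY) ι = Spec.map (CommRingCat.ofHom (algebraMap T M)) := by
      rw [← cancel_mono ι, Category.assoc, ← pullback.condition, ← Category.assoc (pullback.fst _ _),
        IsOpenImmersion.isoOfRangeEq_inv_fac_assoc, Category.assoc, hσT₂, ← Spec.map_comp_assoc]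
      rfl
    have : IsFinite (Spec.map (CommRingCat.ofHom (algebraMap T M))) := by rw [← hiso]; infer_instance
    exact RingHom.finite_algebraMap.1 ((IsFinite.SpecMap_iff _).1 this)
  -- the points over the marked point
  let F₀ : Set (PrimeSpectrum T) := (ι ≫ πQ) ⁻¹' {v₀}
  have hF₀ : F₀.Finite := by
    have : F₀ = (fun x => ι x) ⁻¹' (πQ ⁻¹' {v₀}) := by
      ext x
      exact iff_of_eq (congrArg (· = v₀) (Scheme.Hom.comp_apply ι πQ x))
    rw [this]
    exact hFfin.preimage ι.isOpenEmbedding.injective.injOn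
  have hdata : ∀ P ∈ F₀, ∃ ψ : κp →ₐ[A] P.asIdeal.ResidueField,
      FinOpen.push (IsScalarTower.toAlgHom A T P.asIdeal.ResidueField) e' = FinOpen.push ψ e₀ := by
    intro P hP
    have hPv : πQ (ι P) = v₀ := by rw [← Scheme.Hom.comp_apply]; exact hP
    have hχP : PrimeSpectrum.comap (algebraMap A T) P = p := by
      refine hiUinj ?_
      rw [hp]
      show iU (Spec.map (CommRingCat.ofHom (algebraMap A T)) P) = _
      rw [← Scheme.Hom.comp_apply, hχ, Scheme.Hom.comp_apply, Scheme.Hom.comp_apply]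
      exact hZt _ (hρπ _ hPv)
    let θ := IsScalarTower.toAlgHom A T P.asIdeal.ResidueField
    have hker : ∀ a : A, algebraMap A P.asIdeal.ResidueField a = 0 ↔ a ∈ p.asIdeal := fun a => by
      rw [← θ.commutes a, show θ (algebraMap A T a) = algebraMap T P.asIdeal.ResidueField (algebraMap A T a)
        from rfl, Ideal.algebraMap_residueField_eq_zero, ← hχP]
      rfl
    let ψ : κp →ₐ[A] P.asIdeal.ResidueField := Ideal.ResidueField.liftₐ p.asIdeal (Algebra.ofId A _)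
      (fun a ha => (hker a).2 ha) (fun a ha => isUnit_iff_ne_zero.2 (mt (hker a).1 ha))
    refine ⟨ψ, PrimeSpectrum.basicOpen_injOn_isIdempotentElem (he'.map _) (h₀.1.map _) (SetLike.ext fun x => ?_)⟩
    show FinOpen.push θ e' ∉ x.asIdeal ↔ FinOpen.push ψ e₀ ∉ x.asIdeal
    let y : Spec (CommRingCat.of (T ⊗[A] B)) := PrimeSpectrum.comap (FinOpen.push (B := B) θ).toRingHom x
    let z : PrimeSpectrum (p.asIdeal.ResidueField ⊗[A] B) :=
      PrimeSpectrum.comap (FinOpen.push (B := B) ψ).toRingHom x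
    have hy₂ : σY (σT y) = ι P := by
      rw [← Scheme.Hom.comp_apply, hσT₂, Scheme.Hom.comp_apply]
      refine congrArg ι (PrimeSpectrum.ext (Ideal.ext fun c => ?_))
      show FinOpen.push θ (c ⊗ₜ[A] (1 : B)) ∈ x.asIdeal ↔ c ∈ P.asIdeal
      rw [FinOpen.push_tmul, ← Ideal.algebraMap_residueField_eq_zero (I := P.asIdeal)]
      refine ⟨fun h => by_contra fun h0 => x.isPrime.ne_top (Ideal.eq_top_of_isUnit_mem _ h ?_), fun h => ?_⟩
      · exact (isUnit_iff_ne_zero.2 h0).map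
          (Algebra.TensorProduct.includeLeft : P.asIdeal.ResidueField →ₐ[A] P.asIdeal.ResidueField ⊗[A] B)
      · rw [show θ c = 0 from h, TensorProduct.zero_tmul]; exact zero_mem _
    have hyz : pullback.fst G.s (ρ ≫ G.t) (σT y) = jR (PrimeSpectrum.comap incR z) := by
      rw [← Scheme.Hom.comp_apply, hσT₁, Scheme.Hom.comp_apply]
      refine congrArg jR (PrimeSpectrum.ext (Ideal.ext fun c => ?_))
      show FinOpen.push θ ((1 : T) ⊗ₜ[A] c) ∈ x.asIdeal ↔ FinOpen.push ψ ((1 : κp) ⊗ₜ[A] c) ∈ x.asIdeal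
      rw [FinOpen.push_tmul, FinOpen.push_tmul, map_one, map_one]
    have h1 : FinOpen.push θ e' ∉ x.asIdeal ↔ σT y ∈ O := (Set.ext_iff.1 he'O y).symm
    rw [h1, hmemO _ (by rw [hy₂]; exact hPv), hyz]
    exact (he₀ z).symm
  obtain ⟨g₁, g₂, φ, hd⟩ := Cd.exists_classify h₀ T he' F₀ hF₀ hdata
  let T₁ := Localization.Away g₁
  let T₂ := Localization.Away g₂
  let ι₁ : Spec (CommRingCat.of T₁) ⟶ Spec (CommRingCat.of T) := Spec.map (CommRingCat.ofHom (algebraMap T T₁))
  let ι₂ : Spec (CommRingCat.of T₂) ⟶ Spec (CommRingCat.of T₁) := Spec.map (CommRingCat.ofHom (algebraMap T₁ T₂))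
  have : IsOpenImmersion ι₁ := IsOpenImmersion.of_isLocalization g₁
  have : IsOpenImmersion ι₂ := IsOpenImmersion.of_isLocalization g₂
  let ι' : Spec (CommRingCat.of T₂) ⟶ Q := ι₂ ≫ ι₁ ≫ ι
  let τ : Spec (CommRingCat.of T₂) ⟶ V := Spec.map (CommRingCat.ofHom φ.toRingHom)
  have hτg : τ ≫ g = ι' ≫ ρ ≫ G.t := by
    rw [show τ ≫ g = (τ ≫ fC) ≫ iU from (Category.assoc _ _ _).symm, ← Spec.map_comp, ← CommRingCat.ofHom_comp,
      show φ.toRingHom.comp (algebraMap A C) = ((algebraMap T₁ T₂).comp (algebraMap T T₁)).comp (algebraMap A T) from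
        RingHom.ext fun a => φ.commutes a,
      CommRingCat.ofHom_comp, CommRingCat.ofHom_comp, Spec.map_comp, Spec.map_comp, Category.assoc,
      Category.assoc, hχ]
    simp [ι', rT, ι₁, ι₂]
  have hι'F : ∀ q, πQ q = v₀ → q ∈ Set.range ι' ∧ ∀ d, ι' d = q → τ d = v₀ := by
    intro q hq
    obtain ⟨P, hP⟩ : q ∈ Set.range ι := hιr ▸ haF hq
    obtain ⟨d₀, hd₁, hd₂⟩ := hd P (by show (ι ≫ πQ) P = v₀; rw [Scheme.Hom.comp_apply, hP]; exact hq)
    have hd₀ : ι' d₀ = q := by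
      rw [Scheme.Hom.comp_apply, Scheme.Hom.comp_apply, ← hP]
      exact congrArg ι (PrimeSpectrum.ext (Ideal.ext fun c => hd₁ c))
    refine ⟨⟨d₀, hd₀⟩, fun d hd' => ?_⟩
    obtain rfl : d = d₀ := ι'.isOpenEmbedding.injective (hd'.trans hd₀.symm)
    exact PrimeSpectrum.ext (Ideal.ext fun c => hd₂ c)
  -- the neighbourhood
  have hW₀c : IsClosed (πQ '' (ι'.opensRange : Set Q)ᶜ) := πQ.isClosedMap _ ι'.opensRange.isOpen.isClosed_compl
  let W₀ : V.Opens := ⟨_, hW₀c.isOpen_compl⟩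
  have hv₀ : v₀ ∈ W₀ := fun ⟨q, hn, hq⟩ => hn (hι'F q hq).1
  let D : (Spec (CommRingCat.of T₂)).Opens := (ι' ≫ πQ) ⁻¹ᵁ W₀
  let H := restrictMap G g
  let J : (D : Scheme.{u}) ⟶ H.R := rmLift G g (D.ι ≫ ι' ≫ ρ) (D.ι ≫ τ) (D.ι ≫ ι' ≫ πQ)
    (by simp only [Category.assoc, hτg]) (by simp only [Category.assoc, hρ])
  have hJι : J ≫ rmι G g = D.ι ≫ ι' ≫ ρ := rmLift_ι _ _ _ _ _ _ _
  have hJs : J ≫ H.s = D.ι ≫ ι' ≫ πQ := rmLift_S _ _ _ _ _ _ _
  have hJt : J ≫ H.t = D.ι ≫ τ := rmLift_T _ _ _ _ _ _ _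
  let K : rmR G g ⟶ pullback G.s g := pullback.lift (rmι G g) (rmS G g) (rmι_s G g)
  have hK : IsPullback (pullback.fst (pullback.fst G.t g ≫ G.s) g) K (pullback.fst G.t g) (pullback.fst G.s g) := by
    refine IsPullback.of_bot ?_ (pullback.lift_fst _ _ _).symm (IsPullback.of_hasPullback G.s g)
    rw [show K ≫ pullback.snd G.s g = rmS G g from pullback.lift_snd _ _ _]
    exact IsPullback.of_hasPullback (pullback.fst G.t g ≫ G.s) g
  have : Etale (pullback.fst G.t g) := MorphismProperty.pullback_fst _ _ inferInstance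
  have : Etale K := MorphismProperty.of_isPullback hK inferInstance
  have hJK : J ≫ K = D.ι ≫ ι' ≫ κ := by
    apply pullback.hom_ext
    · rw [Category.assoc, pullback.lift_fst, hJι]; simp [ρ]
    · rw [Category.assoc, pullback.lift_snd]; exact hJs.trans (by simp [πQ])
  have hJKoi : IsOpenImmersion (J ≫ K) := by rw [hJK]; infer_instance
  have : Etale (J ≫ K) := inferInstance
  have : Etale J := Etale.of_comp J K
  have : Mono J := mono_of_mono J K
  have : IsOpenImmersion J := IsOpenImmersion.of_flat_of_mono J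
  have hPs : J.opensRange ≤ H.s ⁻¹ᵁ W₀ := by
    rintro _ ⟨d, rfl⟩
    show H.s (J d) ∈ W₀
    rw [← Scheme.Hom.comp_apply, hJs, Scheme.Hom.comp_apply]
    exact d.2
  refine ⟨W₀, J.opensRange, hPs, hv₀, ?_, fun r => ⟨?_, ?_⟩⟩
  · let Q' : Q.Opens := πQ ⁻¹ᵁ W₀
    have hr : Set.range (D.ι ≫ ι') = Set.range Q'.ι := by
      ext q
      simp only [Set.mem_range, Scheme.Opens.range_ι]
      constructor
      · rintro ⟨d, rfl⟩
        show πQ ((D.ι ≫ ι') d) ∈ W₀
        rw [← Scheme.Hom.comp_apply, Category.assoc, Scheme.Hom.comp_apply]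
        exact d.2
      · intro hq
        obtain ⟨x, rfl⟩ : q ∈ Set.range ι' := by_contra fun hn => hq ⟨q, hn, rfl⟩
        exact ⟨⟨x, by show (ι' ≫ πQ) x ∈ W₀; rw [Scheme.Hom.comp_apply]; exact hq⟩,
          Scheme.Hom.comp_apply _ _ _⟩
    let iso := IsOpenImmersion.isoOfRangeEq (D.ι ≫ ι') Q'.ι hr
    have h1 : (J.isoOpensRange).hom ≫ H.s.resLE W₀ J.opensRange hPs = iso.hom ≫ (πQ ∣_ W₀) := by
      rw [← cancel_mono W₀.ι, Category.assoc, Category.assoc, Scheme.Hom.resLE_comp_ι, morphismRestrict_ι,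
        IsOpenImmersion.isoOfRangeEq_hom_fac_assoc, ← Category.assoc, Scheme.Hom.isoOpensRange_hom_ι]
      exact hJs.trans (Category.assoc _ _ _).symm
    have : IsFinite (πQ ∣_ W₀) := IsZariskiLocalAtTarget.restrict ‹IsFinite πQ› W₀
    rw [← MorphismProperty.cancel_left_of_respectsIso @IsFinite (J.isoOpensRange).hom, h1]
    infer_instance
  · rintro ⟨⟨d, rfl⟩, hs⟩
    have hd : πQ (ι' d.1) = v₀ := by
      rw [← Scheme.Hom.comp_apply, hJs, Scheme.Hom.comp_apply, Scheme.Hom.comp_apply] at hs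
      exact hs
    refine ⟨hs, ?_, ?_⟩
    · rw [← Scheme.Hom.comp_apply, hJt, Scheme.Hom.comp_apply]
      exact (hι'F _ hd).2 _ rfl
    · rw [show rmι G g (J d) = ρ (ι' d.1) from congrArg (fun f : (D : Scheme.{u}) ⟶ G.R => f d) hJι]
      exact hρπ _ hd
  · rintro ⟨hs, ht, hz⟩
    refine ⟨?_, hs⟩
    let w := K r
    have hw₂ : pullback.snd G.s g w = v₀ := by
      rw [← Scheme.Hom.comp_apply, pullback.lift_snd]; exact hs
    have hw₁ : pullback.fst G.s g w = rmι G g r := by rw [← Scheme.Hom.comp_apply, pullback.lift_fst]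
    obtain ⟨q, hq⟩ := (hκ w hw₂).2 (hw₁ ▸ hz)
    have hqv : πQ q = v₀ := by rw [Scheme.Hom.comp_apply, hq]; exact hw₂
    have hρq : ρ q = rmι G g r := by rw [Scheme.Hom.comp_apply, hq]; exact hw₁
    obtain ⟨⟨d₀, hd₀⟩, hτ⟩ := hι'F q hqv
    have hd₀W : d₀ ∈ D := by show (ι' ≫ πQ) d₀ ∈ W₀; rw [Scheme.Hom.comp_apply, hd₀, hqv]; exact hv₀
    refine ⟨⟨d₀, hd₀W⟩, ?_⟩
    have e₁ : ∀ x, H.s x = v₀ → H.t x = v₀ →
        pullback.fst G.t g (pullback.fst (pullback.fst G.t g ≫ G.s) g x) = rmι G g x ∧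
        pullback.snd G.t g (pullback.fst (pullback.fst G.t g ≫ G.s) g x) = v₀ ∧
        pullback.snd (pullback.fst G.t g ≫ G.s) g x = v₀ := fun x hx hx' =>
      ⟨(Scheme.Hom.comp_apply _ _ _).symm, (Scheme.Hom.comp_apply _ _ _).symm.trans hx', hx⟩
    have hsd : H.s (J ⟨d₀, hd₀W⟩) = v₀ := by
      rw [← Scheme.Hom.comp_apply, hJs, Scheme.Hom.comp_apply, Scheme.Hom.comp_apply]; exact hd₀ ▸ hqv
    have htd : H.t (J ⟨d₀, hd₀W⟩) = v₀ := by
      rw [← Scheme.Hom.comp_apply, hJt, Scheme.Hom.comp_apply]; exact hτ _ hd₀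
    have hιd : rmι G g (J ⟨d₀, hd₀W⟩) = rmι G g r :=
      (congrArg (fun f : (D : Scheme.{u}) ⟶ G.R => f ⟨d₀, hd₀W⟩) hJι).trans
        ((congrArg ρ hd₀).trans hρq)
    obtain ⟨a₁, a₂, a₃⟩ := e₁ _ hsd htd
    obtain ⟨b₁, b₂, b₃⟩ := e₁ r hs ht
    have htg : G.t (rmι G g r) = g v₀ := by
      rw [← Scheme.Hom.comp_apply, rmι_t, Scheme.Hom.comp_apply]; exact congrArg g ht
    obtain ⟨z₁, -, hz₁⟩ := Wt.EtNbhd.existsUnique_lift G.t g (rmι G g r) v₀ htg hgres
    have hmid := (hz₁ _ (a₁.trans hιd) a₂).trans (hz₁ _ b₁ b₂).symm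
    have hsg : (pullback.fst G.t g ≫ G.s) (pullback.fst (pullback.fst G.t g ≫ G.s) g r) = g v₀ := by
      rw [← b₃, ← Scheme.Hom.comp_apply, pullback.condition, Scheme.Hom.comp_apply]
    obtain ⟨z₂, -, hz₂⟩ := Wt.EtNbhd.existsUnique_lift (pullback.fst G.t g ≫ G.s) g _ v₀ hsg hgres
    exact (hz₂ _ hmid a₃).trans (hz₂ _ rfl b₃).symm

end Groth.Agent.GrpdLib
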