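import Groth.Agent.GrpdLib.Basic
import Mathlib.AlgebraicGeometry.Morphisms.Finite

/-!
# Translating an open part of the source fibres along arrows
-/

universe u

set_option maxHeartbeats 400000

open CategoryTheory CategoryTheory.Limits AlgebraicGeometry

namespace Groth.Agent.GrpdLib

variable {S : Scheme.{u}} (G : Grpd.GroupoidScheme S) {V D : Scheme.{u}} (g : V ⟶ G.U) (r : D ⟶ G.R)
  (v : D ⟶ V) (hr : r ≫ G.s = v ≫ g)

/-- Translation of the source fibres by `r`. -/
noncomputable def transl : pullback G.s (r ≫ G.t) ⟶ pullback G.s g :=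
  pullback.lift (comp G (pullback.fst _ _) (pullback.snd _ _ ≫ r)
      (by rw [pullback.condition, Category.assoc]))
    (pullback.snd _ _ ≫ v) (by rw [comp_s, Category.assoc, hr, Category.assoc])

lemma transl_fst : transl G g r v hr ≫ pullback.fst G.s g =
    comp G (pullback.fst _ _) (pullback.snd _ _ ≫ r) (by rw [pullback.condition, Category.assoc]) :=
  pullback.lift_fst _ _ _

lemma transl_snd : transl G g r v hr ≫ pullback.snd G.s g = pullback.snd G.s (r ≫ G.t) ≫ v :=
  pullback.lift_snd _ _ _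

/-- Translation is a base change. -/
lemma isPullback_transl :
    IsPullback (transl G g r v hr) (pullback.snd G.s (r ≫ G.t)) (pullback.snd G.s g) v := by
  have hw : ∀ c : PullbackCone (pullback.snd G.s g) v,
      (c.fst ≫ pullback.fst G.s g) ≫ G.s = (c.snd ≫ r) ≫ G.s := fun c => by
    rw [Category.assoc, Category.assoc, pullback.condition, reassoc_of% c.condition, hr]
  refine ⟨⟨transl_snd G g r v hr⟩, ⟨PullbackCone.IsLimit.mk (transl_snd G g r v hr)
    (fun c => pullback.lift (comp G (c.fst ≫ pullback.fst G.s g) ((c.snd ≫ r) ≫ G.i) (by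
      rw [hw c]; simp)) c.snd (by rw [comp_s]; simp)) ?_ (fun c => pullback.lift_snd _ _ _) ?_⟩⟩
  · intro c
    apply pullback.hom_ext
    · rw [Category.assoc, transl_fst, naturality]
      exact (comp_congr G _ (by rw [comp_s]; simp) (pullback.lift_fst _ _ _) (pullback.lift_snd_assoc _ _ _ _)).trans
        (comp_inv_cancel_right G _ _ (hw c))
    · rw [Category.assoc, transl_snd, pullback.lift_snd_assoc, c.condition]
  · intro c m h₁ h₂
    refine pullback.hom_ext ?_ (h₂.trans (pullback.lift_snd _ _ _).symm)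
    rw [pullback.lift_fst]
    have e : comp G (m ≫ pullback.fst G.s (r ≫ G.t)) (c.snd ≫ r)
        (by rw [← h₂]; simp [pullback.condition]) = c.fst ≫ pullback.fst G.s g := by
      refine Eq.trans ?_ (congrArg (· ≫ pullback.fst G.s g) h₁)
      refine Eq.trans ?_ (Category.assoc _ _ _).symm
      rw [transl_fst, naturality]
      exact comp_congr G _ _ rfl (by rw [← h₂, Category.assoc])
    exact (comp_cancel_right G _ _ _).symm.trans (comp_congr G _ _ e rfl)

variable {Q : Scheme.{u}} (κ : Q ⟶ pullback G.s g) [IsOpenImmersion κ] [IsFinite (κ ≫ pullback.snd G.s g)]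

/-- The translated part is finite over the base. -/
lemma isFinite_transl :
    IsFinite ((transl G g r v hr ⁻¹ᵁ κ.opensRange).ι ≫ pullback.snd G.s (r ≫ G.t)) := by
  let O := transl G g r v hr ⁻¹ᵁ κ.opensRange
  let l : (O : Scheme.{u}) ⟶ Q := IsOpenImmersion.lift κ (O.ι ≫ transl G g r v hr) (by
    rintro _ ⟨x, rfl⟩; rw [Scheme.Hom.comp_apply]; exact x.2)
  have h₁ : IsPullback l O.ι κ (transl G g r v hr) :=
    IsOpenImmersion.isPullback _ _ _ _ (IsOpenImmersion.lift_fac _ _ _).symm (by simp [O])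
  exact MorphismProperty.of_isPullback (h₁.paste_vert (isPullback_transl G g r v hr)) inferInstance

/-- Membership in the translated part at points where the part is known. -/
lemma mem_transl_iff (Z : Set G.R) (hiZ : ∀ z ∈ Z, G.i z ∈ Z)
    (hcZ : ∀ w : ↥(pullback G.s G.t), pullback.fst G.s G.t w ∈ Z → pullback.snd G.s G.t w ∈ Z → G.c w ∈ Z)
    (v₀ : V) (hκ : ∀ w : ↥(pullback G.s g), pullback.snd G.s g w = v₀ →
      (w ∈ κ.opensRange ↔ pullback.fst G.s g w ∈ Z))
    (x : ↥(pullback G.s (r ≫ G.t))) (hv : v (pullback.snd G.s (r ≫ G.t) x) = v₀)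
    (hrZ : r (pullback.snd G.s (r ≫ G.t) x) ∈ Z) :
    x ∈ transl G g r v hr ⁻¹ᵁ κ.opensRange ↔ pullback.fst G.s (r ≫ G.t) x ∈ Z := by
  let α := pullback.fst G.s (r ≫ G.t)
  let β := pullback.snd G.s (r ≫ G.t) ≫ r
  have hαβ : α ≫ G.s = β ≫ G.t := by simp [α, β, pullback.condition]
  have hsnd : pullback.snd G.s g (transl G g r v hr x) = v₀ := by
    rw [← Scheme.Hom.comp_apply, transl_snd, Scheme.Hom.comp_apply]; exact hv
  have hfst : pullback.fst G.s g (transl G g r v hr x) = G.c (pullback.lift α β hαβ x) := by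
    rw [← Scheme.Hom.comp_apply, transl_fst, comp, Scheme.Hom.comp_apply]
  show transl G g r v hr x ∈ κ.opensRange ↔ _
  rw [hκ _ hsnd, hfst]
  constructor
  · intro h
    have e : pullback.lift (comp G α β hαβ) (β ≫ G.i) (by simp) ≫ G.c = α := comp_cancel_right G α β hαβ
    have e₁ : pullback.fst G.s G.t (pullback.lift (comp G α β hαβ) (β ≫ G.i) (by simp) x) =
        G.c (pullback.lift α β hαβ x) := by
      rw [← Scheme.Hom.comp_apply, pullback.lift_fst, comp, Scheme.Hom.comp_apply]
    have e₂ : pullback.snd G.s G.t (pullback.lift (comp G α β hαβ) (β ≫ G.i) (by simp) x) = G.i (β x) := by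
      rw [← Scheme.Hom.comp_apply, pullback.lift_snd, Scheme.Hom.comp_apply]
    have := hcZ _ (e₁ ▸ h) (e₂ ▸ hiZ _ (by rw [Scheme.Hom.comp_apply]; exact hrZ))
    rwa [← Scheme.Hom.comp_apply, e] at this
  · intro h
    refine hcZ _ ?_ ?_
    · rw [← Scheme.Hom.comp_apply, pullback.lift_fst]; exact h
    · rw [← Scheme.Hom.comp_apply, pullback.lift_snd, Scheme.Hom.comp_apply]; exact hrZ

end Groth.Agent.GrpdLib
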