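import Groth.Agent.FittLib.Rank
import Groth.Agent.Thick.Unram
import Groth.Agent.IdealSh.Comap
import Groth.Prelude.Def_Mor2
import Mathlib.AlgebraicGeometry.Morphisms.FlatRank
import Mathlib.RingTheory.Finiteness.ModuleFinitePresentation

/-!
# Fitting ideals of a finite morphism
-/

set_option autoImplicit false
set_option linter.style.haveILetI false
set_option maxHeartbeats 400000
set_option backward.isDefEq.respectTransparency false
set_option backward.isDefEq.respectTransparency.types false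

universe u

open CategoryTheory CategoryTheory.Limits AlgebraicGeometry TopologicalSpace TensorProduct

namespace Groth.Agent.GrpdLib.FittingHom

variable {X Y X' Y' : Scheme.{u}}

/-- The Fitting ideal of `f_* O_X` over an open. -/
noncomputable def fitI (f : X ⟶ Y) (k : ℕ) (U : Y.Opens) : Ideal Γ(Y, U) :=
  letI := (f.app U).hom.toAlgebra
  Fitt.ideal Γ(Y, U) Γ(X, f ⁻¹ᵁ U) k

variable {f : X ⟶ Y} {f' : X' ⟶ Y'} {g : Y' ⟶ Y} {gX : X' ⟶ X}

lemma exists_isBaseChange [IsAffineHom f] (hc : IsPullback f' gX g f) {U : Y.Opens} {V : Y'.Opens}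
    (hU : IsAffineOpen U) (hV : IsAffineOpen V) (e : V ≤ g ⁻¹ᵁ U) :
    ∃ h', IsPushout (g.appLE U V e) (f.app U) (f'.app V) (gX.appLE (f ⁻¹ᵁ U) (f' ⁻¹ᵁ V) h') :=
  Groth.Agent.Thick.Unram.isPushout_appLE hc hU hV e

lemma fitI_map [IsFinite f] (hc : IsPullback f' gX g f) {U : Y.Opens} {V : Y'.Opens}
    (hU : IsAffineOpen U) (hV : IsAffineOpen V) (e : V ≤ g ⁻¹ᵁ U) (k : ℕ) :
    (fitI f k U).map (g.appLE U V e).hom = fitI f' k V := by
  obtain ⟨h', hp⟩ := exists_isBaseChange hc hU hV e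
  let φ := gX.appLE (f ⁻¹ᵁ U) (f' ⁻¹ᵁ V) h'
  letI := (f.app U).hom.toAlgebra
  letI := (f'.app V).hom.toAlgebra
  letI := (g.appLE U V e).hom.toAlgebra
  letI := φ.hom.toAlgebra
  letI := (g.appLE U V e ≫ f'.app V).hom.toAlgebra
  have : IsScalarTower Γ(Y, U) Γ(Y', V) Γ(X', f' ⁻¹ᵁ V) := IsScalarTower.of_algebraMap_eq fun _ => rfl
  have : IsScalarTower Γ(Y, U) Γ(X, f ⁻¹ᵁ U) Γ(X', f' ⁻¹ᵁ V) :=
    IsScalarTower.of_algebraMap_eq fun x => congrArg (fun h => h.hom x) hp.w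
  have : Algebra.IsPushout Γ(Y, U) Γ(Y', V) Γ(X, f ⁻¹ᵁ U) Γ(X', f' ⁻¹ᵁ V) :=
    CommRingCat.isPushout_iff_isPushout.1 hp
  have : Module.Finite Γ(Y, U) Γ(X, f ⁻¹ᵁ U) := f.finite_app U hU
  exact (FittLib.ideal_isBaseChange (Algebra.IsPushout.out (R := Γ(Y, U)) (S := Γ(Y', V))
    (R' := Γ(X, f ⁻¹ᵁ U)) (S' := Γ(X', f' ⁻¹ᵁ V))) k).symm

lemma fitI_basicOpen (f : X ⟶ Y) [IsFinite f] (U : Y.affineOpens) (a : Γ(Y, U.1)) (k : ℕ) :
    (fitI f k U.1).map (Y.presheaf.map (homOfLE (Y.basicOpen_le a)).op).hom =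
      fitI f k (Y.basicOpen a) := by
  have h := fitI_map (g := 𝟙 Y) (gX := 𝟙 X) (f' := f)
    (IsPullback.of_vert_isIso (⟨by simp⟩ : CommSq f (𝟙 X) (𝟙 Y) f)) U.2 (U.2.basicOpen a)
    (Y.basicOpen_le a) k
  rw [← h]
  congr 2

/-- The Fitting ideal sheaf of `f_* O_X`. -/
noncomputable def fitF (f : X ⟶ Y) [IsFinite f] (k : ℕ) : Y.IdealSheafData where
  ideal U := fitI f k U.1
  map_ideal_basicOpen U a := fitI_basicOpen f U a k

lemma fitF_ideal (f : X ⟶ Y) [IsFinite f] (k : ℕ) (U : Y.affineOpens) :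
    (fitF f k).ideal U = fitI f k U.1 := rfl

lemma comap_fitF [IsFinite f] [IsFinite f'] (hc : IsPullback f' gX g f) (k : ℕ) :
    (fitF f k).comap g = fitF f' k := by
  refine IdealSh.Comap.ext_of_forall_exists _ _ fun x => ?_
  obtain ⟨U, V, hx, e⟩ := IdealSh.Comap.exists_affine_pair g x
  refine ⟨V, hx, ?_⟩
  rw [IdealSh.Comap.ideal_comap _ g U V e, fitF_ideal, fitF_ideal]
  exact fitI_map hc U.2 V.2 e k

lemma fitF_mono (f : X ⟶ Y) [IsFinite f] {k k' : ℕ} (h : k ≤ k') : fitF f k ≤ fitF f k' := fun U => by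
  letI := (f.app U.1).hom.toAlgebra
  have : Module.Finite Γ(Y, U.1) Γ(X, f ⁻¹ᵁ U.1) := f.finite_app U.1 U.2
  exact FittLib.ideal_mono h

lemma fitF_zero_of_section (f : X ⟶ Y) [IsFinite f] (e : Y ⟶ X) (he : e ≫ f = 𝟙 Y) :
    fitF f 0 = ⊥ := by
  refine le_bot_iff.1 fun U => ?_
  letI := (f.app U.1).hom.toAlgebra
  have : Module.Finite Γ(Y, U.1) Γ(X, f ⁻¹ᵁ U.1) := f.finite_app U.1 U.2
  intro a ha
  have h1 : a ∈ Module.annihilator Γ(Y, U.1) Γ(X, f ⁻¹ᵁ U.1) := FittLib.ideal_zero_le_annihilator ha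
  have h2 : f.app U.1 a = 0 := by
    have := Module.mem_annihilator.1 h1 (1 : Γ(X, f ⁻¹ᵁ U.1))
    rw [Algebra.smul_def, _root_.mul_one] at this
    exact this
  have hle : U.1 ≤ e ⁻¹ᵁ (f ⁻¹ᵁ U.1) := by rw [← Scheme.Hom.comp_preimage, he]; exact le_rfl
  have h3 : f.app U.1 ≫ e.appLE (f ⁻¹ᵁ U.1) U.1 hle = 𝟙 _ := by
    rw [Scheme.Hom.app_eq_appLE, Scheme.Hom.appLE_comp_appLE]
    simp only [he]
    simp [Scheme.Hom.appLE]
    exact Y.presheaf.map_id _
  have h4 := congrArg (fun φ => φ.hom a) h3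
  simp only [CommRingCat.hom_comp, RingHom.comp_apply, CommRingCat.hom_id, RingHom.id_apply] at h4
  show a ∈ (⊥ : Y.IdealSheafData).ideal U
  rw [Scheme.IdealSheafData.ideal_bot, Pi.bot_apply, Ideal.mem_bot, ← h4]
  exact (congrArg _ h2).trans (map_zero _)

lemma exists_notMem_support (f : X ⟶ Y) [IsFinite f] (y : Y) :
    ∃ k, y ∉ (fitF f k).support := by
  obtain ⟨U, hy, -⟩ := IdealSh.Comap.exists_affine_le y ⊤ trivial
  letI := (f.app U.1).hom.toAlgebra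
  have : Module.Finite Γ(Y, U.1) Γ(X, f ⁻¹ᵁ U.1) := f.finite_app U.1 U.2
  obtain ⟨n, x, hx⟩ := Module.Finite.exists_fin (R := Γ(Y, U.1)) (M := Γ(X, f ⁻¹ᵁ U.1))
  refine ⟨n, fun h => ?_⟩
  rw [Scheme.IdealSheafData.mem_support_iff_of_mem (U := U) hy, fitF_ideal,
    show fitI f n U.1 = ⊤ from FittLib.ideal_eq_top x hx le_rfl, Scheme.mem_zeroLocus_iff] at h
  exact h 1 trivial (by simpa using hy)

lemma isPullback_app (f : X ⟶ Y) {V : Y.Opens} (hV : IsAffineOpen V) (hfV : IsAffineOpen (f ⁻¹ᵁ V)) :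
    IsPullback hfV.fromSpec (Spec.map (f.app V)) f hV.fromSpec := by
  refine (IsOpenImmersion.isPullback _ _ _ _ ?_ ?_).flip
  · rw [Scheme.Hom.app_eq_appLE]
    exact (hV.SpecMap_appLE_fromSpec f hfV le_rfl).symm
  · rw [IsAffineOpen.opensRange_fromSpec, IsAffineOpen.opensRange_fromSpec]

/-- The Fitting criterion for being finite locally free of degree `n`. -/
theorem finLocFreeOfDeg_of_fitF (f : X ⟶ Y) [IsFinite f] (n : ℕ)
    (h₀ : ∀ k < n, fitF f k = ⊥) (h₁ : fitF f n = ⊤) : Mor2.IsFinLocFreeOfDeg n f := by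
  have key : ∀ y : Y, ∃ (V : Y.affineOpens), y ∈ V.1 ∧
      letI := (f.app V.1).hom.toAlgebra
      Nonempty (Module.Basis (Fin n) Γ(Y, V.1) Γ(X, f ⁻¹ᵁ V.1)) := fun y => by
    obtain ⟨U, hy, -⟩ := IdealSh.Comap.exists_affine_le y ⊤ trivial
    letI := (f.app U.1).hom.toAlgebra
    have : Module.Finite Γ(Y, U.1) Γ(X, f ⁻¹ᵁ U.1) := f.finite_app U.1 U.2
    have hn : ¬ fitI f n U.1 ≤ (U.2.primeIdealOf ⟨y, hy⟩).asIdeal := by
      rw [← fitF_ideal, h₁, Scheme.IdealSheafData.ideal_top, Pi.top_apply, top_le_iff]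
      exact Ideal.IsPrime.ne_top inferInstance
    obtain ⟨a, ha, m, hm⟩ := (FittLib.not_le_iff_exists_smul_mem _ _).1 hn
    let V : Y.affineOpens := ⟨Y.basicOpen a, U.2.basicOpen a⟩
    have hyV : y ∈ V.1 := by
      have h2 : U.2.primeIdealOf ⟨y, hy⟩ ∈ U.2.fromSpec ⁻¹ᵁ Y.basicOpen a := by
        rw [U.2.fromSpec_preimage_basicOpen]
        exact ha
      have h3 : U.2.fromSpec (U.2.primeIdealOf ⟨y, hy⟩) = y := U.2.fromSpec_primeIdealOf ⟨y, hy⟩
      exact (congrArg (· ∈ Y.basicOpen a) h3).mp h2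
    refine ⟨V, hyV, ?_⟩
    obtain ⟨h', hp⟩ := exists_isBaseChange (g := 𝟙 Y) (gX := 𝟙 X) (f' := f)
      (IsPullback.of_vert_isIso (⟨by simp⟩ : CommSq f (𝟙 X) (𝟙 Y) f)) U.2 V.2 (Y.basicOpen_le a)
    let r := Scheme.Hom.appLE (𝟙 Y) U.1 V.1 (Y.basicOpen_le a)
    let φ := Scheme.Hom.appLE (𝟙 X) (f ⁻¹ᵁ U.1) (f ⁻¹ᵁ V.1) h'
    letI := (f.app V.1).hom.toAlgebra
    letI := r.hom.toAlgebra
    letI := φ.hom.toAlgebra
    letI := (r ≫ f.app V.1).hom.toAlgebra
    have : IsScalarTower Γ(Y, U.1) Γ(Y, V.1) Γ(X, f ⁻¹ᵁ V.1) := IsScalarTower.of_algebraMap_eq fun _ => rfl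
    have : IsScalarTower Γ(Y, U.1) Γ(X, f ⁻¹ᵁ U.1) Γ(X, f ⁻¹ᵁ V.1) :=
      IsScalarTower.of_algebraMap_eq fun x => congrArg (fun h => h.hom x) hp.w
    have hpo : Algebra.IsPushout Γ(Y, U.1) Γ(Y, V.1) Γ(X, f ⁻¹ᵁ U.1) Γ(X, f ⁻¹ᵁ V.1) :=
      CommRingCat.isPushout_iff_isPushout.1 hp
    let ψ := (IsScalarTower.toAlgHom Γ(Y, U.1) Γ(X, f ⁻¹ᵁ U.1) Γ(X, f ⁻¹ᵁ V.1)).toLinearMap
    let m' : Fin n → Γ(X, f ⁻¹ᵁ V.1) := fun i => ψ (m i)
    have hu : IsUnit (algebraMap Γ(Y, U.1) Γ(Y, V.1) a) := by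
      show IsUnit (r a)
      have : r = Y.presheaf.map (homOfLE (Y.basicOpen_le a)).op := by simp [r, Scheme.Hom.appLE]
      rw [this]
      exact RingedSpace.isUnit_res_basicOpen _ _
    have hspan : Submodule.span Γ(Y, V.1) (Set.range m') = ⊤ := by
      refine eq_top_iff.2 fun z _ => ?_
      refine hpo.out.inductionOn z (fun z => z ∈ Submodule.span Γ(Y, V.1) (Set.range m')) (zero_mem _) (fun x => ?_) (fun c z hz => Submodule.smul_mem _ c hz)
        (fun z w hz hw => add_mem hz hw)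
      have h2 : ψ (a • x) ∈ Submodule.span Γ(Y, V.1) (Set.range m') := by
        have h3 : ψ (a • x) ∈ (Submodule.span Γ(Y, U.1) (Set.range m)).map ψ :=
          Submodule.mem_map_of_mem (hm x)
        rw [Submodule.map_span, ← Set.range_comp] at h3
        exact Submodule.span_le_restrictScalars Γ(Y, U.1) Γ(Y, V.1) (Set.range m') h3
      rw [map_smul, ← IsScalarTower.algebraMap_smul Γ(Y, V.1) a (ψ x)] at h2
      obtain ⟨v, hv⟩ := hu
      have := Submodule.smul_mem _ (↑v⁻¹ : Γ(Y, V.1)) h2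
      rwa [smul_smul, ← hv, Units.inv_mul, one_smul] at this
    have hli : LinearIndependent Γ(Y, V.1) m' := FittLib.linearIndependent_of_ideal_eq_bot hspan
      fun k hk => by
        have := congrArg (fun I : Y.IdealSheafData => I.ideal V) (h₀ k hk)
        simp only [fitF_ideal, Scheme.IdealSheafData.ideal_bot, Pi.bot_apply] at this
        exact this
    exact ⟨Module.Basis.mk hli hspan.ge⟩
  choose V hV hb using key
  let 𝒰 : Y.OpenCover := Scheme.Cover.mkOfCovers Y (fun y => Spec Γ(Y, (V y).1))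
    (fun y => (V y).2.fromSpec) (fun y => ⟨y, by
      show y ∈ Set.range (V y).2.fromSpec
      rw [IsAffineOpen.range_fromSpec]; exact hV y⟩) (fun _ => inferInstance)
  have hall : ∀ y : Y, Flat (Spec.map (f.app (V y).1)) ∧
      LocallyOfFinitePresentation (Spec.map (f.app (V y).1)) := fun y => by
    letI := (f.app (V y).1).hom.toAlgebra
    obtain ⟨b⟩ := hb y
    have := Module.Free.of_basis b
    have : Module.Finite Γ(Y, (V y).1) Γ(X, f ⁻¹ᵁ (V y).1) := Module.Finite.of_basis b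
    have : Module.FinitePresentation Γ(Y, (V y).1) Γ(X, f ⁻¹ᵁ (V y).1) :=
      Module.finitePresentation_of_projective _ _
    have hfp : Algebra.FinitePresentation Γ(Y, (V y).1) Γ(X, f ⁻¹ᵁ (V y).1) :=
      Algebra.FinitePresentation.of_finitePresentation _ _
    constructor
    · rw [Flat.SpecMap_iff]
      exact (inferInstance : Module.Flat Γ(Y, (V y).1) Γ(X, f ⁻¹ᵁ (V y).1))
    · rw [LocallyOfFinitePresentation.SpecMap_iff]
      exact hfp
  have hpb : ∀ y, IsPullback ((V y).2.preimage f).fromSpec (Spec.map (f.app (V y).1)) f (V y).2.fromSpec :=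
    fun y => isPullback_app f (V y).2 _
  have hloc : ∀ (P : MorphismProperty Scheme.{u}) [IsZariskiLocalAtTarget P],
      (∀ y, P (Spec.map (f.app (V y).1))) → P f := fun P _ hP =>
    IsZariskiLocalAtTarget.of_openCover (P := P) 𝒰 fun y => by
      show P (pullback.snd f (V y).2.fromSpec)
      rw [← (hpb y).isoPullback_inv_snd]
      exact (P.cancel_left_of_respectsIso _ _).2 (hP y)
  have hflat : Flat f := hloc @Flat fun y => (hall y).1
  have hlfp : LocallyOfFinitePresentation f :=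
    hloc @LocallyOfFinitePresentation fun y => (hall y).2
  refine ⟨⟨inferInstance, hflat, hlfp⟩, fun y => ?_⟩
  let q := (V y).2.primeIdealOf ⟨y, hV y⟩
  have hq : (V y).2.fromSpec q = y := (V y).2.fromSpec_primeIdealOf ⟨y, hV y⟩
  refine ((congrArg f.finrank hq).symm.trans (Scheme.Hom.finrank_of_isPullback _ _ _ _ (hpb y) q).symm).trans ?_
  letI := (f.app (V y).1).hom.toAlgebra
  obtain ⟨b⟩ := hb y
  have := Module.Free.of_basis b
  have : Module.Finite Γ(Y, (V y).1) Γ(X, f ⁻¹ᵁ (V y).1) := Module.Finite.of_basis b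
  have : Nontrivial Γ(Y, (V y).1) := PrimeSpectrum.nonempty_iff_nontrivial.mp ⟨q⟩
  have e : f.app (V y).1 = CommRingCat.ofHom (algebraMap Γ(Y, (V y).1) Γ(X, f ⁻¹ᵁ (V y).1)) := rfl
  rw [e, Scheme.Hom.finrank_SpecMap_algebraMap, Module.rankAtStalk_eq_finrank_of_free,
    Pi.natCast_apply, Nat.cast_id]
  simpa using Module.finrank_eq_card_basis b

end Groth.Agent.GrpdLib.FittingHom
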