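import Groth.Agent.GrpdLib.FittingHom
import Groth.Agent.GrpdLib.MaxOpen
import Groth.Agent.GrpdLib.Saturation
import Groth.Agent.GrpdLib.InvAffine
import Groth.Agent.LimLib.ClosedApprox
import Groth.Agent.HilbD.Glue
import Groth.Prelude.Def_Grpd

/-!
# The invariant Fitting stratification of a finite groupoid
-/

set_option autoImplicit false
set_option linter.style.haveILetI false
set_option maxHeartbeats 400000
set_option backward.isDefEq.respectTransparency false
set_option backward.isDefEq.respectTransparency.types false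

universe u

open CategoryTheory CategoryTheory.Limits AlgebraicGeometry TopologicalSpace

namespace Groth.Agent.GrpdLib.FittingStrat

open FittingHom

lemma fitF_fg {X Y : Scheme.{u}} (f : X ⟶ Y) [IsFinite f] [LocallyOfFinitePresentation f] (k : ℕ)
    (U : Y.affineOpens) : ((fitF f k).ideal U).FG := by
  letI := (f.app U.1).hom.toAlgebra
  have : Module.Finite Γ(Y, U.1) Γ(X, f ⁻¹ᵁ U.1) := f.finite_app U.1 U.2
  have h : (f.appLE U.1 (f ⁻¹ᵁ U.1) le_rfl).hom.FinitePresentation :=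
    f.finitePresentation_appLE U.2 (U.2.preimage f) le_rfl
  rw [← Scheme.Hom.app_eq_appLE] at h
  have : Algebra.FinitePresentation Γ(Y, U.1) Γ(X, f ⁻¹ᵁ U.1) := h
  have : Module.FinitePresentation Γ(Y, U.1) Γ(X, f ⁻¹ᵁ U.1) :=
    Module.FinitePresentation.of_finite_of_finitePresentation _ _
  exact FittLib.ideal_eq_G_rel k

lemma exists_mul_pow_eq_zero {R : Type u} [CommRing R] (p : Ideal R) [p.IsPrime]
    (hp : ∀ q : Ideal R, q.IsPrime → q ≤ p → q = p) {g : R} (hg : g ∈ p) :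
    ∃ a, a ∉ p ∧ ∃ n : ℕ, a * g ^ n = 0 := by
  by_contra hc
  push Not at hc
  let M : Submonoid R := p.primeCompl ⊔ Submonoid.powers g
  have hd : Disjoint ((⊥ : Ideal R) : Set R) (M : Set R) := by
    refine Set.disjoint_left.2 fun x hx hxM => ?_
    obtain ⟨a, ha, _, ⟨n, rfl⟩, rfl⟩ := Submonoid.mem_sup.1 hxM
    exact hc a ha n hx
  obtain ⟨q, hq, -, hqM⟩ := Ideal.exists_le_prime_disjoint ⊥ M hd
  have hle : q ≤ p := fun x hx => by_contra fun hxp =>
    Set.disjoint_left.1 hqM hx (Submonoid.mem_sup_left hxp)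
  exact Set.disjoint_left.1 hqM (hp q hq hle ▸ hg)
    (Submonoid.mem_sup_right (Submonoid.mem_powers g))

/-- A maximal point of the support of an ideal of finite type is interior to it. -/
lemma mem_interior_support {X : Scheme.{u}} (I : X.IdealSheafData)
    (hI : ∀ U : X.affineOpens, (I.ideal U).FG) {x : X} (hx : x ∈ I.support)
    (hmax : ∀ w, w ⤳ x → w = x) : x ∈ interior (I.support : Set X) := by
  classical
  obtain ⟨U, hxU, -⟩ := IdealSh.Comap.exists_affine_le x ⊤ trivial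
  obtain ⟨T, hT⟩ := hI U
  let p := (U.2.primeIdealOf ⟨x, hxU⟩).asIdeal
  have hxp : U.2.fromSpec (U.2.primeIdealOf ⟨x, hxU⟩) = x := U.2.fromSpec_primeIdealOf _
  have hmem : ∀ (q : PrimeSpectrum Γ(X, U.1)) (a : Γ(X, U.1)),
      U.2.fromSpec q ∈ X.basicOpen a ↔ a ∉ q.asIdeal := fun q a => by
    show q ∈ U.2.fromSpec ⁻¹ᵁ X.basicOpen a ↔ _
    rw [U.2.fromSpec_preimage_basicOpen]; rfl
  have hp : ∀ q : Ideal Γ(X, U.1), q.IsPrime → q ≤ p → q = p := fun q hq hle => by
    have h1 : U.2.fromSpec ⟨q, hq⟩ ⤳ x := hxp ▸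
      ((PrimeSpectrum.le_iff_specializes (⟨q, hq⟩ : PrimeSpectrum Γ(X, U.1))
        (U.2.primeIdealOf ⟨x, hxU⟩)).1 hle).map U.2.fromSpec.continuous
    exact congrArg PrimeSpectrum.asIdeal
      (U.2.fromSpec.isOpenEmbedding.injective ((hmax _ h1).trans hxp.symm))
  have hTp : ∀ g ∈ T, g ∈ p := fun g hg => by
    by_contra hgp
    rw [Scheme.IdealSheafData.mem_support_iff_of_mem (U := U) hxU, Scheme.mem_zeroLocus_iff] at hx
    exact hx g (hT ▸ Ideal.subset_span hg) (hxp ▸ (hmem _ g).2 hgp)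
  choose! a ha n hn using fun g (hg : g ∈ T) => exists_mul_pow_eq_zero p hp (hTp g hg)
  refine mem_interior.2 ⟨X.basicOpen (∏ g ∈ T, a g), ?_, (X.basicOpen _).2, ?_⟩
  · intro y hy
    have hyU : y ∈ U.1 := X.basicOpen_le _ hy
    have hyp : U.2.fromSpec (U.2.primeIdealOf ⟨y, hyU⟩) = y := U.2.fromSpec_primeIdealOf _
    rw [SetLike.mem_coe, Scheme.IdealSheafData.mem_support_iff_of_mem (U := U) hyU,
      Scheme.mem_zeroLocus_iff]
    intro f hf hyf
    have h1 : f ∉ (U.2.primeIdealOf ⟨y, hyU⟩).asIdeal := (hmem _ f).1 (hyp.symm ▸ hyf)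
    have h2 : ∏ g ∈ T, a g ∉ (U.2.primeIdealOf ⟨y, hyU⟩).asIdeal :=
      (hmem _ _).1 (hyp.symm ▸ hy)
    refine h1 ((hT ▸ (Ideal.span_le.2 fun g hg => ?_) :
      I.ideal U ≤ (U.2.primeIdealOf ⟨y, hyU⟩).asIdeal) hf)
    have h3 : a g ∉ (U.2.primeIdealOf ⟨y, hyU⟩).asIdeal := fun h =>
      h2 (Ideal.IsPrime.prod_mem_iff.2 ⟨g, hg, h⟩)
    have h4 : a g * g ^ n g ∈ (U.2.primeIdealOf ⟨y, hyU⟩).asIdeal := by
      rw [hn g hg]; exact zero_mem _
    exact Ideal.IsPrime.mem_of_pow_mem inferInstance _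
      ((Ideal.IsPrime.mem_or_mem inferInstance h4).resolve_left h3)
  · rw [SetLike.mem_coe, ← hxp, hmem]
    intro h
    obtain ⟨g, hg, hga⟩ := (Ideal.IsPrime.prod_mem_iff (p := p)).1 h
    exact ha g hg hga

/-- A subscheme is cut out along an open by the restricted ideal. -/
lemma isPullback_comap {A B : Scheme.{u}} (a : A ⟶ B) (J : B.IdealSheafData) :
    IsPullback (J.comap a).subschemeι
      (Scheme.IdealSheafData.subschemeMap (J.comap a) J a (J.le_map_comap a)) a J.subschemeι :=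
  isPullback_of_isClosedImmersion _ _ _ _
    (Scheme.IdealSheafData.subschemeMap_subschemeι _ _ _ _).symm
    (by rw [Scheme.IdealSheafData.ker_subschemeι, Scheme.IdealSheafData.ker_subschemeι])

lemma comap_subschemeι_self {X : Scheme.{u}} (I : X.IdealSheafData) : I.comap I.subschemeι = ⊥ := by
  refine le_bot_iff.1 (Scheme.IdealSheafData.le_map_iff_comap_le.1 ?_)
  rw [Scheme.IdealSheafData.map_bot, Scheme.IdealSheafData.ker_subschemeι]

lemma exists_iso_of_isPullback {R U T K : Scheme.{u}} {s t : R ⟶ U} {m : T ⟶ U} {k : K ⟶ R}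
    {xs xt : K ⟶ T} (hs : IsPullback k xs s m) (ht : IsPullback k xt t m) :
    ∃ φ : pullback s m ≅ pullback t m, φ.hom ≫ pullback.fst t m = pullback.fst s m :=
  ⟨hs.isoPullback.symm ≪≫ ht.isoPullback, by simp⟩

variable {S : Scheme.{u}} (G : Grpd.GroupoidScheme S) [IsFinite G.s]

/-- The Fitting strata. -/
noncomputable abbrev Z (r : ℕ) : G.U.IdealSheafData := fitF G.s r

lemma comap_eq (r : ℕ) : (Z G r).comap G.s = (Z G r).comap G.t := by
  have h1 : (Z G r).comap G.t = fitF (pullback.snd G.s G.t) r :=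
    comap_fitF (IsPullback.of_hasPullback G.s G.t).flip r
  have h2 : (Z G r).comap G.s = fitF (pullback.snd G.s G.t) r :=
    comap_fitF (MaxOpen.isPullback_c_snd G).flip r
  rw [h1, h2]

lemma exists_iso (r : ℕ) : ∃ φ : pullback G.s (Z G r).subschemeι ≅ pullback G.t (Z G r).subschemeι,
    φ.hom ≫ pullback.fst G.t (Z G r).subschemeι = pullback.fst G.s (Z G r).subschemeι := by
  have hs := isPullback_comap G.s (Z G r)
  have key : ∀ K : G.R.IdealSheafData, K = (Z G r).comap G.t →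
      ∃ x, IsPullback K.subschemeι x G.t (Z G r).subschemeι := by
    rintro _ rfl
    exact ⟨_, isPullback_comap G.t (Z G r)⟩
  obtain ⟨x, ht⟩ := key _ (comap_eq G r)
  exact exists_iso_of_isPullback hs ht

lemma Z_zero : Z G 0 = ⊥ := fitF_zero_of_section G.s G.e G.e_s

lemma Z_mono : Monotone (Z G) := fun _ _ h => fitF_mono G.s h

lemma support_anti {r r' : ℕ} (h : r ≤ r') :
    ((Z G r').support : Set G.U) ⊆ (Z G r).support := by
  have := Scheme.IdealSheafData.support_antitone (Z_mono G h)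
  exact this

lemma iInter_support : (⋂ r, ((Z G r).support : Set G.U)) = ∅ := by
  refine Set.eq_empty_of_forall_notMem fun y hy => ?_
  obtain ⟨k, hk⟩ := exists_notMem_support G.s y
  exact hk (Set.mem_iInter.1 hy k)

/-- The source map over a subscheme of a stratum is locally free. -/
lemma finLocFreeOfDeg {T : Scheme.{u}} (m : T ⟶ G.U) (r : ℕ) (h₁ : (Z G r).comap m = ⊥)
    (h₂ : Disjoint (Set.range m) ((Z G (r + 1)).support : Set G.U)) :
    Mor2.IsFinLocFreeOfDeg (r + 1) (pullback.snd G.s m) := by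
  have e : ∀ k, fitF (pullback.snd G.s m) k = (Z G k).comap m := fun k =>
    (comap_fitF (IsPullback.of_hasPullback G.s m).flip k).symm
  refine finLocFreeOfDeg_of_fitF _ _ (fun k hk => ?_) ?_
  · rw [e]
    exact le_bot_iff.1 (h₁ ▸ Scheme.IdealSheafData.comap_mono m (Z_mono G (Nat.le_of_lt_succ hk)))
  · rw [e]
    exact IdealSh.Comap.comap_eq_top_of_disjoint _ m h₂

theorem fitting_stratification : ∃ Z : ℕ → G.U.IdealSheafData, Z 0 = ⊥ ∧ Monotone Z ∧
    (⋂ r, ((Z r).support : Set G.U)) = ∅ ∧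
    (∀ r, ∃ φ : pullback G.s (Z r).subschemeι ≅ pullback G.t (Z r).subschemeι,
      φ.hom ≫ pullback.fst G.t (Z r).subschemeι = pullback.fst G.s (Z r).subschemeι) ∧
    ∀ r, Mor2.IsFinLocFreeOfDeg (r + 1)
      (pullback.snd G.s (((Z r).subschemeι ⁻¹ᵁ (Z (r + 1)).support.compl).ι ≫ (Z r).subschemeι)) := by
  refine ⟨Z G, Z_zero G, Z_mono G, iInter_support G, exists_iso G, fun r => finLocFreeOfDeg G _ r ?_ ?_⟩
  · rw [Scheme.IdealSheafData.comap_comp, comap_subschemeι_self, Scheme.IdealSheafData.comap_bot]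
  · refine Set.disjoint_left.2 ?_
    rintro _ ⟨x, rfl⟩ hx
    exact x.2 hx

/-- The stratum of rank `r + 1`. -/
def F (r : ℕ) : Set G.U := ((Z G r).support : Set G.U) \ (Z G (r + 1)).support

lemma exists_mem_F (y : G.U) : ∃ r, y ∈ F G r := by
  classical
  obtain ⟨k, hk⟩ := exists_notMem_support G.s y
  have h0 : y ∈ (Z G 0).support := by rw [Z_zero, Scheme.IdealSheafData.support_bot]; trivial
  have hex : ∃ k, y ∉ (Z G k).support := ⟨k, hk⟩
  have hpos : Nat.find hex ≠ 0 := fun h => Nat.find_spec hex (h ▸ h0)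
  refine ⟨Nat.find hex - 1, not_not.1 (Nat.find_min hex (by omega)), ?_⟩
  rw [Nat.sub_add_cancel (Nat.one_le_iff_ne_zero.2 hpos)]
  exact Nat.find_spec hex

lemma mem_support_iff (r : ℕ) (a : G.R) :
    G.s a ∈ (Z G r).support ↔ G.t a ∈ (Z G r).support := by
  have h := congrArg (fun K : G.R.IdealSheafData => a ∈ (K.support : Set G.R)) (comap_eq G r)
  simp only [Scheme.IdealSheafData.support_comap] at h
  exact iff_of_eq h

lemma F_eq_of_mem {y : G.U} {r r' : ℕ} (h : y ∈ F G r) (h' : y ∈ F G r') : r = r' := by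
  by_contra hne
  rcases Nat.lt_or_ge r r' with hlt | hge
  · exact h.2 (support_anti G hlt h'.1)
  · exact h'.2 (support_anti G (show r' + 1 ≤ r by omega) h.1)

lemma isClosed_sat {C : Set G.U} (hC : IsClosed C) : IsClosed (Saturation.sat G C) :=
  isClosedMap_t G _ (hC.preimage G.s.continuous)

/-- The points whose orbit is in the interior of the stratum. -/
noncomputable def V (r : ℕ) : G.U.Opens :=
  ⟨(Saturation.sat G (interior (F G r))ᶜ)ᶜ,
    (isClosed_sat G isOpen_interior.isClosed_compl).isOpen_compl⟩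

lemma mem_V_iff (r : ℕ) (y : G.U) :
    y ∈ V G r ↔ ∀ a : G.R, G.t a = y → G.s a ∈ interior (F G r) :=
  ⟨fun h a ha => by_contra fun hc => h ⟨a, hc, ha⟩, fun h ⟨a, hc, ha⟩ => hc (h a ha)⟩

lemma V_sub (r : ℕ) {y : G.U} (h : y ∈ V G r) : y ∈ F G r := by
  have := interior_subset ((mem_V_iff G r y).1 h (G.e y) (t_e_apply G y))
  rwa [s_e_apply] at this

lemma V_invariant (r : ℕ) : G.s ⁻¹ᵁ V G r = G.t ⁻¹ᵁ V G r := by
  ext a
  show G.s a ∉ Saturation.sat G _ ↔ G.t a ∉ Saturation.sat G _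
  exact not_congr ⟨Saturation.mem_sat_t G _ a, Saturation.mem_sat_s G _ a⟩

/-- The union of the open strata. -/
noncomputable def W : G.U.Opens := ⨆ r, V G r

lemma W_invariant : G.s ⁻¹ᵁ W G = G.t ⁻¹ᵁ W G := by
  simp only [W, Scheme.Hom.preimage_iSup, V_invariant]

lemma exists_sat_closure (y : G.U) : ∃ a : G.R, G.t a = y ∧ G.s a ∈ closure (W G : Set G.U) := by
  classical
  by_contra hc
  push Not at hc
  let C := Saturation.sat G (closure (W G : Set G.U))
  have hy : y ∉ C := fun ⟨a, ha, hay⟩ => hc a hay ha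
  have hex : ∃ r, ∃ z ∉ C, z ∈ F G r := ⟨_, y, hy, (exists_mem_F G y).choose_spec⟩
  obtain ⟨z, hzC, hzF⟩ := Nat.find_spec hex
  set r := Nat.find hex
  let O : G.U.Opens := ⟨Cᶜ ∩ ((Z G (r + 1)).support : Set G.U)ᶜ,
    (isClosed_sat G isClosed_closure).isOpen_compl.inter (Z G (r + 1)).support.isClosed.isOpen_compl⟩
  have hOF : (O : Set G.U) ⊆ F G r := fun w hw => by
    obtain ⟨r', hr'⟩ := exists_mem_F G w
    have h1 : r ≤ r' := Nat.find_min' hex ⟨w, hw.1, hr'⟩
    exact ⟨support_anti G h1 hr'.1, hw.2⟩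
  have hzV : z ∈ V G r := (mem_V_iff G r z).2 fun a ha => by
    refine mem_interior.2 ⟨O, hOF, O.2, fun h => hzC ?_, fun h => hzF.2 ?_⟩
    · exact ha ▸ Saturation.mem_sat_t G _ a h
    · exact ha ▸ (mem_support_iff G (r + 1) a).1 h
  exact hzC (Saturation.subset_sat G _ (subset_closure (Opens.mem_iSup.2 ⟨r, hzV⟩)))

lemma mem_W_of_maximal [LocallyOfFinitePresentation G.s] (y : G.U)
    (hy : ∀ a : G.R, G.s a = y → ∀ x : G.U, x ⤳ G.t a → x = G.t a) : y ∈ W G := by
  obtain ⟨r, hr⟩ := exists_mem_F G y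
  refine Opens.mem_iSup.2 ⟨r, (mem_V_iff G r y).2 fun a ha => ?_⟩
  have hmax : ∀ x, x ⤳ G.s a → x = G.s a := by
    have := hy (G.i a) (by rw [s_i_apply, ha])
    rwa [t_i_apply] at this
  rw [show F G r = ((Z G r).support : Set G.U) ∩ ((Z G (r + 1)).support : Set G.U)ᶜ from rfl,
    interior_inter, (Z G (r + 1)).support.isClosed.isOpen_compl.interior_eq]
  exact ⟨mem_interior_support _ (fitF_fg G.s r)
      ((mem_support_iff G r a).2 (ha.symm ▸ hr.1)) hmax,
    fun h => hr.2 (ha ▸ (mem_support_iff G (r + 1) a).1 h)⟩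

/-- The restricted thickened stratification. -/
theorem exists_thickening_of (W₀ : G.U.Opens) (h₀ : G.s ⁻¹ᵁ W₀ = G.t ⁻¹ᵁ W₀) (hle : W₀ ≤ W G) : ∃ W' : (W₀ : Scheme.{u}).IdealSheafData, W'.support = ⊤ ∧
    (∃ φ : pullback G.s (W'.subschemeι ≫ (W₀).ι) ≅ pullback G.t (W'.subschemeι ≫ (W₀).ι),
      φ.hom ≫ pullback.fst G.t (W'.subschemeι ≫ (W₀).ι) = pullback.fst G.s (W'.subschemeι ≫ (W₀).ι)) ∧
    Mor2.IsFinLocFree (pullback.snd G.s (W'.subschemeι ≫ (W₀).ι)) ∧
    Mor2.IsFinLocFree (pullback.snd G.t (W'.subschemeι ≫ (W₀).ι)) ∧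
    (LocallyOfFinitePresentation G.s → LocallyOfFinitePresentation W'.subschemeι) := by
  let V₀ : ℕ → G.U.Opens := fun r => V G r ⊓ W₀
  have le_inf_r : ∀ r, V₀ r ≤ W₀ := fun r => inf_le_right
  have V₀_sub : ∀ r {y : G.U}, y ∈ V₀ r → y ∈ F G r := fun r y h => V_sub G r h.1
  have V₀_inv : ∀ r, G.s ⁻¹ᵁ V₀ r = G.t ⁻¹ᵁ V₀ r := fun r => by
    simp only [V₀, Scheme.Hom.preimage_inf, h₀, V_invariant]
  have hcov₀ : ∀ y ∈ W₀, ∃ r, y ∈ V₀ r := fun y hy => by
    obtain ⟨r, hr⟩ := Opens.mem_iSup.1 (hle hy)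
    exact ⟨r, hr, hy⟩
  let j : ∀ r, (V₀ r : Scheme.{u}) ⟶ (W₀ : Scheme.{u}) := fun r =>
    G.U.homOfLE (show V₀ r ≤ W₀ from le_inf_r r)
  let 𝒰 : (W₀ : Scheme.{u}).OpenCover := Scheme.Cover.mkOfCovers ℕ (fun r => (V₀ r : Scheme.{u})) j
    (fun w => by
      obtain ⟨r, hr⟩ := hcov₀ w.1 w.2
      exact ⟨r, ⟨w.1, hr⟩, Subtype.ext (by simp [j])⟩) (fun r => inferInstance)
  let I : ∀ r, (𝒰.X r).IdealSheafData := fun r => (Z G r).comap (V₀ r).ι
  obtain ⟨J, hJ⟩ := HilbD.exists_glue 𝒰 I (fun (r r' : ℕ) P a b e => by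
    change a ≫ j r = b ≫ j r' at e
    have e' : a ≫ (V₀ r).ι = b ≫ (V₀ r').ι := by
      have := congrArg (· ≫ (W₀).ι) e
      simpa [j] using this
    by_cases hP : Nonempty P
    · obtain ⟨x⟩ := hP
      have h1 : (V₀ r).ι (a x) ∈ F G r := V₀_sub r (a x).2
      have h2 : (V₀ r').ι (b x) ∈ F G r' := V₀_sub r' (b x).2
      rw [show (V₀ r).ι (a x) = (V₀ r').ι (b x) from
        (Scheme.Hom.comp_apply _ _ _).symm.trans
          ((congrArg (fun f : P ⟶ G.U => f x) e').trans (Scheme.Hom.comp_apply _ _ _))] at h1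
      obtain rfl := F_eq_of_mem G h1 h2
      rw [(cancel_mono (V₀ r).ι).1 e']
    · exact IdealSh.Comap.ext_of_forall_exists _ _ fun x => absurd ⟨x⟩ hP)
  refine ⟨J, ?_⟩
  have hsupp : J.support = ⊤ := by
    ext w
    simp only [Closeds.coe_top, Set.mem_univ, iff_true]
    obtain ⟨r, hr⟩ := hcov₀ w.1 w.2
    let v : (V₀ r : Scheme.{u}) := ⟨w.1, hr⟩
    have h1 : v ∈ ((J.comap (𝒰.f r)).support : Set (𝒰.X r)) := by
      rw [hJ r, Scheme.IdealSheafData.support_comap]
      exact (V₀_sub r hr).1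
    rw [Scheme.IdealSheafData.support_comap] at h1
    have e : j r v = w := Subtype.ext (by simp [j, v])
    exact e ▸ h1
  let Ω : G.R.Opens := G.s ⁻¹ᵁ W₀
  have hΩt : Ω ≤ G.t ⁻¹ᵁ W₀ := (h₀).le
  let s' : Ω.toScheme ⟶ W₀ := G.s ∣_ W₀
  let t' : Ω.toScheme ⟶ W₀ := G.t.resLE (W₀) Ω hΩt
  have sqs : IsPullback Ω.ι s' G.s (W₀).ι := (isPullback_morphismRestrict G.s (W₀)).flip
  have sqt : IsPullback Ω.ι t' G.t (W₀).ι := by
    refine (IsOpenImmersion.isPullback t' Ω.ι (W₀).ι G.t (Scheme.Hom.resLE_comp_ι _ _).symm ?_).flip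
    rw [Scheme.Opens.opensRange_ι, Scheme.Opens.opensRange_ι]
    exact (h₀).symm
  have hK : J.comap s' = J.comap t' := by
    let Ωr := fun r => G.s ⁻¹ᵁ V₀ r
    let 𝒱 : Ω.toScheme.OpenCover := Scheme.Cover.mkOfCovers ℕ (fun r => (Ωr r).toScheme)
      (fun r => G.R.homOfLE (G.s.preimage_mono (show V₀ r ≤ W₀ from le_inf_r r))) (fun w => by
        obtain ⟨r, hr⟩ := hcov₀ (G.s w.1) w.2
        exact ⟨r, ⟨w.1, hr⟩, Subtype.ext (by simp)⟩) (fun r => inferInstance)
    refine HilbD.eq_of_openCover 𝒱 fun (r : ℕ) => ?_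
    let e := G.R.homOfLE (G.s.preimage_mono (show V₀ r ≤ W₀ from le_inf_r r) : Ωr r ≤ Ω)
    have hs : e ≫ s' = (G.s ∣_ V₀ r) ≫ j r := by
      rw [← cancel_mono (W₀).ι]; simp [e, j, s']
    have ht : e ≫ t' = G.t.resLE (V₀ r) (Ωr r) (V₀_inv r).le ≫ j r := by
      rw [← cancel_mono (W₀).ι, Category.assoc, Category.assoc, Scheme.Hom.resLE_comp_ι]
      simp [e, j, Ωr]
      exact Scheme.homOfLE_ι_assoc _ _ _
    show (J.comap s').comap e = (J.comap t').comap e
    rw [← Scheme.IdealSheafData.comap_comp, ← Scheme.IdealSheafData.comap_comp, hs, ht,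
      Scheme.IdealSheafData.comap_comp, Scheme.IdealSheafData.comap_comp,
      show J.comap (j r) = I r from hJ r]
    show ((Z G r).comap (V₀ r).ι).comap _ = ((Z G r).comap (V₀ r).ι).comap _
    rw [← Scheme.IdealSheafData.comap_comp, ← Scheme.IdealSheafData.comap_comp, morphismRestrict_ι,
      Scheme.Hom.resLE_comp_ι, Scheme.IdealSheafData.comap_comp, Scheme.IdealSheafData.comap_comp,
      comap_eq]
  let m := J.subschemeι ≫ (W₀).ι
  have hiso : ∃ φ : pullback G.s m ≅ pullback G.t m, φ.hom ≫ pullback.fst G.t m = pullback.fst G.s m := by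
    have key : ∀ (a : Ω.toScheme ⟶ W₀) (b : G.R ⟶ G.U), IsPullback Ω.ι a b (W₀).ι →
        ∀ K : Ω.toScheme.IdealSheafData, K = J.comap a →
          ∃ x, IsPullback (K.subschemeι ≫ Ω.ι) x b m := by
      rintro a b sq _ rfl
      exact ⟨_, (isPullback_comap a J).paste_horiz sq⟩
    obtain ⟨xs, hs⟩ := key s' G.s sqs _ rfl
    obtain ⟨xt, ht⟩ := key t' G.t sqt _ hK
    exact exists_iso_of_isPullback hs ht
  have hflf : Mor2.IsFinLocFree (pullback.snd G.s m) := by
    let f := pullback.snd G.s m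
    let O := fun r => J.subschemeι ⁻¹ᵁ ((W₀).ι ⁻¹ᵁ V₀ r)
    have hcov : ⨆ r, O r = ⊤ := eq_top_iff.2 fun y _ => by
      obtain ⟨r, hr⟩ := hcov₀ _ (J.subschemeι y).2
      exact Opens.mem_iSup.2 ⟨r, hr⟩
    have hr : ∀ r, Mor2.IsFinLocFreeOfDeg (r + 1) (pullback.snd G.s ((O r).ι ≫ m)) := fun r => by
      refine finLocFreeOfDeg G _ r ?_ ?_
      · let k : (O r).toScheme ⟶ V₀ r := IsOpenImmersion.lift (V₀ r).ι ((O r).ι ≫ m) (by
          rintro _ ⟨y, rfl⟩
          rw [Scheme.Opens.range_ι]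
          exact y.2)
        have hk : k ≫ j r = (O r).ι ≫ J.subschemeι := by
          rw [← cancel_mono (W₀).ι, Category.assoc, Category.assoc, Scheme.homOfLE_ι]
          exact IsOpenImmersion.lift_fac _ _ _
        rw [show (O r).ι ≫ m = k ≫ (V₀ r).ι from (IsOpenImmersion.lift_fac _ _ _).symm,
          Scheme.IdealSheafData.comap_comp, show (Z G r).comap (V₀ r).ι = J.comap (j r) from (hJ r).symm,
          ← Scheme.IdealSheafData.comap_comp, hk, Scheme.IdealSheafData.comap_comp,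
          comap_subschemeι_self, Scheme.IdealSheafData.comap_bot]
      · refine Set.disjoint_left.2 ?_
        rintro _ ⟨y, rfl⟩ hy
        exact (V₀_sub r y.2).2 hy
    have hloc : ∀ (P : MorphismProperty Scheme.{u}) [IsZariskiLocalAtTarget P],
        (∀ r, P (pullback.snd G.s ((O r).ι ≫ m))) → P f := fun P _ h =>
      IsZariskiLocalAtTarget.of_iSup_eq_top O hcov fun r => by
        have sq := (isPullback_morphismRestrict f (O r)).flip.paste_horiz (IsPullback.of_hasPullback G.s m)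
        rw [← sq.isoPullback_hom_snd]
        exact (P.cancel_left_of_respectsIso _ _).2 (h r)
    exact ⟨hloc @IsFinite fun r => (hr r).1.1, hloc @Flat fun r => (hr r).1.2.1,
      hloc @LocallyOfFinitePresentation fun r => (hr r).1.2.2⟩
  obtain ⟨φ, hφ⟩ := hiso
  refine ⟨hsupp, ⟨φ, hφ⟩, hflf, ?_, fun _ => ?_⟩
  · have hi : IsIso G.i := ⟨G.i, i_i G, i_i G⟩
    have sqi : IsPullback G.i G.t G.s (𝟙 G.U) := IsPullback.of_horiz_isIso ⟨by simp⟩
    let e : pullback G.t m ≅ pullback G.s m :=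
      asIso (pullback.map G.t m G.s m G.i (𝟙 _) (𝟙 _) (by simp) (by simp))
    have he : pullback.snd G.t m = e.hom ≫ pullback.snd G.s m := by simp [e]
    obtain ⟨h1, h2, h3⟩ := hflf
    refine ⟨?_, ?_, ?_⟩ <;> rw [he] <;>
      refine (MorphismProperty.cancel_left_of_respectsIso _ _ _).2 ?_
    exacts [h1, h2, h3]
  · have hZ : ∀ r, LocallyOfFinitePresentation (Z G r).subschemeι := fun r =>
      (LimLib.lfp_subschemeι_iff _).2 (fitF_fg G.s r)
    refine IsZariskiLocalAtTarget.of_openCover (P := @LocallyOfFinitePresentation) 𝒰 fun (r : ℕ) => ?_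
    show LocallyOfFinitePresentation (pullback.snd J.subschemeι (j r))
    have hi : LocallyOfFinitePresentation (J.comap (j r)).subschemeι := by
      rw [show J.comap (j r) = (Z G r).comap (V₀ r).ι from hJ r]
      have := hZ r
      infer_instance
    rw [← (isPullback_comap (j r) J).flip.isoPullback_inv_snd]
    infer_instance

theorem exists_thickening : ∃ W' : (W G : Scheme.{u}).IdealSheafData, W'.support = ⊤ ∧
    (∃ φ : pullback G.s (W'.subschemeι ≫ (W G).ι) ≅ pullback G.t (W'.subschemeι ≫ (W G).ι),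
      φ.hom ≫ pullback.fst G.t (W'.subschemeι ≫ (W G).ι) = pullback.fst G.s (W'.subschemeι ≫ (W G).ι)) ∧
    Mor2.IsFinLocFree (pullback.snd G.s (W'.subschemeι ≫ (W G).ι)) ∧
    Mor2.IsFinLocFree (pullback.snd G.t (W'.subschemeι ≫ (W G).ι)) ∧
    (LocallyOfFinitePresentation G.s → LocallyOfFinitePresentation W'.subschemeι) :=
  exists_thickening_of G (W G) (W_invariant G) le_rfl

end Groth.Agent.GrpdLib.FittingStrat
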