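import Groth.Agent.GrpdLib.OnField
import Mathlib.Topology.LocallyClosed
import Mathlib.AlgebraicGeometry.IdealSheaf.Subscheme

/-!
# Closures of subgroupoids over the spectrum of a field
-/

set_option maxHeartbeats 400000

universe u

open CategoryTheory CategoryTheory.Limits AlgebraicGeometry

namespace Groth.Agent.GrpdLib

/-- In a product over a base to which everything is universally open, a product of closures lies in
the closure of the product. -/
lemma preimage_closure_inter_subset {X Y U : Scheme.{u}} (f : X ⟶ U) (g : Y ⟶ U)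
    (hU : ∀ (Z : Scheme.{u}) (h : Z ⟶ U), UniversallyOpen h) (A : Set X) (B : Set Y) :
    pullback.fst f g ⁻¹' closure A ∩ pullback.snd f g ⁻¹' closure B ⊆
      closure (pullback.fst f g ⁻¹' A ∩ pullback.snd f g ⁻¹' B) := by
  rintro p ⟨hpA, hpB⟩
  rw [mem_closure_iff]
  intro W hW hpW
  -- the reduced closure of B
  let Zs : TopologicalSpace.Closeds Y := ⟨closure B, isClosed_closure⟩
  let I := Scheme.IdealSheafData.vanishingIdeal Zs
  have hI : Set.range I.subschemeι = closure B := by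
    rw [Scheme.IdealSheafData.range_subschemeι,
      Scheme.IdealSheafData.coe_support_vanishingIdeal]
    simp [Zs]
  -- a point over p
  obtain ⟨y₀, hy₀⟩ : pullback.snd f g p ∈ Set.range I.subschemeι := hI ▸ hpB
  obtain ⟨q, hq, -⟩ := Scheme.Pullback.exists_preimage_pullback
    (f := pullback.snd f g) (g := I.subschemeι) p y₀ hy₀.symm
  let π := pullback.fst (pullback.snd f g) I.subschemeι
  have hopen : IsOpen (pullback.fst f g ∘ π '' (π ⁻¹' W)) := by
    have : UniversallyOpen (I.subschemeι ≫ g) := hU _ _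
    have : UniversallyOpen (π ≫ pullback.fst f g) := by
      have := MorphismProperty.of_isPullback (P := @UniversallyOpen)
        ((IsPullback.of_hasPullback (pullback.snd f g) I.subschemeι).flip.paste_vert
          (IsPullback.of_hasPullback f g).flip) ‹UniversallyOpen (I.subschemeι ≫ g)›
      exact this
    have h := (π ≫ pullback.fst f g).isOpenMap _ (hW.preimage π.continuous)
    convert h using 1
    ext x; simp [Scheme.Hom.comp_apply]
  obtain ⟨a, ⟨q', hq'W, hq'a⟩, haA⟩ := mem_closure_iff.mp hpA _ hopen ⟨q, by simpa [π, hq] using hpW,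
    by simp [π, hq]⟩
  have hq'B : pullback.snd f g (π q') ∈ closure B := by
    rw [← hI]
    exact ⟨pullback.snd (pullback.snd f g) I.subschemeι q',
      by rw [← Scheme.Hom.comp_apply, ← pullback.condition, Scheme.Hom.comp_apply]⟩
  -- the fibre over a
  let j := X.fromSpecResidueField (pullback.fst f g (π q'))
  obtain ⟨z, hz, -⟩ := Scheme.Pullback.exists_preimage_pullback (f := pullback.fst f g) (g := j)
    (π q') (IsLocalRing.closedPoint _) (Scheme.fromSpecResidueField_apply ..).symm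
  let ρ := pullback.fst (pullback.fst f g) j
  have hopen' : IsOpen (pullback.snd f g ∘ ρ '' (ρ ⁻¹' W)) := by
    have : UniversallyOpen (j ≫ f) := hU _ _
    have : UniversallyOpen (ρ ≫ pullback.snd f g) :=
      MorphismProperty.of_isPullback (P := @UniversallyOpen)
        ((IsPullback.of_hasPullback (pullback.fst f g) j).flip.paste_vert
          (IsPullback.of_hasPullback f g)) ‹UniversallyOpen (j ≫ f)›
    have h := (ρ ≫ pullback.snd f g).isOpenMap _ (hW.preimage ρ.continuous)
    convert h using 1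
    ext x; simp [Scheme.Hom.comp_apply]
  obtain ⟨b, ⟨z', hz'W, hz'b⟩, hbB⟩ := mem_closure_iff.mp hq'B _ hopen' ⟨z, by simpa [ρ, hz] using hq'W,
    by simp [ρ, hz]⟩
  refine ⟨ρ z', hz'W, ?_, by simpa [← hz'b] using hbB⟩
  change pullback.fst f g (ρ z') ∈ A
  have : pullback.fst f g (ρ z') = pullback.fst f g (π q') := by
    rw [← Scheme.Hom.comp_apply, pullback.condition, Scheme.Hom.comp_apply,
      Scheme.fromSpecResidueField_apply]
  rw [this]
  simpa [← hq'a] using haA

variable {S : Scheme.{u}}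

section

variable (G : Grpd.GroupoidScheme S)

lemma eq_e_of_idem {T : Scheme.{u}} (α : T ⟶ G.R) (h : α ≫ G.s = α ≫ G.t)
    (h' : comp G α α h = α) : α = (α ≫ G.s) ≫ G.e := by
  have h₁ := i_comp_cancel G α α h
  rw [← h₁]
  refine (comp_congr G _ (by simp) rfl h').trans ?_
  rw [h₁]
  exact i_comp G α _

end

variable {G₁ G₂ : Grpd.GroupoidScheme S} (a : Grpd.GroupoidScheme.Hom G₁ G₂)

lemma hom_comp {T : Scheme.{u}} (α β : T ⟶ G₁.R) (h : α ≫ G₁.s = β ≫ G₁.t) :
    comp G₁ α β h ≫ a.fR = comp G₂ (α ≫ a.fR) (β ≫ a.fR)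
      (by rw [Category.assoc, Category.assoc, a.comm_s, a.comm_t, reassoc_of% h]) :=
  a.comm_c α β h

lemma hom_e : G₁.e ≫ a.fR = a.fU ≫ G₂.e := by
  have h : G₁.e ≫ G₁.s = G₁.e ≫ G₁.t := by simp [G₁.e_s, G₁.e_t]
  have h' : comp G₁ G₁.e G₁.e h = G₁.e :=
    (comp_congr G₁ _ (by simp [G₁.e_s, G₁.e_t]) rfl (Category.id_comp G₁.e).symm).trans
      (comp_e G₁ G₁.e (𝟙 _) (by simp [G₁.e_s, G₁.e_t]))
  have := hom_comp a G₁.e G₁.e h
  rw [h'] at this
  rw [eq_e_of_idem G₂ (G₁.e ≫ a.fR) _ this.symm, Category.assoc G₁.e, a.comm_s, ← Category.assoc G₁.e,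
    G₁.e_s, Category.id_comp]

lemma hom_i : G₁.i ≫ a.fR = a.fR ≫ G₂.i := by
  have h : (𝟙 _ : G₁.R ⟶ _) ≫ G₁.s = G₁.i ≫ G₁.t := by simp [G₁.i_t]
  have h₁ := comp_i G₁ (𝟙 _) (by simp [G₁.i_t])
  have := hom_comp a (𝟙 _) G₁.i h
  have e1 : (G₁.t ≫ G₁.e) ≫ a.fR = a.fR ≫ G₂.t ≫ G₂.e := by
    rw [Category.assoc, hom_e, ← Category.assoc G₁.t, ← a.comm_t, Category.assoc]
  rw [show comp G₁ (𝟙 _) G₁.i h = G₁.t ≫ G₁.e by simpa using h₁, e1] at this
  have hh : (G₁.i ≫ a.fR) ≫ G₂.t = a.fR ≫ G₂.s := by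
    rw [Category.assoc, a.comm_t, a.comm_s, reassoc_of% G₁.i_t]
  rw [← i_comp_cancel G₂ a.fR (G₁.i ≫ a.fR) hh.symm]
  refine (comp_congr G₂ _ (by simp) rfl ?_).trans
    (comp_e G₂ (a.fR ≫ G₂.i) (a.fR ≫ G₂.t) (by simp))
  exact (comp_congr G₂ _ (by simpa using hh.symm) (Category.id_comp a.fR).symm rfl).trans
    (this.symm.trans (Category.assoc _ _ _).symm)

lemma mem_range_i {x : G₂.R} (hx : x ∈ Set.range a.fR) : G₂.i x ∈ Set.range a.fR := by
  obtain ⟨y, rfl⟩ := hx
  exact ⟨G₁.i y, by rw [← Scheme.Hom.comp_apply, hom_i, Scheme.Hom.comp_apply]⟩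

lemma mem_closure_range_i {x : G₂.R} (hx : x ∈ closure (Set.range a.fR)) :
    G₂.i x ∈ closure (Set.range a.fR) :=
  map_mem_closure G₂.i.continuous hx fun _ => mem_range_i a

variable [IsIso a.fU]

lemma mem_range_c {p : ↑(pullback G₂.s G₂.t)} (h₁ : pullback.fst G₂.s G₂.t p ∈ Set.range a.fR)
    (h₂ : pullback.snd G₂.s G₂.t p ∈ Set.range a.fR) : G₂.c p ∈ Set.range a.fR := by
  obtain ⟨q, rfl⟩ : p ∈ Set.range (pullback.map G₁.s G₁.t G₂.s G₂.t a.fR a.fR a.fU
      a.comm_s.symm a.comm_t.symm) := by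
    rw [Scheme.Pullback.range_map]; exact ⟨h₁, h₂⟩
  refine ⟨G₁.c q, ?_⟩
  rw [← Scheme.Hom.comp_apply, ← Scheme.Hom.comp_apply]
  congr 1
  have h := hom_comp a (pullback.fst G₁.s G₁.t) (pullback.snd G₁.s G₁.t) pullback.condition
  rw [← lift_c, show pullback.lift (pullback.fst G₁.s G₁.t) (pullback.snd G₁.s G₁.t) pullback.condition =
    𝟙 _ by ext <;> simp, Category.id_comp] at h
  rw [h, ← lift_c]

variable (k : Type u) [Field k] (eU : G₂.U ≅ Spec (CommRingCat.of k))

include eU in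
lemma mem_closure_range_c {p : ↑(pullback G₂.s G₂.t)}
    (h₁ : pullback.fst G₂.s G₂.t p ∈ closure (Set.range a.fR))
    (h₂ : pullback.snd G₂.s G₂.t p ∈ closure (Set.range a.fR)) :
    G₂.c p ∈ closure (Set.range a.fR) :=
  map_mem_closure G₂.c.continuous
    (preimage_closure_inter_subset G₂.s G₂.t (fun _ h => universallyOpen_to_U G₂ k eU h) _ _ ⟨h₁, h₂⟩)
    fun _ hq => mem_range_c a hq.1 hq.2

include eU in
/-- A subgroupoid with locally closed arrows is closed. -/
lemma isClosed_range_of_isLocallyClosed (hlc : IsLocallyClosed (Set.range a.fR)) :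
    IsClosed (Set.range a.fR) := by
  set A : Set G₂.R := Set.range a.fR
  obtain ⟨O, C, hO, hC, hAOC⟩ := hlc
  have hA : ∀ x, x ∈ closure A → x ∈ O → x ∈ A := fun x hx hxO => by
    rw [hAOC]; exact ⟨hxO, closure_minimal (by rw [hAOC]; exact Set.inter_subset_right) hC hx⟩
  refine closure_subset_iff_isClosed.1 fun r hr => ?_
  -- pairs whose first member is r
  let σ : Spec (G₂.R.residueField r) ⟶ G₂.U := G₂.R.fromSpecResidueField r ≫ G₂.s
  let F := pullback σ G₂.t
  let κ : F ⟶ pullback G₂.s G₂.t :=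
    pullback.map σ G₂.t G₂.s G₂.t (G₂.R.fromSpecResidueField r) (𝟙 _) (𝟙 _) (by simp [σ]) (by simp)
  let m : F ⟶ G₂.R := κ ≫ G₂.c
  have hfst : ∀ q : F, pullback.fst G₂.s G₂.t (κ q) = r := fun q => by
    rw [← Scheme.Hom.comp_apply, show κ ≫ pullback.fst G₂.s G₂.t =
      pullback.fst σ G₂.t ≫ G₂.R.fromSpecResidueField r from pullback.lift_fst _ _ _,
      Scheme.Hom.comp_apply, Scheme.fromSpecResidueField_apply]
  have hsnd : ∀ q : F, pullback.snd G₂.s G₂.t (κ q) = pullback.snd σ G₂.t q := fun q => by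
    rw [← Scheme.Hom.comp_apply, show κ ≫ pullback.snd G₂.s G₂.t =
      pullback.snd σ G₂.t ≫ 𝟙 _ from pullback.lift_snd _ _ _, Category.comp_id]
  -- translation is open
  have hm : IsOpenMap m := by
    let τ : Spec (G₂.R.residueField r) ⟶ G₂.U := G₂.R.fromSpecResidueField r ≫ G₂.t
    have := universallyOpen_to_U G₂ k eU τ
    let α : F ⟶ G₂.R := pullback.fst σ G₂.t ≫ G₂.R.fromSpecResidueField r
    have hmc : m = comp G₂ α (pullback.snd σ G₂.t) (by simpa [α, σ] using pullback.condition) := by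
      simp only [m, κ, ← lift_c]
      congr 1
    let ψ : F ⟶ pullback τ G₂.t := pullback.lift (pullback.fst σ G₂.t) m (by
      rw [hmc, comp_t]; simp [α, τ])
    let α' : pullback τ G₂.t ⟶ G₂.R := pullback.fst τ G₂.t ≫ G₂.R.fromSpecResidueField r
    let ψ' : pullback τ G₂.t ⟶ F := pullback.lift (pullback.fst τ G₂.t)
      (comp G₂ (α' ≫ G₂.i) (pullback.snd τ G₂.t) (by simpa [α', τ] using pullback.condition))
      (by simp [α', σ])
    have h1 : ψ' ≫ ψ = 𝟙 _ := by
      apply pullback.hom_ext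
      · simp only [ψ, ψ', Category.assoc, pullback.lift_fst, Category.id_comp]
      · rw [Category.assoc, pullback.lift_snd, hmc, naturality, Category.id_comp]
        refine (comp_congr G₂ _ (by simp [α']) ?_ ?_).trans
          (comp_i_cancel G₂ α' (pullback.snd τ G₂.t) (by simpa [α', τ] using pullback.condition))
        · simp only [ψ', α, α', pullback.lift_fst_assoc]
        · exact pullback.lift_snd _ _ _
    have h2 : ψ ≫ ψ' = 𝟙 _ := by
      apply pullback.hom_ext
      · simp only [ψ, ψ', Category.assoc, pullback.lift_fst, Category.id_comp]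
      · rw [Category.assoc, pullback.lift_snd, naturality, Category.id_comp]
        refine (comp_congr G₂ _ (by simp [α, σ, pullback.condition]) ?_ ?_).trans
          (i_comp_cancel G₂ α (pullback.snd σ G₂.t) (by simpa [α, σ] using pullback.condition))
        · simp only [ψ, α, α', pullback.lift_fst_assoc, Category.assoc]
        · exact (pullback.lift_snd _ _ _).trans hmc
    have : IsIso ψ := ⟨ψ', h2, h1⟩
    rw [show m = ψ ≫ pullback.snd τ G₂.t from (pullback.lift_snd _ _ _).symm]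
    have : UniversallyOpen (ψ ≫ pullback.snd τ G₂.t) := inferInstance
    exact Scheme.Hom.isOpenMap _
  -- the pair (r, e)
  obtain ⟨q₀, hq₀⟩ : ∃ q : F, pullback.snd σ G₂.t q = G₂.e (G₂.s r) := by
    obtain ⟨q, -, hq⟩ := Scheme.Pullback.exists_preimage_pullback (f := σ) (g := G₂.t)
      (IsLocalRing.closedPoint _) (G₂.e (G₂.s r))
      (by rw [t_e_apply]; exact (Scheme.Hom.comp_apply _ _ _).trans (congrArg G₂.s (Scheme.fromSpecResidueField_apply ..)))
    exact ⟨q, hq⟩
  have heA : G₂.e (G₂.s r) ∈ A := by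
    refine ⟨G₁.e ((inv a.fU) (G₂.s r)), ?_⟩
    rw [← Scheme.Hom.comp_apply, ← Scheme.Hom.comp_apply, hom_e, IsIso.inv_hom_id_assoc]
  have hm0 : m q₀ ∈ closure A := by
    rw [show m q₀ = G₂.c (κ q₀) from Scheme.Hom.comp_apply _ _ _]
    exact mem_closure_range_c a k eU (by rwa [hfst]) (subset_closure (by rwa [hsnd, hq₀]))
  have hd : q₀ ∈ closure (m ⁻¹' A) := by
    rw [← hm.preimage_closure_eq_closure_preimage m.continuous]; exact hm0
  have hOsub : pullback.snd σ G₂.t q₀ ∈ O := by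
    rw [hq₀]; rw [hAOC] at heA; exact heA.1
  obtain ⟨q, hqO, hqA⟩ := mem_closure_iff.mp hd _ (hO.preimage (pullback.snd σ G₂.t).continuous) hOsub
  have hc : G₂.c (κ q) ∈ A := by rw [← Scheme.Hom.comp_apply]; exact hqA
  -- the second member of the pair is in A
  have hqsnd : pullback.snd σ G₂.t q ∈ closure A := by
    let β : pullback G₂.s G₂.t ⟶ pullback G₂.s G₂.t :=
      pullback.lift (pullback.fst G₂.s G₂.t ≫ G₂.i) G₂.c (by simp [c_t])
    have hβ : β ≫ G₂.c = pullback.snd G₂.s G₂.t := by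
      rw [lift_c]
      refine (comp_congr G₂ _ (by simp) rfl ?_).trans (i_comp_cancel G₂ _ _ pullback.condition)
      rw [← lift_c]
      conv_lhs => rw [← Category.id_comp G₂.c]
      congr 1
      apply pullback.hom_ext <;> simp
    rw [← hsnd, ← hβ, Scheme.Hom.comp_apply]
    refine mem_closure_range_c a k eU ?_ ?_
    · rw [← Scheme.Hom.comp_apply, pullback.lift_fst, Scheme.Hom.comp_apply, hfst]
      exact mem_closure_range_i a hr
    · rw [← Scheme.Hom.comp_apply, pullback.lift_snd]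
      exact subset_closure hc
  have hqA' : pullback.snd σ G₂.t q ∈ A := hA _ hqsnd hqO
  let γ : pullback G₂.s G₂.t ⟶ pullback G₂.s G₂.t :=
    pullback.lift G₂.c (pullback.snd G₂.s G₂.t ≫ G₂.i) (by simp [c_s])
  have hγ : γ ≫ G₂.c = pullback.fst G₂.s G₂.t := by
    rw [lift_c]
    refine (comp_congr G₂ _ (by simp) ?_ rfl).trans (comp_cancel_right G₂ _ _ pullback.condition)
    rw [← lift_c]
    conv_lhs => rw [← Category.id_comp G₂.c]
    congr 1
    apply pullback.hom_ext <;> simp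
  rw [← hfst q, ← hγ, Scheme.Hom.comp_apply]
  refine mem_range_c a ?_ ?_
  · rw [← Scheme.Hom.comp_apply, pullback.lift_fst]; exact hc
  · rw [← Scheme.Hom.comp_apply, pullback.lift_snd, Scheme.Hom.comp_apply, hsnd]
    exact mem_range_i a hqA'

end Groth.Agent.GrpdLib
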