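import Groth.Agent.GrpdLib.SubGrpd
import Groth.Agent.GrpdLib.OnFieldClosure
import Groth.Agent.GrpdLib.FieldIrreducible
import Groth.Agent.FlatMor.SchDom
import Groth.Agent.FBase.BC
import Groth.Agent.RedSub.Basic

/-!
# Scheme-theoretic images of morphisms of groupoids over a field, and the pair groupoid
-/

set_option autoImplicit false
set_option linter.style.haveILetI false

universe u

open CategoryTheory CategoryTheory.Limits AlgebraicGeometry

namespace Groth.Agent.GrpdLib.ImageGrpd

variable {S : Scheme.{u}}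

/-- A closed subscheme of the arrows stable under identity, inverse and composition is a subgroupoid. -/
theorem exists_sub (G : Grpd.GroupoidScheme S) {Z : Scheme.{u}} (ι : Z ⟶ G.R) [IsClosedImmersion ι]
    (he : ι.ker ≤ G.e.ker) (hi : ι.ker ≤ (ι ≫ G.i).ker)
    (hc : ι.ker ≤ (pullback.map (ι ≫ G.s) (ι ≫ G.t) G.s G.t ι ι (𝟙 G.U) (Category.comp_id _)
      (Category.comp_id _) ≫ G.c).ker) :
    ∃ (eP : G.U ⟶ Z) (iP : Z ⟶ Z) (cP : pullback (ι ≫ G.s) (ι ≫ G.t) ⟶ Z),
      eP ≫ ι = G.e ∧ iP ≫ ι = ι ≫ G.i ∧ cP ≫ ι = pullback.map (ι ≫ G.s) (ι ≫ G.t) G.s G.t ι ι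
        (𝟙 G.U) (Category.comp_id _) (Category.comp_id _) ≫ G.c :=
  ⟨_, _, _, IsClosedImmersion.lift_fac ι _ he, IsClosedImmersion.lift_fac ι _ hi,
    IsClosedImmersion.lift_fac ι _ hc⟩

variable {G₁ G₂ : Grpd.GroupoidScheme S} (f : Grpd.GroupoidScheme.Hom G₁ G₂) [IsIso f.fU]
variable (k : Type u) [Field k] (eU : G₂.U ≅ Spec (CommRingCat.of k))

lemma ker_le_of_fac {X Y : Scheme.{u}} {h : X ⟶ Y} {T : Scheme.{u}} {g : T ⟶ Y} (l : T ⟶ X)
    (hl : l ≫ h = g) : h.ker ≤ g.ker := hl ▸ Scheme.Hom.le_ker_comp l h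

lemma ker_le_e : f.fR.ker ≤ G₂.e.ker :=
  ker_le_of_fac (inv f.fU ≫ G₁.e) (by rw [Category.assoc, hom_e, IsIso.inv_hom_id_assoc])

lemma ker_comp_of_dominant {X Y W : Scheme.{u}} (d : X ⟶ Y) [IsSchemeTheoreticallyDominant d]
    (g : Y ⟶ W) : (d ≫ g).ker = g.ker := by
  rw [Scheme.Hom.ker_comp, d.ker_eq_bot, Scheme.IdealSheafData.map_bot]

include eU in
/-- The scheme-theoretic image of a quasi-compact morphism of groupoids over a field is stable. -/
theorem ker_le_image [QuasiCompact f.fR] :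
    f.fR.imageι.ker ≤ G₂.e.ker ∧ f.fR.imageι.ker ≤ (f.fR.imageι ≫ G₂.i).ker ∧
      f.fR.imageι.ker ≤ (pullback.map (f.fR.imageι ≫ G₂.s) (f.fR.imageι ≫ G₂.t) G₂.s G₂.t f.fR.imageι
        f.fR.imageι (𝟙 G₂.U) (Category.comp_id _) (Category.comp_id _) ≫ G₂.c).ker := by
  have hker : f.fR.imageι.ker = f.fR.ker := Scheme.IdealSheafData.ker_subschemeι _
  let ι := f.fR.imageι
  let π := f.fR.toImage
  have hπ : π ≫ ι = f.fR := f.fR.toImage_imageι
  have : IsSchemeTheoreticallyDominant π := FlatMor.SchDom.toImage_dominant _ (Or.inl inferInstance)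
  refine ⟨hker ▸ ker_le_e f, ?_, ?_⟩
  · rw [hker, ← ker_comp_of_dominant π (f.fR.imageι ≫ G₂.i), reassoc_of% hπ, ← hom_i f]
    exact Scheme.Hom.le_ker_comp G₁.i f.fR
  · rw [hker]
    let s' := ι ≫ G₂.s
    let t' := ι ≫ G₂.t
    have hflat : ∀ {X : Scheme.{u}} (g : X ⟶ G₂.U), Flat g :=
      FieldIrreducible.flat_to_U G₂ k eU
    have := hflat s'
    have := hflat t'
    have := hflat (π ≫ s')
    have := hflat (π ≫ t')
    have : Flat (pullback.fst s' t') := inferInstance
    have : Flat (pullback.snd s' t') := inferInstance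
    let A := pullback π (pullback.fst s' t')
    let d₁ : A ⟶ pullback s' t' := pullback.snd _ _
    have : IsSchemeTheoreticallyDominant d₁ := IsSchemeTheoreticallyDominant.pullbackSnd _ _
    have : Flat (d₁ ≫ pullback.snd s' t') :=
      MorphismProperty.of_isPullback
        ((IsPullback.of_hasPullback π (pullback.fst s' t')).flip.paste_horiz
          (IsPullback.of_hasPullback s' t').flip).flip (hflat (π ≫ s'))
    let B := pullback (d₁ ≫ pullback.snd s' t') π
    let d₂ : B ⟶ A := pullback.fst _ _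
    have : IsSchemeTheoreticallyDominant d₂ := IsSchemeTheoreticallyDominant.pullbackFst _ _
    rw [← ker_comp_of_dominant (d₂ ≫ d₁)]
    let β₁ : B ⟶ G₁.R := d₂ ≫ pullback.fst π (pullback.fst s' t')
    let β₂ : B ⟶ G₁.R := pullback.snd _ _
    have h₁ : β₁ ≫ f.fR = (d₂ ≫ d₁) ≫ pullback.fst s' t' ≫ ι := by
      simp only [β₁, d₁, Category.assoc, ← hπ]
      rw [pullback.condition_assoc]
    have h₂ : β₂ ≫ f.fR = (d₂ ≫ d₁) ≫ pullback.snd s' t' ≫ ι := by
      refine ((congrArg (β₂ ≫ ·) hπ).symm.trans ?_)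
      simp only [β₂, ← Category.assoc]
      congr 1
      rw [Category.assoc]
      exact pullback.condition.symm
    have h : β₁ ≫ G₁.s = β₂ ≫ G₁.t := by
      refine (cancel_mono f.fU).1 ?_
      calc (β₁ ≫ G₁.s) ≫ f.fU = (β₁ ≫ f.fR) ≫ G₂.s := by simp only [Category.assoc, f.comm_s]
        _ = (d₂ ≫ d₁) ≫ pullback.fst s' t' ≫ s' := by rw [h₁]; simp only [s', Category.assoc]
        _ = (d₂ ≫ d₁) ≫ pullback.snd s' t' ≫ t' := by rw [pullback.condition]
        _ = (β₂ ≫ f.fR) ≫ G₂.t := by rw [h₂]; simp only [t', Category.assoc]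
        _ = (β₂ ≫ G₁.t) ≫ f.fU := by simp only [Category.assoc, f.comm_t]
    refine ker_le_of_fac (comp G₁ β₁ β₂ h) ?_
    rw [hom_comp, ← lift_c, ← Category.assoc (d₂ ≫ d₁)]
    congr 1
    refine pullback.hom_ext ?_ ?_
    · rw [pullback.lift_fst, h₁, Category.assoc (d₂ ≫ d₁), pullback.lift_fst]
    · rw [pullback.lift_snd, h₂, Category.assoc (d₂ ≫ d₁), pullback.lift_snd]

omit [IsIso f.fU] in
/-- The closure of the image with the reduced structure. -/
noncomputable abbrev closureSub : G₂.R.IdealSheafData :=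
  Scheme.IdealSheafData.vanishingIdeal ⟨closure (Set.range f.fR), isClosed_closure⟩

omit [IsIso f.fU] in
lemma range_closureSub : Set.range (closureSub f).subschemeι = closure (Set.range f.fR) :=
  (Scheme.IdealSheafData.range_subschemeι _).trans
    (Scheme.IdealSheafData.coe_support_vanishingIdeal _)

include eU in
/-- Over a perfect field the reduced closure of the image is stable. -/
theorem ker_le_closure [PerfectField k] :
    (closureSub f).subschemeι.ker ≤ G₂.e.ker ∧
      (closureSub f).subschemeι.ker ≤ ((closureSub f).subschemeι ≫ G₂.i).ker ∧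
      (closureSub f).subschemeι.ker ≤
        (pullback.map ((closureSub f).subschemeι ≫ G₂.s) ((closureSub f).subschemeι ≫ G₂.t) G₂.s G₂.t
        (closureSub f).subschemeι
        (closureSub f).subschemeι (𝟙 G₂.U) (Category.comp_id _) (Category.comp_id _) ≫ G₂.c).ker := by
  let ι := (closureSub f).subschemeι
  have hmem : ∀ z, ι z ∈ closure (Set.range f.fR) := fun z => (range_closureSub f) ▸ ⟨z, rfl⟩
  have : IsReduced G₂.U := isReduced_of_isOpenImmersion eU.hom
  rw [Scheme.IdealSheafData.ker_subschemeι]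
  refine ⟨RedSub.vanishingIdeal_le_ker _ _ ?_, RedSub.vanishingIdeal_le_ker _ _ ?_, ?_⟩
  · rintro _ ⟨z, rfl⟩
    refine subset_closure ⟨(inv f.fU ≫ G₁.e) z, ?_⟩
    rw [← Scheme.Hom.comp_apply, Category.assoc, hom_e, IsIso.inv_hom_id_assoc]
  · rintro _ ⟨z, rfl⟩
    rw [Scheme.Hom.comp_apply]
    exact mem_closure_range_i f (hmem z)
  · let a := (ι ≫ G₂.s) ≫ eU.hom
    let b := (ι ≫ G₂.t) ≫ eU.hom
    have : GeometricallyReduced a := FBase.BC.geometricallyReduced_of_isReduced_of_perfectField a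
    have : IsReduced (pullback a b) := FBase.BC.isReduced_pullback a b
    have : IsReduced (pullback (ι ≫ G₂.s) (ι ≫ G₂.t)) :=
      isReduced_of_isOpenImmersion (pullback.map (ι ≫ G₂.s) (ι ≫ G₂.t) a b (𝟙 _) (𝟙 _) eU.hom
        (by simp [a]) (by simp [b]))
    refine RedSub.vanishingIdeal_le_ker _ _ ?_
    rintro _ ⟨z, rfl⟩
    rw [Scheme.Hom.comp_apply]
    refine mem_closure_range_c f k eU ?_ ?_
    · rw [← Scheme.Hom.comp_apply, pullback.lift_fst]
      exact hmem _
    · rw [← Scheme.Hom.comp_apply, pullback.lift_snd]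
      exact hmem _

/-- The groupoid of all pairs of objects. -/
noncomputable def pair (G : Grpd.GroupoidScheme S) : Grpd.GroupoidScheme S where
  U := G.U
  R := pullback G.pU G.pU
  pU := G.pU
  pR := pullback.snd G.pU G.pU ≫ G.pU
  s := pullback.snd G.pU G.pU
  t := pullback.fst G.pU G.pU
  e := pullback.lift (𝟙 _) (𝟙 _) rfl
  i := pullback.lift (pullback.snd _ _) (pullback.fst _ _) pullback.condition.symm
  c := pullback.lift (pullback.fst _ _ ≫ pullback.fst _ _) (pullback.snd _ _ ≫ pullback.snd _ _) (by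
    simp only [Category.assoc]
    exact (congrArg (pullback.fst _ _ ≫ ·) (pullback.condition (f := G.pU) (g := G.pU))).trans
      ((pullback.condition_assoc _).trans
        (congrArg (pullback.snd _ _ ≫ ·) (pullback.condition (f := G.pU) (g := G.pU)))))
  s_over := rfl
  t_over := pullback.condition
  comp_s α β h := by simp [pullback.lift_snd, pullback.lift_snd_assoc]
  comp_t α β h := by simp [pullback.lift_fst, pullback.lift_fst_assoc]
  assoc α β γ h₁ h₂ := by
    apply pullback.hom_ext <;>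
      simp [pullback.lift_fst, pullback.lift_snd, pullback.lift_fst_assoc, pullback.lift_snd_assoc]
  e_s := pullback.lift_snd _ _ _
  e_t := pullback.lift_fst _ _ _
  comp_e α := by
    apply pullback.hom_ext <;>
      simp [pullback.lift_fst, pullback.lift_snd, pullback.lift_fst_assoc, pullback.lift_snd_assoc]
  e_comp α := by
    apply pullback.hom_ext <;>
      simp [pullback.lift_fst, pullback.lift_snd, pullback.lift_fst_assoc, pullback.lift_snd_assoc]
  i_s := pullback.lift_snd _ _ _
  i_t := pullback.lift_fst _ _ _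
  comp_i α := by
    apply pullback.hom_ext <;>
      simp [pullback.lift_fst, pullback.lift_snd, pullback.lift_fst_assoc, pullback.lift_snd_assoc]
  i_comp α := by
    apply pullback.hom_ext <;>
      simp [pullback.lift_fst, pullback.lift_snd, pullback.lift_fst_assoc, pullback.lift_snd_assoc]

/-- The morphism to the pair groupoid. -/
noncomputable def toPair (G : Grpd.GroupoidScheme S) : Grpd.GroupoidScheme.Hom G (pair G) where
  fU := 𝟙 _
  fR := G.j
  fU_over := Category.id_comp _
  comm_s := (j_snd G).trans (Category.comp_id _).symm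
  comm_t := (j_fst G).trans (Category.comp_id _).symm
  comm_c α β h := by
    refine pullback.hom_ext ?_ ?_
    · simp [pair, pullback.lift_fst, pullback.lift_fst_assoc, c_t]
    · simp [pair, pullback.lift_snd, pullback.lift_snd_assoc, c_s]

instance (G : Grpd.GroupoidScheme S) : IsIso (toPair G).fU := inferInstanceAs (IsIso (𝟙 G.U))

end Groth.Agent.GrpdLib.ImageGrpd
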