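import Groth.Agent.GrpdLib.NormAffine
import Groth.Agent.GrpdLib.GenericNorm
import Groth.Agent.GrpdLib.RestrictMono
import Groth.Agent.GrpdLib.Restrict
import Groth.Agent.GrpdLib.Saturation
import Groth.Agent.GrpdLib.DimOnePts
import Groth.Agent.AffThick.Components
import Groth.Agent.DimOneAmple.Main

/-!
# Invariant affine opens around orbits of dimension at most one
-/

set_option autoImplicit false
set_option linter.style.haveILetI false
set_option maxHeartbeats 800000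
set_option backward.isDefEq.respectTransparency false
set_option backward.isDefEq.respectTransparency.types false

universe u

open CategoryTheory CategoryTheory.Limits AlgebraicGeometry TopologicalSpace

namespace Groth.Agent.GrpdLib.InvAffineDimOne

open Saturation

/-- Flatness over the reduction of an open gives going down to domains for sections nowhere zero
outside the preimage of that open. -/
theorem goesDown {R U : Scheme.{u}} (f : R ⟶ U) [IsFinite f] (N : U.Opens)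
    (hflat : Flat (pullback.snd f U.nilradical.subschemeι ∣_ (U.nilradical.subschemeι ⁻¹ᵁ N)))
    {W : U.Opens} (hW : IsAffineOpen W) (b : Γ(R, f ⁻¹ᵁ W))
    (hb : ∀ r : R, r ∈ f ⁻¹ᵁ W → r ∉ R.basicOpen b → f r ∈ N) :
    @NormAffine.GoesDown Γ(U, W) _ Γ(R, f ⁻¹ᵁ W) _ (f.app W).hom.toAlgebra b := by
  let := (f.app W).hom.toAlgebra
  intro C _ _ _ Q q hQq hbQ
  let T := Spec (CommRingCat.of C)
  let γ : T ⟶ U := Spec.map (CommRingCat.ofHom (algebraMap Γ(U, W) C)) ≫ hW.fromSpec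
  let ι := U.nilradical.subschemeι
  let g := pullback.snd f ι
  obtain ⟨γ', hγ'⟩ := RedSub.exists_lift_closed ι γ
    (fun x _ => GenericNorm.surjective_redι U x)
  let N' : U.nilradical.subscheme.Opens := ι ⁻¹ᵁ N
  let Z := pullback g γ'
  let π : Z ⟶ T := pullback.snd g γ'
  let ρ : Z ⟶ R := pullback.fst g γ' ≫ pullback.fst f ι
  have hsq : IsPullback ρ π f γ := by
    rw [← hγ']
    exact (IsPullback.of_hasPullback g γ').paste_horiz (IsPullback.of_hasPullback f ι)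
  have hfW : IsAffineOpen (f ⁻¹ᵁ W) := hW.preimage f
  let r : R := hfW.fromSpec Q
  have hrW : r ∈ f ⁻¹ᵁ W := hfW.range_fromSpec.le ⟨Q, rfl⟩
  have hfr : f r = γ q := by
    show f (hfW.fromSpec Q) = hW.fromSpec (Spec.map (CommRingCat.ofHom (algebraMap Γ(U, W) C)) q)
    rw [← Scheme.Hom.comp_apply, ← hW.SpecMap_appLE_fromSpec f hfW le_rfl, Scheme.Hom.appLE_eq_app,
      Scheme.Hom.comp_apply]
    exact congrArg hW.fromSpec (PrimeSpectrum.ext hQq)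
  obtain ⟨z, hzr, hzq⟩ : ∃ z : Z, ρ z = r ∧ π z = q := by
    obtain ⟨z, h1, h2⟩ := Scheme.Pullback.exists_preimage_pullback (f := f) (g := γ) r q hfr
    refine ⟨hsq.isoPullback.inv z, ?_, ?_⟩
    · rw [← Scheme.Hom.comp_apply, hsq.isoPullback_inv_fst, h1]
    · rw [← Scheme.Hom.comp_apply, hsq.isoPullback_inv_snd, h2]
  have hrb : r ∉ R.basicOpen b := fun h => by
    have h1 : Q ∈ hfW.fromSpec ⁻¹ᵁ R.basicOpen b := h
    rw [hfW.fromSpec_preimage_basicOpen] at h1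
    exact h1 hbQ
  -- a generization over the generic point
  have hqN : γ' q ∈ N' := by
    show ι (γ' q) ∈ N
    rw [← Scheme.Hom.comp_apply, hγ', ← hfr]
    exact hb r hrW hrb
  let T₀ : T.Opens := γ' ⁻¹ᵁ N'
  let η : T := (⟨⊥, Ideal.isPrime_bot⟩ : PrimeSpectrum C)
  have hη : η ⤳ q := (PrimeSpectrum.le_iff_specializes (⟨⊥, Ideal.isPrime_bot⟩ : PrimeSpectrum C) q).1 bot_le
  have hT₀ : Flat (π ∣_ T₀) := by
    have h : Flat (g ∣_ N') := hflat
    have hp : IsPullback ((π ⁻¹ᵁ T₀).ι ≫ pullback.fst g γ') (π ∣_ T₀) g (T₀.ι ≫ γ') :=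
      ((isPullback_morphismRestrict π T₀).flip).paste_horiz (IsPullback.of_hasPullback g γ')
    have hlift : T₀.ι ≫ γ' = (γ'.resLE N' T₀ le_rfl) ≫ N'.ι := (Scheme.Hom.resLE_comp_ι _ _).symm
    rw [hlift] at hp
    obtain ⟨l, hl⟩ : ∃ l, l ≫ (g ⁻¹ᵁ N').ι = (π ⁻¹ᵁ T₀).ι ≫ pullback.fst g γ' :=
      ⟨(pullback.fst g γ').resLE (g ⁻¹ᵁ N') (π ⁻¹ᵁ T₀) (fun x hx => by
        show g (pullback.fst g γ' x) ∈ N'
        rw [← Scheme.Hom.comp_apply, pullback.condition, Scheme.Hom.comp_apply]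
        exact hx), Scheme.Hom.resLE_comp_ι _ _⟩
    have hp' : IsPullback l (π ∣_ T₀) (g ∣_ N') (γ'.resLE N' T₀ le_rfl) := by
      refine IsPullback.of_right (h₁₂ := (g ⁻¹ᵁ N').ι) (h₂₂ := N'.ι) (v₁₃ := g) ?_ ?_
        (isPullback_morphismRestrict g N').flip
      · rw [hl]; exact hp
      · rw [← cancel_mono N'.ι, Category.assoc, morphismRestrict_ι, ← Category.assoc, hl]
        exact hp.w.trans (Category.assoc _ _ _).symm
    exact MorphismProperty.of_isPullback hp' h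
  obtain ⟨z₀, hz₀, hz₀η⟩ : ∃ z₀ : Z, z₀ ⤳ z ∧ π z₀ = η := by
    have hzT : z ∈ π ⁻¹ᵁ T₀ := show π z ∈ T₀ from hzq ▸ hqN
    have hres : (π ∣_ T₀) ⟨z, hzT⟩ = (⟨q, hqN⟩ : T₀) := T₀.ι.isOpenEmbedding.injective (by
      rw [← Scheme.Hom.comp_apply, morphismRestrict_ι]
      exact hzq)
    have hsp : (⟨η, hη.mem_open T₀.2 hqN⟩ : T₀) ⤳ (π ∣_ T₀) ⟨z, hzT⟩ := by
      rw [hres]
      exact (T₀.ι.isOpenEmbedding.isInducing.specializes_iff).1 hη
    obtain ⟨w, hw, hwη⟩ := Flat.generalizingMap (π ∣_ T₀) hsp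
    refine ⟨(π ⁻¹ᵁ T₀).ι w, hw.map (π ⁻¹ᵁ T₀).ι.continuous, ?_⟩
    rw [← Scheme.Hom.comp_apply, ← morphismRestrict_ι, Scheme.Hom.comp_apply, hwη]
    rfl
  -- translate into rings
  have hπ : IsFinite π := MorphismProperty.of_isPullback hsq ‹IsFinite f›
  have : IsAffine Z := isAffine_of_isAffineHom π
  let hZ := isAffineOpen_top Z
  let P₀ := (hZ.primeIdealOf ⟨z₀, trivial⟩).asIdeal
  let h₀ : C →+* Γ(Z, ⊤) := π.appTop.hom.comp (Scheme.ΓSpecIso (CommRingCat.of C)).inv.hom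
  have hρW : (⊤ : Z.Opens) ≤ ρ ⁻¹ᵁ (f ⁻¹ᵁ W) := fun w _ => by
    show f (ρ w) ∈ W
    rw [← Scheme.Hom.comp_apply, hsq.w, Scheme.Hom.comp_apply]
    exact hW.range_fromSpec.le ⟨_, rfl⟩
  let g₀ : Γ(R, f ⁻¹ᵁ W) →+* Γ(Z, ⊤) := (ρ.appLE (f ⁻¹ᵁ W) ⊤ hρW).hom
  have hcomm : g₀.comp (algebraMap Γ(U, W) Γ(R, f ⁻¹ᵁ W)) = h₀.comp (algebraMap Γ(U, W) C) := by
    have e1 : (⊤ : Z.Opens) ≤ (ρ ≫ f) ⁻¹ᵁ W := hρW
    have e2 : (⊤ : T.Opens) ≤ γ ⁻¹ᵁ W := fun w _ => hW.range_fromSpec.le ⟨_, rfl⟩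
    have h1 : f.app W ≫ ρ.appLE (f ⁻¹ᵁ W) ⊤ hρW = (ρ ≫ f).appLE W ⊤ e1 := (Scheme.Hom.comp_appLE ..).symm
    have h2 : (ρ ≫ f).appLE W ⊤ e1 = γ.appLE W ⊤ e2 ≫ π.appTop := by
      have h3 : ∀ (φ : Z ⟶ U) (e : (⊤ : Z.Opens) ≤ φ ⁻¹ᵁ W), φ = π ≫ γ →
          φ.appLE W ⊤ e = γ.appLE W ⊤ e2 ≫ π.appTop := by
        rintro _ e rfl
        rw [← Scheme.Hom.appLE_comp_appLE _ _ W ⊤ ⊤ e2 le_rfl]
        congr 1
        exact Scheme.Hom.appLE_eq_app _
      exact h3 _ _ hsq.w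
    have h4 : γ.appLE W ⊤ e2 = CommRingCat.ofHom (algebraMap Γ(U, W) C) ≫
        (Scheme.ΓSpecIso (CommRingCat.of C)).inv := by
      rw [← Scheme.Hom.appLE_comp_appLE (Spec.map (CommRingCat.ofHom (algebraMap Γ(U, W) C))) hW.fromSpec W ⊤ ⊤
          (fun w _ => hW.range_fromSpec.le ⟨w, rfl⟩) le_rfl]
      have hA : ∀ e, hW.fromSpec.appLE W ⊤ e = (Scheme.ΓSpecIso Γ(U, W)).inv := fun e => by
        rw [Scheme.Hom.appLE, hW.fromSpec_app_self, Category.assoc, ← Functor.map_comp]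
        erw [show ((eqToHom hW.fromSpec_preimage_self).op ≫ (homOfLE e).op) =
          𝟙 (Opposite.op (⊤ : (Spec Γ(U, W)).Opens)) from Subsingleton.elim _ _]
        rw [CategoryTheory.Functor.map_id, Category.comp_id]
      rw [hA]
      refine (congrArg _ (Scheme.Hom.appLE_eq_app _)).trans ?_
      exact (Scheme.ΓSpecIso_inv_naturality _).symm
    have h5 := h1.trans (h2.trans (by rw [h4, Category.assoc]))
    exact congrArg CommRingCat.Hom.hom h5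
  let D := Γ(Z, ⊤) ⧸ P₀
  have hmemZ : ∀ (w : Z) (a : Γ(Z, ⊤)), a ∈ (hZ.primeIdealOf ⟨w, trivial⟩).asIdeal ↔ w ∉ Z.basicOpen a :=
    fun w a => by
      rw [← not_iff_not, not_not, ← PrimeSpectrum.mem_basicOpen, ← hZ.fromSpec_preimage_basicOpen a]
      show hZ.fromSpec (hZ.primeIdealOf ⟨w, trivial⟩) ∈ Z.basicOpen a ↔ _
      rw [hZ.fromSpec_primeIdealOf]
  have hh₀ : ∀ (w : Z), (hZ.primeIdealOf ⟨w, trivial⟩).asIdeal.comap h₀ = (π w).asIdeal := fun w => by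
    ext c
    rw [Ideal.mem_comap, hmemZ]
    show w ∉ Z.basicOpen (π.appTop ((Scheme.ΓSpecIso (CommRingCat.of C)).inv c)) ↔ _
    rw [← Scheme.preimage_basicOpen_top, Scheme.Hom.mem_preimage, basicOpen_eq_of_affine]
    exact not_not
  refine ⟨D, inferInstance, inferInstance, (Ideal.Quotient.mk P₀).comp g₀, (Ideal.Quotient.mk P₀).comp h₀,
    by rw [RingHom.comp_assoc, hcomm]; rfl, ?_, ?_, ?_⟩
  · rw [RingHom.injective_iff_ker_eq_bot, RingHom.ker_eq_comap_bot, ← Ideal.comap_comap,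
      ← RingHom.ker_eq_comap_bot, Ideal.mk_ker, hh₀, hz₀η]
  · exact ((RingHom.Finite.of_surjective _ Ideal.Quotient.mk_surjective).comp
      ((π.finite_app _ (isAffineOpen_top T)).comp (RingHom.Finite.of_surjective _
        (Scheme.ΓSpecIso (CommRingCat.of C)).symm.commRingCatIsoToRingEquiv.surjective))).to_isIntegral
  · have hle : P₀ ≤ (hZ.primeIdealOf ⟨z, trivial⟩).asIdeal := fun a ha => by
      rw [hmemZ]
      exact fun hza => (hmemZ z₀ a).1 ha (hz₀.mem_open (Z.basicOpen a).2 hza)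
    let P := (hZ.primeIdealOf ⟨z, trivial⟩).asIdeal.map (Ideal.Quotient.mk P₀)
    have hP : P.IsPrime := Ideal.map_isPrime_of_surjective Ideal.Quotient.mk_surjective (by rwa [Ideal.mk_ker])
    have hcm : P.comap (Ideal.Quotient.mk P₀) = (hZ.primeIdealOf ⟨z, trivial⟩).asIdeal := by
      rw [Ideal.comap_map_of_surjective _ Ideal.Quotient.mk_surjective, ← RingHom.ker_eq_comap_bot,
        Ideal.mk_ker, sup_eq_left.2 hle]
    refine ⟨⟨P, hP⟩, ?_, ?_⟩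
    · show P.comap _ = _
      rw [← Ideal.comap_comap, hcm]
      ext a
      rw [Ideal.mem_comap, hmemZ]
      show z ∉ Z.basicOpen (ρ.appLE (f ⁻¹ᵁ W) ⊤ hρW a) ↔ _
      rw [Scheme.Hom.appLE, CommRingCat.comp_apply, Scheme.basicOpen_res, ← Scheme.preimage_basicOpen]
      simp only [TopologicalSpace.Opens.mem_inf, TopologicalSpace.Opens.mem_top, true_and,
        Scheme.Hom.mem_preimage, hzr]
      show ¬ Q ∈ hfW.fromSpec ⁻¹ᵁ R.basicOpen a ↔ _
      rw [hfW.fromSpec_preimage_basicOpen]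
      exact not_not
    · show P.comap _ = _
      rw [← Ideal.comap_comap, hcm, hh₀, hzq]

/-- The core: an orbit of dimension at most one in a noetherian open subscheme of an affine scheme. -/
theorem exists_invariant_affine_core {S : Scheme.{u}} (G : Grpd.GroupoidScheme S) [IsFinite G.s]
    {A : Type u} [CommRing A] [IsNoetherianRing A] (jU : G.U ⟶ Spec (CommRingCat.of A))
    [IsOpenImmersion jU] (u : G.U)
    (hdim : ∀ r : G.R, G.s r = u → ringKrullDim (G.U.presheaf.stalk (G.t r)) ≤ 1) :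
    ∃ V : G.U.Opens, IsAffineOpen V ∧ u ∈ V ∧ G.s ⁻¹ᵁ V = G.t ⁻¹ᵁ V := by
  classical
  have : IsLocallyNoetherian G.U := by
    have : IsLocallyNoetherian (Spec (CommRingCat.of A)) := inferInstance
    exact LocallyOfFiniteType.isLocallyNoetherian jU
  have : IsLocallyNoetherian G.R := LocallyOfFiniteType.isLocallyNoetherian G.s
  have hrel := rel_equivalence G
  obtain ⟨N, hN, hflat⟩ := GenericNorm.exists_flat_nhd G.s
  let O : Set G.U := G.t '' (G.s ⁻¹' {u})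
  have hO : O.Finite := (G.s.finite_preimage_singleton u).image _
  have hOdim : ∀ x ∈ O, ringKrullDim (G.U.presheaf.stalk x) ≤ 1 := by
    rintro _ ⟨r, hr, rfl⟩; exact hdim r hr
  have hOcl : ∀ r : G.R, G.s r ∈ O → G.t r ∈ O := by
    rintro r ⟨r₁, hr₁, he⟩
    obtain ⟨m, hm₁, hm₂⟩ := hrel.trans (⟨r, rfl, rfl⟩ : Rel G (G.t r) (G.s r)) ⟨r₁, he, hr₁⟩
    exact ⟨m, hm₂, hm₁⟩
  -- the saturation of the non-flat locus
  let P : Set G.U := sat G (N : Set G.U)ᶜ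
  have hP : IsClosed P := isClosedMap_t G _ (N.2.isClosed_compl.preimage G.s.continuous)
  have hPinv : ∀ r : G.R, G.s r ∈ P ↔ G.t r ∈ P := fun r =>
    ⟨mem_sat_t G _ r, mem_sat_s G _ r⟩
  have hPN : ∀ x ∈ ((N : Set G.U)ᶜ), x ∈ P := fun x hx => subset_sat G _ hx
  have hPmax : ∀ x ∈ O, x ∈ P → ∀ w ∈ P, w ⤳ x → w = x := by
    intro x hx _ w hw hwx
    obtain ⟨r, hr, hrw⟩ := hw
    obtain ⟨r', hrr', hr'x'⟩ := (isClosedMap_t G).specializingMap (show G.t r ⤳ x by rw [hrw]; exact hwx)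
    have hs' : G.s r' ∈ O := by
      have h := hOcl (G.i r') (by rw [s_i_apply, hr'x']; exact hx)
      rwa [t_i_apply] at h
    by_contra hne
    have hne' : G.s r ≠ G.s r' := by
      intro he
      refine hne ?_
      have : r = r' :=
        (G.s.isDiscrete_preimage_singleton (G.s r')).eq_of_specializes hrr' he rfl
      rw [← hrw, this, hr'x']
    have hmax : ∀ y, y ⤳ G.s r → y = G.s r := fun y hy =>
      DimOneAmple.maximal_of_specializes (hrr'.map G.s.continuous) hne'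
        (hOdim _ hs') hy
    exact hr (hN _ hmax)
  -- the reduced groupoid on `P`
  let κ := (Scheme.IdealSheafData.vanishingIdeal ⟨P, hP⟩).subschemeι
  have hκ : Set.range κ = P := by
    rw [Scheme.IdealSheafData.range_subschemeι, Scheme.IdealSheafData.coe_support_vanishingIdeal]
    rfl
  let G' := restrictMono G κ
  have : IsFinite G'.s := by
    show IsFinite (rmS G κ)
    haveI : IsFinite (pullback.fst G.t κ ≫ G.s) := inferInstance
    exact MorphismProperty.pullback_snd _ _ inferInstance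
  have : IsLocallyNoetherian G'.U := LocallyOfFiniteType.isLocallyNoetherian κ
  let jP : G'.U ⟶ Spec (CommRingCat.of A) := κ ≫ jU
  let Z₀ : Set (PrimeSpectrum A) := (Set.range jU)ᶜ
  have hZ₀ : IsClosed Z₀ := jU.isOpenEmbedding.isOpen_range.isClosed_compl
  let I := PrimeSpectrum.vanishingIdeal Z₀
  have hIZ : PrimeSpectrum.zeroLocus (I : Set A) = Z₀ := by
    rw [PrimeSpectrum.zeroLocus_vanishingIdeal_eq_closure, hZ₀.closure_eq]
  have hclP : IsClosed (Z₀ ∪ jU '' P) := by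
    rw [← isOpen_compl_iff]
    have : (Z₀ ∪ jU '' P)ᶜ = jU '' Pᶜ := by
      rw [Set.compl_union, Set.image_compl_eq_range_sdiff_image jU.isOpenEmbedding.injective, compl_compl]
      rfl
    rw [this]
    exact jU.isOpenEmbedding.isOpenMap _ hP.isOpen_compl
  have hrange : Set.range jP = jU '' P := by
    rw [show Set.range jP = Set.range (jU ∘ κ) from congrArg Set.range (funext fun x => Scheme.Hom.comp_apply κ jU x),
      Set.range_comp, hκ]
  obtain ⟨h₁, hh₁, -, hTh, hh₁inv⟩ := GenericNorm.exists_invariant_basicOpen I G' jP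
    (fun x hx => by
      rw [hIZ] at hx
      exact hx ⟨κ x, (Scheme.Hom.comp_apply κ jU x).symm⟩)
    (by rw [hIZ, hrange]; exact hclP) (T := κ ⁻¹' O) (hO.preimage κ.isEmbedding.injective.injOn)
    (by
      intro y hy r hr x hx
      have hs : G.s (rmι G κ r) = κ y := by
        rw [← Scheme.Hom.comp_apply, rmι_s, Scheme.Hom.comp_apply]
        exact congrArg κ hr
      have ht : G.t (rmι G κ r) = κ (G'.t r) := by
        rw [← Scheme.Hom.comp_apply, rmι_t, Scheme.Hom.comp_apply]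
        rfl
      have hO' : κ (G'.t r) ∈ O := ht ▸ hOcl _ (hs ▸ hy)
      exact κ.isEmbedding.injective (hPmax _ hO' (hκ.le ⟨_, rfl⟩) _ (hκ.le ⟨x, rfl⟩) (hx.map κ.continuous)))
  have hh₁P : ∀ r : G.R, G.s r ∈ P →
      (h₁ ∈ (jU (G.s r)).asIdeal ↔ h₁ ∈ (jU (G.t r)).asIdeal) := by
    intro r hr
    obtain ⟨x, hx⟩ := hκ.ge hr
    obtain ⟨y, hy⟩ := hκ.ge ((hPinv r).1 hr)
    obtain ⟨w, hw₁, hw₂⟩ := Scheme.Pullback.exists_preimage_pullback (f := G.t) (g := κ) r y hy.symm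
    obtain ⟨v, hv₁, hv₂⟩ := Scheme.Pullback.exists_preimage_pullback (f := pullback.fst G.t κ ≫ G.s) (g := κ) w x
      (by rw [Scheme.Hom.comp_apply, hw₁, hx])
    have h := congrArg (fun O : (rmR G κ).Opens => v ∈ O) hh₁inv
    have hs' : G'.s v = x := hv₂
    have ht' : G'.t v = y := by
      show (pullback.fst (pullback.fst G.t κ ≫ G.s) κ ≫ pullback.snd G.t κ) v = y
      rw [Scheme.Hom.comp_apply, hv₁, hw₂]
    have h' : (G'.s v ∈ jP ⁻¹ᵁ PrimeSpectrum.basicOpen h₁) ↔ (G'.t v ∈ jP ⁻¹ᵁ PrimeSpectrum.basicOpen h₁) :=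
      Iff.of_eq h
    rw [hs', ht'] at h'
    have h'' : (h₁ ∉ (jP x).asIdeal) ↔ (h₁ ∉ (jP y).asIdeal) := h'
    rw [show jP x = jU (G.s r) from (Scheme.Hom.comp_apply κ jU x).trans (congrArg jU hx),
      show jP y = jU (G.t r) from (Scheme.Hom.comp_apply κ jU y).trans (congrArg jU hy)] at h''
    exact not_iff_not.1 h''
  -- adjust off `P`
  let J := PrimeSpectrum.vanishingIdeal (Z₀ ∪ jU '' P)
  have hJI : J ≤ I := PrimeSpectrum.vanishingIdeal_anti_mono Set.subset_union_left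
  obtain ⟨e, he, hOh⟩ := AffThick.exists_add_forall_not_mem (I := J) (hO.toFinset.image fun x => (jU x).asIdeal)
    (fun q hq => by obtain ⟨x, -, rfl⟩ := Finset.mem_image.1 hq; exact (jU x).isPrime) h₁
    (fun q hq hJq => by
      obtain ⟨x, hx, rfl⟩ := Finset.mem_image.1 hq
      rw [Set.Finite.mem_toFinset] at hx
      have h1 : jU x ∈ Z₀ ∪ jU '' P := by
        rw [← hclP.closure_eq, ← PrimeSpectrum.zeroLocus_vanishingIdeal_eq_closure]
        exact hJq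
      rcases h1 with h1 | ⟨x', hx', he'⟩
      · exact absurd ⟨x, rfl⟩ h1
      obtain rfl : x' = x := jU.isOpenEmbedding.injective he'
      obtain ⟨y, hy⟩ := hκ.ge hx'
      have h2 : h₁ ∉ (jP y).asIdeal := hTh (show κ y ∈ O from hy ▸ hx)
      rwa [show jP y = jU x' from (Scheme.Hom.comp_apply κ jU y).trans (congrArg jU hy)] at h2)
  let h : A := h₁ + e
  have hhI : h ∈ I := I.add_mem hh₁ (hJI he)
  have hhP : ∀ x ∈ P, (h ∈ (jU x).asIdeal ↔ h₁ ∈ (jU x).asIdeal) := fun x hx => by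
    have he' : e ∈ (jU x).asIdeal :=
      (PrimeSpectrum.mem_vanishingIdeal _ _).1 he _ (Or.inr ⟨x, hx, rfl⟩)
    exact Ideal.add_mem_iff_left _ he'
  let W₁ : G.U.Opens := jU ⁻¹ᵁ PrimeSpectrum.basicOpen h
  have hW₁ : IsAffineOpen W₁ := by
    refine (IsAffineOpen.Spec_basicOpen (R := CommRingCat.of A) h).preimage_of_isOpenImmersion jU fun q hq => ?_
    by_contra hq'
    exact hq ((PrimeSpectrum.mem_vanishingIdeal _ _).1 hhI q hq')
  have hmemW : ∀ x, x ∈ W₁ ↔ h ∉ (jU x).asIdeal := fun _ => Iff.rfl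
  have hOW : O ⊆ W₁ := fun x hx =>
    hOh _ (Finset.mem_image.2 ⟨x, hO.mem_toFinset.2 hx, rfl⟩)
  let hU : Γ(G.U, ⊤) := jU.appTop ((Scheme.ΓSpecIso (CommRingCat.of A)).inv h)
  have hhU : G.U.basicOpen hU = W₁ := by
    rw [← Scheme.preimage_basicOpen_top, basicOpen_eq_of_affine]
  let R₁ := G.s ⁻¹ᵁ W₁
  let b : Γ(G.R, R₁) := G.R.presheaf.map (homOfLE (le_top : R₁ ≤ ⊤)).op (G.t.appTop hU)
  have hbmem : ∀ r : G.R, r ∈ G.R.basicOpen b ↔ G.s r ∈ W₁ ∧ G.t r ∈ W₁ := fun r => by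
    rw [Scheme.basicOpen_res, ← Scheme.preimage_basicOpen_top, hhU]
    rfl
  let : Algebra Γ(G.U, W₁) Γ(G.R, R₁) := (G.s.app W₁).hom.toAlgebra
  have : Module.Finite Γ(G.U, W₁) Γ(G.R, R₁) := G.s.finite_app W₁ hW₁
  have : IsNoetherianRing Γ(G.U, W₁) := IsLocallyNoetherian.component_noetherian ⟨W₁, hW₁⟩
  have hgd : NormAffine.GoesDown Γ(G.U, W₁) Γ(G.R, R₁) b :=
    goesDown G.s N hflat hW₁ b fun r hr hrb => by
      by_contra hrN
      have hsP : G.s r ∈ P := hPN _ hrN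
      have htP : G.t r ∈ P := (hPinv r).1 hsP
      refine hrb ((hbmem r).2 ⟨hr, ?_⟩)
      rw [hmemW, hhP _ htP, ← hh₁P r hsP, ← hhP _ hsP]
      exact hr
  let V₁ : G.U.Opens := ⟨(G.s '' (G.t ⁻¹' (W₁ : Set G.U)ᶜ))ᶜ,
    (G.s.isClosedMap _ (W₁.2.isClosed_compl.preimage G.t.continuous)).isOpen_compl⟩
  let V : G.U.Opens := W₁ ⊓ V₁
  have hmemV : ∀ x, x ∈ V ↔ x ∈ W₁ ∧ ∀ r : G.R, G.s r = x → G.t r ∈ W₁ := fun x =>
    and_congr_right fun _ =>
      ⟨fun hx r hr => by_contra fun hc => hx ⟨r, hc, hr⟩, fun hx ⟨r, hc, hr⟩ => hc (hx r hr)⟩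
  have hR₁ : IsAffineOpen R₁ := hW₁.preimage G.s
  have haff : IsAffineOpen (hW₁.fromSpec ⁻¹ᵁ V) := by
    refine NormAffine.isAffineOpen_good b hgd _ fun x => ?_
    show hW₁.fromSpec x ∈ V ↔ _
    rw [hmemV]
    have hcomm : ∀ Q : PrimeSpectrum Γ(G.R, R₁), G.s (hR₁.fromSpec Q) =
        hW₁.fromSpec (PrimeSpectrum.comap (G.s.app W₁).hom Q) := fun Q => by
      rw [← Scheme.Hom.comp_apply, ← hW₁.SpecMap_appLE_fromSpec G.s hR₁ le_rfl, Scheme.Hom.appLE_eq_app,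
        Scheme.Hom.comp_apply]
      rfl
    have hbQ : ∀ Q : PrimeSpectrum Γ(G.R, R₁), hR₁.fromSpec Q ∈ G.R.basicOpen b ↔ b ∉ Q.asIdeal := fun Q => by
      show Q ∈ hR₁.fromSpec ⁻¹ᵁ G.R.basicOpen b ↔ _
      rw [hR₁.fromSpec_preimage_basicOpen]
      rfl
    constructor
    · intro hx Q hQ
      have hQ' : PrimeSpectrum.comap (G.s.app W₁).hom Q = x := PrimeSpectrum.ext hQ
      rw [← hbQ, hbmem]
      have hsQ := hcomm Q
      rw [hQ'] at hsQ
      exact ⟨hsQ ▸ hx.1, hx.2 _ hsQ⟩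
    · intro hx
      refine ⟨hW₁.range_fromSpec.le ⟨x, rfl⟩, fun r hr => ?_⟩
      have hrR : r ∈ R₁ := show G.s r ∈ W₁ from hr ▸ hW₁.range_fromSpec.le ⟨x, rfl⟩
      obtain ⟨Q, rfl⟩ := hR₁.range_fromSpec.ge hrR
      rw [hcomm] at hr
      have := hx Q (congrArg PrimeSpectrum.asIdeal (hW₁.fromSpec.isOpenEmbedding.injective hr))
      rw [← hbQ, hbmem] at this
      exact this.2
  refine ⟨V, ?_, (hmemV u).2 ⟨hOW ⟨G.e u, s_e_apply G u, t_e_apply G u⟩, fun r hr => hOW ⟨r, hr, rfl⟩⟩, ?_⟩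
  · have := haff.image_of_isOpenImmersion hW₁.fromSpec
    rwa [Scheme.Hom.image_preimage_eq_opensRange_inf, hW₁.opensRange_fromSpec,
      inf_eq_right.2 inf_le_left] at this
  have hinv : ∀ x y, Rel G x y → x ∈ V → y ∈ V := by
    intro x y hxy hx
    have horb : ∀ z, Rel G z y → z ∈ W₁ := fun z hz => by
      obtain ⟨r, hr₁, hr₂⟩ := hrel.trans hz (hrel.symm hxy)
      rw [← hr₁]; exact ((hmemV x).mp hx).2 r hr₂
    exact (hmemV y).mpr ⟨horb y (hrel.refl y), fun r hr => horb _ ⟨r, rfl, hr⟩⟩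
  ext r
  exact ⟨fun h => hinv _ _ (hrel.symm ⟨r, rfl, rfl⟩) h, fun h => hinv _ _ ⟨r, rfl, rfl⟩ h⟩

/-- A point whose orbit consists of points of dimension at most one lies in an invariant affine open. -/
theorem exists_invariant_affine_of_dim_le_one {S : Scheme.{u}} (G : Grpd.GroupoidScheme S)
    [IsFinite G.s] [G.U.IsSeparated] [IsLocallyNoetherian G.U] (u : G.U)
    (hdim : ∀ r : G.R, G.s r = u → ringKrullDim (G.U.presheaf.stalk (G.t r)) ≤ 1) :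
    ∃ W : G.U.Opens, IsAffineOpen W ∧ u ∈ W ∧ G.s ⁻¹ᵁ W = G.t ⁻¹ᵁ W := by
  have hrel := rel_equivalence G
  obtain ⟨A, hA, hOA⟩ := exists_affine_of_dim_le_one
    ((G.s.finite_preimage_singleton u).image G.t) (by
      rintro _ ⟨r, hr, rfl⟩
      exact ⟨inferInstance, hdim r hr⟩)
  let U₀ : G.U.Opens := ⟨(G.t '' (G.s ⁻¹' (A : Set G.U)ᶜ))ᶜ,
    (isClosedMap_t G _ (A.2.isClosed_compl.preimage G.s.continuous)).isOpen_compl⟩
  have hU₀ : ∀ x, x ∈ U₀ ↔ ∀ r : G.R, G.t r = x → G.s r ∈ A := fun x =>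
    ⟨fun h r hr => by_contra fun hc => h ⟨r, hc, hr⟩, fun h ⟨r, hc, hr⟩ => hc (h r hr)⟩
  have hU₀A : U₀ ≤ A := fun x hx => by
    have := (hU₀ x).1 hx (G.e x) (t_e_apply G x)
    rwa [s_e_apply] at this
  have hinv₀ : G.s ⁻¹ᵁ U₀ = G.t ⁻¹ᵁ U₀ := by
    have hinv : ∀ x y, Rel G x y → x ∈ U₀ → y ∈ U₀ := fun x y hxy hx => (hU₀ y).2 fun r hr => by
      obtain ⟨m, hm₁, hm₂⟩ := hrel.trans hxy ⟨r, hr, rfl⟩
      rw [← hm₂]
      exact (hU₀ x).1 hx m hm₁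
    ext r
    exact ⟨fun h => hinv _ _ (hrel.symm ⟨r, rfl, rfl⟩) h, fun h => hinv _ _ ⟨r, rfl, rfl⟩ h⟩
  have huU₀ : u ∈ U₀ := (hU₀ u).2 fun r hr => hOA ⟨G.i r, (s_i_apply G r).trans hr, t_i_apply G r⟩
  let G₁ := restrict G U₀ hinv₀
  have : IsFinite G₁.s := IsZariskiLocalAtTarget.restrict ‹IsFinite G.s› U₀
  have : IsNoetherianRing Γ(G.U, A) := IsLocallyNoetherian.component_noetherian ⟨A, hA⟩
  have : IsAffine A.toScheme := hA
  let jU : G₁.U ⟶ Spec Γ(G.U, A) := G.U.homOfLE hU₀A ≫ hA.isoSpec.hom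
  have hsι : ∀ r : (G.s ⁻¹ᵁ U₀).toScheme, U₀.ι ((G.s ∣_ U₀) r) = G.s r.1 := fun r => by
    rw [← Scheme.Hom.comp_apply, morphismRestrict_ι]; rfl
  have htι : ∀ r : (G.s ⁻¹ᵁ U₀).toScheme,
      U₀.ι (G.t.resLE U₀ (G.s ⁻¹ᵁ U₀) hinv₀.le r) = G.t r.1 := fun r => by
    rw [← Scheme.Hom.comp_apply, Scheme.Hom.resLE_comp_ι]; rfl
  have hdim₁ : ∀ r : G₁.R, G₁.s r = (⟨u, huU₀⟩ : U₀) →
      ringKrullDim (G₁.U.presheaf.stalk (G₁.t r)) ≤ 1 := fun r hr => by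
    have hs : G.s r.1 = u := (hsι r).symm.trans (congrArg U₀.ι hr)
    have := hdim r.1 hs
    rw [← htι r] at this
    exact (ringKrullDim_eq_of_ringEquiv (asIso (U₀.ι.stalkMap (G₁.t r))).commRingCatIsoToRingEquiv).symm.trans_le this
  obtain ⟨V, hV, huV, hVinv⟩ := exists_invariant_affine_core G₁ (A := Γ(G.U, A)) jU ⟨u, huU₀⟩ hdim₁
  refine ⟨U₀.ι ''ᵁ V, hV.image_of_isOpenImmersion U₀.ι, ⟨⟨u, huU₀⟩, huV, rfl⟩, ?_⟩
  have hmem : ∀ r : G.R, (G.s r ∈ U₀.ι ''ᵁ V ↔ G.t r ∈ U₀.ι ''ᵁ V) := by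
    intro r
    constructor
    · rintro ⟨x, hx, hxr⟩
      have hr : r ∈ G.s ⁻¹ᵁ U₀ := show G.s r ∈ U₀ from hxr ▸ x.2
      have h1 : (⟨r, hr⟩ : G.s ⁻¹ᵁ U₀) ∈ G₁.s ⁻¹ᵁ V := by
        have e : G₁.s ⟨r, hr⟩ = x := U₀.ι.isOpenEmbedding.injective ((hsι ⟨r, hr⟩).trans hxr.symm)
        show G₁.s _ ∈ V
        rw [e]; exact hx
      rw [hVinv] at h1
      exact ⟨_, h1, htι ⟨r, hr⟩⟩
    · rintro ⟨x, hx, hxr⟩
      have hr : r ∈ G.s ⁻¹ᵁ U₀ := by
        rw [hinv₀]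
        exact show G.t r ∈ U₀ from hxr ▸ x.2
      have h1 : (⟨r, hr⟩ : G.s ⁻¹ᵁ U₀) ∈ G₁.t ⁻¹ᵁ V := by
        have e : G₁.t ⟨r, hr⟩ = x := U₀.ι.isOpenEmbedding.injective ((htι ⟨r, hr⟩).trans hxr.symm)
        show G₁.t _ ∈ V
        rw [e]; exact hx
      rw [← hVinv] at h1
      exact ⟨_, h1, hsι ⟨r, hr⟩⟩
  ext r
  exact hmem r

end Groth.Agent.GrpdLib.InvAffineDimOne
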