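import Mathlib.CategoryTheory.EffectiveEpi.Basic
import Mathlib.CategoryTheory.Limits.Shapes.Pullback.HasPullback
import Mathlib.CategoryTheory.MorphismProperty.Limits
import Mathlib.CategoryTheory.Limits.Shapes.Equalizers

/-!
# Descent along an inverse image pair
-/

open CategoryTheory CategoryTheory.Limits

set_option linter.style.haveILetI false

universe v₁ u₁

namespace Groth.Agent.GrpdLib

variable {C : Type u₁} [Category.{v₁} C] [HasPullbacks C]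
    {X₁ X₀ Y₀ : C} {d₀ d₁ : X₁ ⟶ X₀} (s : X₀ ⟶ X₁) (hs₀ : s ≫ d₀ = 𝟙 X₀) (hs₁ : s ≫ d₁ = 𝟙 X₀)
    (f₀ : Y₀ ⟶ X₀) [EffectiveEpi f₀]

omit [EffectiveEpi f₀] in
lemma invImage_equalizes {T : C} (h : X₀ ⟶ T) (hh : d₁ ≫ h = d₀ ≫ h) :
    (pullback.fst (pullback.snd f₀ d₁ ≫ d₀) f₀ ≫ pullback.fst f₀ d₁) ≫ f₀ ≫ h =
      pullback.snd (pullback.snd f₀ d₁ ≫ d₀) f₀ ≫ f₀ ≫ h := by
  simp only [Category.assoc, pullback.condition_assoc, hh]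
  rw [← pullback.condition_assoc (f := pullback.snd f₀ d₁ ≫ d₀) (g := f₀) h]
  simp

include hs₀ hs₁ in
lemma exists_invImage_desc (hf : MorphismProperty.universally (MorphismProperty.epimorphisms C) f₀)
    {T : C} (g : Y₀ ⟶ T)
    (hg : (pullback.fst (pullback.snd f₀ d₁ ≫ d₀) f₀ ≫ pullback.fst f₀ d₁) ≫ g =
      pullback.snd (pullback.snd f₀ d₁ ≫ d₀) f₀ ≫ g) :
    ∃! h : X₀ ⟶ T, d₁ ≫ h = d₀ ≫ h ∧ f₀ ≫ h = g := by
  have hg' : ∀ {Z : C} (g₁ g₂ : Z ⟶ Y₀), g₁ ≫ f₀ = g₂ ≫ f₀ → g₁ ≫ g = g₂ ≫ g := by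
    intro Z g₁ g₂ e
    let a : Z ⟶ pullback f₀ d₁ := pullback.lift g₁ (g₁ ≫ f₀ ≫ s) (by simp [hs₁])
    let b : Z ⟶ pullback (pullback.snd f₀ d₁ ≫ d₀) f₀ := pullback.lift a g₂ (by simp [a, hs₀, e, pullback.lift_snd_assoc])
    have := congrArg (b ≫ ·) hg
    simpa [b, a, pullback.lift_fst_assoc, pullback.lift_snd_assoc] using this
  refine ⟨EffectiveEpi.desc f₀ g hg', ⟨?_, EffectiveEpi.fac f₀ g hg'⟩, ?_⟩
  · set h := EffectiveEpi.desc f₀ g hg'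
    have hh : f₀ ≫ h = g := EffectiveEpi.fac f₀ g hg'
    haveI : Epi (pullback.snd f₀ d₁) :=
      hf _ _ _ (IsPullback.of_hasPullback f₀ d₁).flip
    haveI : Epi (pullback.fst (pullback.snd f₀ d₁ ≫ d₀) f₀) :=
      hf _ _ _ (IsPullback.of_hasPullback _ f₀)
    rw [← cancel_epi (pullback.fst (pullback.snd f₀ d₁ ≫ d₀) f₀ ≫ pullback.snd f₀ d₁)]
    have e1 : (pullback.fst (pullback.snd f₀ d₁ ≫ d₀) f₀ ≫ pullback.snd f₀ d₁) ≫ d₁ ≫ h =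
        (pullback.fst (pullback.snd f₀ d₁ ≫ d₀) f₀ ≫ pullback.fst f₀ d₁) ≫ g := by
      simp only [Category.assoc, ← hh, pullback.condition_assoc]
    have e2 : (pullback.fst (pullback.snd f₀ d₁ ≫ d₀) f₀ ≫ pullback.snd f₀ d₁) ≫ d₀ ≫ h =
        pullback.snd (pullback.snd f₀ d₁ ≫ d₀) f₀ ≫ g := by
      rw [← hh, ← pullback.condition_assoc]; simp
    rw [e1, e2, hg]
  · intro h' hh'
    exact EffectiveEpi.uniq f₀ g hg' h' hh'.2

end Groth.Agent.GrpdLib
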