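import Groth.Agent.GrpdLib.Basic
import Mathlib.AlgebraicGeometry.Morphisms.FlatDescent
import Mathlib.AlgebraicGeometry.Morphisms.Finite

/-!
# The groupoid of transports along a finite locally free quotient of the objects

If `q : U ⟶ B` is finite locally free and every pair of points of `U` with one image in `B` comes
with an arrow, functorially and compatibly with composition, these arrows act on `R` from both
sides; the resulting groupoid on `R` is the kernel pair of the quotient of `R` over `B ×_S B`.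
-/

universe u

set_option maxHeartbeats 400000

open CategoryTheory CategoryTheory.Limits AlgebraicGeometry

namespace Groth.Agent.GrpdLib

variable {S : Scheme.{u}} (G : Grpd.GroupoidScheme S)

/-- A finite locally free surjection out of `U` with a functorial choice of arrows between points
with the same image. -/
structure KerData where
  B : Scheme.{u}
  q : G.U ⟶ B
  m : B ⟶ S
  q_over : q ≫ m = G.pU
  finite : IsFinite q
  flat : Flat q
  lfp : LocallyOfFinitePresentation q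
  surj : Surjective q
  ω : ∀ {T : Scheme.{u}} (a b : T ⟶ G.U), a ≫ q = b ≫ q → (T ⟶ G.R)
  ω_t : ∀ {T : Scheme.{u}} (a b : T ⟶ G.U) (h : a ≫ q = b ≫ q), ω a b h ≫ G.t = a
  ω_s : ∀ {T : Scheme.{u}} (a b : T ⟶ G.U) (h : a ≫ q = b ≫ q), ω a b h ≫ G.s = b
  ω_comp : ∀ {T : Scheme.{u}} (a b c : T ⟶ G.U) (h : a ≫ q = b ≫ q) (h' : b ≫ q = c ≫ q),
    comp G (ω a b h) (ω b c h') ((ω_s a b h).trans (ω_t b c h').symm) = ω a c (h.trans h')
  ω_nat : ∀ {T T' : Scheme.{u}} (f : T' ⟶ T) (a b : T ⟶ G.U) (h : a ≫ q = b ≫ q),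
    f ≫ ω a b h = ω (f ≫ a) (f ≫ b) (by simp [h])

attribute [instance] KerData.finite KerData.flat KerData.lfp KerData.surj

namespace KerData

variable {G} (K : KerData G) {T T' : Scheme.{u}}

lemma ω_congr {a a' b b' : T ⟶ G.U} (h : a ≫ K.q = b ≫ K.q) (h' : a' ≫ K.q = b' ≫ K.q)
    (ea : a = a') (eb : b = b') : K.ω a b h = K.ω a' b' h' := by
  subst ea eb; rfl

lemma ω_self (a : T ⟶ G.U) : K.ω a a rfl = a ≫ G.e := by
  have h : K.ω a a rfl ≫ G.s = K.ω a a rfl ≫ G.t := (K.ω_s a a rfl).trans (K.ω_t a a rfl).symm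
  have h' : comp G (K.ω a a rfl) (K.ω a a rfl) h = K.ω a a rfl := K.ω_comp a a a rfl rfl
  have h₁ := i_comp_cancel G _ _ h
  rw [← h₁]
  refine (comp_congr G _ (by simp) rfl h').trans ?_
  rw [i_comp G, K.ω_s]

/-- Transport of an arrow to other end points. -/
noncomputable def tr (r : T ⟶ G.R) (a b : T ⟶ G.U) (ha : a ≫ K.q = (r ≫ G.t) ≫ K.q)
    (hb : b ≫ K.q = (r ≫ G.s) ≫ K.q) : T ⟶ G.R :=
  comp G (comp G (K.ω a (r ≫ G.t) ha) r (K.ω_s _ _ _)) (K.ω (r ≫ G.s) b hb.symm)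
    ((comp_s G _ _ _).trans (K.ω_t _ _ _).symm)

lemma tr_congr {r r' : T ⟶ G.R} {a a' b b' : T ⟶ G.U} {ha hb} (er : r = r') (ea : a = a')
    (eb : b = b') : K.tr r a b ha hb = K.tr r' a' b' (er ▸ ea ▸ ha) (er ▸ eb ▸ hb) := by
  subst er ea eb; rfl

@[simp] lemma tr_t (r : T ⟶ G.R) (a b : T ⟶ G.U) (ha hb) : K.tr r a b ha hb ≫ G.t = a := by
  rw [tr, comp_t, comp_t, K.ω_t]

@[simp] lemma tr_s (r : T ⟶ G.R) (a b : T ⟶ G.U) (ha hb) : K.tr r a b ha hb ≫ G.s = b := by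
  rw [tr, comp_s, K.ω_s]

lemma tr_nat (f : T' ⟶ T) (r : T ⟶ G.R) (a b : T ⟶ G.U) (ha hb) :
    f ≫ K.tr r a b ha hb =
      K.tr (f ≫ r) (f ≫ a) (f ≫ b) (by simp [ha]) (by simp [hb]) := by
  rw [tr, naturality, tr]
  refine comp_congr G _ _ ?_ ((K.ω_nat f _ _ _).trans (K.ω_congr _ _ (Category.assoc _ _ _).symm rfl))
  rw [naturality]
  exact comp_congr G _ _ ((K.ω_nat f _ _ _).trans (K.ω_congr _ _ rfl (Category.assoc _ _ _).symm)) rfl

lemma tr_self (r : T ⟶ G.R) : K.tr r (r ≫ G.t) (r ≫ G.s) rfl rfl = r := by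
  rw [tr]
  refine (comp_congr G _ (by simp) ?_ (K.ω_self _)).trans (comp_e G r (r ≫ G.s) (by simp))
  exact (comp_congr G _ (by simp) (K.ω_self _) rfl).trans (e_comp G r (r ≫ G.t) (by simp))

lemma assoc' (α β γ : T ⟶ G.R) (h₁ : α ≫ G.s = β ≫ G.t) (h₂ : β ≫ G.s = γ ≫ G.t)
    (h₃ : comp G α β h₁ ≫ G.s = γ ≫ G.t) (h₄ : α ≫ G.s = comp G β γ h₂ ≫ G.t) :
    comp G (comp G α β h₁) γ h₃ = comp G α (comp G β γ h₂) h₄ :=
  comp_assoc G α β γ h₁ h₂

lemma tr_tr (r : T ⟶ G.R) (a b c d : T ⟶ G.U) (ha : a ≫ K.q = (r ≫ G.t) ≫ K.q)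
    (hb : b ≫ K.q = (r ≫ G.s) ≫ K.q) (hc : c ≫ K.q = (K.tr r a b ha hb ≫ G.t) ≫ K.q)
    (hd : d ≫ K.q = (K.tr r a b ha hb ≫ G.s) ≫ K.q) :
    K.tr (K.tr r a b ha hb) c d hc hd = K.tr r c d (by rwa [tr_t, ha] at hc) (by rwa [tr_s, hb] at hd) := by
  have hca : c ≫ K.q = a ≫ K.q := by rwa [tr_t] at hc
  have hdb : d ≫ K.q = b ≫ K.q := by rwa [tr_s] at hd
  have hct : c ≫ K.q = (r ≫ G.t) ≫ K.q := hca.trans ha
  have htot : (r ≫ G.s) ≫ K.q = d ≫ K.q := hb.symm.trans hdb.symm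
  have s1 : K.ω c a hca ≫ G.s = K.ω a (r ≫ G.t) ha ≫ G.t := by rw [K.ω_s, K.ω_t]
  have s2 : K.ω a (r ≫ G.t) ha ≫ G.s = r ≫ G.t := K.ω_s _ _ _
  have s3 : r ≫ G.s = K.ω (r ≫ G.s) b hb.symm ≫ G.t := (K.ω_t _ _ _).symm
  have s4 : K.ω (r ≫ G.s) b hb.symm ≫ G.s = K.ω b d hdb.symm ≫ G.t := by rw [K.ω_s, K.ω_t]
  have X : comp G (K.ω c a hca) (comp G (K.ω a (r ≫ G.t) ha) r s2) (s1.trans (comp_t G _ _ _).symm) =
      comp G (K.ω c (r ≫ G.t) hct) r (K.ω_s _ _ _) := by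
    rw [← assoc' _ _ _ s1 s2 ((comp_s G _ _ _).trans s2)]
    exact comp_congr G _ _ (K.ω_comp c a _ hca ha) rfl
  refine Eq.trans (b := comp G (comp G (K.ω c a hca) (K.tr r a b ha hb) (by simp [K.ω_s]))
    (K.ω b d hdb.symm) (by simp [K.ω_t])) ?_ ?_
  · exact comp_congr G _ _ (comp_congr G _ _ (K.ω_congr _ _ rfl (K.tr_t ..)) rfl)
      (K.ω_congr _ _ (K.tr_s ..) rfl)
  · refine Eq.trans (b := comp G (comp G (comp G (K.ω c (r ≫ G.t) hct) r (K.ω_s _ _ _))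
      (K.ω (r ≫ G.s) b hb.symm) (by simp [K.ω_t])) (K.ω b d hdb.symm) (by simp [K.ω_s, K.ω_t])) ?_ ?_
    · refine comp_congr G _ _ ?_ rfl
      simp only [tr]
      rw [← assoc' _ _ _ (s1.trans (comp_t G _ _ _).symm) ((comp_s G _ _ _).trans s3)
        ((comp_s G _ _ _).trans ((comp_s G _ _ _).trans s3))]
      exact comp_congr G _ _ X rfl
    · rw [assoc' _ _ _ _ s4 _ (by simp [K.ω_t])]
      exact comp_congr G _ _ rfl (K.ω_comp _ b d _ _)

lemma tr_comp (r r' : T ⟶ G.R) (a b c : T ⟶ G.U) (ha : a ≫ K.q = (r ≫ G.t) ≫ K.q)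
    (hb : b ≫ K.q = (r ≫ G.s) ≫ K.q) (hb' : b ≫ K.q = (r' ≫ G.t) ≫ K.q)
    (hc : c ≫ K.q = (r' ≫ G.s) ≫ K.q) (h : r ≫ G.s = r' ≫ G.t) :
    comp G (K.tr r a b ha hb) (K.tr r' b c hb' hc) (by simp) =
      K.tr (comp G r r' h) a c (by simpa using ha) (by simpa using hc) := by
  set w₁ := K.ω a (r ≫ G.t) ha with hw₁
  set w₂ := K.ω (r ≫ G.s) b hb.symm with hw₂
  set w₃ := K.ω b (r' ≫ G.t) hb' with hw₃
  set w₄ := K.ω (r' ≫ G.s) c hc.symm with hw₄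
  have h12 : w₁ ≫ G.s = r ≫ G.t := K.ω_s _ _ _
  have h2 : r ≫ G.s = w₂ ≫ G.t := (K.ω_t _ _ _).symm
  have h23 : w₂ ≫ G.s = w₃ ≫ G.t := (K.ω_s _ _ _).trans (K.ω_t _ _ _).symm
  have h3 : w₃ ≫ G.s = r' ≫ G.t := K.ω_s _ _ _
  have h34 : r' ≫ G.s = w₄ ≫ G.t := (K.ω_t _ _ _).symm
  have hA : comp G w₁ r h12 ≫ G.s = w₂ ≫ G.t := (comp_s G _ _ _).trans h2
  have hC : comp G w₃ r' h3 ≫ G.s = w₄ ≫ G.t := (comp_s G _ _ _).trans h34
  change comp G (comp G (comp G w₁ r h12) w₂ hA) (comp G (comp G w₃ r' h3) w₄ hC) _ = _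
  have hX : comp G (comp G w₁ r h12) w₂ hA ≫ G.s = w₃ ≫ G.t := (comp_s G _ _ _).trans h23
  refine Eq.trans (assoc' _ (comp G w₃ r' h3) w₄ (hX.trans (comp_t G _ _ _).symm) hC
    ((comp_s G _ _ _).trans hC) _).symm ?_
  refine Eq.trans (comp_congr G _ (by simp [h3, h34])
    (assoc' _ w₃ r' hX h3 ((comp_s G _ _ _).trans h3) _).symm rfl) ?_
  have key : comp G (comp G (comp G w₁ r h12) w₂ hA) w₃ (by simp [h23]) = comp G w₁ r h12 := by
    rw [assoc' _ _ _ hA h23 _ (by simp [h2])]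
    refine (comp_congr G _ (by simp [h]) rfl ?_).trans (comp_e G _ (r ≫ G.s) (by simp))
    exact (K.ω_comp _ b _ _ _).trans ((K.ω_congr _ rfl rfl h.symm).trans (K.ω_self _))
  rw [tr]
  refine comp_congr G _ _ ?_ (K.ω_congr _ _ (comp_s G _ _ _).symm rfl)
  refine (comp_congr G _ (by simp [h]) key rfl).trans ?_
  rw [assoc' _ _ _ h12 h _ (by simp [h12])]
  exact comp_congr G _ _ (K.ω_congr _ _ rfl (comp_t G _ _ _).symm) rfl

lemma tr_e (x a : T ⟶ G.U) (ha : a ≫ K.q = x ≫ K.q) :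
    K.tr (x ≫ G.e) a a (by simpa using ha) (by simpa using ha) = a ≫ G.e := by
  rw [tr]
  refine (comp_congr G _ (by simp [K.ω_s, K.ω_t]) ?_ (K.ω_congr _ ha.symm (by simp) rfl)).trans
    ((K.ω_comp a x a ha ha.symm).trans (K.ω_self a))
  exact (comp_congr G _ (by simp [K.ω_s]) (K.ω_congr _ ha rfl (by simp)) rfl).trans
    (comp_e G _ x (by simp [K.ω_s]))

lemma tr_i (r : T ⟶ G.R) (a b : T ⟶ G.U) (ha : a ≫ K.q = (r ≫ G.t) ≫ K.q)
    (hb : b ≫ K.q = (r ≫ G.s) ≫ K.q) :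
    K.tr (r ≫ G.i) b a (by simpa using hb) (by simpa using ha) = K.tr r a b ha hb ≫ G.i := by
  have hri : r ≫ G.s = (r ≫ G.i) ≫ G.t := by simp
  have h1 := K.tr_comp r (r ≫ G.i) a b a ha hb (by simpa using hb) (by simpa using ha) hri
  rw [K.tr_congr (comp_i G r hri) rfl rfl, K.tr_e (r ≫ G.t) a ha] at h1
  have h2 := i_comp_cancel G _ _ (show K.tr r a b ha hb ≫ G.s =
    K.tr (r ≫ G.i) b a (by simpa using hb) (by simpa using ha) ≫ G.t by simp)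
  rw [← h2]
  refine (comp_congr G _ (by simp) rfl h1).trans (comp_e G _ a (by simp))

/-! ### The groupoid on `R` -/

/-- `q × q`. -/
noncomputable def qq : pullback G.pU G.pU ⟶ pullback K.m K.m :=
  pullback.map G.pU G.pU K.m K.m K.q K.q (𝟙 S) ((Category.comp_id _).trans K.q_over.symm)
    ((Category.comp_id _).trans K.q_over.symm)

@[reassoc (attr := simp)] lemma qq_fst :
    K.qq ≫ pullback.fst K.m K.m = pullback.fst G.pU G.pU ≫ K.q := pullback.lift_fst _ _ _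

@[reassoc (attr := simp)] lemma qq_snd :
    K.qq ≫ pullback.snd K.m K.m = pullback.snd G.pU G.pU ≫ K.q := pullback.lift_snd _ _ _

instance : IsFinite K.qq :=
  MorphismProperty.pullbackMap (P := @IsFinite) K.finite K.finite K.q_over.symm K.q_over.symm

instance : Flat K.qq :=
  MorphismProperty.pullbackMap (P := @Flat) K.flat K.flat K.q_over.symm K.q_over.symm

instance : LocallyOfFinitePresentation K.qq :=
  MorphismProperty.pullbackMap (P := @LocallyOfFinitePresentation) K.lfp K.lfp K.q_over.symm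
    K.q_over.symm

/-- Triples `(r, a, b)` with `a, b` over the end points of `r`. -/
noncomputable abbrev ER : Scheme.{u} := pullback (G.j ≫ K.qq) K.qq

noncomputable def r₀ : K.ER ⟶ G.R := pullback.fst _ _

noncomputable def ab : K.ER ⟶ pullback G.pU G.pU := pullback.snd _ _

lemma r₀_ab : K.r₀ ≫ G.j ≫ K.qq = K.ab ≫ K.qq := pullback.condition

lemma ha : (K.ab ≫ pullback.fst G.pU G.pU) ≫ K.q = (K.r₀ ≫ G.t) ≫ K.q := by
  simpa using congrArg (· ≫ pullback.fst K.m K.m) K.r₀_ab.symm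

lemma hb : (K.ab ≫ pullback.snd G.pU G.pU) ≫ K.q = (K.r₀ ≫ G.s) ≫ K.q := by
  simpa using congrArg (· ≫ pullback.snd K.m K.m) K.r₀_ab.symm

/-- The transported arrow. -/
noncomputable def r₁ : K.ER ⟶ G.R :=
  K.tr K.r₀ (K.ab ≫ pullback.fst G.pU G.pU) (K.ab ≫ pullback.snd G.pU G.pU) K.ha K.hb

lemma r₁_j : K.r₁ ≫ G.j = K.ab := by
  apply pullback.hom_ext
  · rw [Category.assoc, j_fst, r₁, tr_t]
  · rw [Category.assoc, j_snd, r₁, tr_s]

lemma r₁_pR : K.r₁ ≫ G.pR = K.r₀ ≫ G.pR := by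
  rw [← G.t_over, ← Category.assoc, r₁, tr_t, Category.assoc]
  have h := congrArg (· ≫ K.m) K.ha
  simpa [K.q_over] using h

/-- The pair `(x, y)`. -/
noncomputable def liftE {W : Scheme.{u}} (x : W ⟶ G.R) (y : W ⟶ pullback G.pU G.pU)
    (h : x ≫ G.j ≫ K.qq = y ≫ K.qq) : W ⟶ K.ER :=
  pullback.lift x y h

@[reassoc (attr := simp)] lemma liftE_r₀ {W : Scheme.{u}} (x : W ⟶ G.R)
    (y : W ⟶ pullback G.pU G.pU) (h) : K.liftE x y h ≫ K.r₀ = x := pullback.lift_fst _ _ _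

@[reassoc (attr := simp)] lemma liftE_ab {W : Scheme.{u}} (x : W ⟶ G.R)
    (y : W ⟶ pullback G.pU G.pU) (h) : K.liftE x y h ≫ K.ab = y := pullback.lift_snd _ _ _

lemma ER_ext {W : Scheme.{u}} {f g : W ⟶ K.ER} (h₀ : f ≫ K.r₀ = g ≫ K.r₀)
    (h₁ : f ≫ K.ab = g ≫ K.ab) : f = g := pullback.hom_ext h₀ h₁

lemma comp_aux {W : Scheme.{u}} (α β : W ⟶ K.ER) (h : α ≫ K.r₀ = β ≫ K.r₁) :
    (β ≫ K.r₀) ≫ G.j ≫ K.qq = (α ≫ K.ab) ≫ K.qq := by
  calc (β ≫ K.r₀) ≫ G.j ≫ K.qq = β ≫ K.ab ≫ K.qq := by rw [Category.assoc, K.r₀_ab]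
    _ = (β ≫ K.r₁) ≫ G.j ≫ K.qq := by
      simp only [Category.assoc]; congr 1; rw [← Category.assoc, K.r₁_j]
    _ = (α ≫ K.r₀) ≫ G.j ≫ K.qq := by rw [h]
    _ = (α ≫ K.ab) ≫ K.qq := by rw [Category.assoc, Category.assoc, K.r₀_ab]

lemma comp_r₁ {W : Scheme.{u}} (α β : W ⟶ K.ER) (h : α ≫ K.r₀ = β ≫ K.r₁) :
    K.liftE (β ≫ K.r₀) (α ≫ K.ab) (K.comp_aux α β h) ≫ K.r₁ = α ≫ K.r₁ := by
  have h' : α ≫ K.r₀ = K.tr (β ≫ K.r₀) (β ≫ K.ab ≫ pullback.fst G.pU G.pU)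
      (β ≫ K.ab ≫ pullback.snd G.pU G.pU) (by simp [K.ha]) (by simp [K.hb]) := by
    rw [h, r₁, K.tr_nat]
  rw [r₁, K.tr_nat, K.tr_nat, K.tr_congr (K.liftE_r₀ _ _ _) (K.liftE_ab_assoc _ _ _ _)
    (K.liftE_ab_assoc _ _ _ _)]
  simp only [Category.assoc]
  rw [K.tr_congr h' rfl rfl, K.tr_tr]

lemma ER_ext' {W : Scheme.{u}} {f g : W ⟶ K.ER} (h₀ : f ≫ K.r₀ = g ≫ K.r₀)
    (h₁ : f ≫ K.r₁ = g ≫ K.r₁) : f = g := by
  refine K.ER_ext h₀ ?_
  rw [← K.r₁_j, reassoc_of% h₁]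

/-- The groupoid of transports on `R`. -/
noncomputable def E : Grpd.GroupoidScheme S where
  U := G.R
  R := K.ER
  pU := G.pR
  pR := K.r₀ ≫ G.pR
  s := K.r₀
  t := K.r₁
  e := K.liftE (𝟙 G.R) G.j (by simp)
  i := K.liftE K.r₁ (K.r₀ ≫ G.j) (by rw [reassoc_of% K.r₁_j, Category.assoc, K.r₀_ab])
  c := K.liftE (pullback.snd K.r₀ K.r₁ ≫ K.r₀) (pullback.fst K.r₀ K.r₁ ≫ K.ab)
    (K.comp_aux _ _ pullback.condition)
  s_over := rfl
  t_over := K.r₁_pR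
  comp_s := fun {T} α β h => by
    rw [Category.assoc, K.liftE_r₀, pullback.lift_snd_assoc]
  comp_t := fun {T} α β h => by
    rw [Category.assoc, K.comp_r₁ _ _ pullback.condition, pullback.lift_fst_assoc]
  assoc := fun {T} α β γ h₁ h₂ => by
    apply K.ER_ext
    · simp only [Category.assoc, K.liftE_r₀, pullback.lift_snd_assoc]
    · simp only [Category.assoc, K.liftE_ab, pullback.lift_fst_assoc]
  e_s := K.liftE_r₀ _ _ _
  e_t := by
    rw [r₁, K.tr_nat, K.tr_congr (K.liftE_r₀ _ _ _) ((K.liftE_ab_assoc _ _ _ _).trans (j_fst G))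
      ((K.liftE_ab_assoc _ _ _ _).trans (j_snd G))]
    simpa using K.tr_self (𝟙 G.R)
  comp_e := fun {T} α => by
    apply K.ER_ext
    · simp only [Category.assoc, K.liftE_r₀, pullback.lift_snd_assoc, Category.comp_id]
    · simp only [Category.assoc, K.liftE_ab, pullback.lift_fst_assoc]
  e_comp := fun {T} α => by
    apply K.ER_ext
    · simp only [Category.assoc, K.liftE_r₀, pullback.lift_snd_assoc]
    · simp only [Category.assoc, K.liftE_ab, pullback.lift_fst_assoc, K.r₁_j]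
  i_s := K.liftE_r₀ _ _ _
  i_t := by
    refine (K.tr_nat _ _ _ _ _ _).trans ?_
    rw [K.tr_congr (K.liftE_r₀ _ _ _) (a' := K.r₀ ≫ G.t) (b' := K.r₀ ≫ G.s)
      (by rw [K.liftE_ab_assoc, Category.assoc, j_fst])
      (by rw [K.liftE_ab_assoc, Category.assoc, j_snd])]
    conv_rhs => rw [← K.tr_self K.r₀]
    exact K.tr_tr _ _ _ _ _ _ _ _ _
  comp_i := fun {T} α => by
    apply K.ER_ext
    · simp only [Category.assoc, K.liftE_r₀, pullback.lift_snd_assoc, Category.comp_id]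
    · simp only [Category.assoc, K.liftE_ab, pullback.lift_fst_assoc, K.r₁_j]
  i_comp := fun {T} α => by
    apply K.ER_ext
    · simp only [Category.assoc, K.liftE_r₀, pullback.lift_snd_assoc, Category.comp_id]
    · simp only [Category.assoc, K.liftE_ab, pullback.lift_fst_assoc]

instance : IsFinite K.E.s := inferInstanceAs (IsFinite (pullback.fst (G.j ≫ K.qq) K.qq))

instance : Flat K.E.s := inferInstanceAs (Flat (pullback.fst (G.j ≫ K.qq) K.qq))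

instance : LocallyOfFinitePresentation K.E.s :=
  inferInstanceAs (LocallyOfFinitePresentation (pullback.fst (G.j ≫ K.qq) K.qq))

instance : Mono K.E.j := by
  refine ⟨fun {W} (f g : W ⟶ K.E.R) h => ?_⟩
  have hs : f ≫ K.E.s = g ≫ K.E.s := by
    simpa using congrArg (· ≫ pullback.snd K.E.pU K.E.pU) h
  have ht : f ≫ K.E.t = g ≫ K.E.t := by
    simpa using congrArg (· ≫ pullback.fst K.E.pU K.E.pU) h
  exact K.ER_ext' hs ht

end KerData

end Groth.Agent.GrpdLib
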