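import Mathlib
import Groth.Agent.GrpdLib.Basic

/-!
# Largest opens with a property are pulled back from the source of a groupoid action
-/

set_option autoImplicit false
universe u

open CategoryTheory CategoryTheory.Limits AlgebraicGeometry

namespace Groth.Agent.GrpdLib.LargestOpenDescent

variable {S : Scheme.{u}} (G : Grpd.GroupoidScheme S) {U' : Scheme.{u}} (g : U' ⟶ G.U)

/-- `((u, a), b) ↦ ((u, a ∘ b), b)`. -/
theorem exists_twist : ∃ φ : pullback (pullback.snd g G.t ≫ G.s) G.t ≅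
      pullback (pullback.snd g G.t ≫ G.s) G.s,
    φ.hom ≫ pullback.snd _ _ = pullback.snd _ _ ∧
    φ.hom ≫ pullback.fst _ _ ≫ pullback.fst g G.t = pullback.fst _ _ ≫ pullback.fst g G.t ∧
    φ.hom ≫ pullback.fst _ _ ≫ pullback.snd g G.t =
      comp G (pullback.fst _ _ ≫ pullback.snd g G.t) (pullback.snd (pullback.snd g G.t ≫ G.s) G.t)
        ((Category.assoc _ _ _).trans pullback.condition) := by
  let h := pullback.snd g G.t ≫ G.s
  have c₁ : (pullback.fst h G.t ≫ pullback.snd g G.t) ≫ G.s = pullback.snd h G.t ≫ G.t :=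
    (Category.assoc _ _ _).trans pullback.condition
  have c₂ : (pullback.fst h G.s ≫ pullback.snd g G.t) ≫ G.s =
      (pullback.snd h G.s ≫ G.i) ≫ G.t := by
    rw [Category.assoc, Category.assoc, i_comp_t]
    exact pullback.condition
  let f : pullback h G.t ⟶ pullback h G.s := pullback.lift
    (pullback.lift (pullback.fst h G.t ≫ pullback.fst g G.t) (comp G _ _ c₁)
      (by rw [comp_t, Category.assoc, pullback.condition, Category.assoc]))
    (pullback.snd h G.t) (by rw [pullback.lift_snd_assoc, comp_s])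
  let f' : pullback h G.s ⟶ pullback h G.t := pullback.lift
    (pullback.lift (pullback.fst h G.s ≫ pullback.fst g G.t) (comp G _ _ c₂)
      (by rw [comp_t, Category.assoc, pullback.condition, Category.assoc]))
    (pullback.snd h G.s) (by rw [pullback.lift_snd_assoc, comp_s, Category.assoc, i_comp_s])
  have hf₁ : f ≫ pullback.snd h G.s = pullback.snd h G.t := pullback.lift_snd _ _ _
  have hf'₁ : f' ≫ pullback.snd h G.t = pullback.snd h G.s := pullback.lift_snd _ _ _
  have hf₂ : f ≫ pullback.fst h G.s ≫ pullback.fst g G.t = pullback.fst h G.t ≫ pullback.fst g G.t := by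
    simp only [f]; rw [pullback.lift_fst_assoc, pullback.lift_fst]
  have hf'₂ : f' ≫ pullback.fst h G.t ≫ pullback.fst g G.t = pullback.fst h G.s ≫ pullback.fst g G.t := by
    simp only [f']; rw [pullback.lift_fst_assoc, pullback.lift_fst]
  have hf₃ : f ≫ pullback.fst h G.s ≫ pullback.snd g G.t = comp G _ _ c₁ := by
    simp only [f]; rw [pullback.lift_fst_assoc, pullback.lift_snd]
  have hf'₃ : f' ≫ pullback.fst h G.t ≫ pullback.snd g G.t = comp G _ _ c₂ := by
    simp only [f']; rw [pullback.lift_fst_assoc, pullback.lift_snd]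
  refine ⟨⟨f, f', ?_, ?_⟩, hf₁, hf₂, hf₃⟩
  · apply pullback.hom_ext
    · apply pullback.hom_ext
      · rw [Category.assoc, Category.assoc, hf'₂, hf₂, Category.id_comp]
      · rw [Category.assoc, Category.assoc, hf'₃, naturality, Category.id_comp]
        exact (comp_congr G _ (by rw [comp_s, Category.assoc, i_comp_t]) hf₃
          (by rw [reassoc_of% hf₁])).trans (comp_cancel_right G _ _ c₁)
    · rw [Category.assoc, hf'₁, hf₁, Category.id_comp]
  · apply pullback.hom_ext
    · apply pullback.hom_ext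
      · rw [Category.assoc, Category.assoc, hf₂, hf'₂, Category.id_comp]
      · rw [Category.assoc, Category.assoc, hf₃, naturality, Category.id_comp]
        exact (comp_congr G _ (by rw [comp_s, Category.assoc, i_comp_s]) hf'₃
          hf'₁).trans (comp_inv_cancel_right G _ _ (by rw [Category.assoc, pullback.condition]))
    · rw [Category.assoc, hf₁, hf'₁, Category.id_comp]

theorem exists_open (P Q R : MorphismProperty Scheme.{u}) [P.RespectsIso] (hRQ : R ≤ Q)
    [Q.IsStableUnderBaseChange]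
    (W : ∀ {X Y : Scheme.{u}} (f : X ⟶ Y), Q f → X.Opens)
    (hWP : ∀ {X Y : Scheme.{u}} (f : X ⟶ Y) (hf : Q f), P ((W f hf).ι ≫ f))
    (hWmax : ∀ {X Y : Scheme.{u}} (f : X ⟶ Y) (hf : Q f) (V : X.Opens),
      P (V.ι ≫ f) → V ≤ W f hf)
    (hWbc : ∀ {X Y Y' : Scheme.{u}} (f : X ⟶ Y) (hf : Q f) (b : Y' ⟶ Y), R b →
      ∀ hf' : Q (pullback.snd f b), pullback.fst f b ⁻¹ᵁ W f hf = W (pullback.snd f b) hf')
    (hs : R G.s) (ht : R G.t) (hh : Q (pullback.snd g G.t ≫ G.s)) :
    ∃ V : U'.Opens, pullback.fst g G.t ⁻¹ᵁ V = W (pullback.snd g G.t ≫ G.s) hh := by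
  obtain ⟨φ, hφ₁, hφ₂, hφ₃⟩ := exists_twist G g
  let h := pullback.snd g G.t ≫ G.s
  have hqt : Q (pullback.snd h G.t) := Q.pullback_snd _ _ hh
  have hqs : Q (pullback.snd h G.s) := Q.pullback_snd _ _ hh
  have hle : ∀ {A B C : Scheme.{u}} (k : A ≅ B) (f : A ⟶ C) (f' : B ⟶ C) (hf : Q f) (hf' : Q f'),
      k.hom ≫ f' = f → k.hom ⁻¹ᵁ W f' hf' ≤ W f hf := by
    intro A B C k f f' hf hf' e
    refine hWmax _ _ _ ?_
    rw [← e, ← Category.assoc, ← morphismRestrict_ι, Category.assoc,
      P.cancel_left_of_respectsIso]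
    exact hWP _ _
  have heq : φ.hom ⁻¹ᵁ W (pullback.snd h G.s) hqs = W (pullback.snd h G.t) hqt := by
    refine le_antisymm (hle φ _ _ _ _ hφ₁) ?_
    have := hle φ.symm _ _ hqs hqt (by rw [Iso.symm_hom, Iso.inv_comp_eq]; exact hφ₁.symm)
    intro x hx
    refine this ?_
    change φ.inv (φ.hom x) ∈ W (pullback.snd h G.t) hqt
    rw [← Scheme.Hom.comp_apply, Iso.hom_inv_id]
    simpa using hx
  have key : pullback.fst h G.t ⁻¹ᵁ W h hh = (φ.hom ≫ pullback.fst h G.s) ⁻¹ᵁ W h hh := by
    rw [Scheme.Hom.comp_preimage, hWbc h hh G.t ht hqt, hWbc h hh G.s hs hqs, heq]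
  let σ : U' ⟶ pullback g G.t := pullback.lift (𝟙 _) (g ≫ G.e) (by simp)
  have hσ₁ : σ ≫ pullback.fst g G.t = 𝟙 _ := pullback.lift_fst _ _ _
  have hσ₂ : σ ≫ pullback.snd g G.t = g ≫ G.e := pullback.lift_snd _ _ _
  let τ : pullback g G.t ⟶ pullback h G.t :=
    pullback.lift (𝟙 _) (pullback.snd g G.t ≫ G.i) (by simp [h])
  have hτ₁ : τ ≫ pullback.fst h G.t = 𝟙 _ := pullback.lift_fst _ _ _
  have hτ₂ : τ ≫ pullback.snd h G.t = pullback.snd g G.t ≫ G.i := pullback.lift_snd _ _ _
  have hτ : τ ≫ φ.hom ≫ pullback.fst h G.s = pullback.fst g G.t ≫ σ := by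
    apply pullback.hom_ext
    · rw [Category.assoc, Category.assoc, Category.assoc, hσ₁, hφ₂, reassoc_of% hτ₁,
        Category.comp_id]
    · rw [Category.assoc, Category.assoc, Category.assoc, hσ₂, hφ₃, naturality,
        pullback.condition_assoc]
      exact (comp_congr G _ (by rw [Category.assoc, i_comp_t]) (by rw [reassoc_of% hτ₁]) hτ₂).trans
        ((comp_i G (pullback.snd g G.t) _).trans (Category.assoc _ _ _))
  refine ⟨σ ⁻¹ᵁ W h hh, ?_⟩
  rw [← Scheme.Hom.comp_preimage, ← hτ, Scheme.Hom.comp_preimage, ← key,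
    ← Scheme.Hom.comp_preimage, hτ₁]
  rfl

end Groth.Agent.GrpdLib.LargestOpenDescent
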