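import Groth.Agent.GrpdLib.Basic
import Groth.Agent.Omega.ConormalBC
import Groth.Agent.Omega.ConormalMap
import Mathlib.AlgebraicGeometry.Morphisms.QuasiSeparated
import Mathlib.AlgebraicGeometry.Morphisms.Immersion

/-!
# Differentials of the target map and the conormal sheaf of the identity

The diagonal of `t` is the base change of the identity section along `(α, β) ↦ α⁻¹ ∘ β`.
-/

set_option autoImplicit false
set_option backward.isDefEq.respectTransparency false
set_option backward.isDefEq.respectTransparency.types false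

universe u

open CategoryTheory CategoryTheory.Limits AlgebraicGeometry

noncomputable section

namespace Groth.Agent.GrpdLib.OmegaT

variable {S : Scheme.{u}} (G : Grpd.GroupoidScheme S)

/-- `(α, β) ↦ α⁻¹ ∘ β` on pairs with equal targets. -/
def divMap : pullback G.t G.t ⟶ G.R :=
  comp G (pullback.fst G.t G.t ≫ G.i) (pullback.snd G.t G.t) (by simp [pullback.condition])

lemma comp_divMap {T : Scheme.{u}} (p : T ⟶ pullback G.t G.t) :
    p ≫ divMap G = comp G ((p ≫ pullback.fst G.t G.t) ≫ G.i) (p ≫ pullback.snd G.t G.t)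
      (by simp [pullback.condition]) := by
  rw [divMap, naturality]
  exact comp_congr G _ _ (Category.assoc _ _ _).symm rfl

lemma isPullback_diagonal : IsPullback (pullback.diagonal G.t) G.s (divMap G) G.e := by
  have hw : pullback.diagonal G.t ≫ divMap G = G.s ≫ G.e := by
    rw [comp_divMap]
    have hd₁ : pullback.diagonal G.t ≫ pullback.fst G.t G.t = 𝟙 G.R := pullback.diagonal_fst _
    have hd₂ : pullback.diagonal G.t ≫ pullback.snd G.t G.t = 𝟙 G.R := pullback.diagonal_snd _
    refine (comp_congr G _ (by simp) (by rw [hd₁]) hd₂).trans ((i_comp G (𝟙 G.R) (by simp)).trans ?_)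
    rw [Category.id_comp]
  refine ⟨⟨hw⟩, ⟨PullbackCone.IsLimit.mk _ (fun c => c.fst ≫ pullback.fst G.t G.t) (fun c => ?_)
    (fun c => ?_) (fun c m h₁ _ => ?_)⟩⟩
  · have h := c.condition
    rw [comp_divMap] at h
    have hαβ : c.fst ≫ pullback.fst G.t G.t = c.fst ≫ pullback.snd G.t G.t := by
      have h1 := comp_i_cancel G (c.fst ≫ pullback.fst G.t G.t) (c.fst ≫ pullback.snd G.t G.t)
        (by simp [pullback.condition])
      refine Eq.trans ?_ h1
      have hs : (c.fst ≫ pullback.fst G.t G.t) ≫ G.s = (c.snd ≫ G.e) ≫ G.t := by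
        rw [← h, comp_t]; simp
      exact ((comp_congr G _ hs rfl h).trans (comp_e G _ _ _)).symm
    apply pullback.hom_ext
    · rw [Category.assoc, pullback.diagonal_fst, Category.comp_id]
    · rw [Category.assoc, pullback.diagonal_snd, Category.comp_id, hαβ]
  · have h := c.condition
    rw [comp_divMap] at h
    have hαβ : c.fst ≫ pullback.fst G.t G.t = c.fst ≫ pullback.snd G.t G.t := by
      have h1 := comp_i_cancel G (c.fst ≫ pullback.fst G.t G.t) (c.fst ≫ pullback.snd G.t G.t)
        (by simp [pullback.condition])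
      refine Eq.trans ?_ h1
      have hs : (c.fst ≫ pullback.fst G.t G.t) ≫ G.s = (c.snd ≫ G.e) ≫ G.t := by
        rw [← h, comp_t]; simp
      exact ((comp_congr G _ hs rfl h).trans (comp_e G _ _ _)).symm
    have h2 := congrArg (· ≫ G.s) h
    simp only [comp_s, Category.assoc, G.e_s, Category.comp_id] at h2
    rw [hαβ, Category.assoc]
    exact h2
  · rw [← h₁, Category.assoc, pullback.diagonal_fst, Category.comp_id]

lemma flat_divMap [Flat G.s] : Flat (divMap G) := by
  have hsnd : IsPullback (divMap G) (pullback.snd G.t G.t) G.s G.s := by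
    refine ⟨⟨by rw [divMap, comp_s]⟩, ⟨PullbackCone.IsLimit.mk _
      (fun c => pullback.lift (comp G c.snd (c.fst ≫ G.i) (by simp [c.condition])) c.snd
        (by rw [comp_t])) (fun c => ?_) (fun c => pullback.lift_snd _ _ _) (fun c m h₁ h₂ => ?_)⟩⟩
    · rw [comp_divMap]
      refine (comp_congr G (α' := comp G c.snd (c.fst ≫ G.i) (by simp [c.condition]) ≫ G.i)
        (β' := c.snd) _ (by simp) (by rw [pullback.lift_fst]) (pullback.lift_snd _ _ _)).trans ?_
      set α := comp G c.snd (c.fst ≫ G.i) (by simp [c.condition]) with hα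
      have hrec : comp G α c.fst (by rw [hα, comp_s]; simp) = c.snd :=
        comp_inv_cancel_right G c.snd c.fst c.condition.symm
      exact (comp_congr G _ (by simp [hα]) rfl hrec.symm).trans (i_comp_cancel G α c.fst _)
    · have hsm : m ≫ pullback.snd G.t G.t = c.snd := h₂
      have hdm : m ≫ divMap G = c.fst := h₁
      apply pullback.hom_ext
      · rw [pullback.lift_fst]
        rw [comp_divMap] at hdm
        set α := m ≫ pullback.fst G.t G.t with hα
        have hαt : α ≫ G.t = c.snd ≫ G.t := by rw [hα, Category.assoc, pullback.condition, ← Category.assoc, hsm]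
        have h3 : comp G α c.fst (by rw [← hdm, comp_t]; simp [hα]) = c.snd := by
          refine (comp_congr G _ (by simp [hα]) rfl hdm.symm).trans ?_
          exact (comp_i_cancel G α (m ≫ pullback.snd G.t G.t) (by rw [hαt, hsm])).trans hsm
        exact (comp_cancel_right G α c.fst _).symm.trans
          (comp_congr G _ (by simp [c.condition]) h3 rfl)
      · rw [pullback.lift_snd, hsm]
  exact MorphismProperty.of_isPullback hsnd.flip ‹Flat G.s›

/-- `s^* C_{U/R} → Ω_{R/U}` is an epimorphism, and an isomorphism when `s` is flat. -/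
theorem conormal_omega [QuasiSeparated G.t] :
    (∃ φ : (Scheme.Modules.pullback G.s).obj (Omega.conormal G.e) ⟶ Omega.sheaf G.t, Epi φ) ∧
      (Flat G.s → Nonempty ((Scheme.Modules.pullback G.s).obj (Omega.conormal G.e) ≅ Omega.sheaf G.t)) := by
  have : IsImmersion (G.e ≫ G.t) := by rw [G.e_t]; infer_instance
  have : QuasiCompact (G.e ≫ G.t) := by rw [G.e_t]; infer_instance
  have : IsImmersion G.e := IsImmersion.of_comp G.e G.t
  have : QuasiCompact G.e := QuasiCompact.of_comp G.e G.t
  have hsq := isPullback_diagonal G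
  obtain ⟨φ, hφ, -⟩ := Omega.ConormalMap.existsUnique_conormalMap (i := pullback.diagonal G.t)
    (i' := G.e) (g := divMap G) (gZ := G.s) hsq.w.symm
  obtain ⟨h1, h2⟩ := Omega.ConormalBC.epi_and_isIso hsq hφ
  refine ⟨⟨φ, h1⟩, fun hs => ?_⟩
  have := h2 (flat_divMap G)
  exact ⟨asIso φ⟩

end Groth.Agent.GrpdLib.OmegaT
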