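import Groth.Agent.GrpdLib.Basic
import Groth.Agent.GITLib.Orbit
import Mathlib.AlgebraicGeometry.Morphisms.UniversallyOpen
import Mathlib.AlgebraicGeometry.Morphisms.Immersion

/-!
# Groupoid schemes on the spectrum of a field
-/

set_option maxHeartbeats 400000

universe u

open CategoryTheory CategoryTheory.Limits AlgebraicGeometry

namespace Groth.Agent.GrpdLib

variable {S : Scheme.{u}} (G : Grpd.GroupoidScheme S) (k : Type u) [Field k]
  (eU : G.U ≅ Spec (CommRingCat.of k))

/-- `(a, b) ↦ (a ∘ b, a)`, from composable pairs to pairs with equal targets. -/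
noncomputable def shearTgt : pullback G.s G.t ≅ pullback G.t G.t where
  hom := pullback.lift G.c (pullback.fst G.s G.t) (c_t G)
  inv := pullback.lift (pullback.snd G.t G.t)
    (comp G (pullback.snd G.t G.t ≫ G.i) (pullback.fst G.t G.t) (by simp [pullback.condition]))
    (by simp)
  hom_inv_id := by
    apply pullback.hom_ext
    · simp only [Category.assoc, pullback.lift_fst, pullback.lift_snd, Category.id_comp]
    · rw [Category.assoc, pullback.lift_snd, naturality, Category.id_comp]
      refine (comp_congr G _ (by simp [pullback.condition]) ?_ ?_).trans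
        (i_comp_cancel G (pullback.fst G.s G.t) (pullback.snd G.s G.t) pullback.condition)
      · rw [pullback.lift_snd_assoc]
      · rw [pullback.lift_fst, ← lift_c G]
        conv_lhs => rw [← Category.id_comp G.c]
        congr 1
        apply pullback.hom_ext
        · rw [Category.id_comp, pullback.lift_fst]
        · rw [Category.id_comp, pullback.lift_snd]
  inv_hom_id := by
    apply pullback.hom_ext
    · rw [Category.assoc, pullback.lift_fst, lift_c, Category.id_comp]
      exact comp_i_cancel G (pullback.snd G.t G.t) (pullback.fst G.t G.t) pullback.condition.symm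
    · simp only [Category.assoc, pullback.lift_fst, pullback.lift_snd, Category.id_comp]

lemma shearTgt_hom_fst : (shearTgt G).hom ≫ pullback.fst G.t G.t = G.c :=
  pullback.lift_fst _ _ _

include eU in
lemma universallyOpen_to_U {X : Scheme.{u}} (f : X ⟶ G.U) : UniversallyOpen f := by
  have : Subsingleton (Spec (CommRingCat.of k)) := inferInstanceAs (Subsingleton (PrimeSpectrum k))
  have : UniversallyOpen (f ≫ eU.hom) := inferInstance
  rw [show f = (f ≫ eU.hom) ≫ eU.inv by simp]
  infer_instance

include eU in
lemma universallyOpen_c : UniversallyOpen G.c := by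
  have := universallyOpen_to_U G k eU G.t
  rw [← shearTgt_hom_fst]
  infer_instance

include eU in
lemma isClosedImmersion_e : IsClosedImmersion G.e := by
  have : Subsingleton (Spec (CommRingCat.of k)) := inferInstanceAs (Subsingleton (PrimeSpectrum k))
  have : Subsingleton G.U := eU.hom.homeomorph.injective.subsingleton
  have : IsImmersion (G.e ≫ G.s) := by rw [G.e_s]; infer_instance
  have : IsImmersion G.e := IsImmersion.of_comp G.e G.s
  exact IsClosedImmersion.of_isPreimmersion G.e (GITLib.isClosed_range_section G.s G.e G.e_s)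

/-- `(a, b) ↦ a ∘ b⁻¹` on pairs with equal sources. -/
noncomputable def divMap : pullback G.s G.s ⟶ G.R :=
  comp G (pullback.fst G.s G.s) (pullback.snd G.s G.s ≫ G.i) (by simp [pullback.condition])

lemma isPullback_diagonal_divMap :
    IsPullback (pullback.diagonal G.s) G.t (divMap G) G.e := by
  have hw : pullback.diagonal G.s ≫ divMap G = G.t ≫ G.e := by
    rw [divMap, naturality]
    refine (comp_congr G _ (by simp [G.i_t]) (pullback.diagonal_fst G.s) ?_).trans
      ((comp_i G (𝟙 G.R) (by simp [G.i_t])).trans (by rw [Category.id_comp]))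
    rw [reassoc_of% pullback.diagonal_snd G.s, Category.id_comp]
  refine ⟨⟨hw⟩, ⟨PullbackCone.isLimitAux' _ fun s => ⟨s.fst ≫ pullback.fst G.s G.s, ?_, ?_, ?_⟩⟩⟩
  · have hc : s.fst ≫ divMap G = s.snd ≫ G.e := s.condition
    have h₁ : (s.fst ≫ pullback.fst G.s G.s) ≫ G.s = (s.fst ≫ pullback.snd G.s G.s) ≫ G.s := by
      simp [pullback.condition]
    have hd : comp G (s.fst ≫ pullback.fst G.s G.s) ((s.fst ≫ pullback.snd G.s G.s) ≫ G.i)
        (by simp [pullback.condition]) = s.snd ≫ G.e := by
      exact (comp_congr G _ _ rfl (Category.assoc _ _ _)).trans ((naturality G s.fst _ _ _).symm.trans hc)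
    have heq : s.fst ≫ pullback.snd G.s G.s = s.fst ≫ pullback.fst G.s G.s := by
      have hh := comp_inv_cancel_right G _ _ h₁
      have hs : (s.snd ≫ G.e) ≫ G.s = (s.fst ≫ pullback.snd G.s G.s) ≫ G.t := by
        rw [← hd, comp_s]; simp
      rw [← hh]
      exact ((comp_congr G _ hs hd rfl).trans (e_comp G _ _ hs)).symm
    change (s.fst ≫ pullback.fst G.s G.s) ≫ pullback.diagonal G.s = s.fst
    apply pullback.hom_ext
    · rw [Category.assoc, pullback.diagonal_fst, Category.comp_id]
    · rw [Category.assoc, pullback.diagonal_snd, Category.comp_id, heq]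
  · change (s.fst ≫ pullback.fst G.s G.s) ≫ G.t = s.snd
    have hc : s.fst ≫ divMap G = s.snd ≫ G.e := s.condition
    have := congrArg (· ≫ G.t) hc
    simp only [divMap, Category.assoc, comp_t] at this
    simpa using this
  · intro m h₁ _
    rw [← h₁]
    exact ((Category.assoc _ _ _).trans ((congrArg (m ≫ ·) (pullback.diagonal_fst G.s)).trans
      (Category.comp_id m))).symm

include eU in
lemma isSeparated_s : IsSeparated G.s :=
  ⟨MorphismProperty.of_isPullback (isPullback_diagonal_divMap G).flip (isClosedImmersion_e G k eU)⟩

include eU in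
lemma isSeparated_R : G.R.IsSeparated := by
  have := isSeparated_s G k eU
  have : IsAffine G.U := IsAffine.of_isIso eU.hom
  constructor
  rw [terminal.hom_ext (terminal.from G.R) (G.s ≫ terminal.from G.U)]
  infer_instance

end Groth.Agent.GrpdLib
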