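import Groth.Agent.AffThick.Basic
import Mathlib.AlgebraicGeometry.Morphisms.Affine

/-!
# An open subscheme is affine if its pieces in a pinching square are
-/

set_option autoImplicit false
set_option maxHeartbeats 400000
set_option backward.isDefEq.respectTransparency false
set_option backward.isDefEq.respectTransparency.types false

universe u

open CategoryTheory AlgebraicGeometry TopologicalSpace Opposite

namespace Groth.Agent.GrpdLib

open AffThick

/-- Let `π : Y → X` be injective on sections, `i : Z → X` and `j : Y₀ → Y` closed immersions in a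
commutative square, such that near every point of the open `U` sections killed on `Y₀` come from
sections killed on `Z`. If the traces of `U` on `Y` and `Z` are affine, and every point of `U` has an
affine standard neighbourhood, then `U` is affine. -/
theorem isAffineOpen_of_pinch {X Y Z Y₀ : Scheme.{u}} (π : Y ⟶ X) (i : Z ⟶ X) [IsClosedImmersion i]
    (j : Y₀ ⟶ Y) [IsClosedImmersion j] (k : Y₀ ⟶ Z) (sq : j ≫ π = k ≫ i) (U : X.Opens)
    (hY : IsAffineOpen (π ⁻¹ᵁ U)) (hZ : IsAffineOpen (i ⁻¹ᵁ U))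
    (hinj : ∀ W : X.Opens, Function.Injective (π.app W).hom)
    (hker : ∀ x ∈ U, ∃ W : X.Opens, W ≤ U ∧ x ∈ W ∧ IsAffineOpen W ∧
      ∀ a : Γ(Y, π ⁻¹ᵁ W), (j.app (π ⁻¹ᵁ W)).hom a = 0 →
        ∃ c : Γ(X, W), (i.app W).hom c = 0 ∧ (π.app W).hom c = a)
    (hbasic : ∀ x ∈ U, ∃ f : Γ(X, U), x ∈ X.basicOpen f ∧ IsAffineOpen (X.basicOpen f)) :
    IsAffineOpen U := by
  classical
  have ek : ∀ W : X.Opens, j ⁻¹ᵁ (π ⁻¹ᵁ W) ≤ k ⁻¹ᵁ (i ⁻¹ᵁ W) := fun W => by
    rw [← Scheme.Hom.comp_preimage, ← Scheme.Hom.comp_preimage, sq]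
  let κ : ∀ W : X.Opens, Γ(Z, i ⁻¹ᵁ W) →+* Γ(Y₀, j ⁻¹ᵁ (π ⁻¹ᵁ W)) := fun W =>
    (k.appLE (i ⁻¹ᵁ W) (j ⁻¹ᵁ (π ⁻¹ᵁ W)) (ek W)).hom
  have hκ : ∀ (W : X.Opens) (a : Γ(X, W)),
      κ W ((i.app W).hom a) = (j.app (π ⁻¹ᵁ W)).hom ((π.app W).hom a) := fun W a => by
    have h1 : (j ≫ π).app W = π.app W ≫ j.app (π ⁻¹ᵁ W) := Scheme.Hom.comp_app _ _ _
    have h2 : ∀ (φ : Y₀ ⟶ X) (e : j ⁻¹ᵁ (π ⁻¹ᵁ W) ≤ φ ⁻¹ᵁ W), φ = j ≫ π →
        φ.appLE W _ e = π.app W ≫ j.app (π ⁻¹ᵁ W) := by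
      rintro _ e rfl
      rw [← h1]; exact Scheme.Hom.appLE_eq_app _
    have h3 := h2 (k ≫ i) (ek W) sq.symm
    rw [Scheme.Hom.comp_appLE] at h3
    exact congr($(h3).hom a)
  have hκres : ∀ {V W : X.Opens} (h : V ≤ W) (d : Γ(Z, i ⁻¹ᵁ W)),
      κ V (res (preimage_le i h) d) = res (preimage_le j (preimage_le π h)) (κ W d) := by
    intro V W h d
    have h1 := Scheme.Hom.map_appLE k (ek V) (homOfLE (preimage_le i h)).op
    have h2 := Scheme.Hom.appLE_map k (ek W) (homOfLE (preimage_le j (preimage_le π h))).op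
    exact congr($(h1.trans h2.symm).hom d)
  -- sections on `Y` and `Z` agreeing on `Y₀` glue
  have glue : ∀ (s : Γ(Y, π ⁻¹ᵁ U)) (d : Γ(Z, i ⁻¹ᵁ U)), (j.app (π ⁻¹ᵁ U)).hom s = κ U d →
      ∃ r : Γ(X, U), (π.app U).hom r = s ∧ (i.app U).hom r = d := by
    intro s d hsd
    have hloc : ∀ x : U, ∃ W : X.Opens, ∃ hW : W ≤ U, x.1 ∈ W ∧ ∃ r : Γ(X, W),
        (π.app W).hom r = res (preimage_le π hW) s ∧ (i.app W).hom r = res (preimage_le i hW) d := by
      intro x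
      obtain ⟨W, hW, hxW, hWa, hk⟩ := hker x.1 x.2
      obtain ⟨b, hb⟩ := Scheme.Hom.app_surjective i W hWa (res (preimage_le i hW) d)
      have hb' : (i.app W).hom b = res (preimage_le i hW) d := hb
      obtain ⟨c, hc₁, hc₂⟩ := hk (res (preimage_le π hW) s - (π.app W).hom b) (by
        rw [map_sub, ← hκ, hb', hκres hW, app_res, hsd, sub_self])
      refine ⟨W, hW, hxW, b + c, ?_, ?_⟩
      · rw [map_add, hc₂, add_sub_cancel]
      · rw [map_add, hc₁, add_zero, hb']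
    choose W hW hxW r hrπ hri using hloc
    obtain ⟨t, ht, -⟩ := X.sheaf.existsUnique_gluing' W U (fun a => homOfLE (hW a))
      (fun x hx => Opens.mem_iSup.2 ⟨⟨x, hx⟩, hxW ⟨x, hx⟩⟩) r fun a b => hinj _ (by
        show (π.app _).hom (res inf_le_left (r a)) = (π.app _).hom (res inf_le_right (r b))
        rw [app_res, app_res, hrπ, hrπ, res_res, res_res])
    have ht' : ∀ a, res (hW a) t = r a := ht
    refine ⟨t, ?_, ?_⟩
    · refine eq_of_cover (fun a => π ⁻¹ᵁ W a) (fun a => preimage_le π (hW a))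
        (fun y hy => Opens.mem_iSup.2 ⟨⟨π y, hy⟩, hxW ⟨π y, hy⟩⟩) _ _ fun a => ?_
      rw [← app_res π (hW a) t, ht', hrπ]
    · refine eq_of_cover (fun a => i ⁻¹ᵁ W a) (fun a => preimage_le i (hW a))
        (fun y hy => Opens.mem_iSup.2 ⟨⟨i y, hy⟩, hxW ⟨i y, hy⟩⟩) _ _ fun a => ?_
      rw [← app_res i (hW a) t, ht', hri]
  have hisurj : ∀ d : Γ(Z, i ⁻¹ᵁ U), ∃ r : Γ(X, U), (i.app U).hom r = d := fun d => by
    obtain ⟨s, hs⟩ := Scheme.Hom.app_surjective j (π ⁻¹ᵁ U) hY (κ U d)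
    obtain ⟨r, -, hr⟩ := glue s d hs
    exact ⟨r, hr⟩
  refine isAffineOpen_of_isAffineOpen_basicOpen U {f | IsAffineOpen (X.basicOpen f)} ?_ fun f hf => hf
  by_contra hne
  obtain ⟨q, hq, hle⟩ := Ideal.exists_le_maximal _ hne
  -- a point of `U` at which all elements of `q` vanish gives a contradiction
  have key : ∀ x ∈ U, ¬ ∀ f ∈ q, x ∉ X.basicOpen f := fun x hx hall => by
    obtain ⟨f, hxf, hf⟩ := hbasic x hx
    exact hall f (hle (Ideal.subset_span hf)) hxf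
  -- a prime of sections over an affine open comes from a point
  have hpt : ∀ {T : Scheme.{u}} {V : T.Opens} (hV : IsAffineOpen V) (P : Ideal Γ(T, V)), P ≠ ⊤ →
      ∃ z ∈ V, ∀ a ∈ P, z ∉ T.basicOpen a := by
    intro T V hV P hP
    obtain ⟨M, hM, hPM⟩ := Ideal.exists_le_maximal P hP
    let x : Spec Γ(T, V) := (⟨M, hM.isPrime⟩ : PrimeSpectrum Γ(T, V))
    refine ⟨hV.fromSpec x, hV.range_fromSpec.le ⟨x, rfl⟩, fun a ha hza => ?_⟩
    have h1 : x ∈ hV.fromSpec ⁻¹ᵁ T.basicOpen a := hza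
    rw [hV.fromSpec_preimage_basicOpen] at h1
    exact h1 (hPM ha)
  by_cases hK : RingHom.ker (i.app U).hom ≤ q
  · obtain ⟨z, hz, hz'⟩ := hpt hZ (q.map (i.app U).hom) (fun htop => hq.ne_top (by
      have h1 := congrArg (Ideal.comap (i.app U).hom) htop
      rw [Ideal.comap_map_of_surjective _ hisurj, Ideal.comap_top, ← RingHom.ker_eq_comap_bot,
        sup_eq_left.2 hK] at h1
      exact h1))
    refine key (i z) hz fun f hf hzf => hz' _ (Ideal.mem_map_of_mem _ hf) ?_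
    exact (Scheme.preimage_basicOpen i f).le hzf
  · obtain ⟨κ₀, hκ₀, hκq⟩ := SetLike.not_le_iff_exists.1 hK
    have hmul : ∀ s : Γ(Y, π ⁻¹ᵁ U), ∃ r : Γ(X, U), (π.app U).hom r = (π.app U).hom κ₀ * s := fun s => by
      obtain ⟨r, hr, -⟩ := glue ((π.app U).hom κ₀ * s) 0 (by
        rw [map_mul, ← hκ, RingHom.mem_ker.1 hκ₀, map_zero, zero_mul])
      exact ⟨r, hr⟩
    obtain ⟨y, hy, hy'⟩ := hpt hY (q.map (π.app U).hom) (fun htop => hκq (by
      have h1 : (1 : Γ(Y, π ⁻¹ᵁ U)) ∈ q.map (π.app U).hom := htop ▸ Submodule.mem_top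
      suffices h : ∀ a ∈ q.map (π.app U).hom,
          ∃ r ∈ q, (π.app U).hom r = (π.app U).hom κ₀ * a by
        obtain ⟨r, hr, hr'⟩ := h 1 h1
        rw [mul_one] at hr'
        exact hinj U hr' ▸ hr
      intro a ha
      induction ha using Submodule.span_induction with
      | mem a ha =>
        obtain ⟨r, hr, rfl⟩ := ha
        exact ⟨κ₀ * r, q.mul_mem_left _ hr, map_mul _ _ _⟩
      | zero => exact ⟨0, q.zero_mem, by simp⟩
      | add a b _ _ iha ihb =>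
        obtain ⟨r, hr, hra⟩ := iha
        obtain ⟨r', hr', hrb⟩ := ihb
        exact ⟨r + r', q.add_mem hr hr', by rw [map_add, hra, hrb, mul_add]⟩
      | smul c a _ iha =>
        obtain ⟨r, hr, hra⟩ := iha
        obtain ⟨m, hm⟩ := hmul c
        obtain ⟨r', hr'⟩ := hmul (c * a)
        refine ⟨r', ?_, hr'⟩
        -- `κ₀ * r' = m * r ∈ q`
        have h2 : κ₀ * r' = m * r := hinj U (by
          rw [map_mul, map_mul, hr', hm, hra]; ring)
        exact (hq.isPrime.mem_or_mem (h2 ▸ q.mul_mem_left m hr)).resolve_left hκq))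
    refine key (π y) hy fun f hf hyf => hy' _ (Ideal.mem_map_of_mem _ hf) ?_
    exact (Scheme.preimage_basicOpen π f).le hyf

end Groth.Agent.GrpdLib
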