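import Groth.Agent.GrpdLib.FamDescent

/-!
# Conditions on morphisms represented by subschemes on an fpqc family

A condition on morphisms to a scheme `W`, stable under composition and local for an fpqc family,
which is represented by closed (open) subschemes on the members of the family is represented by a
closed (open) subscheme of `W`.
-/

set_option autoImplicit false
set_option linter.style.haveILetI false
universe w u

open CategoryTheory CategoryTheory.Limits AlgebraicGeometry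

namespace Groth.Agent.GrpdLib.SubschemeRep

open IdealFamDescent

variable {W : Scheme.{u}} {ι : Type w} {P : ι → Scheme.{u}} {g : ∀ i, P i ⟶ W}
  {Z : ι → Scheme.{u}} {k : ∀ i, Z i ⟶ P i}
  (E : ∀ {Q : Scheme.{u}}, (Q ⟶ W) → Prop)

/-- Closed subschemes. -/
theorem exists_closed (hg : Presieve.ofArrows P g ∈ Scheme.fpqcPrecoverage W)
    (hcomp : ∀ {Q Q' : Scheme.{u}} (h : Q' ⟶ Q) (q : Q ⟶ W), E q → E (h ≫ q))
    (hloc : ∀ {Q : Scheme.{u}} (q : Q ⟶ W), (∀ i, E (pullback.fst q (g i) ≫ q)) → E q)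
    (hcl : ∀ i, IsClosedImmersion (k i))
    (hk : ∀ i {Q : Scheme.{u}} (q : Q ⟶ P i), (∃ z, z ≫ k i = q) ↔ E (q ≫ g i)) :
    ∃ (Z₀ : Scheme.{u}) (j : Z₀ ⟶ W), IsClosedImmersion j ∧
      ∀ {Q : Scheme.{u}} (q : Q ⟶ W), (∃ z, z ≫ j = q) ↔ E q := by
  have hle : ∀ {T : Scheme.{u}} (a b : ι) (x : T ⟶ P a) (y : T ⟶ P b), x ≫ g a = y ≫ g b →
      (k b).ker.comap y ≤ (k a).ker.comap x := by
    intro T a b x y h
    have := hcl a; have := hcl b
    obtain ⟨z, hz⟩ := (hk b (pullback.fst x (k a) ≫ y)).2 (by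
      rw [Category.assoc, ← h, pullback.condition_assoc]
      exact hcomp _ _ ((hk a (k a)).1 ⟨𝟙 _, Category.id_comp _⟩))
    rw [← Scheme.IdealSheafData.ker_fst_of_isClosedImmersion,
      ← Scheme.IdealSheafData.ker_fst_of_isClosedImmersion]
    have e : pullback.lift (pullback.fst x (k a)) z hz.symm ≫ pullback.fst y (k b) =
        pullback.fst x (k a) := pullback.lift_fst _ _ _
    conv_rhs => rw [← e]
    exact Scheme.Hom.le_ker_comp _ _
  obtain ⟨J, hJ⟩ := FamDescent.exists_comap_eq hg (fun i => (k i).ker)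
    fun i j x y h => le_antisymm (hle j i y x h.symm) (hle i j x y h)
  have hz : ∀ {A B C : Scheme.{u}} (c : A ⟶ C) (q : B ⟶ C) (z : B ⟶ A), z ≫ c = q →
      c.ker.comap q = ⊥ := fun c q z h => by
    rw [← le_bot_iff, ← Scheme.IdealSheafData.le_map_iff_comap_le,
      Scheme.IdealSheafData.map_bot, ← h]
    exact Scheme.Hom.le_ker_comp z c
  have hsurj : IsFlatJointlySurj g :=
    ⟨FamDescent.flat_of_mem hg, ((Scheme.ofArrows_mem_precoverage_iff (P := @Flat)).1 hg.2).1⟩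
  refine ⟨J.subscheme, J.subschemeι, inferInstance, fun q => ⟨?_, fun hE => ?_⟩⟩
  · rintro ⟨z, rfl⟩
    refine hloc _ fun i => ?_
    rw [pullback.condition]
    refine (hk i _).1 ?_
    have := hcl i
    refine ⟨IsClosedImmersion.lift (k i) (pullback.snd _ (g i)) ?_, IsClosedImmersion.lift_fac _ _ _⟩
    rw [← hJ, ← Scheme.IdealSheafData.map_bot (pullback.snd _ (g i)),
      Scheme.IdealSheafData.le_map_iff_comap_le, ← Scheme.IdealSheafData.comap_comp,
      ← pullback.condition]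
    have h0 := hz J.subschemeι _ (pullback.fst (z ≫ J.subschemeι) (g i) ≫ z) (Category.assoc _ _ _)
    rw [J.ker_subschemeι] at h0
    exact le_of_eq h0
  · refine ⟨IsClosedImmersion.lift J.subschemeι q ?_, IsClosedImmersion.lift_fac _ _ _⟩
    rw [J.ker_subschemeι, ← Scheme.IdealSheafData.map_bot q,
      Scheme.IdealSheafData.le_map_iff_comap_le]
    refine le_of_eq (eq_of_comap_eq (hsurj.pullback q) fun i => ?_)
    obtain ⟨z, hz'⟩ := (hk i (pullback.snd q (g i))).2 (by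
      rw [← pullback.condition]; exact hcomp _ _ hE)
    rw [← Scheme.IdealSheafData.comap_comp, pullback.condition, Scheme.IdealSheafData.comap_comp,
      hJ, hz _ _ z hz', Scheme.IdealSheafData.comap_bot]

/-- Open subschemes. -/
theorem exists_open (hg : Presieve.ofArrows P g ∈ Scheme.fpqcPrecoverage W)
    (hcomp : ∀ {Q Q' : Scheme.{u}} (h : Q' ⟶ Q) (q : Q ⟶ W), E q → E (h ≫ q))
    (hloc : ∀ {Q : Scheme.{u}} (q : Q ⟶ W), (∀ i, E (pullback.fst q (g i) ≫ q)) → E q)
    (hop : ∀ i, IsOpenImmersion (k i))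
    (hk : ∀ i {Q : Scheme.{u}} (q : Q ⟶ P i), (∃ z, z ≫ k i = q) ↔ E (q ≫ g i)) :
    ∃ (Z₀ : Scheme.{u}) (j : Z₀ ⟶ W), IsOpenImmersion j ∧
      ∀ {Q : Scheme.{u}} (q : Q ⟶ W), (∃ z, z ≫ j = q) ↔ E q := by
  let s : Set W := ⋃ i, g i '' Set.range (k i)
  have hs : ∀ i, g i ⁻¹' s = Set.range (k i) := fun i => by
    ext b
    refine ⟨fun hb => ?_, fun hb => Set.mem_iUnion.2 ⟨i, b, hb, rfl⟩⟩
    obtain ⟨j, a, ha, e⟩ := Set.mem_iUnion.1 hb
    obtain ⟨x, hx₁, hx₂⟩ := Scheme.Pullback.exists_preimage_pullback (f := g j) (g := g i) a b e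
    have := hop j
    let O := pullback.fst (g j) (g i) ⁻¹ᵁ (k j).opensRange
    have hxO : x ∈ O := by
      change pullback.fst (g j) (g i) x ∈ Set.range (k j)
      rwa [hx₁]
    obtain ⟨z, hz⟩ := (hk i (O.ι ≫ pullback.snd (g j) (g i))).2 (by
      rw [Category.assoc, ← pullback.condition, ← Category.assoc]
      exact (hk j _).1 ⟨IsOpenImmersion.lift (k j) (O.ι ≫ pullback.fst (g j) (g i))
        (by rintro _ ⟨p, rfl⟩; exact p.2), IsOpenImmersion.lift_fac _ _ _⟩)
    exact ⟨z ⟨x, hxO⟩, (Scheme.Hom.comp_apply z (k i) _).symm.trans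
      ((congrArg (fun φ : (O : Scheme.{u}) ⟶ P i => φ ⟨x, hxO⟩) hz).trans hx₂)⟩
  let O : W.Opens := ⟨s, FamDescent.isOpen_of_isOpen_preimage hg s fun i => by
    have := hop i
    rw [hs]; exact (k i).isOpenEmbedding.isOpen_range⟩
  refine ⟨O, O.ι, inferInstance, fun q => ⟨?_, fun hE => ?_⟩⟩
  · rintro ⟨z, rfl⟩
    refine hloc _ fun i => ?_
    rw [pullback.condition]
    refine (hk i _).1 ?_
    have := hop i
    refine ⟨IsOpenImmersion.lift (k i) (pullback.snd _ (g i)) ?_, IsOpenImmersion.lift_fac _ _ _⟩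
    rintro _ ⟨p, rfl⟩
    rw [← hs i, Set.mem_preimage, ← Scheme.Hom.comp_apply, ← pullback.condition, ← Category.assoc,
      Scheme.Hom.comp_apply]
    exact ((pullback.fst _ _ ≫ z) p).2
  · refine ⟨IsOpenImmersion.lift O.ι q ?_, IsOpenImmersion.lift_fac _ _ _⟩
    rintro _ ⟨x, rfl⟩
    rw [Scheme.Opens.range_ι]
    obtain ⟨i, b, hb⟩ := ((Scheme.ofArrows_mem_precoverage_iff (P := @Flat)).1 hg.2).1 (q x)
    obtain ⟨p, hp₁, hp₂⟩ := Scheme.Pullback.exists_preimage_pullback (f := q) (g := g i) x b hb.symm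
    obtain ⟨z, hz⟩ := (hk i (pullback.snd q (g i))).2 (by
      rw [← pullback.condition]; exact hcomp _ _ hE)
    have hmem : b ∈ g i ⁻¹' s := by
      rw [hs]
      exact ⟨z p, (Scheme.Hom.comp_apply z (k i) _).symm.trans
        ((congrArg (fun φ : pullback q (g i) ⟶ P i => φ p) hz).trans hp₂)⟩
    exact hb ▸ hmem

end Groth.Agent.GrpdLib.SubschemeRep
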