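import Groth.Agent.GrpdLib.RepEpi
import Groth.Agent.GrpdLib.GrpOver
import Groth.Agent.GrpdLib.SubschemeRep
import Groth.Agent.GrpdLib.EffQuot
import Groth.Agent.AlgSp.Quot
import Groth.Agent.AlgSpCov.SchemeDescent
import Groth.Agent.FpqcDesc.Props

/-!
# Sections of fpqc quotient sheaves as stable subschemes
-/

set_option autoImplicit false
set_option linter.style.haveILetI false
universe w u

open CategoryTheory CategoryTheory.Limits AlgebraicGeometry MonoidalCategory CartesianMonoidalCategory Opposite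

set_option backward.isDefEq.respectTransparency.types false

namespace Groth.Agent.GrpdLib.QuotSection

variable (K : Precoverage Scheme.{u}) {S : Scheme.{u}}

section Sheaf

variable [(QuotSh.J K S).Subcanonical]

abbrev yon (S : Scheme.{u}) [(QuotSh.J K S).Subcanonical] : Over S ⥤ QuotSh.Sh K S :=
  (QuotSh.J K S).uliftYoneda.{u + 1}

theorem repMap_repIso {V W : Over S} (g : V ⟶ W) :
    (QuotSh.repIsoUliftYoneda K V).inv ≫ QuotSh.repMap K g =
      (yon K S).map g ≫ (QuotSh.repIsoUliftYoneda K W).inv :=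
  ((sheafificationNatIso (QuotSh.J K S) (Type (u + 1))).hom.naturality ((yon K S).map g)).symm

theorem exists_repMap_eq {V W : Over S} (φ : QuotSh.rep K V ⟶ QuotSh.rep K W) :
    ∃ g, QuotSh.repMap K g = φ := by
  obtain ⟨g, hg⟩ := (yon K S).map_surjective
    ((QuotSh.repIsoUliftYoneda K V).inv ≫ φ ≫ (QuotSh.repIsoUliftYoneda K W).hom)
  refine ⟨g, ?_⟩
  rw [← cancel_epi (QuotSh.repIsoUliftYoneda K V).inv, repMap_repIso, hg]
  simp

theorem repMap_injective {V W : Over S} {g g' : V ⟶ W}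
    (h : QuotSh.repMap K g = QuotSh.repMap K g') : g = g' := by
  refine (yon K S).map_injective ?_
  rw [← cancel_mono (QuotSh.repIsoUliftYoneda K W).inv, ← repMap_repIso, ← repMap_repIso, h]

variable {R U : Over S} (s t : R ⟶ U)

omit [(QuotSh.J K S).Subcanonical] in
theorem isPullback_quotπ (h : _root_.AlgSp.IsEqvRel s t) :
    IsPullback (QuotSh.repMap K t) (QuotSh.repMap K s) (QuotSh.quotπ K s t) (QuotSh.quotπ K s t) := by
  let G := presheafToSheaf (QuotSh.J K S) (Type (u + 1))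
  have sq := (AlgSp.isPullback_quotPsh s t h).map G
  have hc := isColimitCoforkMapOfIsColimit G _ (AlgSp.isColimitQuotPsh s t h)
  let e := (coequalizerIsCoequalizer (G.map (AlgSp.pmap s)) (G.map (AlgSp.pmap t))).coconePointUniqueUpToIso hc
  have he : QuotSh.quotπ K s t ≫ e.hom = G.map (AlgSp.quotPshπ s t h) :=
    IsColimit.comp_coconePointUniqueUpToIso_hom
      (coequalizerIsCoequalizer (G.map (AlgSp.pmap s)) (G.map (AlgSp.pmap t))) hc WalkingParallelPair.one
  exact IsPullback.of_iso sq (Iso.refl _) (Iso.refl _) (Iso.refl _) e.symm (by simp [G]) (by simp [G])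
    (by simp [← he]) (by simp [← he])

/-- Two points of `U` agree in the quotient iff they are related. -/
theorem quotπ_eq_iff (h : _root_.AlgSp.IsEqvRel s t) {T : Over S} (a b : T ⟶ U) :
    QuotSh.repMap K a ≫ QuotSh.quotπ K s t = QuotSh.repMap K b ≫ QuotSh.quotπ K s t ↔
      ∃ r : T ⟶ R, r ≫ t = a ∧ r ≫ s = b := by
  refine ⟨fun e => ?_, ?_⟩
  · obtain ⟨r, hr⟩ := exists_repMap_eq K ((isPullback_quotπ K s t h).lift _ _ e)
    refine ⟨r, repMap_injective K ?_, repMap_injective K ?_⟩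
    · rw [repMap_comp, hr, IsPullback.lift_fst]
    · rw [repMap_comp, hr, IsPullback.lift_snd]
  · rintro ⟨r, rfl, rfl⟩
    rw [repMap_comp, repMap_comp, Category.assoc, Category.assoc, QuotSh.quot_condition]

variable [K.IsStableUnderComposition] [K.IsStableUnderBaseChange] [K.HasPullbacks] [K.HasIsos]

/-- Sections of the quotient lift locally. -/
theorem exists_cover_lift {T : Over S} (σ : QuotSh.rep K T ⟶ QuotSh.quot K s t) :
    ∃ (ι : Type (u + 1)) (X : ι → Scheme.{u}) (c : ∀ i, X i ⟶ T.left),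
      Presieve.ofArrows X c ∈ K T.left ∧ ∀ i, ∃ a : Over.mk (c i ≫ T.hom) ⟶ U,
        QuotSh.repMap K a ≫ QuotSh.quotπ K s t =
          QuotSh.repMap K (Over.homMk (c i) rfl : Over.mk (c i ≫ T.hom) ⟶ T) ≫ σ := by
  let π := (QuotSh.repIsoUliftYoneda K U).inv ≫ QuotSh.quotπ K s t
  let σ' := (QuotSh.repIsoUliftYoneda K T).inv ≫ σ
  have : Epi (QuotSh.quotπ K s t) :=
    (inferInstance : Epi (coequalizer.π (QuotSh.repMap K s) (QuotSh.repMap K t)))
  have : Sheaf.IsLocallySurjective (QuotSh.quotπ K s t) :=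
    (Sheaf.isLocallySurjective_iff_epi _).2 ‹_›
  have : Sheaf.IsLocallySurjective π := Sheaf.isLocallySurjective_comp _ _
  let y := GrothendieckTopology.uliftYonedaEquiv.{u + 1} (QuotSh.J K S) (X := T) σ'
  have hmem' : Presheaf.imageSieve π.hom y ∈ QuotSh.J K S T :=
    Presheaf.IsLocallySurjective.imageSieve_mem _
  have hmem : Sieve.overEquiv T (Presheaf.imageSieve π.hom y) ∈ K.toGrothendieck T.left := hmem'
  obtain ⟨P, hP, hle⟩ := Precoverage.mem_toGrothendieck_iff_of_isStableUnderComposition.1 hmem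
  obtain ⟨ι, X, c, rfl⟩ := P.exists_eq_ofArrows
  refine ⟨ι, X, c, hP, fun i => ?_⟩
  obtain ⟨x, hx⟩ := (Sieve.overEquiv_iff _ (c i)).1 (hle _ _ (Presieve.ofArrows.mk i))
  obtain ⟨a, ha⟩ := (yon K S).map_surjective
    ((GrothendieckTopology.uliftYonedaEquiv.{u + 1} (QuotSh.J K S)).symm x)
  have key : (yon K S).map a ≫ π =
      (yon K S).map (Over.homMk (c i) rfl : Over.mk (c i ≫ T.hom) ⟶ T) ≫ σ' := by
    apply (GrothendieckTopology.uliftYonedaEquiv.{u + 1} (QuotSh.J K S)).injective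
    refine Eq.trans ?_ (hx.trans (GrothendieckTopology.uliftYonedaEquiv_naturality.{u + 1}
      (QuotSh.J K S) σ' _))
    change π.hom.app _ (GrothendieckTopology.uliftYonedaEquiv.{u + 1} (QuotSh.J K S) ((yon K S).map a)) = _
    rw [ha, Equiv.apply_symm_apply]
  refine ⟨a, ?_⟩
  rw [← cancel_epi (QuotSh.repIsoUliftYoneda K _).inv, reassoc_of% repMap_repIso,
    reassoc_of% repMap_repIso]
  exact key

omit [K.IsStableUnderComposition] [K.IsStableUnderBaseChange] [K.HasPullbacks] [K.HasIsos] in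
/-- Maps out of `h_T` are determined on a covering. -/
theorem hom_ext_cover {T : Over S} {F : QuotSh.Sh K S} {ι : Type w} {X : ι → Scheme.{u}}
    {c : ∀ i, X i ⟶ T.left} (hc : Presieve.ofArrows X c ∈ K T.left)
    {l l' : QuotSh.rep K T ⟶ F}
    (h : ∀ i, QuotSh.repMap K (Over.homMk (c i) rfl : Over.mk (c i ≫ T.hom) ⟶ T) ≫ l =
      QuotSh.repMap K (Over.homMk (c i) rfl : Over.mk (c i ≫ T.hom) ⟶ T) ≫ l') : l = l' := by
  rw [← cancel_epi (QuotSh.repIsoUliftYoneda K T).inv]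
  apply (GrothendieckTopology.uliftYonedaEquiv.{u + 1} (QuotSh.J K S)).injective
  let g : ∀ i, Over.mk (c i ≫ T.hom) ⟶ T := fun i => Over.homMk (c i) rfl
  have hmem : Sieve.ofArrows _ g ∈ QuotSh.J K S T := by
    rw [GrothendieckTopology.mem_over_iff, Sieve.overEquiv_ofArrows]
    exact Precoverage.generate_mem_toGrothendieck hc
  refine (Presieve.isSeparatedFor_iff_generate.2
    (((isSheaf_iff_isSheaf_of_type _ _).1 F.property).isSeparated _ hmem)).ext ?_
  rintro Y f ⟨i⟩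
  rw [GrothendieckTopology.uliftYonedaEquiv_naturality,
    GrothendieckTopology.uliftYonedaEquiv_naturality]
  congr 1
  rw [← Category.assoc, ← Category.assoc, ← repMap_repIso, Category.assoc, Category.assoc, h i]

end Sheaf

variable {R U : Over S} (s t : R ⟶ U)
variable {T : Over S}
variable (σ : QuotSh.rep Scheme.fpqcPrecoverage T ⟶ QuotSh.quot Scheme.fpqcPrecoverage s t)

/-- The points of `U ⊗ T` lying over the section. -/
def Over' {Q : Over S} (q : Q ⟶ U ⊗ T) : Prop :=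
  QuotSh.repMap Scheme.fpqcPrecoverage (q ≫ fst U T) ≫ QuotSh.quotπ Scheme.fpqcPrecoverage s t =
    QuotSh.repMap Scheme.fpqcPrecoverage (q ≫ snd U T) ≫ σ

variable {s t σ}

lemma Over'.comp {Q Q' : Over S} {q : Q ⟶ U ⊗ T} (hq : Over' s t σ q) (h : Q' ⟶ Q) :
    Over' s t σ (h ≫ q) := by
  unfold Over' at hq ⊢
  rw [Category.assoc, Category.assoc, repMap_comp h (q ≫ fst U T), repMap_comp h (q ≫ snd U T),
    Category.assoc, Category.assoc, hq]

/-- The condition on morphisms of schemes. -/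
def Sch {Q : Scheme.{u}} (q : Q ⟶ (U ⊗ T).left) : Prop :=
  Over' s t σ (Over.homMk q rfl : Over.mk (q ≫ (U ⊗ T).hom) ⟶ U ⊗ T)

lemma over'_iff_sch {Q : Over S} (q : Q ⟶ U ⊗ T) : Over' s t σ q ↔ Sch (s := s) (t := t) (σ := σ) q.left := by
  let a : Q ⟶ Over.mk (q.left ≫ (U ⊗ T).hom) := Over.homMk (𝟙 _) ((Category.id_comp _).trans (Over.w q))
  let b : Over.mk (q.left ≫ (U ⊗ T).hom) ⟶ Q := Over.homMk (𝟙 _) ((Category.id_comp _).trans (Over.w q).symm)
  refine ⟨fun h => ?_, fun h => ?_⟩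
  · have e : (Over.homMk q.left rfl : Over.mk (q.left ≫ (U ⊗ T).hom) ⟶ U ⊗ T) = b ≫ q :=
      Over.OverMorphism.ext (Category.id_comp _).symm
    rw [Sch, e]
    exact h.comp b
  · have e : q = a ≫ (Over.homMk q.left rfl : Over.mk (q.left ≫ (U ⊗ T).hom) ⟶ U ⊗ T) :=
      Over.OverMorphism.ext (Category.id_comp _).symm
    rw [e]
    exact Over'.comp h a

lemma sch_comp {Q Q' : Scheme.{u}} (h : Q' ⟶ Q) (q : Q ⟶ (U ⊗ T).left)
    (hq : Sch (s := s) (t := t) (σ := σ) q) : Sch (s := s) (t := t) (σ := σ) (h ≫ q) := by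
  have := (over'_iff_sch _).1 (hq.comp
    (Over.homMk h (Category.assoc _ _ _).symm : Over.mk ((h ≫ q) ≫ (U ⊗ T).hom) ⟶ Over.mk (q ≫ (U ⊗ T).hom)))
  exact this

section Cover

variable {ι : Type (u + 1)} {X : ι → Scheme.{u}} {c : ∀ i, X i ⟶ T.left}

/-- A member of the covering, over `S`. -/
abbrev mem (c : ∀ i, X i ⟶ T.left) (i : ι) : Over.mk (c i ≫ T.hom) ⟶ T := Over.homMk (c i) rfl

lemma isPullback_tensor_snd {A B : Over S} (f : A ⟶ B) :
    IsPullback (U ◁ f).left (snd U A).left (snd U B).left f.left :=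
  IsPullback.of_right (h₁₂ := (fst U B).left) (h₂₂ := B.hom) (v₁₃ := U.hom)
    (by
      rw [← Over.comp_left, whiskerLeft_fst, Over.w f]
      exact IsPullback.of_hasPullback U.hom A.hom)
    (congrArg CommaMorphism.left (whiskerLeft_snd U f))
    (IsPullback.of_hasPullback U.hom B.hom)

variable (hc : Presieve.ofArrows X c ∈ Scheme.fpqcPrecoverage T.left)

include hc in
lemma cover_mem : Presieve.ofArrows (fun i => (U ⊗ Over.mk (c i ≫ T.hom)).left)
    (fun i => (U ◁ mem c i).left) ∈ Scheme.fpqcPrecoverage (U ⊗ T).left :=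
  Precoverage.mem_coverings_of_isPullback c hc (snd U T).left _ _
    fun i => isPullback_tensor_snd (mem c i)

include hc in
lemma sch_of_local {Q : Scheme.{u}} (q : Q ⟶ (U ⊗ T).left)
    (h : ∀ i, Sch (s := s) (t := t) (σ := σ) (pullback.fst q (U ◁ mem c i).left ≫ q)) :
    Sch (s := s) (t := t) (σ := σ) q := by
  refine hom_ext_cover Scheme.fpqcPrecoverage
    (Precoverage.mem_coverings_of_isPullback _ (cover_mem hc) q _ _
      fun i => IsPullback.of_hasPullback q (U ◁ mem c i).left) fun i => ?_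
  rw [← Category.assoc, ← Category.assoc, ← repMap_comp, ← repMap_comp, ← Category.assoc,
    ← Category.assoc]
  exact (over'_iff_sch _).2 (h i)

end Cover

variable [IsEquivalenceRelation s t]

lemma over'_iff_related {Y : Over S} {g : Y ⟶ T} {a : Y ⟶ U}
    (ha : QuotSh.repMap Scheme.fpqcPrecoverage a ≫ QuotSh.quotπ Scheme.fpqcPrecoverage s t =
      QuotSh.repMap Scheme.fpqcPrecoverage g ≫ σ) {Q : Over S} (q : Q ⟶ U ⊗ Y) :
    Over' s t σ (q ≫ U ◁ g) ↔ ∃ r : Q ⟶ R, r ≫ t = q ≫ fst U Y ∧ r ≫ s = q ≫ snd U Y ≫ a := by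
  rw [Over', Category.assoc, Category.assoc, whiskerLeft_fst, whiskerLeft_snd,
    ← quotπ_eq_iff Scheme.fpqcPrecoverage s t (isEqvRel_of_isEquivalenceRelation s t)]
  have e : QuotSh.repMap Scheme.fpqcPrecoverage (q ≫ snd U Y ≫ a) ≫
      QuotSh.quotπ Scheme.fpqcPrecoverage s t =
      QuotSh.repMap Scheme.fpqcPrecoverage (q ≫ snd U Y ≫ g) ≫ σ := by
    rw [← Category.assoc q, repMap_comp (q ≫ snd U Y) a, Category.assoc, ha, ← Category.assoc,
      ← repMap_comp, Category.assoc]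
  rw [e]

lemma exists_local_piece (P : MorphismProperty Scheme.{u}) [P.IsStableUnderBaseChange]
    (hP : P (lift t s).left) {Y : Over S} {g : Y ⟶ T} {a : Y ⟶ U}
    (ha : QuotSh.repMap Scheme.fpqcPrecoverage a ≫ QuotSh.quotπ Scheme.fpqcPrecoverage s t =
      QuotSh.repMap Scheme.fpqcPrecoverage g ≫ σ) :
    ∃ (Z : Scheme.{u}) (k : Z ⟶ (U ⊗ Y).left), P k ∧
      ∀ {Q : Scheme.{u}} (q : Q ⟶ (U ⊗ Y).left), (∃ z, z ≫ k = q) ↔
        Sch (s := s) (t := t) (σ := σ) (q ≫ (U ◁ g).left) := by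
  refine ⟨_, pullback.snd (lift t s).left (U ◁ a).left, P.pullback_snd _ _ hP, fun {Q} q => ?_⟩
  let Q' : Over S := Over.mk (q ≫ (U ⊗ Y).hom)
  let q' : Q' ⟶ U ⊗ Y := Over.homMk q rfl
  refine Iff.trans ?_ ((over'_iff_related ha q').symm.trans (over'_iff_sch _))
  constructor
  · rintro ⟨z, hz⟩
    let r : Q' ⟶ R := Over.homMk (z ≫ pullback.fst (lift t s).left (U ◁ a).left) (by
      change (z ≫ pullback.fst _ _) ≫ R.hom = q ≫ (U ⊗ Y).hom
      rw [← hz, ← Over.w (lift t s), ← Over.w (U ◁ a)]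
      simp only [Category.assoc, pullback.condition_assoc])
    have e : r ≫ lift t s = q' ≫ U ◁ a := Over.OverMorphism.ext (by
      change (z ≫ pullback.fst _ _) ≫ (lift t s).left = q ≫ (U ◁ a).left
      rw [← hz, Category.assoc, pullback.condition, Category.assoc])
    refine ⟨r, ?_, ?_⟩
    · simpa using congrArg (· ≫ fst U U) e
    · simpa using congrArg (· ≫ snd U U) e
  · rintro ⟨r, h1, h2⟩
    have e : r ≫ lift t s = q' ≫ U ◁ a := by
      apply CartesianMonoidalCategory.hom_ext <;> simp [h1, h2]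
    exact ⟨pullback.lift r.left q (congrArg CommaMorphism.left e), pullback.lift_snd _ _ _⟩

variable (s t σ)

/-- The properties of the subscheme attached to a section. -/
theorem exists_rep (P : MorphismProperty Scheme.{u})
    (hdesc : ∀ {W : Scheme.{u}} {ι : Type (u + 1)} {V : ι → Scheme.{u}} {g : ∀ i, V i ⟶ W}
      {Z : ι → Scheme.{u}} {k : ∀ i, Z i ⟶ V i} (E : ∀ {Q : Scheme.{u}}, (Q ⟶ W) → Prop),
      Presieve.ofArrows V g ∈ Scheme.fpqcPrecoverage W →
      (∀ {Q Q' : Scheme.{u}} (h : Q' ⟶ Q) (q : Q ⟶ W), E q → E (h ≫ q)) →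
      (∀ {Q : Scheme.{u}} (q : Q ⟶ W), (∀ i, E (pullback.fst q (g i) ≫ q)) → E q) →
      (∀ i, P (k i)) →
      (∀ i {Q : Scheme.{u}} (q : Q ⟶ V i), (∃ z, z ≫ k i = q) ↔ E (q ≫ g i)) →
      ∃ (Z₀ : Scheme.{u}) (j : Z₀ ⟶ W), P j ∧
        ∀ {Q : Scheme.{u}} (q : Q ⟶ W), (∃ z, z ≫ j = q) ↔ E q)
    [P.IsStableUnderBaseChange] (hP : P (lift t s).left)
    (σ : QuotSh.rep Scheme.fpqcPrecoverage T ⟶ QuotSh.quot Scheme.fpqcPrecoverage s t) :
    ∃ (Z : Over S) (i : Z ⟶ U ⊗ T), P i.left ∧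
      ∀ {Q : Over S} (q : Q ⟶ U ⊗ T), (∃ z : Q ⟶ Z, z ≫ i = q) ↔ Over' s t σ q := by
  obtain ⟨ι, X, c, hc, ha⟩ := exists_cover_lift Scheme.fpqcPrecoverage s t σ
  choose a ha using ha
  choose Z k hk hk' using fun i => exists_local_piece P hP (ha i)
  obtain ⟨Z₀, j, hj, hj'⟩ := hdesc (fun {Q} q => Sch (s := s) (t := t) (σ := σ) q) (cover_mem hc)
    (fun h q hq => sch_comp h q hq) (fun q h => sch_of_local hc q h) hk hk'
  refine ⟨Over.mk (j ≫ (U ⊗ T).hom), Over.homMk j rfl, hj, fun {Q} q => ?_⟩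
  refine Iff.trans ⟨?_, ?_⟩ ((hj' q.left).trans (over'_iff_sch q).symm)
  · rintro ⟨z, rfl⟩; exact ⟨z.left, rfl⟩
  · rintro ⟨z, hz⟩
    exact ⟨Over.homMk z (by change z ≫ j ≫ (U ⊗ T).hom = Q.hom; rw [reassoc_of% hz, Over.w q]),
      Over.OverMorphism.ext hz⟩

end Groth.Agent.GrpdLib.QuotSection
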