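import Groth.Agent.GrpdLib.QuotSection

/-!
# Properties of the subscheme of a section of the quotient sheaf
-/

set_option autoImplicit false
set_option linter.style.haveILetI false
universe w u

open CategoryTheory CategoryTheory.Limits AlgebraicGeometry MonoidalCategory CartesianMonoidalCategory Opposite

set_option backward.isDefEq.respectTransparency.types false

namespace Groth.Agent.GrpdLib.QuotSection

/-- Properties descend along an fpqc family. -/
theorem of_fpqc_family (P : MorphismProperty Scheme.{u}) [P.IsStableUnderBaseChange]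
    [IsZariskiLocalAtTarget P] [P.DescendsAlong AlgSpCov.Fpqc] {Z T : Scheme.{u}} (f : Z ⟶ T)
    {ι : Type w} {X : ι → Scheme.{u}} {c : ∀ i, X i ⟶ T}
    (hc : Presieve.ofArrows X c ∈ Scheme.fpqcPrecoverage T)
    (h : ∀ i, ∃ (A : Scheme.{u}) (a : A ⟶ X i) (b : A ⟶ Z), IsPullback a b (c i) f ∧ P a) : P f := by
  refine IsZariskiLocalAtTarget.of_iSup_eq_top (fun U : T.affineOpens => U.1)
    (iSup_affineOpens_eq_top T) fun U => ?_
  obtain ⟨n, d, V, hV, k, hk, hks⟩ := FamDescent.exists_finite_cover hc U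
  have : IsAffine (U.1 : Scheme.{u}) := U.2
  have : ∀ m, IsAffine (V m : Scheme.{u}) := hV
  have : ∀ m, Flat (k m) := hks.flat
  refine AlgSpCov.of_finite_family (P := P) (f ∣_ U.1) (fun m => (V m : Scheme.{u})) k
    (fun z => let ⟨m, p, hp⟩ := hks.surj z; ⟨m, p, hp⟩) fun m => ?_
  obtain ⟨A, a, b, sq, ha⟩ := h (d m)
  refine ⟨_, pullback.fst (k m) (f ∣_ U.1), pullback.snd _ _, IsPullback.of_hasPullback _ _, ?_⟩
  have sq1 : IsPullback (pullback.fst (k m) (f ∣_ U.1))
      (pullback.snd (k m) (f ∣_ U.1) ≫ (f ⁻¹ᵁ U.1).ι) (k m ≫ U.1.ι) f :=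
    (IsPullback.of_hasPullback (k m) (f ∣_ U.1)).paste_vert (isPullback_morphismRestrict f U.1)
  have hw : (pullback.fst (k m) (f ∣_ U.1) ≫ (V m).ι) ≫ c (d m) =
      (pullback.snd (k m) (f ∣_ U.1) ≫ (f ⁻¹ᵁ U.1).ι) ≫ f := by
    rw [Category.assoc, ← hk m]; exact sq1.w
  have sq2 : IsPullback (pullback.fst (k m) (f ∣_ U.1)) (sq.lift _ _ hw) (V m).ι a :=
    IsPullback.of_bot
      (by simpa only [IsPullback.lift_snd, hk m] using sq1) (sq.lift_fst _ _ hw).symm sq
  exact MorphismProperty.of_isPullback sq2.flip ha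

lemma quasiCompact_of_fpqc_family {Z T : Scheme.{u}} (f : Z ⟶ T)
    {ι : Type w} {X : ι → Scheme.{u}} {c : ∀ i, X i ⟶ T}
    (hc : Presieve.ofArrows X c ∈ Scheme.fpqcPrecoverage T)
    (h : ∀ i, ∃ (A : Scheme.{u}) (a : A ⟶ X i) (b : A ⟶ Z), IsPullback a b (c i) f ∧ QuasiCompact a) :
    QuasiCompact f :=
  have : MorphismProperty.DescendsAlong @QuasiCompact AlgSpCov.Fpqc.{u} :=
    FpqcDesc.descendsAlong_quasiCompact
  of_fpqc_family @QuasiCompact f hc h

variable {S : Scheme.{u}} {R U : Over S} {s t : R ⟶ U} {T : Over S}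
variable {σ : QuotSh.rep Scheme.fpqcPrecoverage T ⟶ QuotSh.quot Scheme.fpqcPrecoverage s t}
variable [IsEquivalenceRelation s t]
variable {Z : Over S} {i : Z ⟶ U ⊗ T}

/-- The subscheme represents the fibre product of `U → U/R` and the section. -/
def Represents (σ : QuotSh.rep Scheme.fpqcPrecoverage T ⟶ QuotSh.quot Scheme.fpqcPrecoverage s t)
    (i : Z ⟶ U ⊗ T) : Prop :=
  ∀ {Q : Over S} (q : Q ⟶ U ⊗ T), (∃ z : Q ⟶ Z, z ≫ i = q) ↔ Over' s t σ q

variable (hi : Represents σ i)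
include hi

omit [IsEquivalenceRelation s t] in
lemma eq_section : QuotSh.repMap Scheme.fpqcPrecoverage (i ≫ fst U T) ≫
    QuotSh.quotπ Scheme.fpqcPrecoverage s t =
      QuotSh.repMap Scheme.fpqcPrecoverage (i ≫ snd U T) ≫ σ :=
  (hi i).1 ⟨𝟙 _, Category.id_comp _⟩

lemma stable (T' : Over S) (r : T' ⟶ R ⊗ T) :
    (∃ z : T' ⟶ Z, z ≫ i = r ≫ (s ▷ T)) ↔ (∃ z : T' ⟶ Z, z ≫ i = r ≫ (t ▷ T)) := by
  rw [hi, hi, Over', Over']
  simp only [Category.assoc, whiskerRight_fst, whiskerRight_snd]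
  rw [← Category.assoc r, ← Category.assoc r (fst R T) t, repMap_comp _ s, repMap_comp _ t,
    Category.assoc, Category.assoc, QuotSh.quot_condition]

lemma related (T' : Over S) (z₁ z₂ : T' ⟶ Z) (h : z₁ ≫ i ≫ snd U T = z₂ ≫ i ≫ snd U T) :
    ∃ r : T' ⟶ R, r ≫ s = z₁ ≫ i ≫ fst U T ∧ r ≫ t = z₂ ≫ i ≫ fst U T := by
  have h₁ := (hi (z₁ ≫ i)).1 ⟨z₁, rfl⟩
  have h₂ := (hi (z₂ ≫ i)).1 ⟨z₂, rfl⟩
  simp only [Over', Category.assoc] at h₁ h₂
  rw [h] at h₁
  obtain ⟨r, hr₁, hr₂⟩ := (quotπ_eq_iff Scheme.fpqcPrecoverage s t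
    (isEqvRel_of_isEquivalenceRelation s t) _ _).1 (h₂.trans h₁.symm)
  exact ⟨r, hr₂, hr₁⟩

/-- Locally on the base the subscheme is a base change of the source map. -/
lemma base_of_source [Mono i.left] (P : MorphismProperty Scheme.{u}) [P.IsStableUnderBaseChange]
    [IsZariskiLocalAtTarget P] [P.DescendsAlong AlgSpCov.Fpqc] (hs : P s.left) :
    P (i ≫ snd U T).left := by
  obtain ⟨ι, X, c, hc, ha⟩ := exists_cover_lift Scheme.fpqcPrecoverage s t σ
  choose a ha using ha
  refine of_fpqc_family P _ hc fun j => ?_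
  let Y := Over.mk (c j ≫ T.hom)
  let A : Over S := Over.mk (pullback.snd s.left (a j).left ≫ Y.hom)
  let pY : A ⟶ Y := Over.homMk (pullback.snd _ _) rfl
  let pR : A ⟶ R := Over.homMk (pullback.fst s.left (a j).left) (by
    change pullback.fst s.left (a j).left ≫ R.hom = pullback.snd s.left (a j).left ≫ Y.hom
    rw [← Over.w s, ← Over.w (a j), pullback.condition_assoc])
  have hp : pR ≫ s = pY ≫ a j := Over.OverMorphism.ext pullback.condition
  have hA : Over' s t σ (lift (pR ≫ t) (pY ≫ mem c j)) := by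
    rw [Over', lift_fst, lift_snd, repMap_comp pR t, Category.assoc, ← QuotSh.quot_condition,
      ← Category.assoc, ← repMap_comp, hp, repMap_comp pY, repMap_comp pY, Category.assoc,
      Category.assoc, ha j]
  obtain ⟨w, hw⟩ := (hi _).2 hA
  refine ⟨A.left, pY.left, w.left, ?_, P.pullback_snd _ _ hs⟩
  have : Mono i := (Over.forget S).mono_of_mono_map (inferInstanceAs (Mono i.left))
  have ext' : ∀ (Q : Over S) (l l' : Q ⟶ A), l ≫ pY = l' ≫ pY → l ≫ w = l' ≫ w → l = l' := by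
    intro Q l l' h₁ h₂
    apply Over.OverMorphism.ext
    refine pullback.hom_ext ?_ (congrArg CommaMorphism.left h₁)
    refine congrArg CommaMorphism.left ((isEqvRel_of_isEquivalenceRelation s t).injective _
      (l ≫ pR) (l' ≫ pR) ?_ ?_)
    · have e := congrArg (fun z => z ≫ i ≫ fst U T) h₂
      simpa only [Category.assoc, reassoc_of% hw, lift_fst] using e
    · rw [Category.assoc, Category.assoc, hp, reassoc_of% h₁]
  have key : ∀ (Q : Over S) (y : Q ⟶ Y) (z : Q ⟶ Z), z ≫ i ≫ snd U T = y ≫ mem c j →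
      ∃ l : Q ⟶ A, l ≫ pY = y ∧ l ≫ w = z := by
    intro Q y z hq
    have h₂ := (hi (z ≫ i)).1 ⟨z, rfl⟩
    simp only [Over', Category.assoc, hq] at h₂
    rw [repMap_comp y, Category.assoc, ← ha j, ← Category.assoc (QuotSh.repMap _ y), ← repMap_comp] at h₂
    obtain ⟨r, hr₁, hr₂⟩ := (quotπ_eq_iff Scheme.fpqcPrecoverage s t
      (isEqvRel_of_isEquivalenceRelation s t) _ _).1 h₂
    let l : Q ⟶ A := Over.homMk
      (pullback.lift r.left y.left (congrArg CommaMorphism.left hr₂))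
      ((pullback.lift_snd_assoc _ _ _ _).trans (Over.w y))
    have hlR : l ≫ pR = r := Over.OverMorphism.ext (pullback.lift_fst _ _ _)
    have hlY : l ≫ pY = y := Over.OverMorphism.ext (pullback.lift_snd _ _ _)
    refine ⟨l, hlY, ?_⟩
    rw [← cancel_mono i, Category.assoc, hw]
    apply CartesianMonoidalCategory.hom_ext
    · simp only [Category.assoc, lift_fst, reassoc_of% hlR, hr₁]
    · simp only [Category.assoc, lift_snd, reassoc_of% hlY, hq]
  have sq : IsPullback pY w (mem c j) (i ≫ snd U T) := by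
    refine ⟨⟨by rw [← Category.assoc w, hw, lift_snd]⟩,
      ⟨PullbackCone.IsLimit.mk _ (fun q => (key _ q.fst q.snd q.condition.symm).choose)
        (fun q => (key _ q.fst q.snd q.condition.symm).choose_spec.1)
        (fun q => (key _ q.fst q.snd q.condition.symm).choose_spec.2)
        (fun q m h₁ h₂ => ext' _ _ _
          (h₁.trans (key _ q.fst q.snd q.condition.symm).choose_spec.1.symm)
          (h₂.trans (key _ q.fst q.snd q.condition.symm).choose_spec.2.symm))⟩⟩
  exact GrpOver.isPullback_left sq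

omit [IsEquivalenceRelation s t] in
omit hi in
/-- A stable subscheme covering the base and lying over the section represents it. -/
lemma represents_of_stable [Mono i.left] [Flat (i ≫ snd U T).left] [Surjective (i ≫ snd U T).left]
    (hq : QuasiCompact (i ≫ snd U T).left ∨ LocallyOfFinitePresentation (i ≫ snd U T).left)
    (heqv : _root_.AlgSp.IsEqvRel s t)
    (hst : ∀ (T' : Over S) (r : T' ⟶ R ⊗ T),
        (∃ z : T' ⟶ Z, z ≫ i = r ≫ (s ▷ T)) ↔ (∃ z : T' ⟶ Z, z ≫ i = r ≫ (t ▷ T)))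
    (heq : QuotSh.repMap Scheme.fpqcPrecoverage (i ≫ fst U T) ≫
      QuotSh.quotπ Scheme.fpqcPrecoverage s t =
        QuotSh.repMap Scheme.fpqcPrecoverage (i ≫ snd U T) ≫ σ) : Represents σ i := by
  have hi0 : Over' s t σ i := heq
  intro Q q
  refine ⟨fun ⟨z, hz⟩ => hz ▸ hi0.comp z, fun hE => ?_⟩
  let Q' : Over S := Over.mk (pullback.fst (q ≫ snd U T).left (i ≫ snd U T).left ≫ Q.hom)
  let p : Q' ⟶ Q := Over.homMk (pullback.fst _ _) rfl
  let z₀ : Q' ⟶ Z := Over.homMk (pullback.snd (q ≫ snd U T).left (i ≫ snd U T).left) (by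
    change pullback.snd _ _ ≫ Z.hom = pullback.fst _ _ ≫ Q.hom
    rw [← Over.w (i ≫ snd U T), ← Over.w (q ≫ snd U T), pullback.condition_assoc])
  have hsnd : p ≫ q ≫ snd U T = z₀ ≫ i ≫ snd U T := Over.OverMorphism.ext pullback.condition
  have h₁ := hE.comp p
  have h₂ := hi0.comp z₀
  simp only [Over', Category.assoc] at h₁ h₂
  rw [hsnd] at h₁
  obtain ⟨r, hr₁, hr₂⟩ := (quotπ_eq_iff Scheme.fpqcPrecoverage s t heqv _ _).1 (h₁.trans h₂.symm)
  obtain ⟨z, hz⟩ := (hst Q' (lift r (z₀ ≫ i ≫ snd U T))).1 ⟨z₀, by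
    apply CartesianMonoidalCategory.hom_ext <;>
      simp only [Category.assoc, whiskerRight_fst, whiskerRight_snd, lift_fst_assoc, lift_snd, hr₂]⟩
  have hz' : z ≫ i = p ≫ q := by
    rw [hz]
    apply CartesianMonoidalCategory.hom_ext <;>
      simp only [Category.assoc, whiskerRight_fst, whiskerRight_snd, lift_fst_assoc, lift_snd, hr₁, hsnd]
  have : EffectiveEpi p.left := by
    change EffectiveEpi (pullback.fst (q ≫ snd U T).left (i ≫ snd U T).left)
    rcases hq with hq | hq <;> infer_instance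
  have : Mono i := (Over.forget S).mono_of_mono_map (inferInstanceAs (Mono i.left))
  obtain ⟨z', hz'', -⟩ := GrpOver.existsUnique_desc p z fun T' a b hab => by
    rw [← cancel_mono i, Category.assoc, Category.assoc, hz', reassoc_of% hab]
  refine ⟨z', GrpOver.cancel_left p ?_⟩
  rw [reassoc_of% hz'', hz']

/-- Two representing subschemes are isomorphic. -/
lemma unique [Mono i.left] {Z' : Over S} {i' : Z' ⟶ U ⊗ T} [Mono i'.left] (hi' : Represents σ i') :
    ∃ e : Z ≅ Z', e.hom ≫ i' = i := by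
  obtain ⟨a, ha⟩ := (hi' i).2 ((hi i).1 ⟨𝟙 _, Category.id_comp _⟩)
  obtain ⟨b, hb⟩ := (hi i').2 ((hi' i').1 ⟨𝟙 _, Category.id_comp _⟩)
  have : Mono i := (Over.forget S).mono_of_mono_map (inferInstanceAs (Mono i.left))
  have : Mono i' := (Over.forget S).mono_of_mono_map (inferInstanceAs (Mono i'.left))
  exact ⟨⟨a, b, by rw [← cancel_mono i, Category.assoc, hb, ha, Category.id_comp],
    by rw [← cancel_mono i', Category.assoc, ha, hb, Category.id_comp]⟩, ha⟩

end Groth.Agent.GrpdLib.QuotSection
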