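import Groth.Agent.GrpdLib.QuotAffine

/-!
# The quotient of a finite locally free groupoid all of whose orbits lie in affine opens

`quot` is glued from `Spec` of the invariants of the invariant affine opens along the locally
directed diagram of open immersions that these form.
-/

universe u

set_option maxHeartbeats 400000

open CategoryTheory CategoryTheory.Limits AlgebraicGeometry

namespace Groth.Agent.GrpdLib

variable {S : Scheme.{u}} (G : Grpd.GroupoidScheme S)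

/-- Invariant affine opens. -/
abbrev InvAff : Type u := {W : G.U.Opens // IsAffineOpen W ∧ G.s ⁻¹ᵁ W = G.t ⁻¹ᵁ W}

variable {G}

/-- The restriction of `G` to an invariant affine open. -/
noncomputable abbrev InvAff.res (j : InvAff G) : Grpd.GroupoidScheme S := restrict G j.1 j.2.2

/-- The affine piece of the quotient. -/
noncomputable def InvAff.Y (j : InvAff G) : Scheme.{u} :=
  Spec (CommRingCat.of j.res.invariants)

/-- The affine piece of the quotient map. -/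
noncomputable def InvAff.q (j : InvAff G) : (j.1 : Scheme) ⟶ j.Y := j.res.toQuot

lemma InvAff.t_mem (j : InvAff G) {r : G.R} : G.t r ∈ j.1 ↔ G.s r ∈ j.1 := by
  show r ∈ G.t ⁻¹ᵁ j.1 ↔ r ∈ G.s ⁻¹ᵁ j.1
  rw [j.2.2]

variable [IsFinite G.s] [Flat G.s] [LocallyOfFinitePresentation G.s]

lemma InvAff.isAffQuot (j : InvAff G) :
    IsAffQuot (G.t.resLE j.1 (G.s ⁻¹ᵁ j.1) j.2.2.le) (G.s ∣_ j.1) j.q := by
  have : IsAffine j.res.U := j.2.1
  have : IsAffine j.res.R := j.2.1.preimage G.s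
  have : IsFinite j.res.s :=
    MorphismProperty.of_isPullback (isPullback_morphismRestrict G.s j.1).flip ‹IsFinite G.s›
  have : Flat j.res.s :=
    MorphismProperty.of_isPullback (isPullback_morphismRestrict G.s j.1).flip ‹Flat G.s›
  have : LocallyOfFinitePresentation j.res.s :=
    MorphismProperty.of_isPullback (isPullback_morphismRestrict G.s j.1).flip
      ‹LocallyOfFinitePresentation G.s›
  exact isAffQuot_toQuot j.res

lemma InvAff.q_eq_iff (j : InvAff G) (x y : (j.1 : Scheme)) :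
    j.q x = j.q y ↔ Rel G x.1 y.1 := by
  constructor
  · intro h
    obtain ⟨r, hr₁, hr₂⟩ := j.isAffQuot.fibre x y h
    refine ⟨r.1, ?_, ?_⟩
    · rw [← hr₁]
      show G.t ((G.s ⁻¹ᵁ j.1).ι r) = j.1.ι _
      rw [← Scheme.Hom.comp_apply, ← Scheme.Hom.comp_apply, Scheme.Hom.resLE_comp_ι]
    · rw [← hr₂]
      show G.s ((G.s ⁻¹ᵁ j.1).ι r) = j.1.ι _
      rw [← Scheme.Hom.comp_apply, ← Scheme.Hom.comp_apply, morphismRestrict_ι]
  · rintro ⟨r, hr₁, hr₂⟩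
    let r' : (G.s ⁻¹ᵁ j.1 : G.R.Opens) := ⟨r, show G.s r ∈ j.1 by rw [hr₂]; exact y.2⟩
    have e₁ : G.t.resLE j.1 (G.s ⁻¹ᵁ j.1) j.2.2.le r' = x := by
      apply j.1.ι.isOpenEmbedding.injective
      rw [← Scheme.Hom.comp_apply, Scheme.Hom.resLE_comp_ι]; exact hr₁
    have e₂ : (G.s ∣_ j.1) r' = y := by
      apply j.1.ι.isOpenEmbedding.injective
      rw [← Scheme.Hom.comp_apply, morphismRestrict_ι]; exact hr₂
    rw [← e₁, ← e₂, ← Scheme.Hom.comp_apply, j.isAffQuot.w, Scheme.Hom.comp_apply]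

lemma exists_map {i j : InvAff G} (h : i ≤ j) :
    ∃ φ : i.Y ⟶ j.Y, i.q ≫ φ = G.U.homOfLE h ≫ j.q := by
  refine i.isAffQuot.exists_desc _ ?_
  have hR : G.s ⁻¹ᵁ i.1 ≤ G.s ⁻¹ᵁ j.1 := G.s.preimage_mono h
  have e₁ : G.t.resLE i.1 (G.s ⁻¹ᵁ i.1) i.2.2.le ≫ G.U.homOfLE h =
      G.R.homOfLE hR ≫ G.t.resLE j.1 (G.s ⁻¹ᵁ j.1) j.2.2.le := by
    rw [← cancel_mono j.1.ι]; simp
  have e₂ : G.s ∣_ i.1 ≫ G.U.homOfLE h = G.R.homOfLE hR ≫ G.s ∣_ j.1 := by
    rw [← cancel_mono j.1.ι]; simp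
  rw [reassoc_of% e₁, reassoc_of% e₂, j.isAffQuot.w]

/-- The transition morphism between affine pieces. -/
noncomputable def mapY {i j : InvAff G} (h : i ≤ j) : i.Y ⟶ j.Y := (exists_map h).choose

@[reassoc]
lemma q_mapY {i j : InvAff G} (h : i ≤ j) : i.q ≫ mapY h = G.U.homOfLE h ≫ j.q :=
  (exists_map h).choose_spec

omit [IsFinite G.s] [Flat G.s] [LocallyOfFinitePresentation G.s] in
lemma coe_homOfLE_apply {V W : G.U.Opens} (h : V ≤ W) (x : (V : Scheme)) :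
    (G.U.homOfLE h x).1 = x.1 := by
  show W.ι (G.U.homOfLE h x) = V.ι x
  rw [← Scheme.Hom.comp_apply, Scheme.homOfLE_ι]

variable (G) in
/-- The diagram of affine pieces. -/
noncomputable def diagram : InvAff G ⥤ Scheme.{u} where
  obj j := j.Y
  map f := mapY (leOfHom f)
  map_id j := j.isAffQuot.hom_ext (by simp [q_mapY])
  map_comp {i j k} f g := i.isAffQuot.hom_ext (by rw [q_mapY, q_mapY_assoc, q_mapY]; simp)

lemma q_apply_mapY {i j : InvAff G} (h : i ≤ j) (x : (i.1 : Scheme)) :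
    mapY h (i.q x) = j.q ⟨x.1, h x.2⟩ := by
  rw [← Scheme.Hom.comp_apply, q_mapY, Scheme.Hom.comp_apply]
  congr 1
  exact Subtype.ext (coe_homOfLE_apply h x)

/-- The transition morphisms are open immersions. -/
lemma isOpenImmersion_mapY {i j : InvAff G} (h : i ≤ j) : IsOpenImmersion (mapY h) := by
  let O : j.Y.Opens := ⟨j.q '' Set.range (G.U.homOfLE h),
    j.isAffQuot.isOpenMap _ (G.U.homOfLE h).isOpenEmbedding.isOpen_range⟩
  have hpre : Set.range ((j.q ⁻¹ᵁ O).ι) ⊆ Set.range (G.U.homOfLE h) := by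
    intro x hx
    rw [Scheme.Opens.range_ι] at hx
    obtain ⟨_, ⟨y, rfl⟩, hy⟩ := hx
    obtain ⟨r, hr₁, hr₂⟩ := (j.q_eq_iff _ _).mp hy
    have hyi : G.t r ∈ i.1 := by
      rw [hr₁, coe_homOfLE_apply]; exact y.2
    refine ⟨⟨x.1, by rw [← hr₂]; exact i.t_mem.mp hyi⟩, Subtype.ext ?_⟩
    rw [coe_homOfLE_apply]
  let l := IsOpenImmersion.lift (G.U.homOfLE h) (j.q ⁻¹ᵁ O).ι hpre
  have hl : l ≫ G.U.homOfLE h = (j.q ⁻¹ᵁ O).ι := IsOpenImmersion.lift_fac _ _ _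
  obtain ⟨χ, hχ⟩ := j.isAffQuot.exists_desc_open O (l ≫ i.q) (by
    have e₁ : ∀ {Z : Scheme.{u}} (a b : Z ⟶ (i.1 : Scheme)),
        a ≫ G.U.homOfLE h = b ≫ G.U.homOfLE h → a = b := fun a b e => (cancel_mono _).mp e
    obtain ⟨m, hm₁, hm₂⟩ : ∃ m : ((G.t.resLE j.1 (G.s ⁻¹ᵁ j.1) j.2.2.le ≫ j.q) ⁻¹ᵁ O :
        ((G.s ⁻¹ᵁ j.1 : G.R.Opens) : Scheme).Opens).toScheme ⟶ (G.s ⁻¹ᵁ i.1 : G.R.Opens).toScheme,
        m ≫ (G.s ⁻¹ᵁ i.1).ι = Scheme.Opens.ι _ ≫ (G.s ⁻¹ᵁ j.1).ι ∧ True := by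
      refine ⟨IsOpenImmersion.lift (G.s ⁻¹ᵁ i.1).ι _ ?_, IsOpenImmersion.lift_fac _ _ _, trivial⟩
      rintro _ ⟨r, rfl⟩
      rw [Scheme.Opens.range_ι]
      show G.s _ ∈ i.1
      refine i.t_mem.mp ?_
      obtain ⟨z, hz⟩ := @hpre (G.t.resLE j.1 (G.s ⁻¹ᵁ j.1) j.2.2.le r.1)
        (by rw [Scheme.Opens.range_ι]; exact r.2)
      have hz' := congrArg j.1.ι hz
      rw [← Scheme.Hom.comp_apply, ← Scheme.Hom.comp_apply, Scheme.homOfLE_ι,
        Scheme.Hom.resLE_comp_ι, Scheme.Hom.comp_apply] at hz'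
      show G.t ((G.s ⁻¹ᵁ j.1).ι r.1) ∈ i.1
      rw [← hz']; exact z.2
    have k₁ : ∀ (e : _ ≤ _), (G.t.resLE j.1 (G.s ⁻¹ᵁ j.1) j.2.2.le).resLE (j.q ⁻¹ᵁ O)
        ((G.t.resLE j.1 (G.s ⁻¹ᵁ j.1) j.2.2.le ≫ j.q) ⁻¹ᵁ O) e ≫ l =
        m ≫ G.t.resLE i.1 (G.s ⁻¹ᵁ i.1) i.2.2.le := by
      intro e
      rw [← cancel_mono (G.U.homOfLE h), Category.assoc, Category.assoc, hl, ← cancel_mono j.1.ι]
      simp
      exact ((reassoc_of% hm₁) _).symm
    have k₂ : ∀ (e : _ ≤ _), (G.s ∣_ j.1).resLE (j.q ⁻¹ᵁ O)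
        ((G.t.resLE j.1 (G.s ⁻¹ᵁ j.1) j.2.2.le ≫ j.q) ⁻¹ᵁ O) e ≫ l = m ≫ G.s ∣_ i.1 := by
      intro e
      rw [← cancel_mono (G.U.homOfLE h), Category.assoc, Category.assoc, hl, ← cancel_mono j.1.ι]
      simp
      exact ((reassoc_of% hm₁) _).symm
    rw [reassoc_of% (k₁ _), reassoc_of% (k₂ _), i.isAffQuot.w])
  have hrange : Set.range (mapY h) ⊆ Set.range O.ι := by
    rintro _ ⟨y, rfl⟩
    obtain ⟨x, rfl⟩ := i.isAffQuot.surj y
    rw [Scheme.Opens.range_ι, q_apply_mapY]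
    exact ⟨_, ⟨x, Subtype.ext (coe_homOfLE_apply h x)⟩, rfl⟩
  let ψ := IsOpenImmersion.lift O.ι (mapY h) hrange
  have hψ : ψ ≫ O.ι = mapY h := IsOpenImmersion.lift_fac _ _ _
  have h1 : ψ ≫ χ = 𝟙 _ := by
    refine i.isAffQuot.hom_ext ?_
    have hin : Set.range (G.U.homOfLE h) ⊆ Set.range (j.q ⁻¹ᵁ O).ι := by
      rintro _ ⟨x, rfl⟩
      rw [Scheme.Opens.range_ι]
      exact ⟨_, ⟨x, rfl⟩, rfl⟩
    let l' := IsOpenImmersion.lift (j.q ⁻¹ᵁ O).ι _ hin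
    have hl' : l' ≫ (j.q ⁻¹ᵁ O).ι = G.U.homOfLE h := IsOpenImmersion.lift_fac _ _ _
    have hll : l' ≫ l = 𝟙 _ := by rw [← cancel_mono (G.U.homOfLE h)]; simp [hl, hl']
    have : i.q ≫ ψ = l' ≫ j.q ∣_ O := by
      rw [← cancel_mono O.ι, Category.assoc, hψ, q_mapY, Category.assoc, morphismRestrict_ι,
        reassoc_of% hl']
    rw [reassoc_of% this, hχ, reassoc_of% hll, Category.comp_id]
  have h2 : χ ≫ ψ = 𝟙 _ := by
    refine j.isAffQuot.hom_ext_open O ?_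
    rw [reassoc_of% hχ, Category.comp_id, ← cancel_mono O.ι, Category.assoc, Category.assoc, hψ,
      q_mapY, reassoc_of% hl, morphismRestrict_ι]
  have : IsIso ψ := ⟨χ, h1, h2⟩
  rw [← hψ]
  infer_instance

instance {i j : InvAff G} (f : i ⟶ j) : IsOpenImmersion ((diagram G).map f) :=
  isOpenImmersion_mapY _

lemma exists_invAff_le {u : G.U} {V : G.U.Opens}
    (hV : ∀ r : G.R, G.s r = u → G.t r ∈ V) (i : InvAff G) (hu : u ∈ i.1) :
    ∃ l : InvAff G, u ∈ l.1 ∧ l.1 ≤ V ∧ l ≤ i := by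
  obtain ⟨f, hf, hfO⟩ := exists_basicOpen_le_of_finite i.2.1 (U := i.1 ⊓ V)
    (O := G.t '' (G.s ⁻¹' {u})) ((G.s.finite_preimage_singleton u).image _)
    (by rintro _ ⟨r, hr, rfl⟩; exact ⟨i.t_mem.mpr (by rw [show G.s r = u from hr]; exact hu), hV r hr⟩)
    (by rintro _ ⟨r, hr, rfl⟩; exact i.t_mem.mpr (by rw [show G.s r = u from hr]; exact hu))
  obtain ⟨W, hW, huW, hle, hinv⟩ := exists_invariant_affine G (i.2.1.basicOpen f)
    (fun r hr => hfO ⟨r, hr, rfl⟩)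
  exact ⟨⟨W, hW, hinv⟩, huW, fun x hx => (hf (hle hx)).2, fun x hx => (hf (hle hx)).1⟩

instance : (diagram G ⋙ Scheme.forget).IsLocallyDirected := by
  constructor
  intro i j k fi fj xi xj hx
  obtain ⟨a, rfl⟩ := i.isAffQuot.surj xi
  obtain ⟨b, rfl⟩ := j.isAffQuot.surj xj
  change mapY (leOfHom fi) (i.q a) = mapY (leOfHom fj) (j.q b) at hx
  rw [q_apply_mapY, q_apply_mapY, InvAff.q_eq_iff] at hx
  have hbi : b.1 ∈ i.1 := by
    obtain ⟨r, hr₁, hr₂⟩ := hx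
    rw [← show G.s r = b.1 from hr₂]
    exact i.t_mem.mp (by rw [hr₁]; exact a.2)
  obtain ⟨l, hbl, hlj, hli⟩ := exists_invAff_le (V := j.1)
    (fun r hr => j.t_mem.mpr (by rw [hr]; exact b.2)) i hbi
  refine ⟨l, homOfLE hli, homOfLE hlj, l.q ⟨b.1, hbl⟩, ?_, ?_⟩
  · show mapY hli _ = _
    rw [q_apply_mapY, InvAff.q_eq_iff]
    exact (rel_equivalence G).symm hx
  · exact q_apply_mapY hlj _

variable (G) in
/-- The quotient. -/
noncomputable def quot : Scheme.{u} := colimit (diagram G)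

/-- The inclusion of an affine piece. -/
noncomputable def InvAff.incl (j : InvAff G) : j.Y ⟶ quot G := colimit.ι (diagram G) j

instance (j : InvAff G) : IsOpenImmersion j.incl :=
  inferInstanceAs (IsOpenImmersion (colimit.ι (diagram G) j))

@[reassoc]
lemma mapY_incl {i j : InvAff G} (h : i ≤ j) : mapY h ≫ j.incl = i.incl :=
  colimit.w (diagram G) (homOfLE h)

lemma incl_mapY_apply {i j : InvAff G} (h : i ≤ j) (z : i.Y) :
    j.incl (mapY h z) = i.incl z := by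
  rw [← Scheme.Hom.comp_apply, mapY_incl]

lemma incl_q_eq_iff (i j : InvAff G) (x : (i.1 : Scheme)) (y : (j.1 : Scheme)) :
    i.incl (i.q x) = j.incl (j.q y) ↔ Rel G x.1 y.1 := by
  constructor
  · intro h
    obtain ⟨k, fi, fj, z, hz₁, hz₂⟩ := (Scheme.IsLocallyDirected.ι_eq_ι_iff (diagram G)).mp h
    obtain ⟨z, rfl⟩ := k.isAffQuot.surj z
    change mapY (leOfHom fi) _ = _ at hz₁
    change mapY (leOfHom fj) _ = _ at hz₂
    rw [q_apply_mapY, InvAff.q_eq_iff] at hz₁ hz₂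
    exact (rel_equivalence G).trans ((rel_equivalence G).symm hz₁) hz₂
  · intro h
    have hyi : y.1 ∈ i.1 := by
      obtain ⟨r, hr₁, hr₂⟩ := h
      rw [← hr₂]; exact i.t_mem.mp (by rw [hr₁]; exact x.2)
    obtain ⟨l, hl, hlj, hli⟩ := exists_invAff_le (V := j.1)
      (fun r hr => j.t_mem.mpr (by rw [hr]; exact y.2)) i hyi
    have a1 := congrArg i.incl (q_apply_mapY hli (⟨y.1, hl⟩ : (l.1 : Scheme)))
    have a2 := congrArg j.incl (q_apply_mapY hlj (⟨y.1, hl⟩ : (l.1 : Scheme)))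
    rw [incl_mapY_apply] at a1 a2
    exact ((congrArg i.incl ((i.q_eq_iff x ⟨y.1, hyi⟩).mpr h)).trans a1.symm).trans a2

end Groth.Agent.GrpdLib
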