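import Groth.Agent.GrpdLib.FppfQuot
import Mathlib.CategoryTheory.Sites.RegularEpi

/-!
# Descending maps of sheaves along a covering of representables
-/

set_option autoImplicit false
set_option maxHeartbeats 400000

universe u

open CategoryTheory CategoryTheory.Limits AlgebraicGeometry

namespace Groth.Agent.GrpdLib

variable {K : Precoverage Scheme.{u}} {S : Scheme.{u}} {V W : Over S}

lemma repMap_comp {X Y Z : Over S} (f : X ⟶ Y) (g : Y ⟶ Z) :
    QuotSh.repMap K (f ≫ g) = QuotSh.repMap K f ≫ QuotSh.repMap K g := by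
  rw [QuotSh.repMap, QuotSh.repMap, QuotSh.repMap, Functor.map_comp, Functor.whiskerRight_comp,
    Functor.map_comp]

/-- Maps out of `h_V` which agree on pairs with one image in `W` descend to `h_W`. -/
lemma existsUnique_desc_repMap (k : V ⟶ W) (hk : Epi (QuotSh.repMap K k)) {F : QuotSh.Sh K S}
    (φ : QuotSh.rep K V ⟶ F)
    (hφ : ∀ (T : Over S) (a b : T ⟶ V), a ≫ k = b ≫ k →
      QuotSh.repMap K a ≫ φ = QuotSh.repMap K b ≫ φ) :
    ∃! σ : QuotSh.rep K W ⟶ F, φ = QuotSh.repMap K k ≫ σ := by
  let P : Over S := Over.mk (pullback.fst k.left k.left ≫ V.hom)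
  let a : P ⟶ V := Over.homMk (pullback.fst k.left k.left) rfl
  let b : P ⟶ V := Over.homMk (pullback.snd k.left k.left) (by
    show pullback.snd k.left k.left ≫ V.hom = pullback.fst k.left k.left ≫ V.hom
    rw [← Over.w k, ← Category.assoc, ← Category.assoc, ← pullback.condition])
  have hPab : IsPullback a b k k := by
    have : IsPullback ((Over.forget S).map a) ((Over.forget S).map b) ((Over.forget S).map k)
        ((Over.forget S).map k) := IsPullback.of_hasPullback k.left k.left
    exact IsPullback.of_map (Over.forget S) (Over.OverMorphism.ext pullback.condition) this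
  let F' : Over S ⥤ QuotSh.Sh K S := yoneda ⋙
    (Functor.whiskeringRight _ _ _).obj uliftFunctor.{u + 1, u} ⋙
      presheafToSheaf (QuotSh.J K S) (Type (u + 1))
  have hF : IsKernelPair (F'.map k) (F'.map a) (F'.map b) := hPab.map F'
  have : Epi (F'.map k) := hk
  have : IsRegularEpiCategory (Sheaf (QuotSh.J K S) (Type (u + 1))) := inferInstance
  have : IsRegularEpi (F'.map k) := IsRegularEpiCategory.regularEpiOfEpi _
  have hc := hF.toCoequalizer'
  have hcond : F'.map a ≫ φ = F'.map b ≫ φ := hφ P a b hPab.w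
  refine ⟨hc.desc (Cofork.ofπ φ hcond), (hc.fac (Cofork.ofπ φ hcond) WalkingParallelPair.one).symm,
    fun σ hσ => ?_⟩
  refine Cofork.IsColimit.hom_ext hc ?_
  exact hσ.symm.trans (hc.fac (Cofork.ofπ φ hcond) WalkingParallelPair.one).symm

end Groth.Agent.GrpdLib
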