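import Groth.Agent.GrpdLib.Norm
import Mathlib.RingTheory.QuasiFinite.Basic
import Mathlib.RingTheory.Ideal.GoingUp
import Mathlib.RingTheory.MvPolynomial.Basic
import Mathlib.RingTheory.TensorProduct.MvPolynomial
import Mathlib.RingTheory.Idempotents
import Mathlib.RingTheory.Flat.Basic

/-!
# The ring data of an affine groupoid with finite locally free source map

Rings `A` (objects), `B` (arrows), `B₂` (composable pairs) with `σ, τ : A ⟶ B`, `ε : B ⟶ A`, and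
the two pushout squares exhibiting `B₂` as `B ⊗_{σ,A,τ} B` and as the base change of `σ` along `σ`.
-/

universe u

open CategoryTheory Polynomial

namespace Groth.Agent.GrpdLib

/-- The ring data of an affine groupoid, `σ` being finite projective. -/
structure RingGrpd where
  A : CommRingCat.{u}
  B : CommRingCat.{u}
  B₂ : CommRingCat.{u}
  σ : A ⟶ B
  τ : A ⟶ B
  ε : B ⟶ A
  π₁ : B ⟶ B₂
  π₂ : B ⟶ B₂
  γ : B ⟶ B₂
  hfst : IsPushout τ σ π₂ π₁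
  hcomp : IsPushout σ σ π₂ γ
  σ_ε : σ ≫ ε = 𝟙 A
  τ_ε : τ ≫ ε = 𝟙 A
  τ_γ : τ ≫ γ = τ ≫ π₁
  pres : Nonempty (Pres σ.hom)

namespace RingGrpd

variable (D : RingGrpd.{u})

/-- A chosen presentation of `σ`. -/
noncomputable def P : Pres D.σ.hom := D.pres.some

/-- The invariant subring. -/
def invariants : Subring D.A := RingHom.eqLocus D.σ.hom D.τ.hom

/-- `Norm_σ (τ a)`. -/
noncomputable def nm (a : D.A) : D.A := D.P.norm (D.τ a)

lemma ε_σ (a : D.A) : D.ε (D.σ a) = a := congrArg (fun f => f.hom a) D.σ_ε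

lemma ε_τ (a : D.A) : D.ε (D.τ a) = a := congrArg (fun f => f.hom a) D.τ_ε

lemma exists_pres_square :
    ∃ P₁ P₂ : Pres D.π₂.hom, P₁.n = P₂.n ∧ ∀ a : D.A,
      P₁.norm (D.π₁ (D.τ a)) = D.τ (D.nm a) ∧ P₂.norm (D.π₁ (D.τ a)) = D.σ (D.nm a) ∧
      P₁.charpoly (D.π₁ (D.τ a)) = (D.P.charpoly (D.τ a)).map D.τ.hom ∧
      P₂.charpoly (D.π₁ (D.τ a)) = (D.P.charpoly (D.τ a)).map D.σ.hom := by
  obtain ⟨P₁, hn₁, hN₁, hc₁⟩ := exists_pres_baseChange D.hfst D.P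
  obtain ⟨P₂, hn₂, hN₂, hc₂⟩ := exists_pres_baseChange D.hcomp D.P
  refine ⟨P₁, P₂, hn₁.trans hn₂.symm, fun a => ⟨hN₁ _, ?_, hc₁ _, ?_⟩⟩
  all_goals rw [show D.π₁ (D.τ a) = D.γ (D.τ a) from (congrArg (fun f => f.hom a) D.τ_γ).symm]
  · exact hN₂ _
  · exact hc₂ _

lemma nm_mem (a : D.A) : D.nm a ∈ D.invariants := by
  obtain ⟨P₁, P₂, -, h⟩ := D.exists_pres_square
  exact ((h a).2.1.symm.trans (Pres.norm_eq _ _ _)).trans (h a).1

lemma coeff_charpoly_mem (a : D.A) (m : ℕ) :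
    (D.P.charpoly (D.τ a)).coeff m ∈ D.invariants := by
  obtain ⟨P₁, P₂, hn, h⟩ := D.exists_pres_square
  have := congrArg (fun q => q.coeff m)
    ((h a).2.2.2.symm.trans ((Pres.charpoly_eq _ _ hn.symm _).trans (h a).2.2.1))
  show D.σ.hom _ = D.τ.hom _
  simpa using this

lemma dvd_nm (a : D.A) : a ∣ D.nm a := by
  have := D.P.dvd_norm_of_retraction D.ε.hom D.ε_σ (D.τ a)
  rwa [D.ε_τ] at this

lemma isIntegral : Algebra.IsIntegral D.invariants D.A := by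
  refine ⟨fun a => ?_⟩
  have hlift : D.P.charpoly (D.τ a) ∈ Polynomial.lifts (algebraMap D.invariants D.A) := by
    rw [Polynomial.lifts_iff_coeff_lifts]
    exact fun m => ⟨⟨_, D.coeff_charpoly_mem a m⟩, rfl⟩
  obtain ⟨q, hq, -, hmon⟩ :=
    Polynomial.lifts_and_natDegree_eq_and_monic hlift (D.P.charpoly_monic _)
  refine ⟨q, hmon, ?_⟩
  have h := congrArg D.ε.hom (D.P.eval₂_charpoly (D.τ a))
  rw [Polynomial.hom_eval₂, map_zero, ← hq, Polynomial.eval₂_map] at h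
  simp only [D.ε_τ] at h
  rw [← h]
  congr 1
  ext c
  exact (D.ε_σ _).symm

lemma σ_finite : D.σ.hom.Finite := by
  algebraize [D.σ.hom]
  exact ⟨Submodule.fg_def.mpr ⟨Set.range D.P.e, Set.finite_range _, by
    rw [eq_top_iff]
    intro b _
    rw [← D.P.sum_coord b]
    exact sum_mem fun j _ => Submodule.smul_mem _ _ (Submodule.subset_span ⟨j, rfl⟩)⟩⟩

lemma finite_fibre (q : Ideal D.A) [q.IsPrime] :
    {Q : Ideal D.B | Q.IsPrime ∧ Q.comap D.σ.hom = q}.Finite := by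
  have := D.σ_finite
  algebraize [D.σ.hom]
  exact (Algebra.QuasiFinite.finite_primesOver (S := D.B) q).subset
    fun Q hQ => ⟨hQ.1, ⟨hQ.2.symm⟩⟩

/-- Two primes over the same prime of the invariants are the target and source of a prime of
arrows. -/
lemma exists_prime_of_comap_eq (q₀ q₁ : Ideal D.A) [q₀.IsPrime] [q₁.IsPrime]
    (h : q₀.comap D.invariants.subtype = q₁.comap D.invariants.subtype) :
    ∃ Q : Ideal D.B, Q.IsPrime ∧ Q.comap D.τ.hom = q₀ ∧ Q.comap D.σ.hom = q₁ := by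
  by_contra hne
  push Not at hne
  have hint := D.isIntegral
  have hfin := (D.finite_fibre q₁).image fun Q => Q.comap D.τ.hom
  have hp : ∀ Q ∈ hfin.toFinset, Q.IsPrime := by
    intro Q hQ
    obtain ⟨Q', hQ', rfl⟩ := (Set.Finite.mem_toFinset _).mp hQ
    exact hQ'.1.comap _
  obtain ⟨a, ha, hna⟩ : ∃ a ∈ q₀, ∀ Q ∈ hfin.toFinset, a ∉ Q := by
    by_contra hc
    push Not at hc
    obtain ⟨Q, hQ, hle⟩ := (Ideal.subset_union_prime (I := q₀) ⊥ ⊥ fun Q hQ _ _ => hp Q hQ).mp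
      (fun a ha => by
        obtain ⟨Q, hQ, haQ⟩ := hc a ha
        exact Set.mem_biUnion hQ haQ)
    obtain ⟨Q', ⟨hQ'p, hQ'q⟩, rfl⟩ := (Set.Finite.mem_toFinset _).mp hQ
    have := hp _ hQ
    refine hne Q' hQ'p ?_ hQ'q
    by_contra hneq
    have hlt : q₀ < Q'.comap D.τ.hom := lt_of_le_of_ne hle (Ne.symm hneq)
    refine (Ideal.IsIntegral.comap_lt_comap hlt (R := D.invariants)).ne ?_
    show q₀.comap D.invariants.subtype = (Q'.comap D.τ.hom).comap D.invariants.subtype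
    rw [h, ← hQ'q]
    ext c
    show D.σ.hom c.1 ∈ Q' ↔ D.τ.hom c.1 ∈ Q'
    rw [c.2]
  have hN : (⟨_, D.nm_mem a⟩ : D.invariants) ∈ q₁.comap D.invariants.subtype :=
    h ▸ q₀.mem_of_dvd (D.dvd_nm a) ha
  obtain ⟨Q, hQ, hQq, haQ⟩ := (D.P.exists_prime_iff_norm_mem q₁ (D.τ a)).mpr hN
  exact hna (Q.comap D.τ.hom) ((Set.Finite.mem_toFinset _).mpr ⟨Q, ⟨hQ, hQq⟩, rfl⟩) haQ

/-- Pushout squares are transported along base change. -/
lemma isPushout_transport {A A' B B' A₁ A'₁ B₁ B'₁ : CommRingCat.{u}} {φ : A ⟶ A'} {σ : A ⟶ B}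
    {σ' : A' ⟶ B'} {ψ : B ⟶ B'} (h : IsPushout φ σ σ' ψ) {fA : A ⟶ A₁} {fA' : A' ⟶ A'₁}
    {fB : B ⟶ B₁} {fB' : B' ⟶ B'₁} {φ₁ : A₁ ⟶ A'₁} {σ₁ : A₁ ⟶ B₁} {σ'₁ : A'₁ ⟶ B'₁}
    {ψ₁ : B₁ ⟶ B'₁} (h₁ : IsPushout fA σ σ₁ fB) (h₂ : IsPushout fA' σ' σ'₁ fB')
    (hφ : φ ≫ fA' = fA ≫ φ₁) (hψ : ψ ≫ fB' = fB ≫ ψ₁) (w : φ₁ ≫ σ'₁ = σ₁ ≫ ψ₁) :
    IsPushout φ₁ σ₁ σ'₁ ψ₁ := by
  have := h.paste_horiz h₂
  rw [hφ, hψ] at this
  exact IsPushout.of_left this w h₁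

section BaseChange

variable {A' B' B₂' : CommRingCat.{u}} (fA : D.A ⟶ A') (fB : D.B ⟶ B') (fB₂ : D.B₂ ⟶ B₂')
  (σ' τ' : A' ⟶ B') (ε' : B' ⟶ A') (π₁' π₂' γ' : B' ⟶ B₂')

/-- Base change of ring data, from a base change of all rings and maps. -/
@[simps] def ofBaseChange (hA : IsPushout fA D.σ σ' fB) (hB : IsPushout fB D.π₂ π₂' fB₂)
    (hτ : D.τ ≫ fB = fA ≫ τ') (h₁ : D.π₁ ≫ fB₂ = fB ≫ π₁') (hγ : D.γ ≫ fB₂ = fB ≫ γ')
    (w₁ : τ' ≫ π₂' = σ' ≫ π₁') (w₂ : σ' ≫ π₂' = σ' ≫ γ')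
    (hσε : σ' ≫ ε' = 𝟙 A') (hτε : τ' ≫ ε' = 𝟙 A') (hτγ : τ' ≫ γ' = τ' ≫ π₁') : RingGrpd.{u} where
  A := A'
  B := B'
  B₂ := B₂'
  σ := σ'
  τ := τ'
  ε := ε'
  π₁ := π₁'
  π₂ := π₂'
  γ := γ'
  hfst := isPushout_transport D.hfst hA hB hτ h₁ w₁
  hcomp := isPushout_transport D.hcomp hA hB hA.w.symm hγ w₂
  σ_ε := hσε
  τ_ε := hτε
  τ_γ := hτγ
  pres := ⟨(exists_pres_baseChange hA D.P).choose⟩

end BaseChange

/-- `MvPolynomial.map` as a morphism of `CommRingCat`. -/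
noncomputable def mvMap (ι : Type u) {R S : CommRingCat.{u}} (f : R ⟶ S) :
    CommRingCat.of (MvPolynomial ι R) ⟶ CommRingCat.of (MvPolynomial ι S) :=
  CommRingCat.ofHom (MvPolynomial.map f.hom)

/-- `MvPolynomial.C` as a morphism of `CommRingCat`. -/
noncomputable def mvC (ι : Type u) (R : CommRingCat.{u}) : R ⟶ CommRingCat.of (MvPolynomial ι R) :=
  CommRingCat.ofHom MvPolynomial.C

lemma mvMap_comp (ι : Type u) {R S T : CommRingCat.{u}} (f : R ⟶ S) (g : S ⟶ T) :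
    mvMap ι (f ≫ g) = mvMap ι f ≫ mvMap ι g := by
  ext : 1; exact RingHom.ext fun p => (MvPolynomial.map_map f.hom g.hom p).symm

lemma mvMap_id (ι : Type u) (R : CommRingCat.{u}) : mvMap ι (𝟙 R) = 𝟙 _ := by
  ext : 1; exact RingHom.ext MvPolynomial.map_id

lemma isPushout_mvMap (ι : Type u) {R S : CommRingCat.{u}} (f : R ⟶ S) :
    IsPushout (mvC ι R) f (mvMap ι f) (mvC ι S) := by
  algebraize [f.hom]
  let : Algebra (MvPolynomial ι R) (MvPolynomial ι S) := MvPolynomial.algebraMvPolynomial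
  exact CommRingCat.isPushout_of_isPushout R (MvPolynomial ι R) S (MvPolynomial ι S)

/-- The ring data with polynomial variables adjoined. -/
noncomputable def mv (ι : Type u) : RingGrpd.{u} :=
  D.ofBaseChange (mvC ι D.A) (mvC ι D.B) (mvC ι D.B₂) (mvMap ι D.σ) (mvMap ι D.τ) (mvMap ι D.ε)
    (mvMap ι D.π₁) (mvMap ι D.π₂) (mvMap ι D.γ) (isPushout_mvMap ι D.σ) (isPushout_mvMap ι D.π₂)
    (isPushout_mvMap ι D.τ).w.symm (isPushout_mvMap ι D.π₁).w.symm (isPushout_mvMap ι D.γ).w.symm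
    (by rw [← mvMap_comp, ← mvMap_comp, D.hfst.w]) (by rw [← mvMap_comp, ← mvMap_comp, D.hcomp.w])
    (by rw [← mvMap_comp, D.σ_ε, mvMap_id]) (by rw [← mvMap_comp, D.τ_ε, mvMap_id])
    (by rw [← mvMap_comp, ← mvMap_comp, D.τ_γ])

lemma coeff_mem_of_mem_mv {ι : Type u} {F : MvPolynomial ι D.A} (hF : F ∈ (D.mv ι).invariants)
    (d : ι →₀ ℕ) : F.coeff d ∈ D.invariants := by
  have := congrArg (MvPolynomial.coeff d) hF
  show D.σ.hom _ = D.τ.hom _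
  erw [MvPolynomial.coeff_map, MvPolynomial.coeff_map] at this
  exact this

end RingGrpd

end Groth.Agent.GrpdLib
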