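import Mathlib
import Groth.Agent.GrpdLib.Basic

/-!
# The diagonal of `j` is a base change of the identity section of the stabilizer
-/

set_option autoImplicit false
universe u

open CategoryTheory CategoryTheory.Limits AlgebraicGeometry

namespace Groth.Agent.GrpdLib.StabSep

variable {S : Scheme.{u}} (G : Grpd.GroupoidScheme S)

theorem eStab_toU : G.eStab ≫ G.stabilizerToU = 𝟙 G.U := pullback.lift_snd _ _ _

/-- The diagonal of `j` is a base change of `eStab`. -/
theorem exists_isPullback_diagonal : ∃ δ : pullback G.j G.j ⟶ G.stabilizer,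
    IsPullback (pullback.diagonal G.j) G.t δ G.eStab := by
  let a := pullback.fst G.j G.j
  let b := pullback.snd G.j G.j
  have hab : a ≫ G.j = b ≫ G.j := pullback.condition
  have ht : a ≫ G.t = b ≫ G.t := by
    simpa using congrArg (· ≫ pullback.fst G.pU G.pU) hab
  have hs : a ≫ G.s = b ≫ G.s := by
    simpa using congrArg (· ≫ pullback.snd G.pU G.pU) hab
  let d := comp G a (b ≫ G.i) (by simp [hs])
  have hd : d ≫ G.j = (a ≫ G.t) ≫ G.diag := by
    apply pullback.hom_ext <;> simp [d, ht]
  let δ : pullback G.j G.j ⟶ pullback G.j G.diag := pullback.lift d (a ≫ G.t) hd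
  have hδ₁ : δ ≫ pullback.fst G.j G.diag = d := pullback.lift_fst _ _ _
  have hδ₂ : δ ≫ pullback.snd G.j G.diag = a ≫ G.t := pullback.lift_snd _ _ _
  have he₁ : G.eStab ≫ pullback.fst G.j G.diag = G.e := pullback.lift_fst _ _ _
  have he₂ : G.eStab ≫ pullback.snd G.j G.diag = 𝟙 _ := pullback.lift_snd _ _ _
  have hΔa : pullback.diagonal G.j ≫ a = 𝟙 _ := pullback.diagonal_fst _
  have hΔb : pullback.diagonal G.j ≫ b = 𝟙 _ := pullback.diagonal_snd _
  have hw : pullback.diagonal G.j ≫ δ = G.t ≫ G.eStab := by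
    refine pullback.hom_ext ?_ ?_
    · refine ((Category.assoc _ _ _).trans (congrArg (pullback.diagonal G.j ≫ ·) hδ₁)).trans ?_
      refine Eq.trans ?_ ((Category.assoc _ _ _).trans (congrArg (G.t ≫ ·) he₁)).symm
      rw [naturality G]
      refine (comp_congr G _ (by simp) hΔa (by rw [reassoc_of% hΔb, Category.id_comp])).trans
        ((comp_i G (𝟙 G.R) (by simp)).trans (by simp))
    · refine ((Category.assoc _ _ _).trans (congrArg (pullback.diagonal G.j ≫ ·) hδ₂)).trans ?_
      refine Eq.trans ?_ ((Category.assoc _ _ _).trans (congrArg (G.t ≫ ·) he₂)).symm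
      rw [reassoc_of% hΔa, Category.comp_id]
  refine ⟨δ, ⟨⟨hw⟩, ⟨PullbackCone.IsLimit.mk _ (fun c => c.fst ≫ b) (fun c => ?_) (fun c => ?_)
    (fun c m hm₁ _ => ?_)⟩⟩⟩
  · have hc : c.fst ≫ δ = c.snd ≫ G.eStab := c.condition
    have h₁ : c.fst ≫ d = c.snd ≫ G.e :=
      (congrArg (c.fst ≫ ·) hδ₁.symm).trans ((Category.assoc _ _ _).symm.trans
        ((congrArg (· ≫ pullback.fst G.j G.diag) hc).trans
          ((Category.assoc _ _ _).trans (congrArg (c.snd ≫ ·) he₁))))
    have key : c.fst ≫ a = c.fst ≫ b := by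
      have h₂ := congrArg (c.fst ≫ ·) (comp_inv_cancel_right G a b hs)
      simp only [naturality] at h₂
      rw [← h₂]
      refine (comp_congr G _ ?_ ?_ rfl).trans (e_comp G (c.fst ≫ b) c.snd ?_)
      · have := congrArg (· ≫ G.s) h₁
        simp [d] at this
        simp [← this]
      · refine Eq.trans ?_ h₁
        rw [naturality G]
      · have := congrArg (· ≫ G.s) h₁
        simp [d] at this
        simp [← this]
    apply pullback.hom_ext
    · rw [Category.assoc, Category.assoc, hΔa, Category.comp_id]; exact key.symm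
    · rw [Category.assoc, Category.assoc, hΔb, Category.comp_id]
  · have hc : c.fst ≫ δ = c.snd ≫ G.eStab := c.condition
    have h₂ : c.fst ≫ a ≫ G.t = c.snd :=
      (congrArg (c.fst ≫ ·) hδ₂.symm).trans ((Category.assoc _ _ _).symm.trans
        ((congrArg (· ≫ pullback.snd G.j G.diag) hc).trans
          ((Category.assoc _ _ _).trans ((congrArg (c.snd ≫ ·) he₂).trans (Category.comp_id _)))))
    rwa [Category.assoc, ← ht]
  · rw [← hm₁, Category.assoc, hΔb, Category.comp_id]

theorem tfae (G : Grpd.GroupoidScheme S) :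
    ((IsSeparated G.j ↔ IsSeparated G.stabilizerToU) ∧
      (IsSeparated G.stabilizerToU ↔ IsClosedImmersion G.eStab)) ∧
    ((QuasiSeparated G.j ↔ QuasiSeparated G.stabilizerToU) ∧
      (QuasiSeparated G.stabilizerToU ↔ QuasiCompact G.eStab)) := by
  obtain ⟨δ, hδ⟩ := exists_isPullback_diagonal G
  have sq : IsPullback (pullback.fst G.j G.diag) G.stabilizerToU G.j G.diag :=
    IsPullback.of_hasPullback _ _
  have h12 : IsSeparated G.j → IsSeparated G.stabilizerToU := fun h =>
    MorphismProperty.of_isPullback (P := @IsSeparated) sq h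
  have h23 : IsSeparated G.stabilizerToU → IsClosedImmersion G.eStab := fun h => by
    have : IsClosedImmersion (G.eStab ≫ G.stabilizerToU) := by rw [eStab_toU]; infer_instance
    exact IsClosedImmersion.of_comp _ G.stabilizerToU
  have h31 : IsClosedImmersion G.eStab → IsSeparated G.j := fun h =>
    ⟨MorphismProperty.of_isPullback (P := @IsClosedImmersion) hδ.flip h⟩
  have k12 : QuasiSeparated G.j → QuasiSeparated G.stabilizerToU := fun h =>
    MorphismProperty.of_isPullback (P := @QuasiSeparated) sq h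
  have k23 : QuasiSeparated G.stabilizerToU → QuasiCompact G.eStab := fun h => by
    have : QuasiCompact (G.eStab ≫ G.stabilizerToU) := by rw [eStab_toU]; infer_instance
    exact QuasiCompact.of_comp _ G.stabilizerToU
  have k31 : QuasiCompact G.eStab → QuasiSeparated G.j := fun h =>
    ⟨MorphismProperty.of_isPullback (P := @QuasiCompact) hδ.flip h⟩
  exact ⟨⟨⟨h12, fun h => h31 (h23 h)⟩, h23, fun h => h12 (h31 h)⟩,
    ⟨k12, fun h => k31 (k23 h)⟩, k23, fun h => k12 (k31 h)⟩

end Groth.Agent.GrpdLib.StabSep
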