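import Groth.Agent.GrpdLib.Basic

/-!
# The groupoid on a stable monomorphism into the arrows
-/

universe u

set_option maxHeartbeats 400000

open CategoryTheory CategoryTheory.Limits AlgebraicGeometry

namespace Groth.Agent.GrpdLib

variable {S : Scheme.{u}} (G : Grpd.GroupoidScheme S) {P : Scheme.{u}} (ιP : P ⟶ G.R) [Mono ιP]
  (eP : G.U ⟶ P) (iP : P ⟶ P) (cP : pullback (ιP ≫ G.s) (ιP ≫ G.t) ⟶ P)
  (he : eP ≫ ιP = G.e) (hi : iP ≫ ιP = ιP ≫ G.i)
  (hc : cP ≫ ιP = pullback.map (ιP ≫ G.s) (ιP ≫ G.t) G.s G.t ιP ιP (𝟙 G.U) (Category.comp_id _)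
    (Category.comp_id _) ≫ G.c)

omit [Mono ιP] in
include hc in
lemma lift_cP {T : Scheme.{u}} (α β : T ⟶ P) (h : α ≫ ιP ≫ G.s = β ≫ ιP ≫ G.t) :
    (pullback.lift α β h ≫ cP) ≫ ιP =
      comp G (α ≫ ιP) (β ≫ ιP) (by simpa only [Category.assoc] using h) := by
  rw [Category.assoc, hc, ← Category.assoc, ← lift_c]
  congr 1
  apply pullback.hom_ext
  · rw [Category.assoc, pullback.lift_fst, pullback.lift_fst, pullback.lift_fst_assoc]
  · rw [Category.assoc, pullback.lift_snd, pullback.lift_snd, pullback.lift_snd_assoc]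

/-- The subgroupoid with arrows `P`. -/
noncomputable def subGrpd : Grpd.GroupoidScheme S where
  U := G.U
  R := P
  pU := G.pU
  pR := ιP ≫ G.pR
  s := ιP ≫ G.s
  t := ιP ≫ G.t
  e := eP
  i := iP
  c := cP
  s_over := by rw [Category.assoc, G.s_over]
  t_over := by rw [Category.assoc, G.t_over]
  comp_s := fun α β h => by
    rw [← Category.assoc, lift_cP G ιP cP hc α β h, comp_s, Category.assoc]
  comp_t := fun α β h => by
    rw [← Category.assoc, lift_cP G ιP cP hc α β h, comp_t, Category.assoc]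
  assoc := fun α β γ h₁ h₂ => by
    rw [← cancel_mono ιP]
    refine (lift_cP G ιP cP hc _ _ _).trans (Eq.trans ?_ (lift_cP G ιP cP hc _ _ _).symm)
    refine (comp_congr G _ ?_ (lift_cP G ιP cP hc α β h₁) rfl).trans
      ((comp_assoc G (α ≫ ιP) (β ≫ ιP) (γ ≫ ιP) (by simpa using h₁) (by simpa using h₂)).trans
        (comp_congr G _ _ rfl (lift_cP G ιP cP hc β γ h₂).symm))
    simpa using h₂
  e_s := by rw [reassoc_of% he, G.e_s]
  e_t := by rw [reassoc_of% he, G.e_t]
  comp_e := fun α => by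
    rw [← cancel_mono ιP, lift_cP G ιP cP hc]
    exact (comp_congr G _ (by simp) rfl (by simp [he])).trans
      (comp_e G (α ≫ ιP) ((α ≫ ιP) ≫ G.s) (by simp))
  e_comp := fun α => by
    rw [← cancel_mono ιP, lift_cP G ιP cP hc]
    exact (comp_congr G _ (by simp) (by simp [he]) rfl).trans
      (e_comp G (α ≫ ιP) ((α ≫ ιP) ≫ G.t) (by simp))
  i_s := by rw [reassoc_of% hi, G.i_s]
  i_t := by rw [reassoc_of% hi, G.i_t]
  comp_i := fun α => by
    rw [← cancel_mono ιP, lift_cP G ιP cP hc]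
    refine (comp_congr G _ (by simp) rfl (by simp [hi])).trans
      ((comp_i G (α ≫ ιP) (by simp)).trans ?_)
    simp [he]
  i_comp := fun α => by
    rw [← cancel_mono ιP, lift_cP G ιP cP hc]
    refine (comp_congr G _ (by simp) (by simp [hi]) rfl).trans
      ((i_comp G (α ≫ ιP) (by simp)).trans ?_)
    simp [he]

end Groth.Agent.GrpdLib
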