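import Mathlib
import Groth.Agent.GrpdLib.Descend
import Groth.Agent.SGA1Misc.IdealDesc

/-!
# fpqc descent of subobjects (closed and open subschemes)

Descent of inclusions, closed subschemes (through ideal sheaves) and open subschemes.
-/

set_option autoImplicit false
universe u

open CategoryTheory CategoryTheory.Limits AlgebraicGeometry

namespace Groth.Agent.GrpdLib.SubobjDescent

/-- Inclusions of subobjects descend along fpqc covers. -/
theorem le_of_pullback_le {X X' : Scheme.{u}} {π : X ⟶ X'} (hπ : IsFpqcCov π)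
    {A B : Subobject X'} (h : (Subobject.pullback π).obj A ≤ (Subobject.pullback π).obj B) :
    A ≤ B := by
  rw [Subobject.pullback_obj, Subobject.pullback_obj] at h
  let φ := Subobject.ofMkLEMk _ _ h
  have hφ : φ ≫ pullback.snd B.arrow π = pullback.snd A.arrow π :=
    Subobject.ofMkLEMk_comp h
  obtain ⟨g, hg⟩ : ∃ g : pullback A.arrow π ⟶ (B : Scheme.{u}),
      g ≫ B.arrow = pullback.fst A.arrow π ≫ A.arrow :=
    ⟨φ ≫ pullback.fst B.arrow π, by
      rw [Category.assoc, pullback.condition, reassoc_of% hφ, pullback.condition]⟩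
  obtain ⟨k, hk⟩ := (hπ.fst A.arrow).exists_desc g fun {W} g₁ g₂ e => by
    rw [← cancel_mono B.arrow, Category.assoc, Category.assoc, hg, reassoc_of% e]
  refine Subobject.le_of_comm k ((hπ.fst A.arrow).hom_ext ?_)
  rw [← Category.assoc, hk, hg]

/-- Subobjects are determined by their inverse image along an fpqc cover. -/
theorem pullback_injective {X X' : Scheme.{u}} {π : X ⟶ X'} (hπ : IsFpqcCov π) :
    Function.Injective (Subobject.pullback π).obj := fun _ _ h =>
  le_antisymm (le_of_pullback_le hπ h.le) (le_of_pullback_le hπ h.ge)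

theorem isClosedImmersion_mk_arrow {Z X : Scheme.{u}} (i : Z ⟶ X) [Mono i]
    [IsClosedImmersion i] : IsClosedImmersion (Subobject.mk i).arrow := by
  rw [← Subobject.underlyingIso_hom_comp_eq_mk i]
  infer_instance

theorem isOpenImmersion_mk_arrow {Z X : Scheme.{u}} (i : Z ⟶ X) [Mono i]
    [IsOpenImmersion i] : IsOpenImmersion (Subobject.mk i).arrow := by
  rw [← Subobject.underlyingIso_hom_comp_eq_mk i]
  infer_instance

theorem isClosedImmersion_pullback_arrow {X Y : Scheme.{u}} (f : X ⟶ Y) (A : Subobject Y)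
    (hA : IsClosedImmersion A.arrow) :
    IsClosedImmersion ((Subobject.pullback f).obj A).arrow := by
  rw [Subobject.pullback_obj]
  exact isClosedImmersion_mk_arrow _

theorem isOpenImmersion_pullback_arrow {X Y : Scheme.{u}} (f : X ⟶ Y) (A : Subobject Y)
    (hA : IsOpenImmersion A.arrow) :
    IsOpenImmersion ((Subobject.pullback f).obj A).arrow := by
  rw [Subobject.pullback_obj]
  exact isOpenImmersion_mk_arrow _

theorem pullback_stable {X X' : Scheme.{u}} (π : X ⟶ X') (A : Subobject X') :
    (Subobject.pullback (pullback.fst π π)).obj ((Subobject.pullback π).obj A) =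
      (Subobject.pullback (pullback.snd π π)).obj ((Subobject.pullback π).obj A) := by
  rw [← Subobject.pullback_comp, ← Subobject.pullback_comp, pullback.condition]

theorem ker_mk_arrow {Z X : Scheme.{u}} (i : Z ⟶ X) [Mono i] :
    (Subobject.mk i).arrow.ker = i.ker := by
  rw [← Subobject.underlyingIso_hom_comp_eq_mk i, Scheme.Hom.ker_comp_of_isIso]

theorem ker_pullback_arrow {X Y : Scheme.{u}} (f : X ⟶ Y) (A : Subobject Y)
    (hA : IsClosedImmersion A.arrow) :
    ((Subobject.pullback f).obj A).arrow.ker = A.arrow.ker.comap f := by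
  rw [Subobject.pullback_obj, ker_mk_arrow, ← Scheme.IdealSheafData.ker_fst_of_isClosedImmersion,
    ← pullbackSymmetry_hom_comp_fst A.arrow f, Scheme.Hom.ker_comp_of_isIso]

theorem le_of_ker_le {X : Scheme.{u}} {A B : Subobject X} (hB : IsClosedImmersion B.arrow)
    (h : B.arrow.ker ≤ A.arrow.ker) : A ≤ B :=
  Subobject.le_of_comm (IsClosedImmersion.lift B.arrow A.arrow h)
    (IsClosedImmersion.lift_fac _ _ _)

theorem eq_of_ker_eq {X : Scheme.{u}} {A B : Subobject X} (hA : IsClosedImmersion A.arrow)
    (hB : IsClosedImmersion B.arrow) (h : A.arrow.ker = B.arrow.ker) : A = B :=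
  le_antisymm (le_of_ker_le hB h.ge) (le_of_ker_le hA h.le)

theorem range_mk_arrow {Z X : Scheme.{u}} (i : Z ⟶ X) [Mono i] :
    Set.range (Subobject.mk i).arrow = Set.range i := by
  rw [← Subobject.underlyingIso_hom_comp_eq_mk i, Scheme.Hom.comp_base, TopCat.coe_comp,
    Set.range_comp, Set.range_eq_univ.2 (Subobject.underlyingIso i).hom.surjective, Set.image_univ]

theorem range_pullback_arrow {X Y : Scheme.{u}} (f : X ⟶ Y) (A : Subobject Y) :
    Set.range ((Subobject.pullback f).obj A).arrow = f ⁻¹' Set.range A.arrow := by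
  rw [Subobject.pullback_obj, range_mk_arrow, Scheme.Pullback.range_snd]

theorem eq_of_range_eq {X : Scheme.{u}} {A B : Subobject X} (hA : IsOpenImmersion A.arrow)
    (hB : IsOpenImmersion B.arrow) (h : Set.range A.arrow = Set.range B.arrow) : A = B :=
  le_antisymm (Subobject.le_of_comm (IsOpenImmersion.lift B.arrow A.arrow h.le)
      (IsOpenImmersion.lift_fac _ _ _))
    (Subobject.le_of_comm (IsOpenImmersion.lift A.arrow B.arrow h.ge)
      (IsOpenImmersion.lift_fac _ _ _))

/-- Closed subschemes descend along fpqc covers. -/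
theorem closed_bijOn {X X' : Scheme.{u}} (π : X ⟶ X')
    [Flat π] [Surjective π] [QuasiCompact π] :
    Set.BijOn (Subobject.pullback π).obj
      {Y' : Subobject X' | IsClosedImmersion Y'.arrow}
      {Y : Subobject X | IsClosedImmersion Y.arrow ∧
        (Subobject.pullback (pullback.fst π π)).obj Y =
          (Subobject.pullback (pullback.snd π π)).obj Y} := by
  refine ⟨fun A hA => ⟨isClosedImmersion_pullback_arrow π A hA, pullback_stable π A⟩,
    (pullback_injective ⟨inferInstance, inferInstance, inferInstance⟩).injOn, ?_⟩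
  rintro Y ⟨hY, hst⟩
  have e := congrArg (fun Z => Z.arrow.ker) hst
  simp only [ker_pullback_arrow _ _ hY] at e
  have hJ := SGA1Misc.exists_comap_eq π Y.arrow.ker e
  refine ⟨Subobject.mk (Y.arrow.ker.map π).subschemeι, isClosedImmersion_mk_arrow _, ?_⟩
  refine eq_of_ker_eq (isClosedImmersion_pullback_arrow π _ (isClosedImmersion_mk_arrow _)) hY ?_
  rw [ker_pullback_arrow _ _ (isClosedImmersion_mk_arrow _), ker_mk_arrow,
    Scheme.IdealSheafData.ker_subschemeι, hJ]

theorem preimage_image_eq_of_stable {X X' : Scheme.{u}} (π : X ⟶ X') (O : Set X)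
    (h : pullback.fst π π ⁻¹' O = pullback.snd π π ⁻¹' O) : π ⁻¹' (π '' O) = O := by
  refine Set.Subset.antisymm ?_ (Set.subset_preimage_image _ _)
  rintro x ⟨y, hy, e⟩
  obtain ⟨z, rfl, h₂⟩ := Scheme.Pullback.exists_preimage_pullback (f := π) (g := π) x y e.symm
  have : z ∈ pullback.snd π π ⁻¹' O := by rwa [Set.mem_preimage, h₂]
  rwa [← h] at this

/-- Open subschemes descend along fpqc covers. -/
theorem open_bijOn {X X' : Scheme.{u}} (π : X ⟶ X')
    [Flat π] [Surjective π] [QuasiCompact π] :
    Set.BijOn (Subobject.pullback π).obj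
      {Y' : Subobject X' | IsOpenImmersion Y'.arrow}
      {Y : Subobject X | IsOpenImmersion Y.arrow ∧
        (Subobject.pullback (pullback.fst π π)).obj Y =
          (Subobject.pullback (pullback.snd π π)).obj Y} := by
  refine ⟨fun A hA => ⟨isOpenImmersion_pullback_arrow π A hA, pullback_stable π A⟩,
    (pullback_injective ⟨inferInstance, inferInstance, inferInstance⟩).injOn, ?_⟩
  rintro Y ⟨hY, hst⟩
  have e := congrArg (fun Z => Set.range Z.arrow) hst
  simp only [range_pullback_arrow] at e
  have hO := preimage_image_eq_of_stable π _ e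
  have hopen : IsOpen (π '' Set.range Y.arrow) :=
    (Flat.isQuotientMap_of_surjective π).isOpen_preimage.1
      (hO.symm ▸ Y.arrow.isOpenEmbedding.isOpen_range)
  let U : X'.Opens := ⟨_, hopen⟩
  refine ⟨Subobject.mk U.ι, isOpenImmersion_mk_arrow _, ?_⟩
  refine eq_of_range_eq (isOpenImmersion_pullback_arrow π _ (isOpenImmersion_mk_arrow _)) hY ?_
  rw [range_pullback_arrow, range_mk_arrow, Scheme.Opens.range_ι]
  exact hO

end Groth.Agent.GrpdLib.SubobjDescent
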