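import Groth.Agent.GrpdLib.FittingStrat
import Groth.Agent.GrpdLib.GenericNorm

/-!
# Invariant affine neighbourhoods with a locally free thickening around generic orbits
-/

set_option autoImplicit false
set_option linter.style.haveILetI false
set_option maxHeartbeats 400000
set_option backward.isDefEq.respectTransparency false
set_option backward.isDefEq.respectTransparency.types false

universe u

open CategoryTheory CategoryTheory.Limits AlgebraicGeometry TopologicalSpace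

namespace Groth.Agent.GrpdLib.ThickAffine

/-- Finitely many maximal points of a quasi-separated scheme lie in an affine open. -/
lemma exists_affine_of_maximal {X : Scheme.{u}} [QuasiSeparatedSpace X] {T : Set X} (hT : T.Finite)
    (N : X.Opens) (hTN : T ⊆ N) (hmax : ∀ x ∈ T, ∀ w, w ⤳ x → w = x) :
    ∃ A : X.Opens, IsAffineOpen A ∧ T ⊆ A ∧ A ≤ N := by
  induction T, hT using Set.Finite.induction_on with
  | empty => exact ⟨⊥, isAffineOpen_bot X, Set.empty_subset _, bot_le⟩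
  | @insert x T _ _ ih =>
    obtain ⟨A, hA, hTA, hAN⟩ := ih ((Set.subset_insert x T).trans hTN)
      fun y hy => hmax y (Set.mem_insert_of_mem x hy)
    by_cases hxA : x ∈ A
    · exact ⟨A, hA, Set.insert_subset_iff.2 ⟨hxA, hTA⟩, hAN⟩
    obtain ⟨B, hxB, hBN⟩ := IdealSh.Comap.exists_affine_le x N (hTN (Set.mem_insert x T))
    have hx : x ∉ closure (A : Set X) := by
      classical
      let B' := B.2.fromSpec
      have hK' : IsCompact (B' ⁻¹' (A : Set X)) := by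
        rw [B'.isOpenEmbedding.isEmbedding.isCompact_iff, Set.image_preimage_eq_inter_range,
          B.2.range_fromSpec]
        exact hA.isCompact.inter_of_isOpen B.2.isCompact A.isOpen B.1.isOpen
      obtain ⟨J, ⟨T', hT'⟩, hJA⟩ :=
        PrimeSpectrum.isCompact_isOpen_iff_ideal.1 ⟨hK', A.isOpen.preimage B'.continuous⟩
      let q₀ := B.2.primeIdealOf ⟨x, hxB⟩
      have hq₀ : B' q₀ = x := B.2.fromSpec_primeIdealOf _
      have hp : ∀ q : Ideal Γ(X, B.1), q.IsPrime → q ≤ q₀.asIdeal → q = q₀.asIdeal := fun q hq hle => by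
        have h1 : B' ⟨q, hq⟩ ⤳ x := hq₀ ▸
          ((PrimeSpectrum.le_iff_specializes (⟨q, hq⟩ : PrimeSpectrum Γ(X, B.1)) q₀).1 hle).map
            B'.continuous
        exact congrArg PrimeSpectrum.asIdeal
          (B'.isOpenEmbedding.injective ((hmax x (Set.mem_insert x T) _ h1).trans hq₀.symm))
      have hTp : ∀ g ∈ T', g ∈ q₀.asIdeal := fun g hg => by
        by_contra hgp
        have : q₀ ∈ B' ⁻¹' (A : Set X) := by
          rw [← hJA]
          exact fun h => hgp (h (hT' ▸ Ideal.subset_span hg))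
        exact hxA (hq₀ ▸ this)
      choose! a ha n hn using fun g (hg : g ∈ T') => FittingStrat.exists_mul_pow_eq_zero _ hp (hTp g hg)
      let O : Set (PrimeSpectrum Γ(X, B.1)) := {q | ∏ g ∈ T', a g ∉ q.asIdeal}
      have hO : IsOpen (B' '' O) := B'.isOpenEmbedding.isOpenMap _
        (PrimeSpectrum.basicOpen (∏ g ∈ T', a g)).isOpen
      rw [mem_closure_iff]
      intro h
      obtain ⟨_, ⟨q, hq, rfl⟩, hqA⟩ := h _ hO ⟨q₀, fun hp' => by
        obtain ⟨g, hg, hga⟩ := (Ideal.IsPrime.prod_mem_iff (p := q₀.asIdeal)).1 hp'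
        exact ha g hg hga, hq₀⟩
      have hqA' : q ∈ B' ⁻¹' (A : Set X) := hqA
      rw [← hJA] at hqA'
      refine hqA' ((PrimeSpectrum.mem_zeroLocus _ _).2 fun f hf => ?_)
      refine (hT' ▸ Ideal.span_le.2 fun g hg => ?_ : J ≤ q.asIdeal) hf
      have h4 : a g * g ^ n g ∈ q.asIdeal := by rw [hn g hg]; exact zero_mem _
      exact Ideal.IsPrime.mem_of_pow_mem inferInstance _ ((Ideal.IsPrime.mem_or_mem inferInstance h4).resolve_left
        fun h => hq (Ideal.IsPrime.prod_mem_iff.2 ⟨g, hg, h⟩))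
    obtain ⟨A', hxA', hA'⟩ := IdealSh.Comap.exists_affine_le x
      (B.1 ⊓ ⟨(closure (A : Set X))ᶜ, isClosed_closure.isOpen_compl⟩) ⟨hxB, hx⟩
    refine ⟨A ⊔ A'.1, hA.sup_of_disjoint A'.2 (disjoint_iff_inf_le.2 fun y hy =>
      (hA' hy.2).2 (subset_closure hy.1)), ?_, sup_le hAN (fun y hy => hBN (hA' hy).1)⟩
    exact Set.insert_subset_iff.2 ⟨Or.inr hxA', fun y hy => Or.inl (hTA hy)⟩

/-- An invariant affine open inside an invariant open around generic orbits. -/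
theorem exists_invariant_affine {S : Scheme.{u}} (G : Grpd.GroupoidScheme S) [IsFinite G.s]
    [LocallyOfFinitePresentation G.s] [QuasiSeparatedSpace G.U] {T : Set G.U} (hT : T.Finite)
    (hgen : ∀ y ∈ T, ∀ r : G.R, G.s r = y → ∀ x : G.U, x ⤳ G.t r → x = G.t r)
    (W : G.U.Opens) (hW : G.s ⁻¹ᵁ W = G.t ⁻¹ᵁ W) (hTW : T ⊆ W) :
    ∃ V : G.U.Opens, IsAffineOpen V ∧ T ⊆ V ∧ V ≤ W ∧ G.s ⁻¹ᵁ V = G.t ⁻¹ᵁ V := by
  obtain ⟨N₀, hN₀, hflat⟩ := GenericNorm.exists_flat_nhd G.s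
  have hrel := rel_equivalence G
  let O : Set G.U := G.t '' (G.s ⁻¹' T)
  have hO : O.Finite := by
    refine Set.Finite.image _ ?_
    rw [← Set.biUnion_of_singleton T, Set.preimage_iUnion₂]
    exact hT.biUnion fun y _ => G.s.finite_preimage_singleton y
  have hOmax : ∀ x ∈ O, ∀ w, w ⤳ x → w = x := by
    rintro _ ⟨r, hr, rfl⟩; exact hgen _ hr r rfl
  have hOW : O ⊆ W := by
    rintro _ ⟨r, hr, rfl⟩
    have h1 : r ∈ G.s ⁻¹ᵁ W := hTW hr
    rw [hW] at h1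
    exact h1
  obtain ⟨A, hA, hOA, hAW⟩ := exists_affine_of_maximal hO W hOW hOmax
  -- the points whose orbit lies in `A`
  let W₀ : G.U.Opens := ⟨(G.t '' (G.s ⁻¹' (A : Set G.U)ᶜ))ᶜ,
    (isClosedMap_t G _ (A.isOpen.isClosed_compl.preimage G.s.continuous)).isOpen_compl⟩
  have hW₀ : ∀ x, x ∈ W₀ ↔ ∀ r : G.R, G.t r = x → G.s r ∈ A := fun x =>
    ⟨fun h r hr => by_contra fun hc => h ⟨r, hc, hr⟩, fun h ⟨r, hc, hr⟩ => hc (h r hr)⟩
  have hOW₀ : O ⊆ W₀ := by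
    rintro _ ⟨r, hr, rfl⟩
    refine (hW₀ _).mpr fun r' hr' => ?_
    obtain ⟨m, hm₁, hm₂⟩ : Rel G (G.s r') (G.s r) :=
      hrel.trans (hrel.symm ⟨r', rfl, rfl⟩) ⟨r, hr'.symm, rfl⟩
    rw [← hm₁]
    exact hOA ⟨m, show G.s m ∈ T by rw [hm₂]; exact hr, rfl⟩
  obtain ⟨f, hfN, hfO⟩ := exists_basicOpen_le_of_finite hA hO (U := W₀ ⊓ N₀)
    (fun x hx => ⟨hOW₀ hx, hN₀ x (hOmax x hx)⟩) hOA
  let W₁ := G.U.basicOpen f
  have hW₁' : IsAffine W₁.toScheme := hA.basicOpen f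
  let ι := G.U.nilradical.subschemeι
  let g := pullback.snd G.s ι
  let Y : G.U.nilradical.subscheme.Opens := ι ⁻¹ᵁ W₁
  have hYa : IsAffineOpen Y := (hA.basicOpen f).preimage ι
  have hY : IsAffine Y.toScheme := hYa
  have hX : IsAffine (g ⁻¹ᵁ Y).toScheme := hYa.preimage g
  have : IsFinite g := inferInstance
  have : LocallyOfFinitePresentation g := inferInstance
  have : Flat (g ∣_ Y) := by
    have e : Y ≤ ι ⁻¹ᵁ N₀ := fun y hy => (hfN hy).2
    let m : (g ⁻¹ᵁ Y).toScheme ⟶ (g ⁻¹ᵁ (ι ⁻¹ᵁ N₀)).toScheme :=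
      (pullback G.s ι).homOfLE (g.preimage_mono e)
    have : Flat (g ∣_ (ι ⁻¹ᵁ N₀)) := hflat
    have h : IsPullback m (g ∣_ Y) (g ∣_ (ι ⁻¹ᵁ N₀)) (G.U.nilradical.subscheme.homOfLE e) := by
      refine IsPullback.of_right ?_ ?_ (isPullback_morphismRestrict g (ι ⁻¹ᵁ N₀)).flip
      · simpa [m] using (isPullback_morphismRestrict g Y).flip
      · rw [← cancel_mono (ι ⁻¹ᵁ N₀).ι]; simp [m]
    exact MorphismProperty.of_isPullback h ‹Flat (g ∣_ (ι ⁻¹ᵁ N₀))›
  obtain ⟨P⟩ := nonempty_pres (g ∣_ Y)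
  let k : (g ⁻¹ᵁ Y).toScheme ⟶ G.U := (g ⁻¹ᵁ Y).ι ≫ pullback.fst G.s ι ≫ G.t
  have hk : ∀ q, G.s (pullback.fst G.s ι q) = ι (g q) := fun q => by
    rw [← Scheme.Hom.comp_apply, pullback.condition, Scheme.Hom.comp_apply]
  have hkA : (⊤ : (g ⁻¹ᵁ Y).toScheme.Opens) ≤ k ⁻¹ᵁ A := fun q _ => by
    have h1 := (hW₀ _).mp (hfN q.2).1 (G.i (pullback.fst G.s ι q.1))
      ((t_i_apply G _).trans (hk q.1))
    rwa [s_i_apply] at h1
  let a : Γ((g ⁻¹ᵁ Y).toScheme, ⊤) := k.appLE A ⊤ hkA f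
  have ha : ∀ x, x ∈ (g ⁻¹ᵁ Y).toScheme.basicOpen a ↔ k x ∈ W₁ := fun x => by
    simp only [a, Scheme.Hom.appLE, CommRingCat.comp_apply, Scheme.basicOpen_res,
      ← Scheme.preimage_basicOpen, TopologicalSpace.Opens.mem_inf, TopologicalSpace.Opens.mem_top,
      true_and]
    rfl
  let c : Y.toScheme ⟶ W₁.toScheme := ι ∣_ W₁
  have hc : IsClosedImmersion c := IsZariskiLocalAtTarget.restrict (inferInstanceAs (IsClosedImmersion ι)) W₁
  obtain ⟨z, hz⟩ := ((HasAffineProperty.iff_of_isAffine (P := @IsClosedImmersion)).1 hc).2 (P.norm a)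
  let V : G.U.Opens := W₁.ι ''ᵁ W₁.toScheme.basicOpen z
  have hcy : ∀ y : Y.toScheme, W₁.ι (c y) = ι y.1 := fun y => by
    rw [← Scheme.Hom.comp_apply, morphismRestrict_ι]; rfl
  have hnorm : ∀ y : Y.toScheme, y ∈ Y.toScheme.basicOpen (P.norm a) ↔ ι y.1 ∈ V := fun y => by
    rw [← hz, show (c.appTop.hom z) = c.appTop z from rfl, ← Scheme.preimage_basicOpen_top c z]
    show c y ∈ W₁.toScheme.basicOpen z ↔ _
    rw [← hcy]
    exact ⟨fun h => ⟨_, h, rfl⟩, fun ⟨w, hw, e⟩ => W₁.ι.isOpenEmbedding.injective e ▸ hw⟩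
  have hmem : ∀ x : G.U, x ∈ V ↔ x ∈ W₁ ∧ ∀ r : G.R, G.s r = x → G.t r ∈ W₁ := fun x => by
    obtain ⟨y₀, rfl⟩ := GenericNorm.surjective_redι G.U x
    have key : ∀ hy : ι y₀ ∈ W₁, (ι y₀ ∈ V ↔ ∀ r : G.R, G.s r = ι y₀ → G.t r ∈ W₁) := fun hy => by
      refine (hnorm ⟨y₀, hy⟩).symm.trans ((mem_basicOpen_norm_iff _ P a _).trans ?_)
      constructor
      · intro h r hr
        obtain ⟨q, hq₁, hq₂⟩ := Scheme.Pullback.exists_preimage_pullback (f := G.s) (g := ι) r y₀ hr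
        have hq : q ∈ g ⁻¹ᵁ Y := show g q ∈ Y by rw [show g q = y₀ from hq₂]; exact hy
        have := (ha ⟨q, hq⟩).1 (h ⟨q, hq⟩ (Y.ι.isOpenEmbedding.injective (by
          rw [← Scheme.Hom.comp_apply, morphismRestrict_ι]
          exact hq₂)))
        rw [← hq₁]
        exact this
      · intro h q hq
        refine (ha q).2 (h (pullback.fst G.s ι q.1) ((hk q.1).trans (congrArg ι ?_)))
        have := congrArg Y.ι hq
        rw [← Scheme.Hom.comp_apply, morphismRestrict_ι] at this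
        exact this
    constructor
    · intro hx
      have hy : ι y₀ ∈ W₁ := by
        obtain ⟨w, -, hw⟩ := hx
        exact hw ▸ w.2
      exact ⟨hy, (key hy).1 hx⟩
    · rintro ⟨hy, h⟩
      exact (key hy).2 h
  have hinv : ∀ x y : G.U, Rel G x y → x ∈ V → y ∈ V := by
    intro x y hxy hx
    have horb : ∀ z, Rel G z y → z ∈ W₁ := fun z hz => by
      obtain ⟨r, hr₁, hr₂⟩ := hrel.trans hz (hrel.symm hxy)
      rw [← hr₁]; exact ((hmem x).mp hx).2 r hr₂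
    exact (hmem y).mpr ⟨horb y (hrel.refl y), fun r hr => horb _ ⟨r, rfl, hr⟩⟩
  refine ⟨V, ((isAffineOpen_top W₁.toScheme).basicOpen z).image_of_isOpenImmersion W₁.ι,
    fun y hy => (hmem y).2 ⟨hfO ⟨G.e y, show G.s (G.e y) ∈ T by rwa [s_e_apply], t_e_apply G y⟩,
      fun r hr => hfO ⟨r, show G.s r ∈ T by rwa [hr], rfl⟩⟩,
    fun x hx => hAW (G.U.basicOpen_le f ((hmem x).1 hx).1), ?_⟩
  ext r
  exact ⟨fun h => hinv _ _ (hrel.symm ⟨r, rfl, rfl⟩) h, fun h => hinv _ _ ⟨r, rfl, rfl⟩ h⟩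

/-- An invariant affine open with a locally free thickening. -/
theorem exists_affine_thickening {S : Scheme.{u}} (G : Grpd.GroupoidScheme S) [IsFinite G.s]
    [LocallyOfFinitePresentation G.s] [QuasiSeparatedSpace G.U] (m : ℕ) (u : Fin m → G.U)
    (hu : ∀ i (r : G.R), G.s r = u i → ∀ x : G.U, x ⤳ G.t r → x = G.t r) :
    ∃ (V : G.U.Opens) (V' : (↑V : Scheme.{u}).IdealSheafData), IsAffineOpen V ∧ (∀ i, u i ∈ V) ∧
      G.s ⁻¹ᵁ V = G.t ⁻¹ᵁ V ∧ V'.support = ⊤ ∧ LocallyOfFinitePresentation V'.subschemeι ∧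
      (∃ φ : pullback G.s (V'.subschemeι ≫ V.ι) ≅ pullback G.t (V'.subschemeι ≫ V.ι),
        φ.hom ≫ pullback.fst G.t (V'.subschemeι ≫ V.ι) = pullback.fst G.s (V'.subschemeι ≫ V.ι)) ∧
      Mor2.IsFinLocFree (pullback.snd G.s (V'.subschemeι ≫ V.ι)) ∧
      Mor2.IsFinLocFree (pullback.snd G.t (V'.subschemeι ≫ V.ι)) := by
  obtain ⟨V, hV, hTV, hVW, hinv⟩ := exists_invariant_affine G (Set.finite_range u)
    (by rintro _ ⟨i, rfl⟩; exact hu i) (FittingStrat.W G) (FittingStrat.W_invariant G)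
    (by rintro _ ⟨i, rfl⟩; exact FittingStrat.mem_W_of_maximal G _ (hu i))
  obtain ⟨V', h1, h2, h3, h4, h5⟩ := FittingStrat.exists_thickening_of G V hinv hVW
  exact ⟨V, V', hV, fun i => hTV ⟨i, rfl⟩, hinv, h1, h5 inferInstance, h2, h3, h4⟩

end Groth.Agent.GrpdLib.ThickAffine
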