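import Groth.Prelude.Def_Grpd
import Groth.Prelude.Def_MoreMor
import Groth.Prelude.Def_AlgSpInf
import Groth.Agent.GrpdLib.EffQuot
import Groth.Agent.AlgSp.FppfLocal
import Groth.Agent.AlgSp.FppfLocal2
import Groth.Agent.Topos.Sheaf
import Groth.Agent.S10103
import Groth.Agent.S10584

/-!
# Quotients by groupoids which are thickenings of groupoids with a quotient
-/

set_option autoImplicit false
set_option maxHeartbeats 400000
set_option backward.isDefEq.respectTransparency false
set_option backward.isDefEq.respectTransparency.types false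

universe u

open CategoryTheory CategoryTheory.Limits AlgebraicGeometry

namespace Groth.Agent.GrpdLib.ThickQuot

section Grpd

variable {S : Scheme.{u}} (G : Grpd.GroupoidScheme S)

abbrev RR : Over S := Over.mk G.pR

abbrev UU : Over S := Over.mk G.pU

abbrev sO : RR G ⟶ UU G := Over.homMk G.s G.s_over

abbrev tO : RR G ⟶ UU G := Over.homMk G.t G.t_over

/-- A groupoid scheme with monomorphism `j` is an equivalence relation on points. -/
theorem isEqvRel [Mono G.j] : AlgSp.IsEqvRel (sO G) (tO G) := by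
  refine ⟨fun T r r' ht hs => ?_, fun T => ⟨fun a => ?_, ?_, ?_⟩⟩
  · have ht' : r.left ≫ G.t = r'.left ≫ G.t := congrArg CommaMorphism.left ht
    have hs' : r.left ≫ G.s = r'.left ≫ G.s := congrArg CommaMorphism.left hs
    refine Over.OverMorphism.ext ((cancel_mono G.j).1 ?_)
    apply pullback.hom_ext <;>
      simp [Grpd.GroupoidScheme.j, ht', hs']
  · refine ⟨Over.homMk (a.left ≫ G.e) ?_, ?_, ?_⟩
    · change (a.left ≫ G.e) ≫ G.pR = T.hom
      rw [← G.s_over, Category.assoc, reassoc_of% G.e_s]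
      exact Over.w a
    · ext; simp [G.e_t]
    · ext; simp [G.e_s]
  · rintro a b ⟨r, rfl, rfl⟩
    refine ⟨Over.homMk (r.left ≫ G.i) ?_, ?_, ?_⟩
    · change (r.left ≫ G.i) ≫ G.pR = T.hom
      rw [← G.t_over, Category.assoc, reassoc_of% G.i_t, G.s_over]
      exact Over.w r
    · ext; simp [G.i_t]
    · ext; simp [G.i_s]
  · rintro a b c ⟨r₁, rfl, h₁⟩ ⟨r₂, h₂, rfl⟩
    have h : r₁.left ≫ G.s = r₂.left ≫ G.t := congrArg CommaMorphism.left (h₁.trans h₂.symm)
    refine ⟨Over.homMk (pullback.lift r₁.left r₂.left h ≫ G.c) ?_, ?_, ?_⟩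
    · change (pullback.lift r₁.left r₂.left h ≫ G.c) ≫ G.pR = T.hom
      rw [← G.s_over, ← Category.assoc, G.comp_s, Category.assoc, G.s_over]
      exact Over.w r₂
    · exact Over.OverMorphism.ext (G.comp_t _ _ h)
    · exact Over.OverMorphism.ext (G.comp_s _ _ h)

end Grpd

/-- An equivalence relation on `h_U` whose quotient is a scheme. -/
theorem exists_scheme_quotient {S : Scheme.{u}} {R U : Over S} {s t : R ⟶ U} (heq : AlgSp.IsEqvRel s t)
    [Flat s.left] [LocallyOfFinitePresentation s.left] [Surjective s.left]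
    {Y : Over S} (E : QuotSh.quot Scheme.fppfPrecoverage s t ≅ (AlgSp.yon S).obj Y) :
    ∃ p : U ⟶ Y, Surjective p.left ∧ Flat p.left ∧ LocallyOfFinitePresentation p.left ∧
      IsPullback t.left s.left p.left p.left := by
  obtain ⟨q, hq⟩ := (AlgSp.yon S).map_surjective (AlgSp.yπ s t ≫ E.hom)
  have sq : IsPullback ((AlgSp.yon S).map t) ((AlgSp.yon S).map s) ((AlgSp.yon S).map q)
      ((AlgSp.yon S).map q) :=
    IsPullback.of_iso (AlgSp.isPullback_yπ s t heq) (Iso.refl _) (Iso.refl _) (Iso.refl _) E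
      (by simp) (by simp) (by simp [hq]) (by simp [hq])
  have : Sheaf.IsLocallySurjective ((AlgSp.yon S).map q) := by
    rw [hq]
    have := AlgSp.isLocallySurjective_yπ s t
    exact Sheaf.isLocallySurjective_comp _ _
  have key : ∀ (P : MorphismProperty Scheme.{u}) [P.IsStableUnderBaseChange]
      [P.IsLocalAtTarget Scheme.fppfPrecoverage], P s.left → P q.left := fun P _ _ hP =>
    (AlgSp.repWith_yon_map_iff P q).1 (AlgSp.repWith_of_isPullback_of_isLocallySurjective _
      (AlgSp.representable_yon_map q) _ ((AlgSp.yon S).map t) ((AlgSp.yon S).map s) sq P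
      ((AlgSp.repWith_yon_map_iff P s).2 hP))
  exact ⟨q, key @Surjective inferInstance, key @Flat inferInstance,
    key @LocallyOfFinitePresentation inferInstance,
    (IsPullback.of_map (AlgSp.yon S)
      ((AlgSp.yon S).map_injective (by simpa using sq.w)) sq).map (Over.forget S)⟩

/-- The main construction: a saturated thickening of the objects with a quotient gives a quotient. -/
theorem exists_quotient {S : Scheme.{u}} (G : Grpd.GroupoidScheme S)
    [Mono G.j] [Surjective G.s] [Flat G.s] [LocallyOfFinitePresentation G.s]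
    [Flat G.t] [LocallyOfFinitePresentation G.t]
    (U₀ : Scheme.{u}) (c₀ : U₀ ⟶ G.U) (hc : MoreMor.IsThickening c₀)
    (ψ : pullback G.s c₀ ≅ pullback G.t c₀) (hψ : ψ.hom ≫ pullback.fst G.t c₀ = pullback.fst G.s c₀)
    (Y₀ : Scheme.{u}) (p₀ : U₀ ⟶ Y₀) [Surjective p₀] [Flat p₀] [LocallyOfFinitePresentation p₀]
    (hp : IsPullback (ψ.hom ≫ pullback.snd G.t c₀) (pullback.snd G.s c₀) p₀ p₀) :
    ∃ (Y : Scheme.{u}) (p : G.U ⟶ Y), Surjective p ∧ Flat p ∧ LocallyOfFinitePresentation p ∧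
      IsPullback G.t G.s p p := by
  have heq := isEqvRel G
  have : Flat (sO G).left := ‹Flat G.s›
  have : Flat (tO G).left := ‹Flat G.t›
  have : LocallyOfFinitePresentation (sO G).left := ‹LocallyOfFinitePresentation G.s›
  have : LocallyOfFinitePresentation (tO G).left := ‹LocallyOfFinitePresentation G.t›
  have : Surjective (sO G).left := ‹Surjective G.s›
  have hF : AlgSp.IsAlgSpace (QuotSh.quot Scheme.fppfPrecoverage (sO G) (tO G)) :=
    S10103.result S (sO G) (tO G) heq
  set σ := pullback.snd G.s c₀ with hσdef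
  set τ := ψ.hom ≫ pullback.snd G.t c₀ with hτdef
  set ρ := pullback.fst G.s c₀ with hρdef
  have hσ : σ ≫ c₀ = ρ ≫ G.s := pullback.condition.symm
  have hτ : τ ≫ c₀ = ρ ≫ G.t := by
    rw [hτdef, Category.assoc, ← pullback.condition, ← Category.assoc, hψ]
  -- descend the structure map
  have hover : τ ≫ (c₀ ≫ G.pU) = σ ≫ (c₀ ≫ G.pU) := by
    rw [reassoc_of% hτ, reassoc_of% hσ, G.t_over, G.s_over]
  let d₀ : Y₀ ⟶ S := EffectiveEpi.desc p₀ (c₀ ≫ G.pU) fun {Z} g₁ g₂ h => by
    calc g₁ ≫ c₀ ≫ G.pU = hp.lift g₁ g₂ h ≫ τ ≫ c₀ ≫ G.pU := by rw [hp.lift_fst_assoc]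
      _ = hp.lift g₁ g₂ h ≫ σ ≫ c₀ ≫ G.pU := by rw [hover]
      _ = g₂ ≫ c₀ ≫ G.pU := by rw [hp.lift_snd_assoc]
  have hd₀ : p₀ ≫ d₀ = c₀ ≫ G.pU := EffectiveEpi.fac _ _ _
  let U₀' : Over S := Over.mk (c₀ ≫ G.pU)
  let Y₀' : Over S := Over.mk d₀
  let R₀' : Over S := Over.mk (ρ ≫ G.pR)
  let c : U₀' ⟶ UU G := Over.homMk c₀ rfl
  let p : U₀' ⟶ Y₀' := Over.homMk p₀ hd₀
  let σ' : R₀' ⟶ U₀' := Over.homMk σ (by
    change σ ≫ c₀ ≫ G.pU = ρ ≫ G.pR
    rw [reassoc_of% hσ, G.s_over])
  let τ' : R₀' ⟶ U₀' := Over.homMk τ (by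
    change τ ≫ c₀ ≫ G.pU = ρ ≫ G.pR
    rw [reassoc_of% hτ, G.t_over])
  let ρ' : R₀' ⟶ RR G := Over.homMk ρ rfl
  have hσ' : σ' ≫ c = ρ' ≫ sO G := Over.OverMorphism.ext hσ
  have hτ' : τ' ≫ c = ρ' ≫ tO G := Over.OverMorphism.ext hτ
  let y := AlgSp.yπ (sO G) (tO G)
  have sqy := AlgSp.isPullback_yπ (sO G) (tO G) heq
  have sqp : IsPullback ((AlgSp.yon S).map τ') ((AlgSp.yon S).map σ') ((AlgSp.yon S).map p)
      ((AlgSp.yon S).map p) :=
    (IsPullback.of_map (Over.forget S) (Over.OverMorphism.ext hp.w)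
      (show IsPullback ((Over.forget S).map τ') ((Over.forget S).map σ') ((Over.forget S).map p)
        ((Over.forget S).map p) from hp)).map (AlgSp.yon S)
  have : Flat p.left := ‹Flat p₀›
  have : Surjective p.left := ‹Surjective p₀›
  have : LocallyOfFinitePresentation p.left := ‹LocallyOfFinitePresentation p₀›
  have hpls : Sheaf.IsLocallySurjective ((AlgSp.yon S).map p) :=
    AlgSp.isLocallySurjective_of_repWith _ ((AlgSp.repWith_yon_map_iff @Flat p).2 inferInstance)
      ((AlgSp.repWith_yon_map_iff @LocallyOfFinitePresentation p).2 inferInstance)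
      ((AlgSp.repWith_yon_map_iff @Surjective p).2 inferInstance)
  obtain ⟨hcol⟩ := AlgSp.isColimit_of_isPullback ((AlgSp.yon S).map p) sqp
  obtain ⟨i, hi⟩ := Cofork.IsColimit.desc' hcol ((AlgSp.yon S).map c ≫ y) (by
    rw [← Functor.map_comp_assoc, ← Functor.map_comp_assoc, hσ', hτ', Functor.map_comp_assoc,
      Functor.map_comp_assoc, sqy.w])
  simp only [Cofork.π_ofπ] at hi
  -- the square is cartesian
  have hρpb : IsPullback ρ τ G.t c₀ :=
    IsPullback.of_iso_pullback ⟨hτ.symm⟩ ψ hψ rfl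
  have sqA : IsPullback ((AlgSp.yon S).map ρ' ≫ (AlgSp.yon S).map (sO G)) ((AlgSp.yon S).map τ') y
      ((AlgSp.yon S).map c ≫ y) :=
    ((IsPullback.of_map (Over.forget S) hτ'.symm
      (show IsPullback ((Over.forget S).map ρ') ((Over.forget S).map τ') ((Over.forget S).map (tO G))
        ((Over.forget S).map c) from hρpb)).map (AlgSp.yon S)).paste_horiz sqy.flip
  let P := pullback i y
  let φ : (AlgSp.yon S).obj U₀' ⟶ P := pullback.lift ((AlgSp.yon S).map p) ((AlgSp.yon S).map c) hi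
  have : Mono ((AlgSp.yon S).map c) := by
    have := hc.1
    have : Mono c.left := inferInstanceAs (Mono c₀)
    have : Mono c := Over.mono_of_mono_left c
    exact (AlgSp.yon S).map_mono c
  have : Mono φ := mono_of_mono_fac (pullback.lift_snd _ _ _ : φ ≫ pullback.snd i y = _)
  let l : (AlgSp.yon S).obj R₀' ⟶ P :=
    pullback.lift ((AlgSp.yon S).map τ' ≫ (AlgSp.yon S).map p)
      ((AlgSp.yon S).map ρ' ≫ (AlgSp.yon S).map (sO G)) (by rw [Category.assoc, hi, sqA.w])
  have sql : IsPullback l ((AlgSp.yon S).map τ') (pullback.fst i y) ((AlgSp.yon S).map p) := by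
    refine IsPullback.of_right ?_ (pullback.lift_fst _ _ _) (IsPullback.of_hasPullback i y).flip
    rw [hi, pullback.lift_snd]
    exact sqA
  have hl : l = (AlgSp.yon S).map σ' ≫ φ := by
    apply pullback.hom_ext
    · rw [pullback.lift_fst, Category.assoc, pullback.lift_fst, sqp.w]
    · rw [pullback.lift_snd, Category.assoc, pullback.lift_snd, ← Functor.map_comp, ← Functor.map_comp,
        hσ']
  have : Sheaf.IsLocallySurjective l :=
    Topos.Sheaf.sheaf_isLocallySurjective_of_isPullback _ sql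
  have : Epi l := Sheaf.epi_of_isLocallySurjective l
  have : Epi φ := by
    rw [hl] at this
    exact epi_of_epi ((AlgSp.yon S).map σ') φ
  have : IsIso φ := isIso_of_mono_of_epi φ
  have sqi : IsPullback ((AlgSp.yon S).map p) ((AlgSp.yon S).map c) i y :=
    IsPullback.of_iso_pullback ⟨hi⟩ (asIso φ) (pullback.lift_fst _ _ _) (pullback.lift_snd _ _ _)
  -- `i` is a thickening
  have := AlgSp.isLocallySurjective_yπ (sO G) (tO G)
  have : (AlgSp.thick.{u}).IsStableUnderBaseChange :=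
    inferInstanceAs (MorphismProperty.IsStableUnderBaseChange (@IsClosedImmersion ⊓ @Surjective))
  have : (AlgSp.thick.{u}).IsLocalAtTarget Scheme.fppfPrecoverage :=
    inferInstanceAs (MorphismProperty.IsLocalAtTarget (@IsClosedImmersion ⊓ @Surjective)
      Scheme.fppfPrecoverage)
  have hthick : AlgSp.IsThickMor i :=
    AlgSp.repWith_of_isPullback_of_isLocallySurjective i (hF.representable_from_yon i) y _ _ sqi
      AlgSp.thick ((AlgSp.repWith_yon_map_iff AlgSp.thick c).2 hc)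
  let F : AlgSp.Space S := ⟨_, hF⟩
  let X : AlgSp.Space S := ⟨_, AlgSp.IsAlgSpace.yon_obj Y₀'⟩
  obtain ⟨Y, ⟨E⟩⟩ := S10584.result (X := X) (X' := F) (ObjectProperty.homMk i) hthick
    ⟨Y₀', ⟨Iso.refl _⟩⟩
  obtain ⟨q, h₁, h₂, h₃, h₄⟩ := exists_scheme_quotient heq E.symm
  exact ⟨Y.left, q.left, h₁, h₂, h₃, h₄⟩

end Groth.Agent.GrpdLib.ThickQuot
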